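import Mathlib

/-!
Groups generated by an involution `a` and two elements `x`, `y` inverted by it with
`x³ = y³ = (xy)³ = (xy⁻¹)³ = 1`: at most 54 elements, so unique with that order.
-/

set_option autoImplicit false

namespace Cfsg.Agent.Transpos.B23

variable {K : Type*} [Group K]

/-- The relations. -/
structure Rels (a x y : K) : Prop where
  a2 : a * a = 1
  x3 : x ^ 3 = 1
  y3 : y ^ 3 = 1
  xy3 : (x * y) ^ 3 = 1
  xy3' : (x * y⁻¹) ^ 3 = 1
  ax : (a * x) ^ 2 = 1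
  ay : (a * y) ^ 2 = 1

theorem Rels.map {L : Type*} [Group L] {a x y : K} (h : Rels a x y) (φ : K →* L) :
    Rels (φ a) (φ x) (φ y) := by
  refine ⟨?_, ?_, ?_, ?_, ?_, ?_, ?_⟩
  · rw [← map_mul, h.a2, map_one]
  · rw [← map_pow, h.x3, map_one]
  · rw [← map_pow, h.y3, map_one]
  · rw [← map_mul, ← map_pow, h.xy3, map_one]
  · rw [← map_inv, ← map_mul, ← map_pow, h.xy3', map_one]
  · rw [← map_mul, ← map_pow, h.ax, map_one]
  · rw [← map_mul, ← map_pow, h.ay, map_one]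

/-- The standard word of index `(i, j, k, l)`. -/
def word (a x y : K) (t : Fin 3 × Fin 3 × Fin 3 × Fin 2) : K :=
  x ^ (t.1 : ℕ) * (y * x * y⁻¹) ^ (t.2.1 : ℕ) * y ^ (t.2.2.1 : ℕ) * a ^ (t.2.2.2 : ℕ)

theorem word_surjective [Finite K] {a x y : K} (h : Rels a x y)
    (hgen : Subgroup.closure ({a, x, y} : Set K) = ⊤) : Function.Surjective (word a x y) := by
  obtain ⟨a2, x3, y3, xy3, xy3', hax, hay⟩ := h
  set x1 := y * x * y⁻¹ with hx1
  set x2 := y * x1 * y⁻¹ with hx2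
  have ai : a⁻¹ = a := inv_eq_of_mul_eq_one_right a2
  have y2 : y * y = y⁻¹ := eq_inv_of_mul_eq_one_left (by rw [← pow_three', y3])
  have yi : y⁻¹ * y⁻¹ = y := by rw [← mul_inv_rev, y2, inv_inv]
  have p1 : x * x1 * x2 = 1 := by
    calc x * x1 * x2 = x * y * x * y * x * y * (y⁻¹ * (y⁻¹ * y⁻¹)) := by rw [hx2, hx1]; group
      _ = (x * y) ^ 3 := by rw [yi, inv_mul_cancel, mul_one, pow_three]; simp only [mul_assoc]
      _ = 1 := xy3
  have hy1 : y⁻¹ * x * y = x2 := by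
    rw [hx2, hx1, show y * (y * x * y⁻¹) * y⁻¹ = (y * y) * x * (y⁻¹ * y⁻¹) by group, y2, yi]
  have p2 : x * x2 * x1 = 1 := by
    calc x * x2 * x1 = x * y⁻¹ * x * (y * y) * x * y⁻¹ := by rw [← hy1, hx1]; group
      _ = (x * y⁻¹) ^ 3 := by rw [y2, pow_three]; simp only [mul_assoc]
      _ = 1 := xy3'
  have c12 : Commute x1 x2 := by
    rw [Commute, SemiconjBy]
    exact mul_left_cancel (a := x)
      (((mul_assoc x x1 x2).symm.trans p1).trans (p2.symm.trans (mul_assoc x x2 x1)))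
  have hx21 : x2 = x1⁻¹ * x⁻¹ := by rw [← mul_inv_rev]; exact eq_inv_of_mul_eq_one_right p1
  have c01 : Commute x x1 := by
    have h2 := c12.eq
    rw [hx21] at h2
    have h3 : x⁻¹ * x1 = x1 * x⁻¹ := by
      calc x⁻¹ * x1 = x1 * (x1⁻¹ * x⁻¹ * x1) := by group
        _ = x1 * (x1 * (x1⁻¹ * x⁻¹)) := by rw [h2]
        _ = x1 * x⁻¹ := by group
    exact (Commute.inv_left_iff (a := x) (b := x1)).1 h3
  have x13 : x1 ^ 3 = 1 := by rw [hx1, conj_pow, x3, mul_one, mul_inv_cancel]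
  have xa : a * x = x⁻¹ * a := by
    have := mul_eq_one_iff_eq_inv.1 (show a * x * (a * x) = 1 by rw [← pow_two]; exact hax)
    rw [this, mul_inv_rev, ai]
  have ya : a * y = y⁻¹ * a := by
    have := mul_eq_one_iff_eq_inv.1 (show a * y * (a * y) = 1 by rw [← pow_two]; exact hay)
    rw [this, mul_inv_rev, ai]
  have x1a : a * x1 = (x * x1) * a := by
    have hyia : a * y⁻¹ = y * a := by
      calc a * y⁻¹ = a * y⁻¹ * (a * a) := by rw [a2, mul_one]
        _ = y * a := by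
          rw [show a * y⁻¹ * (a * a) = a * (y⁻¹ * a) * a by group, ← ya,
            show a * (a * y) * a = (a * a) * y * a by group, a2, one_mul]
    have hs : (x * x1) = x2⁻¹ := eq_inv_of_mul_eq_one_left p1
    rw [hx1, show a * (y * x * y⁻¹) = (a * y) * x * y⁻¹ by group, ya,
      show y⁻¹ * a * x * y⁻¹ = y⁻¹ * (a * x) * y⁻¹ by group, xa,
      show y⁻¹ * (x⁻¹ * a) * y⁻¹ = y⁻¹ * x⁻¹ * (a * y⁻¹) by group, hyia, ← hx1, hs, ← hy1]
    group
  -- the set of words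
  have key : ∀ i j k l : ℕ, x ^ i * x1 ^ j * y ^ k * a ^ l ∈ Set.range (word a x y) := by
    intro i j k l
    refine ⟨(⟨i % 3, Nat.mod_lt _ (by norm_num)⟩, ⟨j % 3, Nat.mod_lt _ (by norm_num)⟩,
      ⟨k % 3, Nat.mod_lt _ (by norm_num)⟩, ⟨l % 2, Nat.mod_lt _ (by norm_num)⟩), ?_⟩
    show x ^ (i % 3) * x1 ^ (j % 3) * y ^ (k % 3) * a ^ (l % 2) = _
    rw [← pow_eq_pow_mod _ x3, ← pow_eq_pow_mod _ x13, ← pow_eq_pow_mod _ y3,
      ← pow_eq_pow_mod _ (show a ^ 2 = 1 by rw [pow_two, a2])]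
  have inv3 : ∀ {g : K}, g ^ 3 = 1 → ∀ n : ℕ, g⁻¹ ^ n = g ^ (2 * n) := by
    intro g hg n
    rw [inv_pow, inv_eq_iff_mul_eq_one, ← pow_add, show n + 2 * n = 3 * n by ring, pow_mul, hg,
      one_pow]
  have mulx : ∀ s ∈ Set.range (word a x y), x * s ∈ Set.range (word a x y) := by
    rintro _ ⟨⟨i, j, k, l⟩, rfl⟩
    convert key ((i : ℕ) + 1) j k l using 1
    simp only [word, ← hx1, pow_succ', mul_assoc]
  have muly : ∀ s ∈ Set.range (word a x y), y * s ∈ Set.range (word a x y) := by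
    rintro _ ⟨⟨i, j, k, l⟩, rfl⟩
    convert key (2 * (j : ℕ)) ((i : ℕ) + 2 * (j : ℕ)) ((k : ℕ) + 1) l using 1
    have e1 : y * x ^ (i : ℕ) = x1 ^ (i : ℕ) * y :=
      SemiconjBy.pow_right (show SemiconjBy y x x1 by rw [SemiconjBy, hx1]; group) _
    have e2 : y * x1 ^ (j : ℕ) = x2 ^ (j : ℕ) * y :=
      SemiconjBy.pow_right (show SemiconjBy y x1 x2 by rw [SemiconjBy, hx2]; group) _
    have e3 : x2 ^ (j : ℕ) = x1 ^ (2 * (j : ℕ)) * x ^ (2 * (j : ℕ)) := by
      rw [hx21, (c01.symm.inv_inv).mul_pow, inv3 x13, inv3 x3]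
    simp only [word, ← hx1]
    rw [← mul_assoc, ← mul_assoc, ← mul_assoc, e1, mul_assoc (x1 ^ (i : ℕ)) y, e2, e3,
      pow_add x1, pow_succ' y, ← mul_assoc (x ^ (2 * (j : ℕ))),
      (c01.pow_pow (2 * (j : ℕ)) (i : ℕ)).eq]
    rw [(c01.pow_pow (2 * (j : ℕ)) (2 * (j : ℕ))).symm.eq]
    simp only [mul_assoc]
  have mula : ∀ s ∈ Set.range (word a x y), a * s ∈ Set.range (word a x y) := by
    rintro _ ⟨⟨i, j, k, l⟩, rfl⟩
    convert key (2 * (i : ℕ) + (j : ℕ)) j (2 * (k : ℕ)) ((l : ℕ) + 1) using 1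
    have e1 : a * x ^ (i : ℕ) = x⁻¹ ^ (i : ℕ) * a := SemiconjBy.pow_right xa _
    have e2 : a * x1 ^ (j : ℕ) = (x * x1) ^ (j : ℕ) * a := SemiconjBy.pow_right x1a _
    have e3 : a * y ^ (k : ℕ) = y⁻¹ ^ (k : ℕ) * a := SemiconjBy.pow_right ya _
    simp only [word, ← hx1]
    rw [← mul_assoc, ← mul_assoc, ← mul_assoc, e1, mul_assoc (x⁻¹ ^ (i : ℕ)) a, e2, ← mul_assoc,
      mul_assoc _ a, e3, inv3 x3, inv3 y3, c01.mul_pow, pow_add x, pow_succ' a]
    simp only [mul_assoc]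
  intro g
  show g ∈ Set.range (word a x y)
  have hg : g ∈ Submonoid.closure ({a, x, y} : Set K) := by
    rw [← Subgroup.closure_toSubmonoid_of_finite, hgen]
    exact Subgroup.mem_top g
  induction hg using Submonoid.closure_induction_left with
  | one => convert key 0 0 0 0 using 1; simp
  | mul_left t ht s _ ih =>
    rcases ht with rfl | rfl | rfl
    exacts [mula s ih, mulx s ih, muly s ih]

theorem card_le [Finite K] {a x y : K} (h : Rels a x y)
    (hgen : Subgroup.closure ({a, x, y} : Set K) = ⊤) : Nat.card K ≤ 54 := by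
  refine (Nat.card_le_card_of_surjective _ (word_surjective h hgen)).trans ?_
  rw [Nat.card_eq_fintype_card]
  decide

theorem not_commute [Finite K] {a x y : K} (h : Rels a x y)
    (hgen : Subgroup.closure ({a, x, y} : Set K) = ⊤) (hc : 18 < Nat.card K) : ¬ Commute x y := by
  intro hxy
  have hs : Function.Surjective (fun t : Fin 3 × Fin 3 × Fin 2 =>
      x ^ (t.1 : ℕ) * y ^ (t.2.1 : ℕ) * a ^ (t.2.2 : ℕ)) := by
    intro g
    obtain ⟨⟨i, j, k, l⟩, rfl⟩ := word_surjective h hgen g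
    refine ⟨(⟨((i : ℕ) + j) % 3, Nat.mod_lt _ (by norm_num)⟩, k, l), ?_⟩
    show x ^ (((i : ℕ) + j) % 3) * y ^ (k : ℕ) * a ^ (l : ℕ) = _
    rw [word, ← pow_eq_pow_mod _ h.x3, ← hxy.eq, mul_inv_cancel_right, pow_add]
  have := Nat.card_le_card_of_surjective _ hs
  rw [Nat.card_eq_fintype_card (α := Fin 3 × Fin 3 × Fin 2)] at this
  simp at this
  omega

/-- Two groups of order 54 with such generators are isomorphic. -/
theorem nonempty_equiv [Finite K] {L : Type*} [Group L] [Finite L] {a x y : K} {a' x' y' : L}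
    (h : Rels a x y) (hgen : Subgroup.closure ({a, x, y} : Set K) = ⊤) (hK : Nat.card K = 54)
    (h' : Rels a' x' y') (hgen' : Subgroup.closure ({a', x', y'} : Set L) = ⊤)
    (hL : Nat.card L = 54) : Nonempty (K ≃* L) := by
  set W : Subgroup (K × L) := Subgroup.closure {(a, a'), (x, x'), (y, y')} with hW
  have mem : ∀ {p : K × L}, p ∈ ({(a, a'), (x, x'), (y, y')} : Set (K × L)) → p ∈ W :=
    fun hp => Subgroup.subset_closure hp
  let A : W := ⟨(a, a'), mem (by simp)⟩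
  let X : W := ⟨(x, x'), mem (by simp)⟩
  let Y : W := ⟨(y, y'), mem (by simp)⟩
  have hR : Rels A X Y := by
    refine ⟨?_, ?_, ?_, ?_, ?_, ?_, ?_⟩ <;> apply Subtype.ext <;> apply Prod.ext <;>
      simp [A, X, Y, h.a2, h.x3, h.y3, h.xy3, h.xy3', h.ax, h.ay, h'.a2, h'.x3, h'.y3, h'.xy3,
        h'.xy3', h'.ax, h'.ay]
  have hWgen : Subgroup.closure ({A, X, Y} : Set W) = ⊤ := by
    apply Subgroup.map_injective W.subtype_injective
    rw [MonoidHom.map_closure, ← MonoidHom.range_eq_map, Subgroup.range_subtype,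
      Set.image_insert_eq, Set.image_insert_eq, Set.image_singleton]
    rfl
  have hle := card_le hR hWgen
  have hfst : Function.Surjective ((MonoidHom.fst K L).comp W.subtype) := by
    rw [← MonoidHom.range_eq_top, eq_top_iff, ← hgen, Subgroup.closure_le]
    rintro g (rfl | rfl | rfl)
    exacts [⟨A, rfl⟩, ⟨X, rfl⟩, ⟨Y, rfl⟩]
  have hsnd : Function.Surjective ((MonoidHom.snd K L).comp W.subtype) := by
    rw [← MonoidHom.range_eq_top, eq_top_iff, ← hgen', Subgroup.closure_le]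
    rintro g (rfl | rfl | rfl)
    exacts [⟨A, rfl⟩, ⟨X, rfl⟩, ⟨Y, rfl⟩]
  have hWK : Nat.card W = 54 :=
    le_antisymm hle (hK ▸ Nat.card_le_card_of_surjective _ hfst)
  have b1 := (Nat.bijective_iff_surjective_and_card ((MonoidHom.fst K L).comp W.subtype)).2
    ⟨hfst, by rw [hWK, hK]⟩
  have b2 := (Nat.bijective_iff_surjective_and_card ((MonoidHom.snd K L).comp W.subtype)).2
    ⟨hsnd, by rw [hWK, hL]⟩
  exact ⟨(MulEquiv.ofBijective _ b1).symm.trans (MulEquiv.ofBijective _ b2)⟩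

end Cfsg.Agent.Transpos.B23
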