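import Cfsg.Prelude.Def_Classical
import Cfsg.Agent.Lib.Forms.Herm
import Cfsg.Agent.Lib.Transpos.Burnside23

/-!
The commutator subgroup of `SU(3, 2)` over a field with four elements: order 54, generated by an
involution `a` and two elements satisfying `B23.Rels`.
-/

set_option autoImplicit false

namespace Cfsg.Agent.Transpos.SU32

open Cfsg
open scoped commutatorElement

/-- A computable field with four elements. -/
structure K4 where
  /-- the coordinate on `1` -/
  l : Bool
  /-- the coordinate on `ω` -/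
  h : Bool
deriving DecidableEq

def k4Equiv : K4 ≃ Bool × Bool := ⟨fun x => (x.l, x.h), fun p => ⟨p.1, p.2⟩, fun _ => rfl, fun _ => rfl⟩

instance instFintypeK4 : Fintype K4 := Fintype.ofEquiv _ k4Equiv.symm
instance instAddK4 : Add K4 := ⟨fun a b => ⟨Bool.xor a.l b.l, Bool.xor a.h b.h⟩⟩
instance instMulK4 : Mul K4 := ⟨fun a b =>
  ⟨Bool.xor (a.l && b.l) (a.h && b.h), Bool.xor (Bool.xor (a.l && b.h) (a.h && b.l)) (a.h && b.h)⟩⟩
instance instNegK4 : Neg K4 := ⟨fun a => a⟩
instance instInvK4 : Inv K4 := ⟨fun a => a * a⟩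
instance instZeroK4 : Zero K4 := ⟨⟨false, false⟩⟩
instance instOneK4 : One K4 := ⟨⟨true, false⟩⟩

@[instance_reducible] def fieldK4 : Field K4 :=
  Field.ofMinimalAxioms K4 (by decide) (by decide) (by decide) (by decide) (by decide) (by decide)
    (by decide) (by decide) (by decide) ⟨0, 1, by decide⟩

attribute [instance] fieldK4

theorem card_K4 : Fintype.card K4 = 4 := rfl

abbrev w : K4 := ⟨false, true⟩
abbrev v : K4 := ⟨true, true⟩

abbrev Mat3 : Type := Matrix (Fin 3) (Fin 3) K4

abbrev G0 : Type := ↥(Cfsg.SU 3 K4 2)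

/-- A matrix of determinant one whose columns are orthonormal, as an element of the group. -/
def mk (M : Mat3) (hd : M.det = 1)
    (h : ∀ u v : Fin 3 → K4, hermForm 3 K4 2 (M.mulVec u) (M.mulVec v) = hermForm 3 K4 2 u v) : G0 :=
  ⟨⟨M, hd⟩, h⟩

theorem herm_of_cols (M : Mat3) (h : ∀ i j, ∑ k, M k i * M k j ^ 2 = if i = j then 1 else 0) :
    ∀ u v : Fin 3 → K4, hermForm 3 K4 2 (M.mulVec u) (M.mulVec v) = hermForm 3 K4 2 u v := by
  have hsq : ∀ x y : K4, (x + y) ^ 2 = x ^ 2 + y ^ 2 := by decide
  intro u v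
  simp only [hermForm, Matrix.mulVec, dotProduct, Fin.sum_univ_three, hsq, mul_pow]
  have h00 := h 0 0; have h01 := h 0 1; have h02 := h 0 2
  have h10 := h 1 0; have h11 := h 1 1; have h12 := h 1 2
  have h20 := h 2 0; have h21 := h 2 1; have h22 := h 2 2
  simp only [Fin.sum_univ_three, Fin.reduceEq, if_false, if_true] at h00 h01 h02 h10 h11 h12 h20 h21 h22
  linear_combination (u 0 * v 0 ^ 2) * h00 + (u 0 * v 1 ^ 2) * h01 + (u 0 * v 2 ^ 2) * h02 +
    (u 1 * v 0 ^ 2) * h10 + (u 1 * v 1 ^ 2) * h11 + (u 1 * v 2 ^ 2) * h12 +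
    (u 2 * v 0 ^ 2) * h20 + (u 2 * v 1 ^ 2) * h21 + (u 2 * v 2 ^ 2) * h22

def A : G0 := mk !![0, 1, 0; 1, 0, 0; 0, 0, 1] (by rw [Matrix.det_fin_three]; decide)
  (herm_of_cols _ (by decide))
def B : G0 := mk !![0, 0, 1; 0, 1, 0; 1, 0, 0] (by rw [Matrix.det_fin_three]; decide)
  (herm_of_cols _ (by decide))
def C : G0 := mk !![0, w, 0; v, 0, 0; 0, 0, 1] (by rw [Matrix.det_fin_three]; decide)
  (herm_of_cols _ (by decide))
def H : G0 := mk !![1, 1, 1; 1, w, v; 1, v, w] (by rw [Matrix.det_fin_three]; decide)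
  (herm_of_cols _ (by decide))
def H2 : G0 := mk !![1, w, w; v, w, v; v, v, w] (by rw [Matrix.det_fin_three]; decide)
  (herm_of_cols _ (by decide))

/-- The matrix of an element, as a list, for comparisons. -/
def mat (g : G0) : Mat3 := ((g : Matrix.SpecialLinearGroup (Fin 3) K4) : Mat3)

theorem mat_injective : Function.Injective mat := fun _ _ h => Subtype.ext (Subtype.ext h)

theorem mat_mul (g h : G0) : mat (g * h) = mat g * mat h := rfl

theorem mat_one : mat 1 = 1 := rfl

theorem eq_of_mat {g h : G0} (e : mat g = mat h) : g = h := mat_injective e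

def X : G0 := A * B
def Y : G0 := A * C

theorem rels : B23.Rels A X Y := by
  have hy : Y⁻¹ = Y * Y := inv_eq_of_mul_eq_one_right (eq_of_mat (by decide +kernel))
  refine ⟨eq_of_mat (by decide +kernel), ?_, ?_, ?_, ?_, ?_, ?_⟩ <;>
    simp only [hy, pow_three, pow_two] <;> exact eq_of_mat (by decide +kernel)

/-- The words, with positive exponents only. -/
def pword (t : Fin 3 × Fin 3 × Fin 3 × Fin 2) : G0 :=
  X ^ (t.1 : ℕ) * (Y * X * (Y * Y)) ^ (t.2.1 : ℕ) * Y ^ (t.2.2.1 : ℕ) * A ^ (t.2.2.2 : ℕ)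

theorem word_eq (t : Fin 3 × Fin 3 × Fin 3 × Fin 2) : B23.word A X Y t = pword t := by
  have hy : Y⁻¹ = Y * Y := inv_eq_of_mul_eq_one_right (eq_of_mat (by decide +kernel))
  rw [B23.word, pword, hy]

abbrev M : Subgroup G0 := Subgroup.closure {A, X, Y}

theorem mem_M (t : Fin 3 × Fin 3 × Fin 3 × Fin 2) : pword t ∈ M := by
  have h : ∀ g ∈ ({A, X, Y} : Set G0), g ∈ M := fun g hg => Subgroup.subset_closure hg
  have hA := h A (by simp); have hX := h X (by simp); have hY := h Y (by simp)
  exact mul_mem (mul_mem (mul_mem (pow_mem hX _)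
    (pow_mem (mul_mem (mul_mem hY hX) (mul_mem hY hY)) _)) (pow_mem hY _)) (pow_mem hA _)

theorem finite_G0 : Finite G0 := inferInstance

def gA : M := ⟨A, Subgroup.subset_closure (by simp)⟩
def gX : M := ⟨X, Subgroup.subset_closure (by simp)⟩
def gY : M := ⟨Y, Subgroup.subset_closure (by simp)⟩

theorem relsM : B23.Rels gA gX gY := by
  obtain ⟨h1, h2, h3, h4, h5, h6, h7⟩ := rels
  refine ⟨?_, ?_, ?_, ?_, ?_, ?_, ?_⟩ <;> apply Subtype.ext <;>
    simp [gA, gX, gY, h1, h2, h3, h4, h5, h6, h7]

theorem genM : Subgroup.closure ({gA, gX, gY} : Set M) = ⊤ := by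
  apply Subgroup.map_injective M.subtype_injective
  rw [MonoidHom.map_closure, ← MonoidHom.range_eq_map, Subgroup.range_subtype,
    Set.image_insert_eq, Set.image_insert_eq, Set.image_singleton]
  rfl

theorem mem_M_iff {g : G0} : g ∈ M ↔ ∃ t, mat (pword t) = mat g := by
  constructor
  · intro hg
    obtain ⟨t, ht⟩ := B23.word_surjective relsM genM ⟨g, hg⟩
    refine ⟨t, ?_⟩
    rw [← word_eq]
    exact congrArg mat (congrArg Subtype.val ht)
  · rintro ⟨t, ht⟩; exact mat_injective ht ▸ mem_M t

theorem pword_injective : Function.Injective pword := by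
  have huniq : ∀ s t : Fin 3 × Fin 3 × Fin 3 × Fin 2,
      mat (pword s) = mat (pword t) → s = t := by decide +kernel
  exact fun s t h => huniq s t (congrArg mat h)

theorem card_M : Nat.card M = 54 := by
  refine le_antisymm (B23.card_le relsM genM) ?_
  have := Nat.card_le_card_of_injective (fun t => (⟨pword t, mem_M t⟩ : M))
    (fun s t h => pword_injective (congrArg Subtype.val h))
  rw [Nat.card_eq_fintype_card (α := Fin 3 × Fin 3 × Fin 3 × Fin 2)] at this
  exact this

theorem card_G0 : Nat.card G0 = 216 := by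
  have hF : Fintype.card K4 = 2 ^ 2 := card_K4
  have h := Cfsg.Agent.Forms.card_SU_mul (n := 3) hF (by norm_num)
  rw [Cfsg.Agent.Forms.card_GU hF] at h
  simp only [Finset.prod_range_succ, Finset.prod_range_zero, Nat.even_iff] at h
  change (2 + 1) * Nat.card G0 = _ at h
  norm_num at h
  omega

/-- Coset representatives. -/
def rep : Fin 4 → G0 := ![1, H, H2, H * H2]

theorem commutator_eq : commutator G0 = M := by
  have hrep : ∀ i j, i ≠ j → (rep i)⁻¹ * rep j ∉ M := by
    intro i j hij hmem
    obtain ⟨t, ht⟩ := mem_M_iff.1 hmem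
    have h1 : rep i * pword t = rep j := by
      rw [mat_injective ht, mul_inv_cancel_left]
    have key : ∀ i j : Fin 4, i ≠ j → ∀ t, mat (rep i * pword t) ≠ mat (rep j) := by
      decide +kernel
    exact key i j hij t (congrArg mat h1)
  have hidx : M.index = 4 := by
    have h := M.card_mul_index
    rw [card_M, card_G0] at h
    omega
  have hbij : Function.Bijective (fun i => (rep i : G0 ⧸ M)) := by
    have hinj : Function.Injective (fun i => (rep i : G0 ⧸ M)) := by
      intro i j h
      by_contra hij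
      exact hrep i j hij (QuotientGroup.eq.1 h)
    refine (Nat.bijective_iff_injective_and_card _).2 ⟨hinj, ?_⟩
    rw [Nat.card_eq_fintype_card, Fintype.card_fin]
    exact hidx.symm
  have hnorm : M.Normal := by
    rw [← Subgroup.normalizer_eq_top_iff, eq_top_iff]
    intro g _
    obtain ⟨i, hi⟩ := hbij.2 (g : G0 ⧸ M)
    have hg : g = rep i * ((rep i)⁻¹ * g) := (mul_inv_cancel_left _ _).symm
    rw [hg]
    refine mul_mem ?_ (Subgroup.le_normalizer (QuotientGroup.eq.1 hi))
    have hgen : ∀ h : G0, (∀ z ∈ ({A, X, Y} : Set G0), h * z * h⁻¹ ∈ M) →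
        h ∈ Subgroup.normalizer (M : Set G0) := by
      intro h hz
      apply Subgroup.mem_normalizer_fintype
      intro z hzM
      induction hzM using Subgroup.closure_induction with
      | mem z hz' => exact hz z hz'
      | one => simpa using one_mem M
      | mul z z' _ _ h1 h2 => simpa [mul_assoc] using mul_mem h1 h2
      | inv z _ h1 => simpa [mul_assoc] using inv_mem h1
    have hH : ∀ h ∈ [H, H2], h ∈ Subgroup.normalizer (M : Set G0) := by
      have key : ∀ h ∈ [H, H2], ∀ z ∈ [A, X, Y], ∃ t,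
          mat (pword t * h) = mat (h * z) := by decide +kernel
      intro h hh
      refine hgen h fun z hz => ?_
      obtain ⟨t, ht⟩ := key h hh z (by simpa using hz)
      rw [← eq_of_mat ht, mul_inv_cancel_right]
      exact mem_M t
    fin_cases i <;> simp only [rep]
    · exact one_mem _
    · exact hH H (by simp)
    · exact hH H2 (by simp)
    · exact mul_mem (hH H (by simp)) (hH H2 (by simp))
  refine le_antisymm ?_ ?_
  · haveI := hnorm
    haveI : Fact (Nat.Prime 2) := ⟨Nat.prime_two⟩
    rw [commutator_def, Subgroup.commutator_le]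
    intro g _ h _
    rw [← QuotientGroup.eq_one_iff, ← QuotientGroup.mk'_apply, map_commutatorElement,
      commutatorElement_eq_one_iff_commute]
    exact IsPGroup.commutative_of_card_eq_prime_sq (p := 2) hidx _ _
  · rw [Subgroup.closure_le]
    have hc : ∀ g h : G0, ⁅g, h⁆ ∈ commutator G0 := fun g h =>
      Subgroup.commutator_mem_commutator (Subgroup.mem_top g) (Subgroup.mem_top h)
    have hX : ⁅A, X⁆ = X := by
      rw [commutatorElement_def, mul_inv_eq_iff_eq_mul, mul_inv_eq_iff_eq_mul]
      exact eq_of_mat (by decide +kernel)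
    have hY : ⁅A, Y⁆ = Y := by
      rw [commutatorElement_def, mul_inv_eq_iff_eq_mul, mul_inv_eq_iff_eq_mul]
      exact eq_of_mat (by decide +kernel)
    have hA : ⁅H, H2⁆ * X * X = A ∨ ⁅H, H2⁆ * X = A := by
      have e : (H * H2 = X * A * H2 * H) ∨ (H * H2 = A * X * X * H2 * H) ∨
          (H * H2 = A * X * H2 * H) := by
        have : (mat (H * H2) = mat (X * A * H2 * H)) ∨
            (mat (H * H2) = mat (A * X * X * H2 * H)) ∨
            (mat (H * H2) = mat (A * X * H2 * H)) := by decide +kernel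
        exact this.imp eq_of_mat (Or.imp eq_of_mat eq_of_mat)
      have hcm : ∀ z, H * H2 = z * H2 * H → ⁅H, H2⁆ = z := fun z hz => by
        rw [commutatorElement_def, hz]; group
      obtain ⟨-, hx3, -, -, -, hax, -⟩ := rels
      have hax' : A * X * A * X = 1 := by rw [mul_assoc, ← pow_two]; exact hax
      have hxax : X * A * X = A := by
        have h1 : A * (X * A * X) = 1 := by rw [← mul_assoc, ← mul_assoc]; exact hax'
        rw [eq_inv_of_mul_eq_one_right h1, inv_eq_of_mul_eq_one_right rels.a2]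
      rcases e with e | e | e <;> rw [hcm _ e]
      · exact Or.inr hxax
      · refine Or.inr ?_
        rw [mul_assoc A X X, mul_assoc, mul_assoc, ← pow_three, hx3, mul_one]
      · refine Or.inl ?_
        rw [mul_assoc, mul_assoc, ← pow_three, hx3, mul_one]
    have hXm : X ∈ commutator G0 := hX ▸ hc A X
    rintro z (rfl | rfl | rfl)
    · rcases hA with e | e <;> rw [← e]
      · exact mul_mem (mul_mem (hc _ _) hXm) hXm
      · exact mul_mem (hc _ _) hXm
    · exact hXm
    · exact hY ▸ hc A Y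

/-- Transport along a field isomorphism. -/
def suMap {F F' : Type*} [Field F] [Field F'] (e : F ≃+* F') (n q : ℕ) :
    Cfsg.SU n F q ≃* Cfsg.SU n F' q where
  toFun g := ⟨Matrix.SpecialLinearGroup.map e.toRingHom g.1, fun u v => by
    have h := congrArg e (g.2 (e.symm ∘ u) (e.symm ∘ v))
    simpa [hermForm, slToMat, Matrix.mulVec, dotProduct, map_sum, map_pow, map_mul] using h⟩
  invFun g := ⟨Matrix.SpecialLinearGroup.map e.symm.toRingHom g.1, fun u v => by
    have h := congrArg e.symm (g.2 (e ∘ u) (e ∘ v))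
    simpa [hermForm, slToMat, Matrix.mulVec, dotProduct, map_sum, map_pow, map_mul] using h⟩
  left_inv g := by apply Subtype.ext; apply Subtype.ext; ext i j; exact RingEquiv.symm_apply_apply e _
  right_inv g := by apply Subtype.ext; apply Subtype.ext; ext i j; exact RingEquiv.apply_symm_apply e _
  map_mul' g h := Subtype.ext (map_mul _ _ _)

theorem commutator_spec (F : Type) [Field F] [Fintype F] (hF : Fintype.card F = 4) :
    Nat.card ↥(commutator ↥(Cfsg.SU 3 F 2)) = 54 ∧
      ∃ a x y : ↥(commutator ↥(Cfsg.SU 3 F 2)),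
        B23.Rels a x y ∧ Subgroup.closure ({a, x, y} : Set ↥(commutator ↥(Cfsg.SU 3 F 2))) = ⊤ := by
  obtain ⟨e⟩ : Nonempty (K4 ≃+* F) :=
    ⟨FiniteField.ringEquivOfCardEq (by rw [card_K4, hF])⟩
  let φ := suMap e 3 2
  have hmap : (commutator G0).map φ.toMonoidHom = commutator ↥(Cfsg.SU 3 F 2) := by
    rw [commutator_def, Subgroup.map_commutator, Subgroup.map_top_of_surjective _ φ.surjective,
      ← commutator_def]
  let ψ : M ≃* ↥(commutator ↥(Cfsg.SU 3 F 2)) :=
    ((MulEquiv.subgroupCongr commutator_eq.symm).trans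
      (Subgroup.equivMapOfInjective _ φ.toMonoidHom φ.injective)).trans (MulEquiv.subgroupCongr hmap)
  refine ⟨by rw [← Nat.card_congr ψ.toEquiv, card_M], ψ gA, ψ gX, ψ gY, relsM.map ψ.toMonoidHom, ?_⟩
  have h := congrArg (Subgroup.map ψ.toMonoidHom) genM
  rw [MonoidHom.map_closure, Subgroup.map_top_of_surjective _ ψ.surjective, Set.image_insert_eq,
    Set.image_insert_eq, Set.image_singleton] at h
  exact h

end Cfsg.Agent.Transpos.SU32
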