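import Cfsg.Agent.Lib.Transpos.M22OuterClass

/-!
# Outer involutions of a group of type M(22) at a fixed member

`M22.not_inner_of_four`: an involutory automorphism fixing a multiple of four members is not inner.
`M22.eq_one_or_of_fixes`: if an outer involution fixes `a` and 63 members commuting with it, only `1`
and `a` centralise all of these.
-/

set_option autoImplicit false

namespace Cfsg.Agent.Transpos

open Cfsg Cfsg.Agent.ClassicalSimple

variable {G : Type*} [Group G] [Finite G] {D : Set G} {a : G}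

namespace M22

variable (H : M22 D)
include H

/-- An inner involution moves a multiple of four members. -/
theorem not_inner_of_four [Nonempty D] {φ : MulAut G} (hinv : ∀ g, φ (φ g) = g)
    (h4 : 4 ∣ (fixedMem D φ).ncard) : φ ∉ (MulAut.conj : G →* MulAut G).range := by
  classical
  rintro ⟨s, rfl⟩
  have hss : s * s = 1 := by
    have hc : s * s ∈ Subgroup.center G := Subgroup.mem_center_iff.2 fun g => by
      have h1 : s * s * g * (s * s)⁻¹ = g := by
        have := hinv g
        change s * (s * g * s⁻¹) * s⁻¹ = g at this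
        conv_rhs => rw [← this]
        group
      exact (mul_inv_eq_iff_eq_mul.1 h1).symm
    rwa [H.center, Subgroup.mem_bot] at hc
  obtain ⟨k, hk⟩ := h4
  have := Fintype.ofFinite ↥D
  let φ : G →* Equiv.Perm ↥D :=
    { toFun := fun g =>
        { toFun := fun x => ⟨g * x * g⁻¹, H.conj_mem g x.2⟩
          invFun := fun x => ⟨g⁻¹ * x * g, (stab_of_normal H.grp g x x.2).2⟩
          left_inv := fun x => Subtype.ext (by simp [mul_assoc])
          right_inv := fun x => Subtype.ext (by simp [mul_assoc]) }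
      map_one' := Equiv.ext fun x => Subtype.ext (by simp)
      map_mul' := fun g k => Equiv.ext fun x => Subtype.ext (by simp [mul_assoc]) }
  have hsign : Equiv.Perm.sign (φ s) = 1 := by
    have hle := Abelianization.commutator_subset_ker (Equiv.Perm.sign.comp φ)
    rw [H.perfect] at hle
    exact hle (Subgroup.mem_top s)
  have hsq : φ s ^ 2 = 1 := by rw [← map_pow, pow_two, hss, map_one]
  set F := fixedMem D (MulAut.conj s)
  have hfix : Fintype.card (Function.fixedPoints (φ s)) = F.ncard := by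
    rw [← Nat.card_eq_fintype_card, ← Nat.card_coe_set_eq F]
    exact Nat.card_congr
      { toFun := fun x => ⟨x.1.1, x.1.2, congrArg Subtype.val x.2⟩
        invFun := fun x => ⟨⟨x.1, x.2.1⟩, Subtype.ext x.2.2⟩
        left_inv := fun x => Subtype.ext (Subtype.ext rfl)
        right_inv := fun x => Subtype.ext rfl }
  rw [Equiv.Perm.sign_of_pow_two_eq_one hsq, hfix, ← Nat.card_eq_fintype_card,
    Nat.card_coe_set_eq] at hsign
  have hle : F.ncard ≤ D.ncard := Set.ncard_le_ncard (fun x hx => hx.1) (Set.toFinite _)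
  obtain ⟨m, hm⟩ : ∃ m, (D.ncard - F.ncard) / 2 = 2 * m + 1 :=
    ⟨(D.ncard - F.ncard) / 4, by have := H.card_mod_four; omega⟩
  rw [hm, pow_succ, pow_mul, neg_one_sq, one_pow, one_mul] at hsign
  exact absurd hsign (by decide)

/-- The members fixed by an outer involution at `a` determine an element up to `a`. -/
theorem eq_one_or_of_fixes (ha : a ∈ D) {φ : MulAut G} (hφ : OuterAt D a φ)
    (h63 : (fixedDc D a φ).ncard = 63) {g : G} (hga : Commute g a)
    (hg : ∀ x ∈ fixedDc D a φ, Commute g x) : g = 1 ∨ g = a := by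
  obtain ⟨M⟩ := (H.model a ha).2
  have := Fintype.ofFinite M.F
  obtain ⟨o, ho0, ho, hso, hso2⟩ := M.c.exists_omega
  obtain ⟨Φ, hΦ, hactΦ, h2⟩ := M.exists_outer_semi H ha hφ
  have halt := (M.alt_iff_card H ha hΦ hactΦ h2).2 h63
  have hp := preserves_conj H.grp g
  obtain ⟨Ψ, τ, hΨ₀, hact⟩ := M.exists_semi H ha hp
    (show g * a * g⁻¹ = a by rw [hga.eq, mul_inv_cancel_right])
  have hτ := H.linear ha hga M hΨ₀ hact
  have hsm : ∀ (m : M.F) u, Ψ (m • u) = m • Ψ u := fun m u => by rw [hΨ₀.smul, hτ]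
  -- each fixed vector spans a fixed line
  have line : ∀ v, Φ v = v → v ≠ 0 → ∃ m : M.F, Ψ v = m • v := by
    intro v hv hv0
    obtain ⟨x, hx⟩ := M.exists_mem H ha (halt v hv) hv0
    have hfx : φ x = x := (M.fix_iff H ha hactΦ hx).2 ⟨1, one_ne_zero, by rw [one_smul, hv]⟩
    obtain ⟨m, -, hm⟩ := (M.fix_iff H ha hact hx).1
      (show g * x * g⁻¹ = x by rw [(hg x ⟨hx.mem, hfx⟩).eq, mul_inv_cancel_right])
    exact ⟨m, hm⟩
  obtain ⟨v₀, hv₀, hv₀0⟩ : ∃ v, Φ v = v ∧ v ≠ 0 := by
    have hc := U6.fixed_card M.c hΦ h2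
    by_contra hno
    push Not at hno
    have hs : Subsingleton {v : Fin 6 → M.F // Φ v = v} :=
      ⟨fun v w => Subtype.ext ((hno v v.2).trans (hno w w.2).symm)⟩
    have := (Finite.card_le_one_iff_subsingleton).2 hs
    omega
  obtain ⟨m, hm⟩ := line v₀ hv₀ hv₀0
  -- the same multiplier on all of them
  have same : ∀ v, Φ v = v → Ψ v = m • v := by
    intro v hv
    by_cases hv0 : v = 0
    · rw [hv0, smul_zero, hΨ₀.map_zero]
    by_cases hvv : v = v₀
    · rw [hvv, hm]
    obtain ⟨k, hk⟩ := line v hv hv0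
    have hsum : Φ (v + v₀) = v + v₀ := by rw [hΦ.add, hv, hv₀]
    have hne : v + v₀ ≠ 0 := fun e => hvv (by
      rw [← add_zero v, ← M.c.addV v₀, ← add_assoc, e, zero_add])
    obtain ⟨l, hl⟩ := line _ hsum hne
    rw [hΨ₀.add, hk, hm] at hl
    have hzero : (k - l) • v + (m - l) • v₀ = 0 := by
      rw [← sub_eq_zero.2 hl]; module
    suffices hkl : k - l = 0 by
      rw [hkl, zero_smul, zero_add, smul_eq_zero] at hzero
      rw [hk, sub_eq_zero.1 hkl, sub_eq_zero.1 (hzero.resolve_right hv₀0)]
    by_contra hne'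
    -- then `v` is a multiple of `v₀`, hence equal to it
    have e : v = (-((k - l)⁻¹ * (m - l))) • v₀ := by
      rw [← inv_smul_smul₀ hne' v, eq_neg_of_add_eq_zero_left hzero]
      module
    generalize -((k - l)⁻¹ * (m - l)) = c at e
    have hc : M.σ c = c := smul_left_injective _ hv₀0 (by
      show M.σ c • v₀ = c • v₀
      conv_rhs => rw [← e, ← hv, e, hΦ.smul, hv₀])
    have hc0 : c ≠ 0 := fun h => hv0 (by rw [e, h, zero_smul])
    exact hvv (by rw [e, M.c.eq_one hc hc0, one_smul])
  have hall : ∀ u, Ψ u = m • u := by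
    intro u
    obtain ⟨f1, f2⟩ := U6.decomp M.c ho hso hΦ h2 u
    have e : u = (u + o • (u + Φ u)) + o • (u + Φ u) := by
      rw [add_assoc, M.c.addV, add_zero]
    rw [e, hΨ₀.add, hsm, same _ f2, same _ f1]
    module
  have hfix : ∀ y ∈ Dc D a, MulAut.conj g y = y :=
    M.fix_of_acts_scalar H ha (hact.congr hall)
  have hc : ∀ {x : G}, (∀ y, g * y * g⁻¹ = x * y * x⁻¹) → g = x := by
    intro x h
    have hz : x⁻¹ * g ∈ Subgroup.center G := Subgroup.mem_center_iff.2 fun y => by
      calc y * (x⁻¹ * g) = x⁻¹ * (x * y * x⁻¹) * g := by group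
        _ = x⁻¹ * (g * y * g⁻¹) * g := by rw [h]
        _ = x⁻¹ * g * y := by group
    rw [H.center, Subgroup.mem_bot, inv_mul_eq_one] at hz
    exact hz.symm
  rcases H.eq_id_or_conj hp ha (show g * a * g⁻¹ = a by rw [hga.eq, mul_inv_cancel_right]) hfix
    with h | h
  · exact Or.inl (hc fun y => (h y).trans (by group))
  · exact Or.inr (hc h)

end M22

end Cfsg.Agent.Transpos
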