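import Cfsg.Agent.Lib.Transpos.M22Model
import Cfsg.Agent.Lib.Fischer.WidthOne

/-!
# Connectedness of the commuting graph in type M(22)

The commuting graph is connected if the action on the class is primitive, or the group is simple or
perfect.
-/

set_option autoImplicit false

namespace Cfsg.Agent.Transpos

open Cfsg

variable {G : Type*} [Group G] [Finite G] {D : Set G}

theorem exists_commuting_pair (h22 : IsOfTypeM22 G D) : ∃ d ∈ D, (Dc D d).Nonempty := by
  obtain ⟨-, d, hd, -, -, -, ⟨F, _, _, hF, ⟨e⟩⟩, -⟩ := h22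
  obtain ⟨x, hx⟩ := exists_active_of_card (E := Dc D d) fun h => by
    have h2 := dvd_card_PSU6 (F := F) hF
    rw [← Nat.card_congr e.toEquiv] at h2
    erw [h] at h2
    norm_num at h2
  exact ⟨d, hd, x, hx.1⟩

omit [Finite G] in
theorem three_group_of_class (hD : IsThreeTranspositionClass D) : IsThreeTranspositionGroup D :=
  ⟨hD.1, fun g a ha => (Fischer.TClass.of hD).conj g a ha, hD.2.2⟩

/-- Primitive groups with a commuting pair have connected commuting graph. -/
theorem conn_of_primitive_pair (hD : IsThreeTranspositionGroup D) (hprim : IsPrimitiveUnderConj D)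
    (hpair : ∃ d ∈ D, (Dc D d).Nonempty) :
    ∀ a ∈ D, ∀ v ∈ D, Relation.ReflTransGen (Fischer.CAdj D) a v := by
  have hT := Fischer.TClass.of_primitive hD hprim
  obtain ⟨d, hd, q₀, hq₀⟩ := hpair
  intro p hp v hv
  obtain ⟨g, rfl⟩ := hprim.1 d hd p hp
  have hq : g * q₀ * g⁻¹ ∈ Dc D (g * d * g⁻¹) :=
    ⟨hD.2.1 g _ hq₀.1, fun h => hq₀.2.1 (mul_left_cancel (mul_right_cancel h)),
      (commute_conj_iff g).2 hq₀.2.2⟩
  rcases hprim.2.2 (Fischer.block D (g * d * g⁻¹)) (Fischer.block_subset hp) (fun k => by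
    rw [Fischer.block_conj hT k _]
    by_cases hm : k * (g * d * g⁻¹) * k⁻¹ ∈ Fischer.block D (g * d * g⁻¹)
    · exact Or.inl (Fischer.block_eq hp hm)
    · refine Or.inr (Set.disjoint_left.2 fun w hw hw' => hm ?_)
      have e : Fischer.block D (k * (g * d * g⁻¹) * k⁻¹) = Fischer.block D (g * d * g⁻¹) :=
        (Fischer.block_eq (hD.2.1 k _ hp) hw).symm.trans (Fischer.block_eq hp hw')
      rw [← e]
      exact Fischer.block_mem_self _) with h | h
  · exact absurd (h (Fischer.block_mem_self _) (Relation.ReflTransGen.single ⟨hq.1, hq.2.2⟩))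
      fun e => hq.2.1 e.symm
  · rw [← h] at hv
    exact hv

/-- Primitive groups of type M(22) have connected commuting graph. -/
theorem conn_of_primitive (hD : IsThreeTranspositionGroup D) (hprim : IsPrimitiveUnderConj D)
    (h22 : IsOfTypeM22 G D) : ∀ a ∈ D, ∀ v ∈ D, Relation.ReflTransGen (Fischer.CAdj D) a v :=
  conn_of_primitive_pair hD hprim (exists_commuting_pair h22)

/-- Simple groups of type M(22) have connected commuting graph. -/
theorem conn_of_simple [IsSimpleGroup G] (hD : IsThreeTranspositionClass D) (h22 : IsOfTypeM22 G D) :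
    ∀ a ∈ D, ∀ v ∈ D, Relation.ReflTransGen (Fischer.CAdj D) a v := by
  obtain ⟨d, hd, x, hx⟩ := exists_commuting_pair h22
  refine Fischer.commuting_connected (Fischer.TClass.of hD) (fun N hN => ?_) hd hx.1 hx.2.2 hx.2.1.symm
  rcases hN.eq_bot_or_eq_top with h | h
  · exact Or.inl (by rw [h, bot_inf_eq])
  · exact Or.inr (h ▸ le_top)

/-- A perfect group generated by a class of 3-transpositions has connected commuting graph: otherwise
its action on the components has a solvable image. -/
theorem conn_of_perfect (hT : Fischer.TClass D) (hperf : commutator G = ⊤) :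
    ∀ a ∈ D, ∀ v ∈ D, Relation.ReflTransGen (Fischer.CAdj D) a v := by
  intro a ha v hv
  by_contra hav
  let N : Subgroup G :=
    { carrier := {g | ∀ w ∈ D, Fischer.block D (g * w * g⁻¹) = Fischer.block D w}
      one_mem' := fun w _ => by simp
      mul_mem' := fun {g k} hg hk w hw => by
        rw [show g * k * w * (g * k)⁻¹ = g * (k * w * k⁻¹) * g⁻¹ by simp [mul_assoc],
          hg _ (hT.conj k w hw), hk w hw]
      inv_mem' := fun {g} hg w hw => by
        have := hg _ (hT.conj g⁻¹ w hw)
        simpa [mul_assoc] using this.symm }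
  have hNn : N.Normal := by
    refine ⟨fun n hn g w hw => ?_⟩
    have h1 := hn _ (hT.conj g⁻¹ w hw)
    have h2 := congrArg (fun S : Set G => (fun z => g * z * g⁻¹) '' S) h1
    simp only [Fischer.block_conj hT] at h2
    simpa [mul_assoc] using h2
  let π := QuotientGroup.mk' N
  have hπ : Function.Surjective π := QuotientGroup.mk'_surjective N
  -- no member fixes every component
  have hout : ∀ x ∈ D, π x ≠ 1 := by
    intro x hx h
    have hN : ∀ y ∈ D, π y = 1 := fun y hy => by
      obtain ⟨g, rfl⟩ := hT.trans x hx y hy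
      rw [map_mul, map_mul, h, mul_one, map_inv, mul_inv_cancel]
    have := ((QuotientGroup.eq_one_iff a).1 (hN a ha)) v hv
    rw [hT.toTSet.inv_eq ha] at this
    exact Fischer.moves_other hT ha hv hav this
  -- commuting images are equal
  have heq : ∀ x ∈ D, ∀ y ∈ D, Commute (π x) (π y) → π x = π y := by
    intro x hx y hy hc
    have hsq : ∀ z ∈ D, π z * π z = 1 := fun z hz => by rw [← map_mul, hT.sq z hz, map_one]
    by_cases hxy : Commute x y
    · have hm : π (x * y) = 1 := (QuotientGroup.eq_one_iff _).2 fun w hw => by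
        rw [show x * y * w * (x * y)⁻¹ = x * (y * w * y⁻¹) * x⁻¹ by simp [mul_assoc],
          hT.toTSet.inv_eq hy, hT.toTSet.inv_eq hx,
          Fischer.commute_act_eq hT hx hy hxy (hT.toTSet.conj_mem hy hw),
          Fischer.invol_conj_invol (hT.sq y hy)]
      rw [map_mul] at hm
      rw [eq_inv_of_mul_eq_one_left hm, inv_eq_of_mul_eq_one_left (hsq y hy)]
    · have h3 : (π x * π y) ^ 3 = 1 := by
        rw [← map_mul, ← map_pow]
        rcases hT.ord x hx y hy with h | h
        · exact absurd (hT.toTSet.commute_of_sq hx hy h) hxy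
        · rw [h, map_one]
      rw [pow_succ, pow_two, hc.symm.mul_mul_mul_comm, hsq x hx, hsq y hy, one_mul, one_mul] at h3
      rw [eq_inv_of_mul_eq_one_left h3, inv_eq_of_mul_eq_one_left (hsq y hy)]
  have hTq : Fischer.TClass (π '' D) := by
    refine ⟨⟨?_, ?_, ?_, ?_⟩, ?_, ?_, hT.nonempty.image _⟩
    · rintro _ ⟨x, hx, rfl⟩; rw [← map_mul, hT.sq x hx, map_one]
    · rintro _ ⟨x, hx, rfl⟩; exact hout x hx
    · rintro _ ⟨x, hx, rfl⟩ _ ⟨y, hy, rfl⟩
      rw [← map_mul, ← map_pow, ← map_pow]
      exact (hT.ord x hx y hy).imp (fun h => by rw [h, map_one]) fun h => by rw [h, map_one]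
    · rintro g _ ⟨x, hx, rfl⟩
      obtain ⟨g, rfl⟩ := hπ g
      exact ⟨g * x * g⁻¹, hT.conj g x hx, by simp⟩
    · rintro _ ⟨x, hx, rfl⟩ _ ⟨y, hy, rfl⟩
      obtain ⟨g, rfl⟩ := hT.trans x hx y hy
      exact ⟨π g, by simp⟩
    · rw [← MonoidHom.map_closure, hT.gen, ← MonoidHom.range_eq_map, MonoidHom.range_eq_top.2 hπ]
  haveI : Group.IsSolvable (G ⧸ N) := hTq.isSolvable_of_width_one fun x hx y hy h => by
    obtain ⟨x, hx, rfl⟩ := hx
    obtain ⟨y, hy, rfl⟩ := hy
    exact heq x hx y hy h
  have hcomm : commutator (G ⧸ N) = ⊤ := by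
    rw [commutator_def, ← Subgroup.map_top_of_surjective π hπ, ← Subgroup.map_commutator,
      ← commutator_def, hperf]
  obtain ⟨n, hn⟩ := Group.IsSolvable.solvable (G := G ⧸ N)
  have htop : ∀ m, derivedSeries (G ⧸ N) m = ⊤ := fun m => by
    induction m with
    | zero => rfl
    | succ m ih => rw [derivedSeries_succ, ih, ← commutator_def, hcomm]
  rw [htop n] at hn
  exact hout a ha (Subgroup.mem_bot.1 (hn ▸ Subgroup.mem_top (π a)))

end Cfsg.Agent.Transpos
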