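import Cfsg.Agent.Lib.Transpos.M22Short

/-!
# Involutions of a group of type M(22) fix members

`|D| ≡ 2 mod 4`: off the perps, two commuting members and their product move every member, so the
orbits have length 4.  As the group is perfect its permutations of `D` are even, so no involution
is fixed-point free.
-/

set_option autoImplicit false

namespace Cfsg.Agent.Transpos

open Cfsg

variable {G : Type*} [Group G] {D : Set G}

/-- Conjugating by an involution commuting with `y` keeps commuting with `y`. -/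
theorem commute_conj_fix {t x y : G} (ht : t * t = 1) (h : Commute t y) :
    Commute (t * x * t) y ↔ Commute x y := by
  rw [Fischer.commute_invol_conj_left ht, Fischer.invol_conj_eq_of_commute ht h]

/-- A free action of two commuting involutions gives a multiple of four. -/
theorem four_dvd_of_free {α : Type*} (s : Set α) (hs : s.Finite) (f g : α → α)
    (hf : ∀ x ∈ s, f x ∈ s ∧ f (f x) = x ∧ f x ≠ x) (hg : ∀ x ∈ s, g x ∈ s ∧ g (g x) = x ∧ g x ≠ x)
    (hfg : ∀ x ∈ s, f (g x) = g (f x) ∧ g (f x) ≠ x) : 4 ∣ s.ncard := by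
  classical
  induction hn : s.ncard using Nat.strong_induction_on generalizing s with
  | _ n ih =>
    rcases s.eq_empty_or_nonempty with h | ⟨x, hx⟩
    · rw [← hn, h, Set.ncard_empty]; exact dvd_zero _
    obtain ⟨f1, f2, f3⟩ := hf x hx
    obtain ⟨g1, g2, g3⟩ := hg x hx
    obtain ⟨e, ne⟩ := hfg x hx
    have h4 : g (f x) ∈ s := (hg _ f1).1
    let o : Set α := {x, f x, g x, g (f x)}
    have ho : o ⊆ s := by
      intro y hy
      rcases hy with rfl | rfl | rfl | rfl <;> assumption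
    have n1 : f x ≠ g x := fun h => ne (by rw [h, g2])
    have n2 : f x ≠ g (f x) := fun h => (hg _ f1).2.2 h.symm
    have n3 : g x ≠ g (f x) := fun h => f3 (by
      have := congrArg g h
      rw [g2, (hg _ f1).2.1] at this
      exact this.symm)
    have hc : o.ncard = 4 := by
      rw [show o = ({x, f x, g x, g (f x)} : Set α) from rfl, Set.ncard_insert_of_notMem,
        Set.ncard_insert_of_notMem, Set.ncard_insert_of_notMem, Set.ncard_singleton]
      · simpa using n3
      · simpa using And.intro n1 n2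
      · simpa using And.intro f3.symm (And.intro g3.symm ne.symm)
    have hfo : ∀ y ∈ s, y ∉ o → f y ∉ o := fun y hy hyo h => hyo (by
      have k := (hf y hy).2.1
      rcases h with h | h | h | h <;> rw [h] at k <;> subst k
      · simp [o]
      · simp [o, f2]
      · simp [o, e]
      · simp only [o, (hfg _ f1).1, f2]; simp)
    have hgo : ∀ y ∈ s, y ∉ o → g y ∉ o := fun y hy hyo h => hyo (by
      have k := (hg y hy).2.1
      rcases h with h | h | h | h <;> rw [h] at k <;> subst k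
      · simp [o]
      · simp [o]
      · simp [o, g2]
      · simp [o, (hg _ f1).2.1])
    have hcard := Set.ncard_sdiff ho (hs.subset ho)
    have hle := Set.ncard_le_ncard ho hs
    have := ih _ (by omega) (s \ o) hs.sdiff
      (fun y hy => ⟨⟨(hf y hy.1).1, hfo y hy.1 hy.2⟩, (hf y hy.1).2⟩)
      (fun y hy => ⟨⟨(hg y hy.1).1, hgo y hy.1 hy.2⟩, (hg y hy.1).2⟩)
      (fun y hy => hfg y hy.1) rfl
    omega

variable [Finite G]

/-- Off two commuting members their conjugation orbits have length four. -/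
theorem four_dvd_off (hE : Tr D) {e b : G} (he : e ∈ D) (hb : b ∈ Dc D e) (S : Set G) (hS : S ⊆ D)
    (hse : ∀ x ∈ S, e * x * e ∈ S) (hsb : ∀ x ∈ S, b * x * b ∈ S)
    (hoff : ∀ x ∈ S, ¬ Commute x e ∧ ¬ Commute x b) : 4 ∣ S.ncard := by
  have key : ∀ {p}, p ∈ D → ∀ x ∈ S, ¬ Commute x p → p * (p * x * p) * p = x ∧ p * x * p ≠ x :=
    fun hp x hx h => ⟨conj_involutive hE.set hp x, fun k => h (commute_of_conj hE.set hp k).symm⟩
  refine four_dvd_of_free S (Set.toFinite _) (fun x => e * x * e) (fun x => b * x * b)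
    (fun x hx => ⟨hse x hx, key he x hx (hoff x hx).1⟩)
    (fun x hx => ⟨hsb x hx, key hb.1 x hx (hoff x hx).2⟩) fun x hx => ⟨?_, fun h => ?_⟩
  · show e * (b * x * b) * e = b * (e * x * e) * b
    calc e * (b * x * b) * e = (e * b) * x * (b * e) := by simp only [mul_assoc]
      _ = (b * e) * x * (e * b) := by rw [hb.2.2.eq]
      _ = b * (e * x * e) * b := by simp only [mul_assoc]
  · obtain ⟨ne, nb⟩ := hoff x hx
    have h1 : e * x * e = b * x * b := by
      conv_rhs => rw [← h]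
      exact (conj_involutive hE.set hb.1 _).symm
    have h2 : x * e * x = x * b * x := by
      rw [← braid hE.set he (hS hx) fun k => ne k.symm, h1,
        braid hE.set hb.1 (hS hx) fun k => nb k.symm]
    exact hb.2.1 (mul_left_cancel (mul_right_cancel h2)).symm

/-- The members commuting with two commuting members fall into classes of four. -/
theorem four_dvd_twins (hline : ∀ a ∈ D, Line D a) {p q : G} (hp : p ∈ D) (hq : q ∈ Dc D p) :
    4 ∣ (Dc (Dc D p) q).ncard := by
  classical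
  let cl : G → Set G := fun x => {z | z = x ∨ Twin D p q x z}
  have hs : ∀ x ∈ Dc (Dc D p) q, (cl x).ncard = 4 ∧ cl x ⊆ Dc (Dc D p) q := by
    intro x hx
    obtain ⟨f₁, f₂, f₃, ⟨t1, t2, t3⟩, ⟨n12, n13, n23⟩, hall, -⟩ := (hline p hp).2 q hq x hx
    have hcl : cl x = {x, f₁, f₂, f₃} := by
      ext z
      refine ⟨fun h => h.elim (fun e => Or.inl e) fun h => Or.inr (hall z h), ?_⟩
      rintro (rfl | rfl | rfl | rfl)
      exacts [Or.inl rfl, Or.inr t1, Or.inr t2, Or.inr t3]
    refine ⟨?_, fun z hz => hz.elim (fun e => e ▸ hx) fun h => h.1⟩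
    rw [hcl, Set.ncard_insert_of_notMem, Set.ncard_insert_of_notMem, Set.ncard_insert_of_notMem,
      Set.ncard_singleton]
    · simpa using n23
    · simpa using And.intro n12 n13
    · simpa using And.intro t1.2.1.symm (And.intro t2.2.1.symm t3.2.1.symm)
  have heq : ∀ x ∈ Dc (Dc D p) q, ∀ y ∈ cl x, cl y = cl x := by
    intro x hx y hy
    have sym : ∀ {u v}, u ∈ Dc (Dc D p) q → Twin D p q u v → Twin D p q v u :=
      fun hu h => ⟨hu, h.2.1.symm, h.2.2.1.symm, h.2.2.2.symm⟩
    have tr : ∀ {u v w}, w ≠ u → Twin D p q u v → Twin D p q v w → Twin D p q u w :=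
      fun hne h h' => ⟨h'.1, hne, (h'.2.2.2 _ h'.1).2 (Commute.refl _) |> fun k =>
        ((h.2.2.2 _ h'.1).2 k).symm, h.2.2.2.trans h'.2.2.2⟩
    rcases hy with rfl | hy
    · rfl
    ext z
    constructor
    · rintro (rfl | hz)
      · exact Or.inr hy
      · by_cases h : z = x
        · exact Or.inl h
        · exact Or.inr (tr h hy hz)
    · rintro (rfl | hz)
      · exact Or.inr (sym hx hy)
      · by_cases h : z = y
        · exact Or.inl h
        · exact Or.inr (tr h (sym hx hy) hz)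
  have hfin : (Dc (Dc D p) q).Finite := Set.toFinite _
  rw [Set.ncard_eq_toFinset_card _ hfin, Finset.card_eq_sum_card_image cl]
  refine Finset.dvd_sum fun C hC => ?_
  obtain ⟨x, hx, rfl⟩ := Finset.mem_image.1 hC
  rw [Set.Finite.mem_toFinset] at hx
  rw [← (hs x hx).1, ← Set.ncard_coe_finset]
  refine dvd_of_eq (congrArg Set.ncard ?_)
  ext y
  simp only [Finset.coe_filter, Set.Finite.mem_toFinset, Set.mem_ofPred_eq]
  exact ⟨fun hy => ⟨(hs x hx).2 hy, heq x hx y hy⟩, fun hy => hy.2 ▸ Or.inl rfl⟩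

namespace M22

variable (H : M22 D)
include H

/-- The members of `Dc D p` off the perp of `q`. -/
theorem four_dvd_dc {p q : G} (hp : p ∈ D) (hq : q ∈ Dc D p) :
    4 ∣ {x | x ∈ Dc D p ∧ ¬ Commute x q}.ncard := by
  obtain ⟨r, hr⟩ := (H.line p hp).1 q hq
  obtain ⟨g, -, -, ⟨⟨hg, hgq, hqg, hs⟩, -, -⟩, -, -, -⟩ :=
    (H.line p hp).2 r hr.1 q ⟨hq, hr.2.1.symm, hr.2.2.symm⟩
  have hE := H.tr
  set S := {x | x ∈ Dc D p ∧ ¬ Commute x q}
  have inv : ∀ {t}, t ∈ Dc D p → Commute t q → ∀ x ∈ S, t * x * t ∈ S := fun ht htq x hx =>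
    ⟨(hE.dc hp).conj _ ht x hx.1, fun h => hx.2 ((commute_conj_fix (sq_one hE.set ht.1) htq).1 h)⟩
  have inv2 : ∀ {t u}, t ∈ D → Commute t u → ∀ {x}, ¬ Commute x u → ¬ Commute (t * x * t) u :=
    fun {t u} ht htu {x} hx h => hx ((commute_conj_fix (sq_one hE.set ht) htu).1 h)
  have hq' : Commute q q := Commute.refl q
  rw [← Set.ncard_inter_add_ncard_sdiff_eq_ncard S {x | Commute x r}]
  refine dvd_add ?_ ?_
  · refine four_dvd_off hE hq.1 (b := g) ⟨hg.1.1, hgq, hqg⟩ _ (fun x hx => hx.1.1.1) ?_ ?_ ?_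
    · exact fun x hx => ⟨inv hq hq' x hx.1,
        (commute_conj_fix (sq_one hE.set hq.1) hr.2.2).2 hx.2⟩
    · exact fun x hx => ⟨inv hg.1 hqg.symm x hx.1,
        (commute_conj_fix (sq_one hE.set hg.1.1) hg.2.2.symm).2 hx.2⟩
    · intro x ⟨⟨hxp, hxq⟩, hxr⟩
      have hxr' : x ≠ r := fun e => hxq (e ▸ hr.2.2.symm)
      exact ⟨hxq, fun h => hxq ((hs x ⟨hxp, hxr', (hxr : Commute x r).symm⟩).2 h)⟩
  · refine four_dvd_off hE hq.1 (b := r) ⟨hr.1.1, hr.2.1, hr.2.2⟩ _ (fun x hx => hx.1.1.1) ?_ ?_ ?_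
    · exact fun x hx => ⟨inv hq hq' x hx.1, inv2 hq.1 hr.2.2 hx.2⟩
    · exact fun x hx => ⟨inv hr.1 hr.2.2.symm x hx.1, inv2 hr.1.1 (Commute.refl r) hx.2⟩
    · exact fun x hx => ⟨hx.1.2, hx.2⟩

/-- The members off the perp of `e`. -/
theorem four_dvd_far {e : G} (he : e ∈ D) : 4 ∣ (D \ {x | Commute x e}).ncard := by
  obtain ⟨b, hb⟩ := (H.model e he).1
  have hE := H.tr
  rw [← Set.ncard_inter_add_ncard_sdiff_eq_ncard (D \ {x | Commute x e}) {x | Commute x b}]
  have cc : ∀ {t u}, t ∈ D → Commute t u → ∀ {x}, (Commute (t * x * t) u ↔ Commute x u) :=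
    fun {t u} ht htu {x} => commute_conj_fix (sq_one hE.set ht) htu
  refine dvd_add ?_ ?_
  · have heq : D \ {x | Commute x e} ∩ {x | Commute x b} = {x | x ∈ Dc D b ∧ ¬ Commute x e} := by
      ext x
      constructor
      · rintro ⟨⟨hx, hxe⟩, hxb⟩
        exact ⟨⟨hx, fun h => hxe (h ▸ hb.2.2.symm), (hxb : Commute x b).symm⟩, hxe⟩
      · rintro ⟨hx, hxe⟩
        exact ⟨⟨hx.1, hxe⟩, hx.2.2.symm⟩
    rw [heq]
    exact H.four_dvd_dc hb.1 (mem_dc_symm he hb)
  · refine four_dvd_off hE he hb _ (fun x hx => hx.1.1) ?_ ?_ fun x hx => ⟨hx.1.2, hx.2⟩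
    · exact fun x hx => ⟨⟨hE.conj e he x hx.1.1, fun h => hx.1.2 ((cc he (Commute.refl e)).1 h)⟩,
        fun h => hx.2 ((cc he hb.2.2).1 h)⟩
    · exact fun x hx => ⟨⟨hE.conj b hb.1 x hx.1.1, fun h => hx.1.2 ((cc hb.1 hb.2.2.symm).1 h)⟩,
        fun h => hx.2 ((cc hb.1 (Commute.refl b)).1 h)⟩

/-- `|D| ≡ 2 mod 4`. -/
theorem card_mod_four [Nonempty D] : D.ncard % 4 = 2 := by
  obtain ⟨⟨e, he⟩⟩ := ‹Nonempty D›
  obtain ⟨b, hb⟩ := (H.model e he).1
  have hE := H.tr
  have hA : (Dc D e).ncard % 4 = 1 := by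
    have h1 := Set.ncard_inter_add_ncard_sdiff_eq_ncard (Dc D e) {x | Commute x b}
    have h2 : Dc D e ∩ {x | Commute x b} = insert b (Dc (Dc D e) b) := by
      ext x
      constructor
      · intro hx
        by_cases h : x = b
        · exact Or.inl h
        · exact Or.inr ⟨hx.1, h, (hx.2 : Commute x b).symm⟩
      · rintro (rfl | hx)
        exacts [⟨hb, Commute.refl x⟩, ⟨hx.1, hx.2.2.symm⟩]
    rw [h2, Set.ncard_insert_of_notMem (s := Dc (Dc D e) b) fun h => h.2.1 rfl] at h1
    obtain ⟨k, hk⟩ := four_dvd_twins H.line he hb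
    obtain ⟨l, hl⟩ := H.four_dvd_dc he hb
    rw [show Dc D e \ {x | Commute x b} = {x | x ∈ Dc D e ∧ ¬ Commute x b} from rfl, hl, hk] at h1
    omega
  have hN := H.four_dvd_far he
  have h3 := Set.ncard_inter_add_ncard_sdiff_eq_ncard D {x | Commute x e}
  have h4 : D ∩ {x | Commute x e} = insert e (Dc D e) := by
    ext x
    constructor
    · intro hx
      by_cases h : x = e
      · exact Or.inl h
      · exact Or.inr ⟨hx.1, h, (hx.2 : Commute x e).symm⟩
    · rintro (rfl | hx)
      exacts [⟨he, Commute.refl x⟩, ⟨hx.1, hx.2.2.symm⟩]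
  rw [h4, Set.ncard_insert_of_notMem (s := Dc D e) fun h => h.2.1 rfl] at h3
  omega

/-- Every involution commutes with a member. -/
theorem exists_fixed [Nonempty D] {t : G} (ht : t * t = 1) : ∃ e ∈ D, Commute t e := by
  classical
  by_contra hno
  push Not at hno
  have := Fintype.ofFinite ↥D
  let φ : G →* Equiv.Perm ↥D :=
    { toFun := fun g =>
        { toFun := fun x => ⟨g * x * g⁻¹, H.conj_mem g x.2⟩
          invFun := fun x => ⟨g⁻¹ * x * g, (stab_of_normal H.grp g x x.2).2⟩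
          left_inv := fun x => Subtype.ext (by simp [mul_assoc])
          right_inv := fun x => Subtype.ext (by simp [mul_assoc]) }
      map_one' := Equiv.ext fun x => Subtype.ext (by simp)
      map_mul' := fun g k => Equiv.ext fun x => Subtype.ext (by simp [mul_assoc]) }
  have hsign : Equiv.Perm.sign (φ t) = 1 := by
    have hle := Abelianization.commutator_subset_ker (Equiv.Perm.sign.comp φ)
    rw [H.perfect] at hle
    exact hle (Subgroup.mem_top t)
  have hsq : φ t ^ 2 = 1 := by rw [← map_pow, pow_two, ht, map_one]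
  have hfix : Fintype.card (Function.fixedPoints (φ t)) = 0 := by
    rw [Fintype.card_eq_zero_iff]
    refine ⟨fun x => hno _ x.1.2 ?_⟩
    exact (mul_inv_eq_iff_eq_mul.1 (congrArg Subtype.val x.2) : t * (x.1 : G) = (x.1 : G) * t)
  rw [Equiv.Perm.sign_of_pow_two_eq_one hsq, hfix, ← Nat.card_eq_fintype_card,
    Nat.card_coe_set_eq, Nat.sub_zero] at hsign
  obtain ⟨m, hm⟩ : ∃ m, D.ncard = 4 * m + 2 := ⟨D.ncard / 4, by have := H.card_mod_four; omega⟩
  rw [hm, show (4 * m + 2) / 2 = 2 * m + 1 by omega, pow_succ, pow_mul, neg_one_sq, one_pow,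
    one_mul] at hsign
  exact absurd hsign (by decide)

end M22

end Cfsg.Agent.Transpos
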