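import Cfsg.Agent.Lib.Transpos.M22Cent
import Cfsg.Agent.Lib.Transpos.M22Fixed
import Cfsg.Agent.Lib.Transpos.M22Conn
import Cfsg.Agent.Lib.Fischer.SmallExponent

/-!
# Groups of type M(22) are simple

A normal subgroup moving the members is transitive on `D`; if it does not contain the centraliser of a
member it is regular, so of order `2 mod 4`, and its subgroup of index two is normal and intransitive.
-/

set_option autoImplicit false
set_option linter.style.haveILetI false

namespace Cfsg.Agent.Transpos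

open Cfsg Cfsg.Agent.ClassicalSimple

variable {G : Type*} [Group G] [Finite G] {D : Set G}

omit [Finite G] in
/-- The quotient of `⟨Dc D a⟩` by its centre is `PSU₆(2)` for every member `a`. -/
theorem exists_quot_iso (hD : IsThreeTranspositionGroup D) (hprim : IsPrimitiveUnderConj D)
    (h22 : IsOfTypeM22 G D) : ∃ (F : Type) (_ : Field F) (_ : Fintype F), Fintype.card F = 4 ∧
      ∀ a ∈ D, Nonempty (↥(Subgroup.closure (Dc D a)) ⧸
        Subgroup.center ↥(Subgroup.closure (Dc D a)) ≃* PSU 6 F 2) := by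
  obtain ⟨-, d, hd, -, -, -, ⟨F, iF, iFt, hF, ⟨e⟩⟩, -⟩ := h22
  refine ⟨F, iF, iFt, hF, fun a ha => ?_⟩
  obtain ⟨g, rfl⟩ := hprim.1 d hd a ha
  have hc := (stab_of_normal hD g).carries.dc d
  have himg : (MulAut.conj g).toMonoidHom '' Dc D d = Dc D (g * d * g⁻¹) := by
    refine Set.Subset.antisymm ?_ fun y hy => ⟨_, hc.2 y hy, ?_⟩
    · rintro _ ⟨x, hx, rfl⟩
      exact hc.1 x hx
    · show g * (g⁻¹ * y * g) * g⁻¹ = y
      group
  let f := ((MulAut.conj g).subgroupMap (Subgroup.closure (Dc D d))).trans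
    (MulEquiv.subgroupCongr ((MonoidHom.map_closure _ _).trans (congrArg Subgroup.closure himg)))
  exact ⟨(centerQuotientCongr f.symm).trans e⟩

omit [Finite G] in
/-- The group generated by the members commuting with `a` has centre `⟨a⟩`. -/
theorem M22.center_eq (H : M22 D) {a : G} (ha : a ∈ D) :
    Subgroup.center ↥(Subgroup.closure (Dc D a)) =
      (Subgroup.zpowers a).subgroupOf (Subgroup.closure (Dc D a)) := by
  ext z
  rw [Subgroup.mem_subgroupOf, Subgroup.mem_center_iff]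
  constructor
  · intro hz
    have hc : ∀ y ∈ Subgroup.closure (Dc D a), Commute (z : G) y := fun y hy =>
      (congrArg Subtype.val (hz ⟨y, hy⟩)).symm
    rcases H.eq_one_or_eq ha (hc a (H.mem_closure_dc ha))
      (fun y hy => hc y (Subgroup.subset_closure hy)) with e | e <;> rw [e]
    exacts [one_mem _, Subgroup.mem_zpowers a]
  · intro hz y
    obtain ⟨k, hk⟩ := Subgroup.mem_zpowers_iff.1 hz
    have hy : Commute (y : G) a := by
      have hle : Subgroup.closure (Dc D a) ≤ Subgroup.centralizer ({a} : Set G) :=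
        (Subgroup.closure_le _).2 fun x hx =>
          Subgroup.mem_centralizer_singleton_iff.2 hx.2.2.eq.symm
      exact Subgroup.mem_centralizer_singleton_iff.1 (hle y.2)
    refine Subtype.ext ?_
    show (y : G) * (z : G) = (z : G) * (y : G)
    rw [← hk]
    exact (hy.zpow_right k).eq

/-- The hypotheses of a primitive group of type M(22) in one bundle. -/
theorem m22_of_primitive (hD : IsThreeTranspositionGroup D) (hprim : IsPrimitiveUnderConj D)
    (h22 : IsOfTypeM22 G D) : Nonempty D ∧ M22 D ∧ M22.Full D := by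
  have hne : Nonempty D := ⟨⟨hprim.2.1.choose, hprim.2.1.choose_spec.1⟩⟩
  have H := M22.of_type hD h22 (conn_of_primitive hD hprim h22)
  exact ⟨hne, H, H.full'⟩

/-- `⟨Dc D a⟩` is quasisimple. -/
theorem quasisimple_dc (hD : IsThreeTranspositionGroup D) (hprim : IsPrimitiveUnderConj D)
    (h22 : IsOfTypeM22 G D) {a : G} (ha : a ∈ D) :
    IsQuasisimple ↥(Subgroup.closure (Dc D a)) := by
  obtain ⟨_, H, hfull⟩ := m22_of_primitive hD hprim h22
  obtain ⟨F, iF, iFt, hF, he⟩ := exists_quot_iso hD hprim h22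
  obtain ⟨e⟩ := he a ha
  have hp := hfull.perfect a ha
  rw [hfull.cent a ha] at hp
  haveI : IsSimpleGroup (PSU 6 F 2) :=
    PSU_isSimpleGroup (q := 2) (by rw [hF]; norm_num) (by norm_num) (by norm_num)
  exact ⟨(Group.isPerfect_def).2 hp, isSimpleGroup_of_equiv e⟩

/-- Groups of type M(22) are simple. -/
theorem isSimpleGroup_m22 (hD : IsThreeTranspositionGroup D) (hprim : IsPrimitiveUnderConj D)
    (h22 : IsOfTypeM22 G D) : IsSimpleGroup G := by
  classical
  obtain ⟨_, H, hfull⟩ := m22_of_primitive hD hprim h22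
  have hp' := hprim
  obtain ⟨htr, ⟨a, ha, -⟩, hblk⟩ := hprim
  have hane : a ≠ 1 := ne_one hD.1 ha
  haveI : Nontrivial G := ⟨⟨a, 1, hane⟩⟩
  -- a nontrivial normal subgroup is transitive
  have trans : ∀ N : Subgroup G, N.Normal → N ≠ ⊥ →
      ∀ p ∈ D, ∀ q ∈ D, ∃ n ∈ N, n * p * n⁻¹ = q := by
    intro N hN hNne p hp q hq
    set B : Set G := {y | ∃ n ∈ N, n * p * n⁻¹ = y} with hB
    have hpB : p ∈ B := ⟨1, one_mem _, by simp⟩
    rcases hblk B (fun y ⟨n, _, e⟩ => e ▸ hD.2.1 n p hp) (fun g => by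
      by_cases hg : g * p * g⁻¹ ∈ B
      · refine Or.inl ?_
        obtain ⟨n₀, hn₀, e₀⟩ := hg
        ext y
        constructor
        · rintro ⟨_, ⟨n, hn, rfl⟩, rfl⟩
          refine ⟨g * n * g⁻¹ * n₀, N.mul_mem (hN.conj_mem n hn g) hn₀, ?_⟩
          calc g * n * g⁻¹ * n₀ * p * (g * n * g⁻¹ * n₀)⁻¹
              = g * n * g⁻¹ * (n₀ * p * n₀⁻¹) * g * n⁻¹ * g⁻¹ := by group
            _ = _ := by rw [e₀]; group
        · rintro ⟨n, hn, rfl⟩
          refine ⟨(g⁻¹ * (n * n₀⁻¹) * g) * p * (g⁻¹ * (n * n₀⁻¹) * g)⁻¹,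
            ⟨_, ?_, rfl⟩, ?_⟩
          · have := hN.conj_mem _ (N.mul_mem hn (N.inv_mem hn₀)) g⁻¹
            rwa [inv_inv] at this
          · calc g * (g⁻¹ * (n * n₀⁻¹) * g * p * (g⁻¹ * (n * n₀⁻¹) * g)⁻¹) * g⁻¹
                = (n * n₀⁻¹) * (g * p * g⁻¹) * (n * n₀⁻¹)⁻¹ := by group
              _ = _ := by rw [← e₀]; group
      · refine Or.inr (Set.disjoint_left.2 ?_)
        rintro _ ⟨_, ⟨n, hn, rfl⟩, rfl⟩ ⟨n', hn', e'⟩
        refine hg ⟨(g * n * g⁻¹)⁻¹ * n', N.mul_mem (N.inv_mem (hN.conj_mem n hn g)) hn', ?_⟩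
        calc (g * n * g⁻¹)⁻¹ * n' * p * ((g * n * g⁻¹)⁻¹ * n')⁻¹
            = (g * n * g⁻¹)⁻¹ * (n' * p * n'⁻¹) * (g * n * g⁻¹) := by group
          _ = (g * n * g⁻¹)⁻¹ * (g * (n * p * n⁻¹) * g⁻¹) * (g * n * g⁻¹) := by rw [e']
          _ = g * p * g⁻¹ := by group) with h | h
    · exfalso
      refine hNne (eq_bot_iff.2 fun n hn => ?_)
      rw [← H.center, Subgroup.mem_center_iff]
      intro y
      have hc : ∀ r ∈ D, Commute r n := by
        intro r hr
        obtain ⟨g, rfl⟩ := htr p hp r hr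
        have hm : g⁻¹ * n * g ∈ N := by simpa using hN.conj_mem n hn g⁻¹
        have e : (g⁻¹ * n * g) * p * (g⁻¹ * n * g)⁻¹ = p := h ⟨_, hm, rfl⟩ hpB
        show g * p * g⁻¹ * n = n * (g * p * g⁻¹)
        have e2 : g⁻¹ * n * g * p = p * (g⁻¹ * n * g) := mul_inv_eq_iff_eq_mul.1 e
        calc g * p * g⁻¹ * n = g * (p * (g⁻¹ * n * g)) * g⁻¹ := by group
          _ = g * (g⁻¹ * n * g * p) * g⁻¹ := by rw [e2]
          _ = n * (g * p * g⁻¹) := by group
      have hle : Subgroup.closure D ≤ Subgroup.centralizer ({n} : Set G) :=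
        (Subgroup.closure_le _).2 fun r hr => Subgroup.mem_centralizer_singleton_iff.2 (hc r hr).eq
      exact Subgroup.mem_centralizer_singleton_iff.1 (hle (hD.2.2 ▸ Subgroup.mem_top y))
    · exact h.symm.subset hq
  refine ⟨fun N hN => or_iff_not_imp_left.2 fun hNne => ?_⟩
  by_contra hNtop
  have haN : a ∉ N := fun h => hNtop <| eq_top_iff.2 <| hD.2.2 ▸ (Subgroup.closure_le _).2
    (fun q hq => by
      obtain ⟨g, rfl⟩ := htr a ha q hq
      exact hN.conj_mem a h g)
  set K := Subgroup.closure (Dc D a) with hK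
  have hreg : ∀ n ∈ N, n * a * n⁻¹ = a → n = 1 := by
    intro n hn e
    have hnK : n ∈ K := by
      rw [hK, ← hfull.cent a ha, Subgroup.mem_centralizer_singleton_iff]
      exact mul_inv_eq_iff_eq_mul.1 e
    haveI := (quasisimple_dc hD hp' h22 ha).2
    haveI : (N.subgroupOf K).Normal := Subgroup.normal_subgroupOf
    by_cases hz : (⟨n, hnK⟩ : ↥K) ∈ Subgroup.center ↥K
    · rw [H.center_eq ha, Subgroup.mem_subgroupOf] at hz
      obtain ⟨k, hk⟩ := Subgroup.mem_zpowers_iff.1 hz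
      simp only at hk
      have hsq : a ^ (2 : ℤ) = 1 := by rw [zpow_two]; exact sq_one hD.1 ha
      rcases Int.even_or_odd k with ⟨j, rfl⟩ | ⟨j, rfl⟩
      · rw [← hk, ← two_mul, zpow_mul, hsq, one_zpow]
      · exfalso
        rw [zpow_add, zpow_mul, hsq, one_zpow, one_mul, zpow_one] at hk
        exact haN (hk ▸ hn)
    · exfalso
      have hp := hfull.perfect a ha
      rw [hfull.cent a ha] at hp
      have := eq_top_of_notMem hp (QuotientGroup.mk' (Subgroup.center ↥K))
        (QuotientGroup.mk'_surjective _)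
        (fun x hx y => (Subgroup.mem_center_iff.1 ((QuotientGroup.eq_one_iff x).1 hx) y).symm)
        (N.subgroupOf K) (n := ⟨n, hnK⟩) hn (fun h => hz ((QuotientGroup.eq_one_iff _).1 h))
      have h2 : (⟨a, H.mem_closure_dc ha⟩ : ↥K) ∈ N.subgroupOf K := this ▸ Subgroup.mem_top _
      exact haN h2
  have hcard : Nat.card ↥N = D.ncard := by
    rw [← Nat.card_coe_set_eq]
    refine Nat.card_eq_of_bijective
      (fun n : ↥N => (⟨(n : G) * a * (n : G)⁻¹, hD.2.1 _ a ha⟩ : D)) ⟨fun n m h => ?_, fun q => ?_⟩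
    · have e : (n : G) * a * (n : G)⁻¹ = (m : G) * a * (m : G)⁻¹ := congrArg Subtype.val h
      refine Subtype.ext (inv_mul_eq_one.1 (hreg _ (N.mul_mem (N.inv_mem m.2) n.2) ?_)).symm
      calc ((m : G)⁻¹ * n) * a * ((m : G)⁻¹ * n)⁻¹
          = (m : G)⁻¹ * ((n : G) * a * (n : G)⁻¹) * m := by group
        _ = a := by rw [e]; group
    · obtain ⟨n, hn, e⟩ := trans N hN hNne a ha q q.2
      exact ⟨⟨n, hn⟩, Subtype.ext e⟩
  have hmod := H.card_mod_four
  haveI : Fact (Nat.Prime 2) := ⟨Nat.prime_two⟩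
  obtain ⟨P⟩ : Nonempty (Sylow 2 ↥N) := inferInstance
  have hP : Nat.card P = 2 := by
    rw [P.card_eq_multiplicity, hcard]
    have hv : (D.ncard).factorization 2 = 1 := by
      refine le_antisymm ?_ ?_
      · by_contra hlt
        have := (Nat.Prime.pow_dvd_iff_le_factorization Nat.prime_two (by omega)).2
          (show 2 ≤ (D.ncard).factorization 2 by omega)
        omega
      · exact (Nat.Prime.dvd_iff_one_le_factorization Nat.prime_two (by omega)).1 (by omega)
    rw [hv, pow_one]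
  obtain ⟨M, hMn, hModd, hMi⟩ := Fischer.exists_odd_normal_index_two P hP
  -- the elements of odd order
  set O : Set G := {x | x ∈ N ∧ Odd (orderOf x)} with hO
  have hON : ∀ g : G, ∀ x ∈ O, g * x * g⁻¹ ∈ O := fun g x hx =>
    ⟨hN.conj_mem x hx.1 g, by
      rw [show g * x * g⁻¹ = MulAut.conj g x from rfl, MulEquiv.orderOf_eq]; exact hx.2⟩
  have hnorm : (Subgroup.closure O).Normal := ⟨fun x hx g => by
    induction hx using Subgroup.closure_induction with
    | mem y hy => exact Subgroup.subset_closure (hON g y hy)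
    | one => simp
    | mul p q _ _ hp hq =>
      rw [show g * (p * q) * g⁻¹ = (g * p * g⁻¹) * (g * q * g⁻¹) by group]
      exact mul_mem hp hq
    | inv p _ hp =>
      rw [show g * p⁻¹ * g⁻¹ = (g * p * g⁻¹)⁻¹ by group]
      exact inv_mem hp⟩
  have hle : Subgroup.closure O ≤ M.map N.subtype := by
    rw [Subgroup.closure_le]
    rintro x ⟨hxN, hxo⟩
    refine ⟨⟨x, hxN⟩, ?_, rfl⟩
    obtain ⟨k, hk⟩ := hxo
    have hx : (⟨x, hxN⟩ : ↥N) ^ (2 * k + 1) = 1 :=
      Subtype.ext (by rw [SubmonoidClass.coe_pow, ← hk]; exact pow_orderOf_eq_one x)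
    have h2 : ((⟨x, hxN⟩ : ↥N) ^ 2) ∈ M := Subgroup.sq_mem_of_index_two hMi _
    rw [pow_succ, pow_mul] at hx
    rw [eq_inv_of_mul_eq_one_right hx]
    exact M.inv_mem (M.pow_mem h2 k)
  have hMO : M.map N.subtype ≤ Subgroup.closure O := by
    rintro _ ⟨x, hx, rfl⟩
    refine Subgroup.subset_closure ⟨x.2, ?_⟩
    show Odd (orderOf (x : G))
    rw [← Nat.not_even_iff_odd, even_iff_two_dvd]
    exact fun h => hModd (h.trans (Subgroup.orderOf_coe x ▸ Subgroup.orderOf_dvd_natCard _ hx))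
  have hne : Subgroup.closure O ≠ ⊥ := fun h => by
    have hM1 : Nat.card (M.map N.subtype) = 1 := by
      rw [Subgroup.card_eq_one, ← le_bot_iff]
      exact hMO.trans h.le
    rw [Subgroup.card_map_of_injective N.subtype_injective] at hM1
    have := Subgroup.card_mul_index M
    rw [hM1, hMi, hcard] at this
    have hlt : 2 < D.ncard := by
      obtain ⟨b, hb⟩ := (H.model a ha).1
      obtain ⟨x, hx, hax⟩ := H.exists_opp ha hb
      rw [Set.two_lt_ncard_iff]
      exact ⟨a, b, x, ha, hb.1, hx.1, hb.2.1.symm, fun e => hax (e ▸ Commute.refl a), hx.2.1.symm⟩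
    omega
  have hsurj : ∀ q : D, ∃ m : ↥(M.map N.subtype), (m : G) * a * (m : G)⁻¹ = q := fun q => by
    obtain ⟨n, hn, e⟩ := trans _ hnorm hne a ha q q.2
    exact ⟨⟨n, hle hn⟩, e⟩
  have h1 := Nat.card_le_card_of_surjective
    (fun m : ↥(M.map N.subtype) => (⟨(m : G) * a * (m : G)⁻¹, hD.2.1 _ a ha⟩ : D))
    fun q => (hsurj q).imp fun m e => Subtype.ext e
  rw [Nat.card_coe_set_eq, Subgroup.card_map_of_injective N.subtype_injective] at h1
  have h2 := Subgroup.card_mul_index M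
  rw [hMi, hcard] at h2
  omega

end Cfsg.Agent.Transpos
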