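import Cfsg.Prelude.Def_FischerSpaces
import Cfsg.Agent.Lib.QForm.Diag
import Cfsg.Agent.Lib.QForm.ReflectionClasses
import Cfsg.Agent.Lib.Forms.QuadOrder
import Cfsg.Agent.S0798

/-!
# The projective reflection group of discriminant one in dimension six over three elements

Its order is a multiple of `6531840 = |U₄(3)| · 2`: the isometry group has order `26127360`, the group
generated by one class of reflections has index two and its centre has at most the two elements `± 1`.
-/

set_option autoImplicit false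
set_option linter.style.haveILetI false

namespace Cfsg.Agent.Transpos

open Cfsg Cfsg.Agent.QForm
open scoped Matrix

theorem det_gram_minus_two :
    (QForm.gram (quadFormMinus 2 (ZMod 3) (0 : ZMod 3) 1)
      (fun i : (Fin 2 ⊕ Fin 2) ⊕ Fin 2 => (Pi.single i 1 : _ → ZMod 3))).det = 1 := by
  decide +kernel

theorem card_isometry_six {Q : QuadraticForm (ZMod 3) (Fin 6 → ZMod 3)}
    (hQ : (QuadraticMap.polarBilin Q).Nondegenerate) (hd : polarGramDet (⇑Q) = 1) :
    Nat.card (isometryGroup (ZMod 3) ⇑Q) = 26127360 := by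
  have hab : ∀ z₁ z₂ : ZMod 3, z₁ ^ 2 + 0 * z₁ * z₂ + 1 * z₂ ^ 2 = 0 → z₁ = 0 ∧ z₂ = 0 := by decide
  have hg1 : (QForm.gram ⇑Q ⇑(Pi.basisFun (ZMod 3) (Fin 6))).det = 1 := by
    rw [← hd, polarGramDet]
    congr 1
    ext i j
    simp [QForm.gram]
  have hg2 : (QForm.gram ⇑(Forms.quadMinus 2 (ZMod 3) (0 : ZMod 3) 1)
      ⇑(Pi.basisFun (ZMod 3) ((Fin 2 ⊕ Fin 2) ⊕ Fin 2))).det = 1 := by
    refine (congrArg Matrix.det (Matrix.ext fun i j => ?_)).trans det_gram_minus_two
    simp only [QForm.gram, Matrix.of_apply, QuadraticMap.polar, Forms.quadMinus_apply,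
      Pi.basisFun_apply]
  let ε : (Fin 2 ⊕ Fin 2) ⊕ Fin 2 ≃ Fin 6 :=
    ((Equiv.sumCongr finSumFinEquiv (Equiv.refl _)).trans finSumFinEquiv)
  obtain ⟨u, -, hu⟩ := QForm.det_gram_change (Forms.quadMinus 2 (ZMod 3) (0 : ZMod 3) 1)
    (Pi.basisFun (ZMod 3) ((Fin 2 ⊕ Fin 2) ⊕ Fin 2))
    ((Pi.basisFun (ZMod 3) ((Fin 2 ⊕ Fin 2) ⊕ Fin 2)).reindex ε)
  obtain ⟨g, hg⟩ := (QForm.isometric_iff (F := ZMod 3) (by decide) Q (Forms.quadMinus 2 (ZMod 3) 0 1)
    hQ (Forms.quadMinus_nondegenerate 2 hab) (Pi.basisFun _ _)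
    ((Pi.basisFun (ZMod 3) ((Fin 2 ⊕ Fin 2) ⊕ Fin 2)).reindex ε)).2
    ⟨u, by rw [hg1, hu, hg2]; ring⟩
  rw [Forms.card_isometryGroup Q (fun _ => rfl), Forms.card_isomQ_congr g hg,
    Forms.card_isomQ_quadMinus 2 hab, ZMod.card]
  norm_num [Finset.prod_range_succ]

/-- Signs of the vectors of a spanning family agree along non-orthogonal pairs. -/
theorem sign_eq {Q : QuadraticForm (ZMod 3) (Fin 6 → ZMod 3)} {z : ↥(isometryGroup (ZMod 3) ⇑Q)}
    {v w : Fin 6 → ZMod 3} {s t : ZMod 3} (hs : act Q z v = s • v) (ht : act Q z w = t • w)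
    (hvw : QuadraticMap.polar (⇑Q) v w ≠ 0) : s * t = 1 := by
  have := act_polar Q z v w
  rw [hs, ht, QuadraticMap.polar_smul_left, QuadraticMap.polar_smul_right, smul_eq_mul, smul_eq_mul,
    ← mul_assoc] at this
  exact mul_right_cancel₀ hvw (this.trans (one_mul _).symm)

theorem six_dvd_card_refl {X : Type*} [Group X] {c : ZMod 3} (hc : c ≠ 0)
    (h : IsProjReflectionGroupModThree X 6 1 c) : 6531840 ∣ Nat.card X := by
  classical
  obtain ⟨Q, hQ, hd, ⟨eX⟩⟩ := h
  rw [Nat.card_congr eX.toEquiv]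
  set R := reflectionSubgroup (⇑Q) c with hR
  have hidx : R.index = 2 := by
    rw [← S0798.result (F := ZMod 3) (by decide) (by norm_num) (by decide : Even 6) Q hQ
      (by norm_num) c hc]
    congr 1
    apply congrArg Subgroup.closure
    ext g
    constructor
    · rintro ⟨v, hv, hg⟩
      exact ⟨v, 1, one_ne_zero, by rw [hv, one_pow, mul_one], hg⟩
    · rintro ⟨v, t, ht, hv, hg⟩
      have h : ∀ t : ZMod 3, t ≠ 0 → t ^ 2 = 1 := by decide
      exact ⟨v, by rw [hv, h t ht, mul_one], hg⟩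
  have hRcard : Nat.card R = 13063680 := by
    have := R.card_mul_index
    rw [hidx, card_isometry_six hQ hd] at this
    omega
  -- orthonormal coordinates
  obtain ⟨g, hg⟩ := (QForm.isometric_iff (F := ZMod 3) (by decide)
    (QuadraticMap.weightedSumSquares (ZMod 3) (fun _ : Fin 6 => (1 : ZMod 3))) Q
    ((LinearMap.BilinForm.nondegenerate_iff_det_ne_zero (Pi.basisFun (ZMod 3) (Fin 6))).2 (by
      rw [← QForm.gram_eq_toMatrix, QForm.det_gram_diag]
      decide))
    hQ (Pi.basisFun _ _) (Pi.basisFun _ _)).2 (by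
      rw [QForm.det_gram_diag, show (QForm.gram ⇑Q ⇑(Pi.basisFun (ZMod 3) (Fin 6))).det = 1 by
        rw [← hd, polarGramDet]; congr 1; ext i j; simp [QForm.gram]]
      exact ⟨1, by decide⟩)
  let E : Fin 6 → (Fin 6 → ZMod 3) := fun i => g (Pi.single i 1)
  have hspan : ∀ (x : Fin 6 → ZMod 3), x = ∑ i, g.symm x i • E i := fun x => by
    apply g.symm.injective
    simp only [E, map_sum, map_smul, LinearEquiv.symm_apply_apply]
    exact pi_eq_sum_univ' (g.symm x)
  -- a central element is a sign on every vector of norm `c`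
  have hsgn : ∀ z ∈ Subgroup.center ↥R, ∀ u : Fin 6 → ZMod 3, Q (g u) = c →
      ∃ s : ZMod 3, act Q (z : ↥(isometryGroup (ZMod 3) ⇑Q)) (g u) = s • g u := by
    intro z hz u hu
    have hu0 : Q (g u) ≠ 0 := by rw [hu]; exact hc
    have hr : refl Q (g u) hu0 ∈ R := Subgroup.subset_closure ⟨g u, hu, rfl⟩
    have hcom : refl Q (g u) hu0 * z.1 = z.1 * refl Q (g u) hu0 :=
      congrArg Subtype.val (Subgroup.mem_center_iff.1 hz ⟨_, hr⟩)
    set v := g u
    set w := act Q z.1 v with hw
    have e1 : act Q (refl Q v hu0) w = act Q z.1 (act Q (refl Q v hu0) v) := by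
      rw [hw, ← act_mul, ← act_mul, hcom]
    have e2 : act Q (refl Q v hu0) v = -v := by
      rw [act_refl, QuadraticMap.polar_self, nsmul_eq_mul, ← mul_assoc, mul_comm (Q v)⁻¹,
        mul_assoc, inv_mul_cancel₀ hu0, mul_one]
      push_cast
      module
    rw [e2, act_refl, act, Matrix.mulVec_neg, show ((z.1 : Matrix.GeneralLinearGroup (Fin 6) (ZMod 3)) :
      Matrix (Fin 6) (Fin 6) (ZMod 3)) *ᵥ v = w from rfl] at e1
    refine ⟨2 * ((Q v)⁻¹ * QuadraticMap.polar (⇑Q) v w), ?_⟩
    have e3 : (2 : ZMod 3) • w = ((Q v)⁻¹ * QuadraticMap.polar (⇑Q) v w) • v := by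
      rw [sub_eq_iff_eq_add] at e1
      rw [two_smul]
      linear_combination (norm := module) e1
    have h4 : (2 : ZMod 3) * 2 = 1 := by decide
    rw [mul_smul, ← e3, smul_smul, h4, one_smul]
  have hQg : ∀ u : Fin 6 → ZMod 3, Q (g u) = ∑ i, u i * u i := fun u => by
    rw [hg, QuadraticMap.weightedSumSquares_apply]
    simp
  have hpol : ∀ u w : Fin 6 → ZMod 3,
      QuadraticMap.polar (⇑Q) (g u) (g w) = 2 * ∑ i, u i * w i := fun u w => by
    rw [QuadraticMap.polar, ← map_add, hQg, hQg, hQg, Finset.mul_sum, ← Finset.sum_sub_distrib,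
      ← Finset.sum_sub_distrib]
    exact Finset.sum_congr rfl fun i _ => by simp only [Pi.add_apply]; ring
  -- all signs agree
  have hscal : ∀ z ∈ Subgroup.center ↥R, ∃ s : ZMod 3, (s = 1 ∨ s = 2) ∧
      ∀ x, act Q (z : ↥(isometryGroup (ZMod 3) ⇑Q)) x = s • x := by
    intro z hz
    have key : ∀ (u w : Fin 6 → ZMod 3) (s t : ZMod 3), act Q z.1 (g u) = s • g u → act Q z.1 (g w) = t • g w →
        (∑ i, u i * w i) ≠ 0 → s * t = 1 := fun u w s t hs ht hne =>
      sign_eq (z := z.1) (v := g u) (w := g w) hs ht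
        (by rw [hpol]; exact mul_ne_zero (by decide) hne)
    have hunit : ∀ s t : ZMod 3, s * t = 1 → (s = 1 ∨ s = 2) ∧ t = s := by decide
    suffices H : ∃ s : ZMod 3, (s = 1 ∨ s = 2) ∧ ∀ i, act Q z.1 (E i) = s • E i by
      obtain ⟨s, hs, hs'⟩ := H
      refine ⟨s, hs, fun x => ?_⟩
      conv_lhs => rw [hspan x]
      rw [act, Matrix.mulVec_sum]
      conv_rhs => rw [hspan x, Finset.smul_sum]
      refine Finset.sum_congr rfl fun i _ => ?_
      rw [Matrix.mulVec_smul, show ((z.1 : Matrix.GeneralLinearGroup (Fin 6) (ZMod 3)) :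
        Matrix (Fin 6) (Fin 6) (ZMod 3)) *ᵥ E i = s • E i from hs' i, smul_comm]
    have hcases : c = 1 ∨ c = 2 := (by decide : ∀ c : ZMod 3, c ≠ 0 → c = 1 ∨ c = 2) c hc
    rcases hcases with rfl | rfl
    · -- vectors with four entries one connect the unit vectors
      have hE : ∀ i, ∃ s, act Q z.1 (E i) = s • E i := fun i => hsgn z hz _ (by
        rw [hQg]; revert i; decide)
      have hF : ∀ i, ∃ s, act Q z.1 (g (fun j => if j = i ∨ j = i + 1 then 0 else 1)) =
          s • g (fun j => if j = i ∨ j = i + 1 then 0 else 1) := fun i => hsgn z hz _ (by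
        rw [hQg]; revert i; decide)
      choose σ hσ using hE
      choose τ hτ using hF
      have adj : ∀ k i : Fin 6, ¬(i = k ∨ i = k + 1) → σ i * τ k = 1 := fun k i hik =>
        key _ _ _ _ (hσ i) (hτ k) (by revert hik; revert i k; decide)
      have step : ∀ i j : Fin 6, (∃ k, ¬(i = k ∨ i = k + 1) ∧ ¬(j = k ∨ j = k + 1)) → σ i = σ j := by
        rintro i j ⟨k, hi, hj⟩
        have h1 := hunit _ _ (adj k i hi)
        have h2 := hunit _ _ (adj k j hj)
        exact h1.2.symm.trans h2.2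
      refine ⟨σ 0, (hunit _ _ (adj 2 0 (by decide))).1, fun i => ?_⟩
      rw [step 0 i (by revert i; decide), hσ]
    · have hP : ∀ i j : Fin 6, i ≠ j → ∃ s, act Q z.1 (g (Pi.single i 1 + Pi.single j 1)) =
          s • g (Pi.single i 1 + Pi.single j 1) := fun i j hij => hsgn z hz _ (by
        rw [hQg]; revert hij; revert i j; decide)
      have hM : ∀ i j : Fin 6, i ≠ j → ∃ s, act Q z.1 (g (Pi.single i 1 - Pi.single j 1)) =
          s • g (Pi.single i 1 - Pi.single j 1) := fun i j hij => hsgn z hz _ (by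
        rw [hQg]; revert hij; revert i j; decide)
      choose σ hσ using hP
      choose τ hτ using hM
      have e0 := hunit _ _ (key _ _ _ _ (hσ 0 1 (by decide)) (hσ 0 2 (by decide)) (by decide))
      refine ⟨σ 0 1 (by decide), e0.1, fun i => ?_⟩
      obtain ⟨j, k, hij, hik, hjk⟩ : ∃ j k : Fin 6, i ≠ j ∧ i ≠ k ∧ j ≠ k :=
        (by decide : ∀ i : Fin 6, ∃ j k : Fin 6, i ≠ j ∧ i ≠ k ∧ j ≠ k) i
      -- the plus and minus vectors at `i, j` have the sign of the plus vector at `0, 1`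
      have same : ∀ a b : Fin 6, ∀ hab : a ≠ b, σ a b hab = σ 0 1 (by decide) := by
        intro a b hab
        by_cases h : (a = 0 ∨ a = 1 ∨ b = 0 ∨ b = 1) ∧ ¬(a = 0 ∧ b = 1) ∧ ¬(a = 1 ∧ b = 0)
        · exact (hunit _ _ (key _ _ _ _ (hσ 0 1 (by decide)) (hσ a b hab)
            (by revert h hab; revert a b; decide))).2
        · obtain ⟨p, q, hpq, hp⟩ : ∃ p q : Fin 6, ∃ hpq : p ≠ q,
              (∑ l, (Pi.single 0 1 + Pi.single 1 1 : Fin 6 → ZMod 3) l *
                (Pi.single p 1 + Pi.single q 1 : Fin 6 → ZMod 3) l) ≠ 0 ∧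
              (∑ l, (Pi.single p 1 + Pi.single q 1 : Fin 6 → ZMod 3) l *
                (Pi.single a 1 + Pi.single b 1 : Fin 6 → ZMod 3) l) ≠ 0 := by
            clear h
            revert hab
            revert a b
            decide +kernel
          have h1 := hunit _ _ (key _ _ _ _ (hσ 0 1 (by decide)) (hσ p q hpq) hp.1)
          have h2 := hunit _ _ (key _ _ _ _ (hσ p q hpq) (hσ a b hab) hp.2)
          exact h2.2.trans h1.2
      have hm : τ i j hij = σ 0 1 (by decide) := by
        refine ((hunit _ _ (key _ _ _ _ (hσ i k hik) (hτ i j hij) ?_)).2).trans (same i k hik)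
        revert hij hik hjk; revert i j k; decide +kernel
      have hsum : E i = (2 : ZMod 3) • (g (Pi.single i 1 + Pi.single j 1) +
          g (Pi.single i 1 - Pi.single j 1)) := by
        rw [← map_add, ← map_smul]
        show g _ = g _
        congr 1
        have h4 : (2 : ZMod 3) * 2 = 1 := by decide
        rw [add_add_sub_cancel, ← two_smul (ZMod 3), smul_smul, h4, one_smul]
      rw [hsum, act, Matrix.mulVec_smul, Matrix.mulVec_add]
      rw [show _ *ᵥ g (Pi.single i 1 + Pi.single j 1) = _ from hσ i j hij,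
        show _ *ᵥ g (Pi.single i 1 - Pi.single j 1) = _ from hτ i j hij, same i j hij, hm]
      module
  have hZle : Nat.card (Subgroup.center ↥R) ≤ 2 := by
    choose s hs hs' using hscal
    let f : ↥(Subgroup.center ↥R) → ↥({1, 2} : Finset (ZMod 3)) := fun z =>
      ⟨s z z.2, by simpa using hs z z.2⟩
    have hf : Function.Injective f := fun z z' e => by
      have e' : s z z.2 = s z' z'.2 := congrArg Subtype.val e
      refine Subtype.ext (Subtype.ext (isometry_ext Q fun x => ?_))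
      rw [hs' z z.2, hs' z' z'.2, e']
    refine (Nat.card_le_card_of_injective f hf).trans ?_
    rw [Nat.card_eq_fintype_card, Fintype.card_coe]
    rfl
  have h1 := Subgroup.card_eq_card_quotient_mul_card_subgroup (Subgroup.center ↥R)
  rw [hRcard] at h1
  have hpos : 0 < Nat.card (Subgroup.center ↥R) := Nat.card_pos
  rcases (show Nat.card (Subgroup.center ↥R) = 1 ∨ Nat.card (Subgroup.center ↥R) = 2 by omega) with
    h | h <;> rw [h] at h1
  · exact ⟨2, by omega⟩
  · exact ⟨1, by omega⟩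

end Cfsg.Agent.Transpos
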