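import Cfsg.Agent.Lib.Transpos.M22Points
import Cfsg.Agent.Lib.Transpos.M22Simple
import Cfsg.Agent.Lib.Transpos.ReflectionSix
import Cfsg.Agent.Lib.Fischer.RankThree
import Cfsg.Agent.Lib.Fischer.Primitive

/-!
# The order of a group of type M(22)

`pair_data`: two non-commuting members have 126 common commuting members, the joint centraliser has
order 6531840 and is transitive data for `ncard_m22 : |D| = 3510`, `card_m22`, and `width_m22 = 22`.
-/

set_option autoImplicit false
set_option linter.style.haveILetI false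

namespace Cfsg.Agent.Transpos

open Cfsg Cfsg.Agent.ClassicalSimple

variable {G : Type*} [Group G] [Finite G] {D : Set G}

omit [Finite G] in
/-- Orbit and stabiliser for conjugation. -/
theorem card_eq_orbit_mul (K : Subgroup G) (c : G) (O : Set G) (hmem : ∀ k ∈ K, k * c * k⁻¹ ∈ O)
    (htr : ∀ o ∈ O, ∃ k ∈ K, k * c * k⁻¹ = o) :
    Nat.card ↥K = O.ncard * Nat.card ↥(K ⊓ Subgroup.centralizer ({c} : Set G)) := by
  choose r hrK hr using htr
  rw [← Nat.card_coe_set_eq, ← Nat.card_prod]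
  refine (Nat.card_eq_of_bijective
    (fun p : O × ↥(K ⊓ Subgroup.centralizer ({c} : Set G)) =>
      (⟨r p.1 p.1.2 * p.2, K.mul_mem (hrK _ _) p.2.2.1⟩ : ↥K)) ⟨fun p q e => ?_, fun k => ?_⟩).symm
  · have e' : r p.1 p.1.2 * (p.2 : G) = r q.1 q.1.2 * (q.2 : G) := congrArg Subtype.val e
    have hfix : ∀ z : ↥(K ⊓ Subgroup.centralizer ({c} : Set G)), (z : G) * c * (z : G)⁻¹ = c :=
      fun z => mul_inv_eq_iff_eq_mul.2 (Subgroup.mem_centralizer_singleton_iff.1 z.2.2)
    have hop : ∀ (o : O) (z : ↥(K ⊓ Subgroup.centralizer ({c} : Set G))),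
        (r o o.2 * (z : G)) * c * (r o o.2 * (z : G))⁻¹ = o := fun o z => by
      calc (r o o.2 * (z : G)) * c * (r o o.2 * (z : G))⁻¹
          = r o o.2 * ((z : G) * c * (z : G)⁻¹) * (r o o.2)⁻¹ := by group
        _ = o := by rw [hfix, hr]
    have h1 : p.1 = q.1 := Subtype.ext (by rw [← hop p.1 p.2, e', hop])
    refine Prod.ext h1 (Subtype.ext ?_)
    rw [h1] at e'
    exact mul_left_cancel e'
  · set o : O := ⟨(k : G) * c * (k : G)⁻¹, hmem k k.2⟩
    refine ⟨(o, ⟨(r o o.2)⁻¹ * k, K.mul_mem (K.inv_mem (hrK _ _)) k.2,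
      Subgroup.mem_centralizer_singleton_iff.2 ?_⟩), Subtype.ext (by simp)⟩
    refine mul_inv_eq_iff_eq_mul.1 ?_
    calc (r o o.2)⁻¹ * (k : G) * c * ((r o o.2)⁻¹ * (k : G))⁻¹
        = (r o o.2)⁻¹ * ((k : G) * c * (k : G)⁻¹) * r o o.2 := by group
      _ = (r o o.2)⁻¹ * (r o o.2 * c * (r o o.2)⁻¹) * r o o.2 := by rw [hr o o.2]
      _ = c := by group

theorem card_PSU_six {F : Type} [Field F] [Fintype F] (hF : Fintype.card F = 4) :
    Nat.card (PSU 6 F 2) = 9196830720 := by
  have hF' : Fintype.card F = 2 ^ 2 := by rw [hF]; norm_num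
  have h := Forms.card_PSU_mul hF' (n := 6) (by norm_num)
  rw [Forms.card_GU hF'] at h
  norm_num [Finset.prod_range_succ, Nat.even_iff] at h
  omega

variable (hD : IsThreeTranspositionGroup D) (hprim : IsPrimitiveUnderConj D) (h22 : IsOfTypeM22 G D)
include hD hprim h22

/-- The centraliser of a member has order `2 |PSU₆(2)|`. -/
theorem card_centralizer_member {a : G} (ha : a ∈ D) :
    Nat.card ↥(Subgroup.centralizer ({a} : Set G)) = 18393661440 := by
  obtain ⟨_, H, hfull⟩ := m22_of_primitive hD hprim h22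
  obtain ⟨F, iF, iFt, hF, he⟩ := exists_quot_iso hD hprim h22
  obtain ⟨e⟩ := he a ha
  rw [hfull.cent a ha]
  set K := Subgroup.closure (Dc D a) with hK
  have h1 := Subgroup.card_eq_card_quotient_mul_card_subgroup (Subgroup.center ↥K)
  rw [Nat.card_congr e.toEquiv, card_PSU_six hF, H.center_eq ha,
    Nat.card_congr (Subgroup.subgroupOfEquivOfLe (Subgroup.zpowers_le.2 (H.mem_closure_dc ha))).toEquiv,
    Nat.card_zpowers, hD.1.1 a ha] at h1
  omega

/-- The centraliser of a member is transitive on the members not commuting with it. -/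
theorem exists_conj_off {a c c' : G} (ha : a ∈ D) (hc : c ∈ D) (hac : ¬ Commute a c) (hc' : c' ∈ D)
    (hac' : ¬ Commute a c') : ∃ g, g * a * g⁻¹ = a ∧ g * c * g⁻¹ = c' := by
  obtain ⟨_, H, -⟩ := m22_of_primitive hD hprim h22
  haveI := isSimpleGroup_m22 hD hprim h22
  refine Fischer.nbr_transitive (Fischer.TClass.of_primitive hD hprim) (fun N hN hsol _ => ?_)
    (conn_of_primitive hD hprim h22) ha ⟨hc, hac⟩ ⟨hc', hac'⟩
  refine (hN.eq_bot_or_eq_top).resolve_right fun h => ?_
  subst h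
  haveI : Group.IsSolvable G :=
    Group.isSolvable_of_surjective (f := (Subgroup.topEquiv (G := G)).toMonoidHom)
      (Subgroup.topEquiv (G := G)).surjective
  exact absurd H.perfect (Group.IsSolvable.commutator_lt_top_of_nontrivial G).ne

/-- Non-commuting members have 126 common commuting members, which generate the joint centraliser. -/
theorem pair_data {a c : G} (ha : a ∈ D) (hc : c ∈ D) (hac : ¬ Commute a c) :
    (Dc D a ∩ Dc D c).ncard = 126 ∧ {y | y ∈ D ∧ ¬ Commute a y}.ncard = 2816 ∧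
      Nat.card ↥(Subgroup.centralizer ({a} : Set G) ⊓ Subgroup.centralizer ({c} : Set G)) = 6531840 := by
  classical
  obtain ⟨_, H, hfull⟩ := m22_of_primitive hD hprim h22
  set O := {y | y ∈ D ∧ ¬ Commute a y} with hO
  have hstab := card_eq_orbit_mul (Subgroup.centralizer ({a} : Set G)) c O (fun k hk => by
      refine ⟨H.conj_mem k hc, fun h => hac ((commute_conj_iff k).1 ?_)⟩
      rwa [mul_inv_eq_iff_eq_mul.2 (Subgroup.mem_centralizer_singleton_iff.1 hk)])
    (fun o ho => by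
      obtain ⟨g, hga, hgc⟩ := exists_conj_off hD hprim h22 ha hc hac ho.1 ho.2
      exact ⟨g, Subgroup.mem_centralizer_singleton_iff.2 (mul_inv_eq_iff_eq_mul.1 hga), hgc⟩)
  rw [card_centralizer_member hD hprim h22 ha] at hstab
  set S := Dc D a ∩ Dc D c with hS
  -- double counting
  have hconst : ∀ y ∈ O, (Dc D a ∩ Dc D y).ncard = S.ncard := fun y hy => by
    obtain ⟨g, hga, hgc⟩ := exists_conj_off hD hprim h22 ha hc hac hy.1 hy.2
    have hcA : Carries g (Dc D a) (Dc D a) := by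
      have := (stab_of_normal hD g).carries.dc a; rwa [hga] at this
    have hcC : Carries g (Dc D c) (Dc D y) := by
      have := (stab_of_normal hD g).carries.dc c; rwa [hgc] at this
    refine (Set.ncard_congr (s := S) (t := Dc D a ∩ Dc D y) (fun x _ => g * x * g⁻¹) (fun x hx => ⟨hcA.1 x hx.1, hcC.1 x hx.2⟩)
      (fun x x' _ _ e => mul_left_cancel (mul_right_cancel e))
      fun z hz => ⟨g⁻¹ * z * g, ⟨hcA.2 z hz.1, hcC.2 z hz.2⟩, by group⟩).symm
  have hcount : O.ncard * S.ncard = 693 * 512 := by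
    haveI : Fintype G := Fintype.ofFinite G
    have h1 : ∑ y ∈ O.toFinset, ((Dc D a).toFinset.filter fun b => b ∈ Dc D y).card =
        ∑ b ∈ (Dc D a).toFinset, (O.toFinset.filter fun y => b ∈ Dc D y).card := by
      simp only [Finset.card_filter]
      exact Finset.sum_comm
    have hL : ∀ y ∈ O.toFinset,
        ((Dc D a).toFinset.filter fun b => b ∈ Dc D y).card = S.ncard := fun y hy => by
      rw [← hconst y (Set.mem_toFinset.1 hy), ← Set.ncard_coe_finset]
      congr 1
      ext b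
      simp [Set.mem_inter_iff]
    have hR : ∀ b ∈ (Dc D a).toFinset,
        (O.toFinset.filter fun y => b ∈ Dc D y).card = 512 := fun b hb => by
      have hb' := Set.mem_toFinset.1 hb
      rw [← H.ncard_off (b := a) hb'.1 (mem_dc_symm ha hb'), ← Set.ncard_coe_finset]
      congr 1
      ext y
      simp only [Finset.coe_filter, Set.mem_toFinset, Set.mem_ofPred_eq]
      constructor
      · rintro ⟨⟨hy, hay⟩, hby⟩
        exact ⟨⟨hy, fun e => hay (e ▸ hb'.2.2), hby.2.2.symm⟩, fun h => hay h.symm⟩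
      · rintro ⟨hy, hya⟩
        exact ⟨⟨hy.1, fun h => hya h.symm⟩, hb'.1, hy.2.1.symm, hy.2.2.symm⟩
    rw [Finset.sum_congr rfl hL, Finset.sum_congr rfl hR, Finset.sum_const, Finset.sum_const,
      smul_eq_mul, smul_eq_mul, ← Set.ncard_eq_toFinset_card', ← Set.ncard_eq_toFinset_card',
      H.ncard_dc ha] at h1
    exact h1
  -- the joint centraliser contains the reflection group
  have hdvd : 6531840 ∣ Nat.card ↥(Subgroup.centralizer ({a} : Set G) ⊓ Subgroup.centralizer ({c} : Set G)) := by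
    obtain ⟨-, d, hd, e, he, hde, -, c₃, hc₃, hL⟩ := id h22
    obtain ⟨g, hg⟩ := hprim.1 d hd a ha
    have hge : ¬ Commute a (g * e * g⁻¹) := by
      rw [← hg]; exact fun h => hde ((commute_conj_iff g).1 h)
    obtain ⟨k, hka, hkc⟩ := exists_conj_off hD hprim h22 ha (H.conj_mem g he) hge hc hac
    have h1 : 6531840 ∣ Nat.card ↥(Subgroup.closure (Dc D d ∩ Dc D e)) :=
      (six_dvd_card_refl hc₃ hL).trans (Subgroup.card_quotient_dvd_card _)
    rw [← Subgroup.card_map_of_injective (f := (MulAut.conj (k * g)).toMonoidHom)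
      (MulAut.conj (k * g)).injective] at h1
    refine h1.trans (Subgroup.card_dvd_of_le ?_)
    rw [MonoidHom.map_closure, Subgroup.closure_le]
    rintro _ ⟨x, ⟨hx1, hx2⟩, rfl⟩
    have key : ∀ {p q : G}, Commute q x → k * (g * q * g⁻¹) * k⁻¹ = p →
        (MulAut.conj (k * g)).toMonoidHom x ∈ Subgroup.centralizer ({p} : Set G) := by
      intro p q hqx hp
      rw [Subgroup.mem_centralizer_singleton_iff, ← hp]
      have := (Commute.conj_iff (k * g)).2 hqx
      simp only [MulEquiv.coe_toMonoidHom, MulAut.conj_apply]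
      rw [show k * (g * q * g⁻¹) * k⁻¹ = k * g * q * (k * g)⁻¹ by group]
      exact this.eq.symm
    exact ⟨key hx1.2.2 (by rw [hg, hka]), key hx2.2.2 hkc⟩
  have hle := H.common_le ha hc hac
  obtain ⟨k, hk⟩ := hdvd
  rw [hk] at hstab
  have hn : S.ncard = 126 * k := by
    have h2 : (693 * 512) * (6531840 * k) = 18393661440 * S.ncard := by
      rw [← hcount, hstab]; ring
    omega
  have hS0 : S.ncard ≠ 0 := fun h => by rw [h, mul_zero] at hcount; norm_num at hcount
  obtain rfl : k = 1 := by rw [← hS] at hle; omega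
  refine ⟨hn, ?_, hk⟩
  rw [hn] at hcount
  omega

/-- Every member has an opposite one. -/
theorem exists_off {a : G} (ha : a ∈ D) : ∃ c ∈ D, ¬ Commute a c := by
  obtain ⟨_, H, -⟩ := m22_of_primitive hD hprim h22
  obtain ⟨b, hb⟩ := (H.model a ha).1
  obtain ⟨x, hx, hax⟩ := H.exists_opp ha hb
  exact ⟨x, hx.1, hax⟩

/-- There are 3510 members. -/
theorem ncard_m22 : D.ncard = 3510 := by
  classical
  obtain ⟨⟨⟨a, ha⟩⟩, H, -⟩ := m22_of_primitive hD hprim h22
  obtain ⟨c, hc, hac⟩ := exists_off hD hprim h22 ha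
  have h1 := Set.ncard_inter_add_ncard_sdiff_eq_ncard D {x | ¬ Commute a x}
  have h2 : D \ {x | ¬ Commute a x} = insert a (Dc D a) := by
    ext x
    constructor
    · intro hx
      by_cases h : x = a
      · exact Or.inl h
      · exact Or.inr ⟨hx.1, h, not_not.1 hx.2⟩
    · rintro (rfl | hx)
      exacts [⟨ha, fun h => h (Commute.refl x)⟩, ⟨hx.1, fun h => h hx.2.2⟩]
  rw [h2, Set.ncard_insert_of_notMem (s := Dc D a) fun h => h.2.1 rfl, H.ncard_dc ha,
    show D ∩ {x | ¬ Commute a x} = {y | y ∈ D ∧ ¬ Commute a y} from rfl,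
    (pair_data hD hprim h22 ha hc hac).2.1] at h1
  omega

/-- The order of the group. -/
theorem card_m22 : Nat.card G = 2 ^ 17 * 3 ^ 9 * 5 ^ 2 * 7 * 11 * 13 := by
  obtain ⟨⟨⟨a, ha⟩⟩, H, -⟩ := m22_of_primitive hD hprim h22
  have := card_eq_orbit_mul (⊤ : Subgroup G) a D (fun k _ => H.conj_mem k ha)
    (fun o ho => (hprim.1 a ha o ho).imp fun g hg => ⟨Subgroup.mem_top g, hg⟩)
  rw [Subgroup.card_top, top_inf_eq, ncard_m22 hD hprim h22,
    card_centralizer_member hD hprim h22 ha] at this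
  rw [this]
  norm_num

omit [Finite G] hprim h22 hD in
/-- The vectors over a set of members. -/
theorem three_mul_ncard {a : G} (M : Model D a) (H : M22 D) (ha : a ∈ D) (E : Set G)
    (hE : E ⊆ Dc D a) : 3 * E.ncard = {v | ∃ x ∈ E, M.IsPt x v}.ncard := by
  classical
  rw [← M.c.card_ne_zero_field, mul_comm, ← Nat.card_coe_set_eq, ← Nat.card_prod,
    ← Nat.card_coe_set_eq]
  refine Nat.card_congr (Equiv.ofBijective (fun p : E × {m : M.F // m ≠ 0} =>
    (⟨p.2.1 • Model.vec M H ha ⟨p.1, hE p.1.2⟩, p.1, p.1.2,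
      (Model.isPt_vec M H ha ⟨p.1, hE p.1.2⟩).smul p.2.2⟩ : {v | ∃ x ∈ E, M.IsPt x v})) ⟨?_, ?_⟩)
  · rintro ⟨x, m, hm⟩ ⟨y, k, hk⟩ e
    have e' : m • Model.vec M H ha ⟨x, hE x.2⟩ = k • Model.vec M H ha ⟨y, hE y.2⟩ :=
      congrArg Subtype.val e
    obtain rfl : x = y := Subtype.ext (Model.eq_of_smul M H ha (Model.isPt_vec M H ha ⟨x, hE x.2⟩)
      (Model.isPt_vec M H ha ⟨y, hE y.2⟩) (m := k⁻¹ * m) (by rw [mul_smul, e', inv_smul_smul₀ hk]))
    exact Prod.ext rfl (Subtype.ext
      (smul_left_injective M.F (Model.isPt_vec M H ha ⟨x, hE x.2⟩).ne_zero e'))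
  · rintro ⟨v, x, hx, hv⟩
    obtain ⟨m, hm⟩ := Model.smul_of_eq M (Model.isPt_vec M H ha ⟨x, hE hx⟩) hv rfl
    exact ⟨⟨⟨x, hx⟩, m, fun e => hv.ne_zero (by rw [hm, e, zero_smul])⟩, Subtype.ext hm.symm⟩

/-- The width is 22. -/
theorem width_m22 : commutingWidth D = 22 := by
  classical
  obtain ⟨⟨⟨a₀, ha₀⟩⟩, H, -⟩ := m22_of_primitive hD hprim h22
  have hle : ∀ n ∈ {n : ℕ | ∃ E : Set G, E ⊆ D ∧ E.Finite ∧ (∀ a ∈ E, ∀ b ∈ E, Commute a b) ∧
      E.ncard = n}, n ≤ 22 := by
    rintro n ⟨E, hED, -, hcomm, rfl⟩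
    rcases E.eq_empty_or_nonempty with rfl | ⟨a, ha⟩
    · simp
    obtain ⟨M⟩ := (H.model a (hED ha)).2
    have hsub : E \ {a} ⊆ Dc D a := fun x hx => ⟨hED hx.1, hx.2, hcomm a ha x hx.1⟩
    have h3 := three_mul_ncard M H (hED ha) (E \ {a}) hsub
    set W := {v | ∃ x ∈ E \ {a}, M.IsPt x v} with hW
    set T := Submodule.span M.F W with hT
    have hWW : ∀ v ∈ W, ∀ w ∈ W, M.h v w = 0 := by
      rintro v ⟨x, hx, hv⟩ w ⟨y, hy, hw⟩
      exact (Model.comm_iff M H (hED ha) hv hw).1 (hcomm x hx.1 y hy.1)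
    have hTT : ∀ v ∈ T, ∀ w ∈ T, M.h v w = 0 := by
      have h1 : ∀ v ∈ W, ∀ w ∈ T, M.h v w = 0 := fun v hv => by
        intro w hw
        induction hw using Submodule.span_induction with
        | mem w hw => exact hWW v hv w hw
        | zero => exact map_zero _
        | add p q _ _ hp hq => rw [map_add, hp, hq, add_zero]
        | smul m p _ hp => rw [map_smul, hp, smul_zero]
      intro v hv w hw
      induction hv using Submodule.span_induction with
      | mem v hv => exact h1 v hv w hw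
      | zero => rw [map_zero, LinearMap.zero_apply]
      | add p q _ _ hp hq => rw [map_add, LinearMap.add_apply, hp, hq, add_zero]
      | smul m p _ hp => rw [map_smulₛₗ, LinearMap.smul_apply, hp, smul_zero]
    haveI : Finite M.F := M.fin
    haveI : Fintype M.F := Fintype.ofFinite _
    haveI : Finite (Module.Dual M.F (Fin 6 → M.F)) :=
      Finite.of_injective _ DFunLike.coe_injective
    let f : T → T.dualAnnihilator := fun t => ⟨M.h t.1,
      (Submodule.mem_dualAnnihilator _).2 fun w hw => hTT t.1 t.2 w hw⟩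
    have hf : Function.Injective f := fun s t e => by
      refine Subtype.ext (sub_eq_zero.1 (M.c.form.sep _ fun y => ?_))
      have e' : M.h s.1 = M.h t.1 := congrArg Subtype.val e
      simp [e']
    have h4 := Nat.card_le_card_of_injective f hf
    rw [Module.natCard_eq_pow_finrank (K := M.F) (V := T),
      Module.natCard_eq_pow_finrank (K := M.F) (V := T.dualAnnihilator), M.c.card_field] at h4
    have h5 := Subspace.finrank_add_finrank_dualAnnihilator_eq T
    rw [Module.finrank_fin_fun] at h5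
    have h6 : Module.finrank M.F T ≤ 3 := by
      have := (Nat.pow_le_pow_iff_right (by norm_num : 1 < 4)).1 h4
      omega
    have h7 : W.ncard ≤ ((T : Set (Fin 6 → M.F)) \ {0}).ncard :=
      Set.ncard_le_ncard (fun v hv => ⟨Submodule.subset_span hv, by
        obtain ⟨x, -, hx⟩ := hv; exact hx.ne_zero⟩) (Set.toFinite _)
    rw [Set.ncard_sdiff_singleton_of_mem T.zero_mem] at h7
    have h8 : (T : Set (Fin 6 → M.F)).ncard ≤ 64 := by
      rw [← Nat.card_coe_set_eq]
      show Nat.card ↥T ≤ _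
      rw [Module.natCard_eq_pow_finrank (K := M.F) (V := T), M.c.card_field]
      exact (Nat.pow_le_pow_right (by norm_num) h6).trans (by norm_num)
    have h9 := Set.ncard_sdiff_singleton_of_mem ha
    omega
  have hmem : (22 : ℕ) ∈ {n : ℕ | ∃ E : Set G, E ⊆ D ∧ E.Finite ∧
      (∀ a ∈ E, ∀ b ∈ E, Commute a b) ∧ E.ncard = n} := by
    obtain ⟨M⟩ := (H.model a₀ ha₀).2
    obtain ⟨L, hL, hiso⟩ := M.c.exists_plane
    set E := {x | ∃ p, p ≠ 0 ∧ M.IsPt x (L p)} with hE
    have hsub : E ⊆ Dc D a₀ := fun x ⟨p, _, hx⟩ => hx.mem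
    have h3 := three_mul_ncard M H ha₀ E hsub
    have hW : {v | ∃ x ∈ E, M.IsPt x v} = L '' {p | p ≠ 0} := by
      ext v
      constructor
      · rintro ⟨x, ⟨p, hp, hx⟩, hv⟩
        obtain ⟨m, hm⟩ := Model.smul_of_eq M hx hv rfl
        refine ⟨m • p, smul_ne_zero (fun e => hv.ne_zero (by rw [hm, e, zero_smul])) hp, ?_⟩
        rw [map_smul, hm]
      · rintro ⟨p, hp, rfl⟩
        obtain ⟨x, hx⟩ := M.exists_mem H ha₀ (hiso p p) fun e => hp (hL (by rw [e, map_zero]))
        exact ⟨x, ⟨p, hp, hx⟩, hx⟩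
    haveI : Finite M.F := M.fin
    have h63 : ({p | p ≠ 0} : Set (Fin 3 → M.F)).ncard = 63 := by
      rw [show ({p | p ≠ 0} : Set (Fin 3 → M.F)) = Set.univ \ {0} by ext p; simp,
        Set.ncard_sdiff_singleton_of_mem (Set.mem_univ _), Set.ncard_univ, Nat.card_fun,
        M.c.card_field, Nat.card_fin]
      norm_num
    rw [hW, Set.ncard_image_of_injective _ hL, h63] at h3
    refine ⟨insert a₀ E, Set.insert_subset ha₀ fun x hx => (hsub hx).1, Set.toFinite _, ?_, ?_⟩
    · rintro x (rfl | ⟨p, hp, hx⟩) y (rfl | ⟨q, hq, hy⟩)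
      exacts [Commute.refl _, hy.mem.2.2, hx.mem.2.2.symm,
        (Model.comm_iff M H ha₀ hx hy).2 (hiso p q)]
    · rw [Set.ncard_insert_of_notMem fun h => (hsub h).2.1 rfl]
      omega
  exact le_antisymm (csSup_le ⟨_, hmem⟩ hle) (le_csSup ⟨22, hle⟩ hmem)

end Cfsg.Agent.Transpos
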