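import Cfsg.Agent.Lib.Transpos.M22Cent

/-!
# The involution classes of a group of type M(22)

Products of one, two, three commuting members: each kind is one class (`M22.conj_pair`,
`M22.conj_triple`) and the kind is determined (`M22.len_unique`).
-/

set_option autoImplicit false

namespace Cfsg.Agent.Transpos

open Cfsg Cfsg.Agent.ClassicalSimple

variable {G : Type*} [Group G] {D : Set G}

/-- `l` lists `m` distinct pairwise commuting members with product `x`. -/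
def IsFrameProd (D : Set G) (m : ℕ) (x : G) : Prop :=
  ∃ l : List G, l.Nodup ∧ l.length = m ∧ (∀ a ∈ l, a ∈ D) ∧ (∀ a ∈ l, ∀ b ∈ l, Commute a b) ∧ l.prod = x

theorem IsFrameProd.one {x : G} (h : IsFrameProd D 1 x) : x ∈ D := by
  obtain ⟨l, -, hl, hD, -, rfl⟩ := h
  obtain ⟨a, rfl⟩ := List.length_eq_one_iff.1 hl
  simpa using hD a (by simp)

theorem IsFrameProd.two {x : G} (h : IsFrameProd D 2 x) :
    ∃ p q, p ∈ D ∧ q ∈ Dc D p ∧ p * q = x := by
  obtain ⟨l, hn, hl, hD, hc, rfl⟩ := h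
  obtain ⟨p, q, rfl⟩ := List.length_eq_two.1 hl
  simp only [List.nodup_cons, List.mem_singleton] at hn
  exact ⟨p, q, hD p (by simp), ⟨hD q (by simp), Ne.symm hn.1, hc p (by simp) q (by simp)⟩, by simp⟩

theorem IsFrameProd.three {x : G} (h : IsFrameProd D 3 x) :
    ∃ p q r, p ∈ D ∧ q ∈ Dc D p ∧ r ∈ Dc (Dc D p) q ∧ p * q * r = x := by
  obtain ⟨l, hn, hl, hD, hc, rfl⟩ := h
  obtain ⟨p, q, r, rfl⟩ := List.length_eq_three.1 hl
  simp only [List.nodup_cons, List.mem_cons, List.not_mem_nil, or_false, not_or] at hn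
  exact ⟨p, q, r, hD p (by simp), ⟨hD q (by simp), Ne.symm hn.1.1, hc p (by simp) q (by simp)⟩,
    ⟨⟨hD r (by simp), Ne.symm hn.1.2, hc p (by simp) r (by simp)⟩, Ne.symm hn.2.1,
      hc q (by simp) r (by simp)⟩, by simp [mul_assoc]⟩

/-- The members commuting with `a` are conjugate under the group they generate. -/
theorem Model.exists_conj {a : G} (M : Model D a) (H : M22 D) (ha : a ∈ D) {x x' : G}
    (hx : x ∈ Dc D a) (hx' : x' ∈ Dc D a) :
    ∃ y ∈ Subgroup.closure (Dc D a), Commute y a ∧ y * x * y⁻¹ = x' := by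
  obtain ⟨u, hu⟩ := M.exists_vec H ha hx
  obtain ⟨v, hv⟩ := M.exists_vec H ha hx'
  obtain ⟨k, hk⟩ := U6.pt_exists_conj M.c hu.iso hv.iso hu.ne_zero hv.ne_zero
  obtain ⟨y, hy⟩ := M.surj k
  have hpt : M.IsPt ((y : G) * x * (y : G)⁻¹) v := by
    refine ⟨Model.conj_mem M H ha y hx, hv.iso, hv.ne_zero, ?_⟩
    rw [← hk, ← hy, ← hu.2.2.2, ← map_inv, ← map_mul, ← map_mul]
    rfl
  have hle : Subgroup.closure (Dc D a) ≤ Subgroup.centralizer ({a} : Set G) :=
    (Subgroup.closure_le _).2 fun z hz => Subgroup.mem_centralizer_singleton_iff.2 hz.2.2.eq.symm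
  exact ⟨y, y.2, Subgroup.mem_centralizer_singleton_iff.1 (hle y.2),
    Model.eq_of_smul M H ha hpt hv (m := 1) (one_smul _ _).symm⟩

/-- A member is not a product of two. -/
theorem member_ne_two (hE : Tr D) (h2 : ∀ a ∈ D, NoTwin (Dc D a)) {x p q : G} (hx : x ∈ D) (hp : p ∈ D) (hq : q ∈ Dc D p) : p * q ≠ x := by
  intro e
  obtain ⟨cxp, cxq⟩ := commute_both hE.set hp hq.1 hx hq.2.1.symm hq.2.2 (e ▸ Commute.refl x)
  have hxp : x ≠ p := fun h => ne_one hE.set hq.1 (mul_eq_left.1 (e.trans h))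
  have hqx : q ≠ x := fun h => ne_one hE.set hp (mul_eq_right.1 (e.trans h.symm))
  refine h2 p hp q hq x ⟨hx, hxp, cxp.symm⟩ hqx cxq.symm fun w hw => ⟨fun k => ?_, fun k => ?_⟩
  · rw [← e]; exact hw.2.2.symm.mul_right k
  · rw [show q = p * x by rw [← e, mul_mul_cancel hE.set hp]]
    exact hw.2.2.symm.mul_right k

/-- A member is not a product of three. -/
theorem member_ne_three (hE : Tr D) (h2 : ∀ a ∈ D, NoTwin (Dc D a)) {x p q r : G} (hx : x ∈ D) (hp : p ∈ D) (hq : q ∈ Dc D p)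
    (hr : r ∈ Dc (Dc D p) q) : p * q * r ≠ x := by
  intro e
  obtain ⟨kp, kq, kr⟩ := commute_three hE.set hp hq.1 hr.1.1 hx hq.2.1.symm hr.1.2.1.symm hr.2.1.symm
    hq.2.2 hr.1.2.2 hr.2.2 (e ▸ Commute.refl x)
  have hrx : x ≠ r := fun h => hq.2.1 (by
    have := eq_inv_of_mul_eq_one_right (mul_eq_right.1 (e.trans h))
    rw [inv_eq hE.set hp] at this
    exact this)
  have e2 : p * q = x * r := by rw [← e, mul_assoc _ r r, sq_one hE.set hr.1.1, mul_one]
  rcases mem_of_prod_two hE h2 hp hq.1 hx hr.1.1 hq.2.1.symm hrx hq.2.2 kr e2 with h | h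
  · subst h
    exact hr.2.1 (mul_left_cancel e2).symm
  · exact hr.1.2.1 h.symm

namespace M22

variable (H : M22 D)
include H

/-- A pair of commuting members is carried to any other. -/
theorem conj_pair {p q p' q' : G} (hp : p ∈ D) (hq : q ∈ Dc D p) (hp' : p' ∈ D) (hq' : q' ∈ Dc D p') :
    ∃ g : G, g * p * g⁻¹ = p' ∧ g * q * g⁻¹ = q' := by
  obtain ⟨g, rfl⟩ := H.trans p hp p' hp'
  obtain ⟨M⟩ := (H.model _ hp').2
  have hq'' : g * q * g⁻¹ ∈ Dc D (g * p * g⁻¹) := ((stab_of_normal H.grp g).carries.dc p).1 q hq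
  obtain ⟨y, hy, hyc, e⟩ := M.exists_conj H hp' hq'' hq'
  refine ⟨y * g, ?_, ?_⟩
  · rw [show y * g * p * (y * g)⁻¹ = y * (g * p * g⁻¹) * y⁻¹ by group, hyc.eq, mul_inv_cancel_right]
  · rw [show y * g * q * (y * g)⁻¹ = y * (g * q * g⁻¹) * y⁻¹ by group]
    exact e

/-- A triple of commuting members is carried to any other. -/
theorem conj_triple {p q r p' q' r' : G} (hp : p ∈ D) (hq : q ∈ Dc D p) (hr : r ∈ Dc (Dc D p) q)
    (hp' : p' ∈ D) (hq' : q' ∈ Dc D p') (hr' : r' ∈ Dc (Dc D p') q') :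
    ∃ g : G, g * p * g⁻¹ = p' ∧ g * q * g⁻¹ = q' ∧ g * r * g⁻¹ = r' := by
  obtain ⟨g, rfl, rfl⟩ := H.conj_pair hp hq hp' hq'
  have hr'' : g * r * g⁻¹ ∈ Dc (Dc D (g * p * g⁻¹)) (g * q * g⁻¹) :=
    (((stab_of_normal H.grp g).carries.dc p).dc q).1 r hr
  obtain ⟨M⟩ := (H.model _ hp').2
  obtain ⟨u, hu⟩ := M.exists_vec H hp' hq'
  obtain ⟨v, hv⟩ := M.exists_vec H hp' hr''.1
  obtain ⟨w, hw⟩ := M.exists_vec H hp' hr'.1
  have hout : ∀ {z : G} {x : Fin 6 → M.F}, M.IsPt z x → z ≠ g * q * g⁻¹ →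
      x ∉ Submodule.span M.F (Set.range ![u]) := fun {z x} hz hne hx => by
    rw [Matrix.range_cons, Matrix.range_empty, Set.union_empty, Submodule.mem_span_singleton] at hx
    obtain ⟨m, hm⟩ := hx
    exact Model.ne_of_ne M H hp' hu hz hne.symm m hm.symm
  have hli : LinearIndependent M.F ![u] :=
    Fintype.linearIndependent_iff.2 fun f hf i => by
      fin_cases i
      simpa [hu.ne_zero] using hf
  obtain ⟨y, hy, e⟩ := M.exists_move H hp' ![u] hli
    (Subgroup.centralizer ({g * p * g⁻¹, g * q * g⁻¹} : Set G))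
    (fun z x hz hx => Subgroup.mem_centralizer_iff.2 fun s hs => by
      rcases hs with rfl | rfl
      · exact hz.mem.2.2.eq
      · exact ((M.comm_iff H hp' hu hz).2 (hx 0)).eq)
    hv hw (fun i => by fin_cases i; exact (M.comm_iff H hp' hu hv).1 hr''.2.2)
    (fun i => by fin_cases i; exact (M.comm_iff H hp' hu hw).1 hr'.2.2)
    (hout hv hr''.2.1) (hout hw hr'.2.1)
  have hyp : y * (g * p * g⁻¹) * y⁻¹ = g * p * g⁻¹ := by
    rw [← Subgroup.mem_centralizer_iff.1 hy _ (Or.inl rfl), mul_inv_cancel_right]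
  have hyq : y * (g * q * g⁻¹) * y⁻¹ = g * q * g⁻¹ := by
    rw [← Subgroup.mem_centralizer_iff.1 hy _ (Or.inr rfl), mul_inv_cancel_right]
  refine ⟨y * g, ?_, ?_, ?_⟩
  · rw [show y * g * p * (y * g)⁻¹ = y * (g * p * g⁻¹) * y⁻¹ by group, hyp]
  · rw [show y * g * q * (y * g)⁻¹ = y * (g * q * g⁻¹) * y⁻¹ by group, hyq]
  · rw [← e]; group

/-- Two products of equally many members are conjugate. -/
theorem conj_frameProd {m : ℕ} (h1 : 1 ≤ m) (h3 : m ≤ 3) {x y : G} (hx : IsFrameProd D m x)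
    (hy : IsFrameProd D m y) : IsConj x y := by
  rw [isConj_iff]
  interval_cases m
  · exact H.trans x hx.one y hy.one
  · obtain ⟨p, q, hp, hq, rfl⟩ := hx.two
    obtain ⟨p', q', hp', hq', rfl⟩ := hy.two
    obtain ⟨g, rfl, rfl⟩ := H.conj_pair hp hq hp' hq'
    exact ⟨g, by group⟩
  · obtain ⟨p, q, r, hp, hq, hr, rfl⟩ := hx.three
    obtain ⟨p', q', r', hp', hq', hr', rfl⟩ := hy.three
    obtain ⟨g, rfl, rfl, rfl⟩ := H.conj_triple hp hq hr hp' hq' hr'
    exact ⟨g, by group⟩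

/-- A member is not a product of two. -/
theorem one_ne_two {x p q : G} (hx : x ∈ D) (hp : p ∈ D) (hq : q ∈ Dc D p) : p * q ≠ x :=
  member_ne_two H.tr H.noTwin₂ hx hp hq

/-- A member is not a product of three. -/
theorem one_ne_three {x p q r : G} (hx : x ∈ D) (hp : p ∈ D) (hq : q ∈ Dc D p)
    (hr : r ∈ Dc (Dc D p) q) : p * q * r ≠ x :=
  member_ne_three H.tr H.noTwin₂ hx hp hq hr

/-- The number of factors is determined. -/
theorem len_unique {m m' : ℕ} (h1 : 1 ≤ m) (h3 : m ≤ 3) (h1' : 1 ≤ m') (h3' : m' ≤ 3) {x : G}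
    (hx : IsFrameProd D m x) (hx' : IsFrameProd D m' x) : m = m' := by
  have k12 : ∀ {x}, IsFrameProd D 1 x → ¬ IsFrameProd D 2 x := fun hx hy => by
    obtain ⟨p, q, hp, hq, e⟩ := hy.two
    exact H.one_ne_two hx.one hp hq e
  have k13 : ∀ {x}, IsFrameProd D 1 x → ¬ IsFrameProd D 3 x := fun hx hy => by
    obtain ⟨p, q, r, hp, hq, hr, e⟩ := hy.three
    exact H.one_ne_three hx.one hp hq hr e
  have k23 : ∀ {x}, IsFrameProd D 2 x → ¬ IsFrameProd D 3 x := fun {x} hx hy => by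
    obtain ⟨p, q, hp, hq, e⟩ := hx.two
    obtain ⟨g, k, l, hg, hk, hl, e'⟩ := hy.three
    have cm : ∀ {u : G}, u ∈ D → Commute u (p * q) → Commute u g ∧ Commute u k ∧ Commute u l :=
      fun hu h => commute_three H.grp.1 hg hk.1 hl.1.1 hu hk.2.1.symm hl.1.2.1.symm hl.2.1.symm
        hk.2.2 hl.1.2.2 hl.2.2 (by rw [e', ← e]; exact h)
    exact H.pair_ne_triple hp hq hg hk hl.1 hl.2.1.symm hl.2.2
      (cm hp ((Commute.refl p).mul_right hq.2.2)) (cm hq.1 (hq.2.2.symm.mul_right (Commute.refl q)))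
      (e'.trans e.symm)
  interval_cases m <;> interval_cases m' <;>
    first
      | rfl
      | exact absurd hx' (k12 hx) | exact absurd hx' (k13 hx) | exact absurd hx' (k23 hx)
      | exact absurd hx (k12 hx') | exact absurd hx (k13 hx') | exact absurd hx (k23 hx')

variable [Finite G]

/-- The three classes of involutions. -/
theorem invol_classes [Nonempty D] :
    (∀ x : G, orderOf x = 2 → ∃ m : ℕ, 1 ≤ m ∧ m ≤ 3 ∧ IsFrameProd D m x) ∧
    (∀ m : ℕ, 1 ≤ m → m ≤ 3 → (∃ x : G, orderOf x = 2 ∧ IsFrameProd D m x) ∧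
      ∀ x y : G, IsFrameProd D m x → IsFrameProd D m y → IsConj x y) ∧
    ∀ (m m' : ℕ) (x : G), 1 ≤ m → m ≤ 3 → 1 ≤ m' → m' ≤ 3 →
      IsFrameProd D m x → IsFrameProd D m' x → m = m' := by
  refine ⟨fun x hx => ?_, fun m h1 h3 => ⟨?_, fun x y => H.conj_frameProd h1 h3⟩,
    fun m m' x h1 h3 h1' h3' => H.len_unique h1 h3 h1' h3'⟩
  · have h2 : x * x = 1 := by have := pow_orderOf_eq_one x; rwa [hx, pow_two] at this
    obtain ⟨l, hn, hl, hD, hc, hp⟩ := H.full'.short x h2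
    refine ⟨l.length, ?_, hl, l, hn, rfl, hD, hc, hp⟩
    rcases l with - | ⟨a, l⟩
    · rw [← hp, List.prod_nil, orderOf_one] at hx; norm_num at hx
    · simp
  obtain ⟨⟨a, ha⟩⟩ := ‹Nonempty D›
  obtain ⟨b, hb⟩ := (H.model a ha).1
  obtain ⟨c, hc⟩ := (H.line a ha).1 b hb
  have key : ∀ {x : G}, x * x = 1 → x ≠ 1 → orderOf x = 2 := fun h h' =>
    orderOf_eq_prime (by rw [pow_two]; exact h) h'
  interval_cases m
  · exact ⟨a, key (sq_one H.grp.1 ha) (ne_one H.grp.1 ha), [a], by simp, rfl, by simp [ha],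
      by simp, by simp⟩
  · refine ⟨a * b, key ?_ fun e => hb.2.1 ?_, [a, b], by simp [hb.2.1.symm], rfl,
      by simp [ha, hb.1], by simp [hb.2.2, hb.2.2.symm], by simp⟩
    · rw [hb.2.2.symm.mul_mul_mul_comm, sq_one H.grp.1 ha, sq_one H.grp.1 hb.1, one_mul]
    · rw [eq_inv_of_mul_eq_one_right e, inv_eq H.grp.1 ha]
  · have hcab : Commute c (a * b) := hc.1.2.2.symm.mul_right hc.2.2.symm
    refine ⟨a * b * c, key ?_ fun e => ?_, [a, b, c],
      by simp [hb.2.1.symm, hc.1.2.1.symm, hc.2.1.symm], rfl, by simp [ha, hb.1, hc.1.1],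
      by simp [hb.2.2, hb.2.2.symm, hc.1.2.2, hc.1.2.2.symm, hc.2.2, hc.2.2.symm],
      by simp [mul_assoc]⟩
    · rw [← pow_two, hcab.symm.mul_pow, hb.2.2.mul_pow, pow_two, pow_two, pow_two,
        sq_one H.grp.1 ha, sq_one H.grp.1 hb.1, sq_one H.grp.1 hc.1.1, one_mul, one_mul]
    · exact H.one_ne_two hc.1.1 ha hb (by
        rw [eq_inv_of_mul_eq_one_left e, inv_eq H.grp.1 hc.1.1])

end M22

end Cfsg.Agent.Transpos
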