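import Cfsg.Agent.Lib.Transpos.M22Semi

/-!
# Field automorphisms at a member

`FieldAt D φ a`: `φ` fixes three and moves another of the members on a line at `a`.  Then it induces
a field automorphism at `a` and at the two fixed points of the line; if its square fixes the members
commuting with `a` it is an involution (`M22.field_sq`) with a multiple of four fixed members
(`M22.fixed_mod_four`), so an odd permutation of `D`, hence not inner (`M22.linear`).
-/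

set_option autoImplicit false

namespace Cfsg.Agent.Transpos

open Cfsg Cfsg.Agent.ClassicalSimple

variable {G : Type*} [Group G] {D : Set G} {a : G}

/-- A line at `a` of which `φ` fixes `b`, `c`, `f₁` and moves `f₂`. -/
def FieldWith (D : Set G) (φ : G → G) (a b : G) : Prop :=
  b ∈ Dc D a ∧ φ b = b ∧ ∃ c f₁ f₂, c ∈ Dc (Dc D a) b ∧ Twin D a b c f₁ ∧ Twin D a b c f₂ ∧
    φ c = c ∧ φ f₁ = f₁ ∧ φ f₂ ≠ f₂

/-- Some line at `a` shows a field automorphism. -/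
def FieldAt (D : Set G) (φ : G → G) (a : G) : Prop := ∃ b, FieldWith D φ a b

theorem dc_dc_symm {a b x : G} (hx : x ∈ Dc (Dc D a) b) : x ∈ Dc (Dc D b) a :=
  ⟨⟨hx.1.1, hx.2.1, hx.2.2⟩, hx.1.2.1, hx.1.2.2⟩

theorem FieldWith.swap {φ : G → G} {a b : G} (h : FieldWith D φ a b) (ha : a ∈ D) (hfa : φ a = a) :
    FieldWith D φ b a := by
  obtain ⟨hb, -, c, f₁, f₂, hc, h1, h2, k⟩ := h
  have tw : ∀ {f}, Twin D a b c f → Twin D b a c f := fun hf =>
    ⟨dc_dc_symm hf.1, hf.2.1, hf.2.2.1, fun x hx => hf.2.2.2 x (dc_dc_symm hx)⟩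
  exact ⟨⟨ha, hb.2.1.symm, hb.2.2.symm⟩, hfa, c, f₁, f₂, dc_dc_symm hc, tw h1, tw h2, k⟩

namespace Model

variable {M : Model D a}

/-- An isometry as an element of the unitary group. -/
theorem exists_uh (T : (Fin 6 → M.F) →ₗ[M.F] (Fin 6 → M.F))
    (hT : ∀ u v, M.h (T u) (T v) = M.h u v) :
    LinearMap.det T ≠ 0 ∧ ∃ g : UH M.h, (∀ u, g • u = T u) ∧ (LinearMap.det T = 1 → g ∈ SUH M.h) := by
  have hinj : Function.Injective T := fun x y e => sub_eq_zero.1 (M.c.form.sep _ fun z => by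
    rw [← hT, map_sub, e, sub_self, map_zero, LinearMap.zero_apply])
  let e := LinearEquiv.ofInjectiveEndo T hinj
  have he : (e : (Fin 6 → M.F) →ₗ[M.F] (Fin 6 → M.F)) = T := LinearMap.ext fun x => rfl
  refine ⟨?_, ⟨e, fun u v => hT u v⟩, fun u => rfl, fun hd => ?_⟩
  · rw [← he]
    exact (LinearEquiv.isUnit_det' e).ne_zero
  · rw [mem_SUH]
    exact (congrArg LinearMap.det he).trans hd

variable (M) (H : M22 D) (ha : a ∈ D)
include M H ha

/-- A line showing a field automorphism forces one. -/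
theorem tau_of_field {φ : G → G} (hf : FieldAt D φ a) {Ψ : (Fin 6 → M.F) → (Fin 6 → M.F)}
    {τ : M.F ≃+* M.F} (hΨ : U6.Semi M.h τ Ψ) (hact : M.Acts φ Ψ) : ∀ x, τ x = M.σ x := by
  obtain ⟨b, hb, hfb, c, f₁, f₂, hc, h1, h2, hfc, hf1, hf2⟩ := hf
  refine (U6.aut_eq M.c τ).resolve_left fun hid => hf2 ?_
  obtain ⟨U, hU⟩ := M.exists_vec H ha hb
  obtain ⟨C, hC⟩ := M.exists_vec H ha hc.1
  have hUC : M.h U C = 0 := (M.comm_iff H ha hU hC).1 hc.2.2
  have span : ∀ {f}, Twin D a b c f → ∃ (F' : Fin 6 → M.F) (α β : M.F), M.IsPt f F' ∧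
      α ≠ 0 ∧ β ≠ 0 ∧ F' = α • U + β • C := by
    intro f hf
    obtain ⟨F', hF'⟩ := M.exists_vec H ha hf.1.1
    obtain ⟨α, β, e⟩ := M.c.mem_line_of_twin hU.iso hUC ((M.comm_iff H ha hU hF').1 hf.1.2.2)
      fun y hy hUy hym hCy => by
        obtain ⟨z, hz⟩ := M.exists_mem H ha hy fun e => hym 0 (by rw [e, zero_smul])
        have hzb : z ≠ b := fun e => by
          obtain ⟨m, hm⟩ := M.smul_of_eq hU hz e.symm
          exact hym m hm
        have hzT : z ∈ Dc (Dc D a) b := ⟨hz.mem, hzb, (M.comm_iff H ha hU hz).2 hUy⟩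
        exact (M.comm_iff H ha hF' hz).1
          ((hf.2.2.2 z hzT).1 ((M.comm_iff H ha hC hz).2 hCy).symm).symm
    refine ⟨F', α, β, hF', fun h => ?_, fun h => ?_, e⟩
    · exact Model.ne_of_ne M H ha hC hF' hf.2.1.symm β (by rw [e, h, zero_smul, zero_add])
    · exact Model.ne_of_ne M H ha hU hF' hf.1.2.1.symm α (by rw [e, h, zero_smul, add_zero])
  obtain ⟨F₁, α, β, hF₁, hα, hβ, e1⟩ := span h1
  obtain ⟨F₂, α', β', hF₂, -, -, e2⟩ := span h2
  obtain ⟨p, -, hp⟩ := (M.fix_iff H ha hact hU).1 hfb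
  obtain ⟨r, -, hr⟩ := (M.fix_iff H ha hact hC).1 hfc
  obtain ⟨s, hs0, hs⟩ := (M.fix_iff H ha hact hF₁).1 hf1
  rw [e1, hΨ.add, hΨ.smul, hΨ.smul, hid, hid, hp, hr] at hs
  have hzero : (α * (p - s)) • U + (β * (r - s)) • C = 0 := by
    rw [← sub_eq_zero.2 hs]; module
  have hrs : β * (r - s) = 0 := by
    by_contra hne
    refine Model.ne_of_ne M H ha hU hC hc.2.1.symm (-((β * (r - s))⁻¹ * (α * (p - s)))) ?_
    rw [← inv_smul_smul₀ hne C, eq_neg_of_add_eq_zero_right hzero]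
    module
  rw [hrs, zero_smul, add_zero] at hzero
  have hps := ((smul_eq_zero.1 hzero).resolve_right hU.ne_zero)
  refine (M.fix_iff H ha hact hF₂).2 ⟨s, hs0, ?_⟩
  rw [e2, hΨ.add, hΨ.smul, hΨ.smul, hid, hid, hp, hr,
    sub_eq_zero.1 ((mul_eq_zero.1 hps).resolve_left hα),
    sub_eq_zero.1 ((mul_eq_zero.1 hrs).resolve_left hβ)]
  module

/-- The isometry at `a` of an automorphism showing a field automorphism there. -/
theorem exists_field_semi {φ : G ≃* G} (hφ : Preserves D φ) (hfa : φ a = a) (hf : FieldAt D φ a) :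
    ∃ Ψ : (Fin 6 → M.F) → (Fin 6 → M.F), U6.Semi M.h M.σ Ψ ∧ M.Acts φ Ψ := by
  obtain ⟨Ψ, τ, hΨ, hact⟩ := M.exists_semi H ha hφ hfa
  have hτ := M.tau_of_field H ha hf hΨ hact
  exact ⟨Ψ, ⟨hΨ.add, fun m u => by rw [hΨ.smul, hτ], fun u v => by rw [hΨ.form, hτ]⟩, hact⟩

/-- A fixed point has a fixed vector. -/
theorem exists_fixed_vec {f : G → G} {Ψ : (Fin 6 → M.F) → (Fin 6 → M.F)} (hΨ : U6.Semi M.h M.σ Ψ)
    (hact : M.Acts f Ψ) {x : G} (hx : x ∈ Dc D a) (hfx : f x = x) :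
    ∃ u, M.IsPt x u ∧ Ψ u = u := by
  obtain ⟨u, hu⟩ := M.exists_vec H ha hx
  obtain ⟨m, hm, e⟩ := (M.fix_iff H ha hact hu).1 hfx
  refine ⟨m⁻¹ • u, hu.smul (inv_ne_zero hm), ?_⟩
  rw [hΨ.smul, e, smul_smul, map_inv₀]
  congr 1
  rw [← map_inv₀, U6.sigma_sq M.c, mul_assoc, inv_mul_cancel₀ hm, mul_one]

/-- If the square fixes every point and some point is fixed, the isometry is an involution. -/
theorem semi_sq [Finite G] {f : G → G} {Ψ : (Fin 6 → M.F) → (Fin 6 → M.F)}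
    (hΨ : U6.Semi M.h M.σ Ψ) (hact : M.Acts f Ψ) (h2 : ∀ x ∈ Dc D a, f (f x) = x) {p : G}
    (hp : p ∈ Dc D a) (hfp : f p = p) : ∀ u, Ψ (Ψ u) = u := by
  obtain ⟨A, hA, hΨA⟩ := M.exists_fixed_vec H ha hΨ hact hp hfp
  let K : (Fin 6 → M.F) →ₗ[M.F] (Fin 6 → M.F) :=
    { toFun := fun u => Ψ (Ψ u)
      map_add' := fun u v => by rw [hΨ.add, hΨ.add]
      map_smul' := fun m u => by rw [hΨ.smul, hΨ.smul, M.c.form.invol]; rfl }
  have hK : ∀ u v, M.h (K u) (K v) = M.h u v := fun u v => by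
    show M.h (Ψ (Ψ u)) (Ψ (Ψ v)) = _
    rw [hΨ.form, hΨ.form, M.c.form.invol]
  obtain ⟨-, g, hg, -⟩ := exists_uh K hK
  obtain ⟨l, -, hl⟩ := unitary_scalar_of_sameLine M.c.form (by rw [M.c.dim]; norm_num) g
    fun v hv0 hv => by
      obtain ⟨x, hx⟩ := M.exists_mem H ha hv hv0
      obtain ⟨l, hl⟩ := M.smul_of_eq hx ((hact.comp hact) x v hx) (h2 x hx.mem).symm
      exact ⟨l, by rw [hg]; exact hl.symm⟩
  intro u
  have e := hl A
  rw [hg] at e
  change Ψ (Ψ A) = l • A at e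
  rw [hΨA, hΨA] at e
  have hl1 : l = 1 := (smul_left_injective _ hA.ne_zero
    (show (1 : M.F) • A = l • A by rw [one_smul]; exact e)).symm
  have e2 := hl u
  rw [hg] at e2
  change Ψ (Ψ u) = l • u at e2
  rw [e2, hl1, one_smul]

omit H ha in
theorem fixed_vec_unique {Ψ : (Fin 6 → M.F) → (Fin 6 → M.F)} (hΨ : U6.Semi M.h M.σ Ψ) {x : G}
    {u v : Fin 6 → M.F} (hu : M.IsPt x u) (hv : M.IsPt x v) (eu : Ψ u = u) (ev : Ψ v = v) : u = v := by
  obtain ⟨m, rfl⟩ := M.smul_of_eq hu hv rfl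
  rw [hΨ.smul, eu] at ev
  have hm : M.σ m = m := smul_left_injective _ hu.ne_zero ev
  have hm0 : m ≠ 0 := fun e => hv.ne_zero (by rw [e, zero_smul])
  rw [M.c.eq_one hm hm0, one_smul]

end Model

namespace M22

variable (H : M22 D) [Finite G] {φ : G ≃* G}
include H

/-- A field automorphism whose square fixes the members commuting with `a` is an involution. -/
theorem field_sq (hφ : Preserves D φ) (ha : a ∈ D) (hfa : φ a = a) (hf : FieldAt D φ a)
    (h2 : ∀ x ∈ Dc D a, φ (φ x) = x) : ∀ g, φ (φ g) = g := by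
  refine (H.eq_id_or_conj (hφ.trans hφ) ha (show φ (φ a) = a by rw [hfa, hfa]) h2).resolve_right
    fun hc => ?_
  obtain ⟨b, hw⟩ := hf
  have hb := hw.1
  obtain ⟨Mb⟩ := (H.model b hb.1).2
  obtain ⟨Φ, hΦ, hactb⟩ := Mb.exists_field_semi H hb.1 hφ hw.2.1 ⟨a, hw.swap ha hfa⟩
  obtain ⟨A, hA, hΦA⟩ := Mb.exists_fixed_vec H hb.1 hΦ hactb (mem_dc_symm ha hb) hfa
  refine U6.not_sq_tv Mb.c hΦ hA.iso hA.ne_zero hΦA fun v hv hv0 => ?_
  obtain ⟨x, hx⟩ := Mb.exists_mem H hb.1 hv hv0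
  exact Mb.smul_of_eq (Mb.acts_tv H hb.1 hA x v hx) ((hactb.comp hactb) x v hx) (hc x).symm

/-- Fixed members commuting with `a`. -/
theorem fixed_dc_mod_four (hφ : Preserves D φ) (ha : a ∈ D) (hfa : φ a = a) (hf : FieldAt D φ a)
    (h2 : ∀ x ∈ Dc D a, φ (φ x) = x) : ({x | x ∈ Dc D a ∧ φ x = x}.ncard + 1) % 4 = 0 := by
  classical
  obtain ⟨M⟩ := (H.model a ha).2
  have := Module.finite_of_finite M.F (M := Fin 6 → M.F)
  obtain ⟨Ψ, hΨ, hact⟩ := M.exists_field_semi H ha hφ hfa hf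
  obtain ⟨b, hb, hfb, -⟩ := hf
  have hinv := M.semi_sq H ha hΨ hact h2 hb hfb
  obtain ⟨k, hk⟩ := U6.four_dvd_fixed M.c hΨ hinv
  set W := {v : Fin 6 → M.F | Ψ v = v ∧ M.h v v = 0} with hW
  have h0 : (0 : Fin 6 → M.F) ∈ W := ⟨hΨ.map_zero, by simp⟩
  have rep := fun x (hx : x ∈ Dc D a ∧ φ x = x) => M.exists_fixed_vec H ha hΨ hact hx.1 hx.2
  have hbij : {x | x ∈ Dc D a ∧ φ x = x}.ncard = (W \ {0}).ncard := by
    refine Set.ncard_congr (fun x hx => (rep x hx).choose) (fun x hx => ?_)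
      (fun x y hx hy e => ?_) fun v hv => ?_
    · obtain ⟨k1, k2⟩ := (rep x hx).choose_spec
      exact ⟨⟨k2, k1.iso⟩, k1.ne_zero⟩
    · exact Model.eq_of_smul M H ha (rep x hx).choose_spec.1 (e.symm ▸ (rep y hy).choose_spec.1)
        (m := 1) (one_smul _ _).symm
    · obtain ⟨x, hx⟩ := M.exists_mem H ha hv.1.2 hv.2
      have hc : φ x = x := (M.fix_iff H ha hact hx).2 ⟨1, one_ne_zero, by rw [one_smul, hv.1.1]⟩
      exact ⟨x, ⟨hx.mem, hc⟩, M.fixed_vec_unique hΨ (rep x ⟨hx.mem, hc⟩).choose_spec.1 hx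
        (rep x ⟨hx.mem, hc⟩).choose_spec.2 hv.1.1⟩
  rw [hbij, Set.ncard_sdiff_singleton_add_one h0 (Set.toFinite _), hk]
  omega

/-- Fixed members commuting with `b` and not with `a`. -/
theorem fixed_off_mod_four (hφ : Preserves D φ) {b : G} (hb : b ∈ D) (hfb : φ b = b)
    (hab : a ∈ Dc D b) (hfa : φ a = a) (hf : FieldAt D φ b) (h2 : ∀ x ∈ Dc D b, φ (φ x) = x) :
    4 ∣ {x | (x ∈ Dc D b ∧ φ x = x) ∧ ¬ Commute x a}.ncard := by
  classical
  obtain ⟨M⟩ := (H.model b hb).2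
  have := Module.finite_of_finite M.F (M := Fin 6 → M.F)
  obtain ⟨Φ, hΦ, hact⟩ := M.exists_field_semi H hb hφ hfb hf
  have hΦ2 := M.semi_sq H hb hΦ hact h2 hab hfa
  obtain ⟨A, hA, hΦA⟩ := M.exists_fixed_vec H hb hΦ hact hab hfa
  have rep := fun x (hx : (x ∈ Dc D b ∧ φ x = x) ∧ ¬ Commute x a) =>
    M.exists_fixed_vec H hb hΦ hact hx.1.1 hx.1.2
  have hbij : {x | (x ∈ Dc D b ∧ φ x = x) ∧ ¬ Commute x a}.ncard =
      {v : Fin 6 → M.F | (Φ v = v ∧ M.h v v = 0) ∧ M.h A v ≠ 0}.ncard := by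
    refine Set.ncard_congr (fun x hx => (rep x hx).choose) (fun x hx => ?_)
      (fun x y hx hy e => ?_) fun v hv => ?_
    · obtain ⟨k1, k2⟩ := (rep x hx).choose_spec
      exact ⟨⟨k2, k1.iso⟩, fun h => hx.2 ((M.comm_iff H hb hA k1).2 h).symm⟩
    · exact Model.eq_of_smul M H hb (rep x hx).choose_spec.1 (e.symm ▸ (rep y hy).choose_spec.1)
        (m := 1) (one_smul _ _).symm
    · obtain ⟨x, hx⟩ := M.exists_mem H hb hv.1.2 fun e => hv.2 (by rw [e, map_zero])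
      have hc : φ x = x := (M.fix_iff H hb hact hx).2 ⟨1, one_ne_zero, by rw [one_smul, hv.1.1]⟩
      have hm : (x ∈ Dc D b ∧ φ x = x) ∧ ¬ Commute x a :=
        ⟨⟨hx.mem, hc⟩, fun h => hv.2 ((M.comm_iff H hb hA hx).1 h.symm)⟩
      exact ⟨x, hm, M.fixed_vec_unique hΦ (rep x hm).choose_spec.1 hx (rep x hm).choose_spec.2 hv.1.1⟩
  rw [hbij]
  exact U6.four_dvd_fixed_off M.c hΦ hΦ2 hΦA

/-- An involutory field automorphism fixes a multiple of four members. -/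
theorem fixed_mod_four (hφ : Preserves D φ) (ha : a ∈ D) (hfa : φ a = a) (hf : FieldAt D φ a)
    (h2 : ∀ g, φ (φ g) = g) : 4 ∣ {x | x ∈ D ∧ φ x = x}.ncard := by
  obtain ⟨b, hw⟩ := hf
  obtain ⟨hb, hfb, -⟩ := id hw
  have hE := H.tr
  set F := {x | x ∈ D ∧ φ x = x} with hFdef
  rw [← Set.ncard_inter_add_ncard_sdiff_eq_ncard F {x | Commute x a}]
  have h1 : F ∩ {x | Commute x a} = insert a {x | x ∈ Dc D a ∧ φ x = x} := by
    ext x
    constructor
    · rintro ⟨⟨hx, hc⟩, hxa⟩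
      by_cases h : x = a
      · exact Or.inl h
      · exact Or.inr ⟨⟨hx, h, (hxa : Commute x a).symm⟩, hc⟩
    · rintro (rfl | ⟨hx, hc⟩)
      exacts [⟨⟨ha, hfa⟩, Commute.refl x⟩, ⟨⟨hx.1, hc⟩, hx.2.2.symm⟩]
  have k1 := H.fixed_dc_mod_four hφ ha hfa ⟨b, hw⟩ fun x _ => h2 x
  rw [h1, Set.ncard_insert_of_notMem fun h => h.1.2.1 rfl]
  suffices 4 ∣ (F \ {x | Commute x a}).ncard by omega
  rw [← Set.ncard_inter_add_ncard_sdiff_eq_ncard (F \ {x | Commute x a}) {x | Commute x b}]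
  refine dvd_add ?_ ?_
  · rw [show F \ {x | Commute x a} ∩ {x | Commute x b} =
        {x | (x ∈ Dc D b ∧ φ x = x) ∧ ¬ Commute x a} by
      ext x
      constructor
      · rintro ⟨⟨⟨hx, hc⟩, hxa⟩, hxb⟩
        exact ⟨⟨⟨hx, fun h => hxa (h ▸ hb.2.2.symm), (hxb : Commute x b).symm⟩, hc⟩, hxa⟩
      · rintro ⟨⟨hx, hc⟩, hxa⟩
        exact ⟨⟨⟨hx.1, hc⟩, hxa⟩, hx.2.2.symm⟩]
    exact H.fixed_off_mod_four hφ hb.1 hfb (mem_dc_symm ha hb) hfa ⟨a, hw.swap ha hfa⟩ fun x _ => h2 x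
  · have cc : ∀ {p u : G}, p ∈ D → Commute p u → ∀ {x}, (Commute (p * x * p) u ↔ Commute x u) :=
      fun {p u} hp hpu {x} => commute_conj_fix (sq_one hE.set hp) hpu
    have cct : ∀ {p : G}, φ p = p → ∀ {x}, φ x = x → φ (p * x * p) = p * x * p :=
      fun {p} hc {x} hx => by rw [map_mul, map_mul, hc, hx]
    refine four_dvd_off hE ha hb _ (fun x hx => hx.1.1.1) ?_ ?_ fun x hx => ⟨hx.1.2, hx.2⟩
    · exact fun x hx => ⟨⟨⟨hE.conj a ha x hx.1.1.1, cct hfa hx.1.1.2⟩,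
        fun h => hx.1.2 ((cc ha (Commute.refl a)).1 h)⟩, fun h => hx.2 ((cc ha hb.2.2).1 h)⟩
    · exact fun x hx => ⟨⟨⟨hE.conj b hb.1 x hx.1.1.1, cct hfb hx.1.1.2⟩,
        fun h => hx.1.2 ((cc hb.1 hb.2.2.symm).1 h)⟩, fun h => hx.2 ((cc hb.1 (Commute.refl b)).1 h)⟩

/-- A field automorphism at `a` can be turned into one with a line and square fixing `Dc D a`. -/
theorem exists_adjust (hφ : Preserves D φ) (ha : a ∈ D) (hfa : φ a = a) (M : Model D a)
    {Ψ : (Fin 6 → M.F) → (Fin 6 → M.F)} (hΨ : U6.Semi M.h M.σ Ψ) (hact : M.Acts φ Ψ) :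
    ∃ y ∈ Subgroup.closure (Dc D a), y * a * y⁻¹ = a ∧
      FieldAt D (φ.trans (MulAut.conj y)) a ∧
      ∀ x ∈ Dc D a, φ.trans (MulAut.conj y) (φ.trans (MulAut.conj y) x) = x := by
  classical
  obtain ⟨o, ho0, ho, hso, hso2⟩ := M.c.exists_omega
  obtain ⟨L, hL⟩ := U6.exists_coords M.c
  let P : (Fin 6 → M.F) → (Fin 6 → M.F) → (Fin 6 → M.F) :=
    fun d u => L.symm fun i => d i * M.σ (L u i)
  have hP : ∀ {d : Fin 6 → M.F}, (∀ i, d i ≠ 0) →
      U6.Semi M.h M.σ (P d) ∧ ∀ u, P d (P d u) = u := by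
    intro d hd
    refine ⟨⟨fun u v => ?_, fun m u => ?_, fun u v => ?_⟩, fun u => ?_⟩
    · apply L.injective; funext i; simp [P, mul_add]
    · apply L.injective; funext i; simp [P, mul_left_comm]
    · simp only [P, hL, L.apply_symm_apply, map_sum, map_mul, M.c.form.invol]
      exact Finset.sum_congr rfl fun i _ => by
        linear_combination (L u i * M.σ (L v i)) * M.c.norm _ (hd i)
    · apply L.injective; funext i
      simp only [P, L.apply_symm_apply, map_mul, M.c.form.invol, ← mul_assoc]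
      rw [mul_comm (d i), M.c.norm _ (hd i), one_mul]
  -- the linear map `Ψ ∘ P d`
  have hlin : ∀ {d : Fin 6 → M.F} (hd : ∀ i, d i ≠ 0), ∃ T : (Fin 6 → M.F) →ₗ[M.F] (Fin 6 → M.F),
      (∀ u, T u = Ψ (P d u)) ∧ ∀ u v, M.h (T u) (T v) = M.h u v := fun {d} hd =>
    ⟨{ toFun := fun u => Ψ (P d u)
       map_add' := fun u v => by rw [(hP hd).1.add, hΨ.add]
       map_smul' := fun m u => by rw [(hP hd).1.smul, hΨ.smul, M.c.form.invol]; rfl },
      fun u => rfl, fun u v => by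
        show M.h (Ψ (P d u)) (Ψ (P d v)) = _
        rw [hΨ.form, (hP hd).1.form, M.c.form.invol]⟩
  obtain ⟨T₁, hT₁, hT₁i⟩ := hlin (d := 1) fun i => one_ne_zero
  set δ := LinearMap.det T₁ with hδdef
  have hδ : δ ≠ 0 := (Model.exists_uh T₁ hT₁i).1
  let d : Fin 6 → M.F := ![δ, 1, 1, 1, 1, 1]
  have hd : ∀ i, d i ≠ 0 := fun i => by fin_cases i <;> simp [d, hδ]
  obtain ⟨T, hT, hTi⟩ := hlin hd
  have hdet : LinearMap.det T = 1 := by
    let E : (Fin 6 → M.F) →ₗ[M.F] (Fin 6 → M.F) :=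
      Matrix.toLin' (Matrix.diagonal fun i => M.σ (d i))
    have e : T = T₁ ∘ₗ ((L.symm : (Fin 6 → M.F) →ₗ[M.F] (Fin 6 → M.F)) ∘ₗ E ∘ₗ
        (L.symm.symm : (Fin 6 → M.F) →ₗ[M.F] (Fin 6 → M.F))) := LinearMap.ext fun u => by
      simp only [LinearMap.comp_apply, LinearEquiv.coe_coe, LinearEquiv.symm_symm, E,
        Matrix.toLin'_apply, hT, hT₁]
      congr 1
      apply L.injective; funext i
      simp [P, Matrix.mulVec_diagonal, M.c.form.invol]
    rw [e, LinearMap.det_comp, LinearMap.det_conj, LinearMap.det_toLin', Matrix.det_diagonal,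
      ← hδdef]
    simp [d, Fin.prod_univ_six, mul_comm δ, M.c.norm δ hδ]
  obtain ⟨-, g, hg, hgS⟩ := Model.exists_uh T hTi
  obtain ⟨y, hy, hyact⟩ := M.exists_lift H ha (⟨g, hgS hdet⟩⁻¹ : SUH M.h)
  obtain ⟨hΘ, hΘ2⟩ := hP hd
  set Θ := P d
  have hle : Subgroup.closure (Dc D a) ≤ Subgroup.centralizer ({a} : Set G) :=
    (Subgroup.closure_le _).2 fun z hz => Subgroup.mem_centralizer_singleton_iff.2 hz.2.2.eq.symm
  have hya : Commute y a := Subgroup.mem_centralizer_singleton_iff.1 (hle hy)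
  set χ := φ.trans (MulAut.conj y) with hχ
  have hact₁ : M.Acts χ Θ := (hyact.comp hact).congr fun u => by
    show (⟨g, hgS hdet⟩ : SUH M.h)⁻¹ • Ψ u = _
    rw [inv_smul_eq_iff]
    show Ψ u = g • Θ u
    rw [hg, hT, hΘ2]
  refine ⟨y, hy, by rw [hya.eq, mul_inv_cancel_right], ?_, fun x hx => M.fix_of_acts_scalar H ha
    (f := fun x => χ (χ x)) (m := 1) ((hact₁.comp hact₁).congr fun u => by rw [hΘ2, one_smul]) x hx⟩
  -- a line with three fixed and two moved points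
  let p : Fin 6 → M.F := L.symm ![0, 0, 1, 1, 0, 0]
  let q : Fin 6 → M.F := L.symm ![0, 0, 0, 0, 1, 1]
  have hpp : M.h p p = 0 := by simp [hL, p, Fin.sum_univ_six, M.c.two]
  have hqq : M.h q q = 0 := by simp [hL, q, Fin.sum_univ_six, M.c.two]
  have hpq : M.h p q = 0 := by simp [hL, p, q, Fin.sum_univ_six]
  have hind : ∀ m n : M.F, m • p + n • q = 0 → m = 0 ∧ n = 0 := fun m n e => by
    have e' := congrArg L e
    exact ⟨by simpa [p, q] using congrFun e' 2, by simpa [p, q] using congrFun e' 4⟩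
  have hΘp : Θ p = p := by
    apply L.injective; funext i; fin_cases i <;> simp [Θ, P, p, d]
  have hΘq : Θ q = q := by
    apply L.injective; funext i; fin_cases i <;> simp [Θ, P, q, d]
  obtain ⟨b, hb⟩ := M.exists_mem H ha hpp fun e => by
    exact one_ne_zero (hind 1 0 (by rw [e, smul_zero, zero_smul, add_zero])).1
  obtain ⟨c, hc⟩ := M.exists_mem H ha hqq fun e => by
    exact one_ne_zero (hind 0 1 (by rw [e, smul_zero, zero_smul, add_zero])).2
  have hon : ∀ m : M.F, M.h (p + m • q) (p + m • q) = 0 ∧ p + m • q ≠ 0 := fun m =>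
    ⟨by simp [hpp, hqq, hpq, M.c.form.comm_zero hpq],
      fun e => one_ne_zero (hind 1 m (by rw [one_smul]; exact e)).1⟩
  have hline : ∀ m : M.F, m ≠ 0 → ∃ f, M.IsPt f (p + m • q) ∧ Twin D a b c f := by
    intro m hm
    obtain ⟨f, hf⟩ := M.exists_mem H ha (hon m).1 (hon m).2
    refine ⟨f, hf, Model.twin_of_span M H ha hb hc hf
      ((M.comm_iff H ha hb hf).2 (by simp [hpp, hpq]))
      ((M.comm_iff H ha hc hf).2 (by simp [hqq, M.c.form.comm_zero hpq]))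
      (fun e => ?_) (fun e => ?_) (m := 1) (n := m) (by rw [one_smul])⟩
    · obtain ⟨n, hn⟩ := M.smul_of_eq hb hf e.symm
      exact hm (hind (1 - n) m (by rw [← sub_eq_zero.2 hn]; module)).2
    · obtain ⟨n, hn⟩ := M.smul_of_eq hc hf e.symm
      exact one_ne_zero (hind 1 (m - n) (by rw [← sub_eq_zero.2 hn]; module)).1
  obtain ⟨f₁, hf₁, tw₁⟩ := hline 1 one_ne_zero
  obtain ⟨f₂, hf₂, tw₂⟩ := hline o ho0
  have fixed : ∀ {x u}, M.IsPt x u → Θ u = u → χ x = x := fun hx e =>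
    (M.fix_iff H ha hact₁ hx).2 ⟨1, one_ne_zero, by rw [e, one_smul]⟩
  refine ⟨b, hb.mem, fixed hb hΘp, c, f₁, f₂, ⟨hc.mem, fun e => ?_, (M.comm_iff H ha hb hc).2 hpq⟩,
    tw₁, tw₂, fixed hc hΘq, fixed hf₁ (by rw [hΘ.sum, hΘp, hΘq, map_one]), fun h => ?_⟩
  · obtain ⟨n, hn⟩ := M.smul_of_eq hb hc e.symm
    exact one_ne_zero (hind (-n) 1 (by rw [hn]; module)).2
  · obtain ⟨m, -, hm⟩ := (M.fix_iff H ha hact₁ hf₂).1 h
    rw [hΘ.sum, hΘp, hΘq, hso] at hm
    obtain ⟨e1, e2⟩ := hind (1 - m) (o * o - m * o) (by rw [← sub_eq_zero.2 hm]; module)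
    refine one_ne_zero (α := M.F) ?_
    linear_combination ho - e2 - o * e1 - o * m * M.c.two

/-- No element induces a field automorphism at a member it centralises. -/
theorem linear {t : G} (ha : a ∈ D) (hta : Commute t a) (M : Model D a)
    {Ψ : (Fin 6 → M.F) → (Fin 6 → M.F)} {τ : M.F ≃+* M.F} (hΨ₀ : U6.Semi M.h τ Ψ)
    (hact : M.Acts (MulAut.conj t) Ψ) : ∀ x, τ x = x := by
  classical
  have : Nonempty D := ⟨⟨a, ha⟩⟩
  refine (U6.aut_eq M.c τ).resolve_right fun hσ => ?_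
  have hΨ : U6.Semi M.h M.σ Ψ := ⟨hΨ₀.add, fun m u => by rw [hΨ₀.smul, hσ],
    fun u v => by rw [hΨ₀.form, hσ]⟩
  obtain ⟨y, -, hya, hf, h2⟩ := H.exists_adjust (preserves_conj H.grp t) ha
    (show t * a * t⁻¹ = a by rw [hta.eq, mul_inv_cancel_right]) M hΨ hact
  have e : ∀ x, (MulAut.conj t).trans (MulAut.conj y) x = MulAut.conj (y * t) x := fun x => by
    show y * (t * x * t⁻¹) * y⁻¹ = y * t * x * (y * t)⁻¹
    group
  set s := y * t
  rw [show ⇑((MulAut.conj t).trans (MulAut.conj y)) = ⇑(MulAut.conj s) from funext e] at hf h2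
  have hsa : MulAut.conj s a = a := by
    rw [← e]
    show y * (t * a * t⁻¹) * y⁻¹ = a
    rw [hta.eq, mul_inv_cancel_right, hya]
  have hp := preserves_conj H.grp s
  have hinv := H.field_sq hp ha hsa hf h2
  have hss : s * s = 1 := by
    have hc : s * s ∈ Subgroup.center G := Subgroup.mem_center_iff.2 fun g => by
      have h1 : s * s * g * (s * s)⁻¹ = g := by
        have := hinv g
        change s * (s * g * s⁻¹) * s⁻¹ = g at this
        conv_rhs => rw [← this]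
        group
      exact (mul_inv_eq_iff_eq_mul.1 h1).symm
    rwa [H.center, Subgroup.mem_bot] at hc
  obtain ⟨k, hk⟩ := H.fixed_mod_four hp ha hsa hf hinv
  -- parity
  have := Fintype.ofFinite ↥D
  let φ : G →* Equiv.Perm ↥D :=
    { toFun := fun g =>
        { toFun := fun x => ⟨g * x * g⁻¹, H.conj_mem g x.2⟩
          invFun := fun x => ⟨g⁻¹ * x * g, (stab_of_normal H.grp g x x.2).2⟩
          left_inv := fun x => Subtype.ext (by simp [mul_assoc])
          right_inv := fun x => Subtype.ext (by simp [mul_assoc]) }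
      map_one' := Equiv.ext fun x => Subtype.ext (by simp)
      map_mul' := fun g k => Equiv.ext fun x => Subtype.ext (by simp [mul_assoc]) }
  have hsign : Equiv.Perm.sign (φ s) = 1 := by
    have hle := Abelianization.commutator_subset_ker (Equiv.Perm.sign.comp φ)
    rw [H.perfect] at hle
    exact hle (Subgroup.mem_top s)
  have hsq : φ s ^ 2 = 1 := by rw [← map_pow, pow_two, hss, map_one]
  set F := {x | x ∈ D ∧ MulAut.conj s x = x} with hFdef
  have hfix : Fintype.card (Function.fixedPoints (φ s)) = F.ncard := by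
    rw [← Nat.card_eq_fintype_card, ← Nat.card_coe_set_eq F]
    exact Nat.card_congr
      { toFun := fun x => ⟨x.1.1, x.1.2, congrArg Subtype.val x.2⟩
        invFun := fun x => ⟨⟨x.1, x.2.1⟩, Subtype.ext x.2.2⟩
        left_inv := fun x => Subtype.ext (Subtype.ext rfl)
        right_inv := fun x => Subtype.ext rfl }
  rw [Equiv.Perm.sign_of_pow_two_eq_one hsq, hfix, ← Nat.card_eq_fintype_card,
    Nat.card_coe_set_eq] at hsign
  have hle : F.ncard ≤ D.ncard := Set.ncard_le_ncard (fun x hx => hx.1) (Set.toFinite _)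
  obtain ⟨m, hm⟩ : ∃ m, (D.ncard - F.ncard) / 2 = 2 * m + 1 :=
    ⟨(D.ncard - F.ncard) / 4, by have := H.card_mod_four; omega⟩
  rw [hm, pow_succ, pow_mul, neg_one_sq, one_pow, one_mul] at hsign
  exact absurd hsign (by decide)

end M22

end Cfsg.Agent.Transpos
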