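import Cfsg.Agent.Lib.Transpos.M22Pattern
import Cfsg.Agent.Lib.Transpos.M22Linear
import Cfsg.Agent.Lib.Transpos.M22InvolClasses

/-!
# The further relators of Fi22 hold for a pattern in a group of type M(22)

An element commuting with `a` and five members spanning a hyperplane at `a` is `1`, `a`, the member at
the radical or its product with `a` (`M22.eq_of_five`).  Applied to the ninth power of the product along
a diagram E7 and to the tenth power of the spider word this gives `Pattern.e7_pow`,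
`Pattern.spider_pow`.
-/

set_option autoImplicit false
set_option maxRecDepth 8000
set_option linter.unusedSimpArgs false
set_option linter.unusedSectionVars false
set_option linter.style.haveILetI false

namespace Cfsg.Agent.Transpos

open Cfsg Cfsg.Agent.ClassicalSimple

/-- A linear isometry with five independent eigenvectors linked by pairings is a scalar or a scalar
times the transvection at their radical. -/
theorem U6.Ctx.five_fix {F : Type} [Field F] {σ : F →+* F}
    {h : (Fin 6 → F) →ₛₗ[σ] (Fin 6 → F) →ₗ[F] F} (c : U6.Ctx σ h) {τ : F → F}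
    {Ψ : (Fin 6 → F) → (Fin 6 → F)} (hτ : ∀ x, τ x = x) (hΨ : U6.Semi h τ Ψ)
    {v : Fin 5 → Fin 6 → F} (hli : LinearIndependent F v)
    (hlink : ∀ i, i ≠ 0 → ∃ j, j < i ∧ h (v j) (v i) ≠ 0)
    (heig : ∀ i, ∃ m : F, m ≠ 0 ∧ Ψ (v i) = m • v i) {u : Fin 6 → F} (hu0 : u ≠ 0) (hu : h u u = 0)
    (hperp : ∀ i, h (v i) u = 0) :
    ∃ l : F, l ≠ 0 ∧ ((∀ x, Ψ x = l • x) ∨ ∀ x, Ψ x = l • (x + h u x • u)) := by
  classical
  haveI := c.fd
  choose m hm0 hm using heig
  have hlam : ∀ n, ∀ i : Fin 5, i.1 = n → m i = m 0 := by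
    intro n
    induction n using Nat.strong_induction_on with
    | _ n ih =>
      intro i hi
      by_cases h0 : i = 0
      · rw [h0]
      obtain ⟨j, hj, hne⟩ := hlink i h0
      have e := hΨ.form (v j) (v i)
      rw [hm, hm, hτ] at e
      simp only [map_smulₛₗ, LinearMap.smul_apply, smul_eq_mul, RingHom.id_apply, ← mul_assoc] at e
      have e' := (mul_eq_right₀ hne).1 e
      rw [← ih j.1 (hi ▸ hj) j rfl]
      exact mul_left_cancel₀ ((map_ne_zero σ).2 (hm0 j))
        ((by linear_combination e' : σ (m j) * m i = 1).trans (c.norm _ (hm0 j)).symm)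
  set l := m 0 with hl
  have hl0 : l ≠ 0 := hm0 0
  let T : (Fin 6 → F) →ₗ[F] (Fin 6 → F) :=
    { toFun := fun x => l⁻¹ • Ψ x
      map_add' := fun x y => by rw [hΨ.add, smul_add]
      map_smul' := fun a x => by
        rw [hΨ.smul, hτ, RingHom.id_apply, smul_comm] }
  have hT : ∀ x y, h (T x) (T y) = h x y := fun x y => by
    show h (l⁻¹ • Ψ x) (l⁻¹ • Ψ y) = _
    simp only [map_smulₛₗ, LinearMap.smul_apply, smul_eq_mul, RingHom.id_apply, hΨ.form, hτ]
    linear_combination (h x y) * c.norm _ (inv_ne_zero hl0)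
  have hTv : ∀ i, T (v i) = v i := fun i => by
    show l⁻¹ • Ψ (v i) = v i
    rw [hm, hlam _ i rfl, inv_smul_smul₀ hl0]
  -- the span is the perp of `u`
  set W := Submodule.span F (Set.range v) with hW
  have hWle : W ≤ LinearMap.ker (h u) := by
    rw [hW, Submodule.span_le]
    rintro _ ⟨i, rfl⟩
    exact LinearMap.mem_ker.2 (c.form.comm_zero (hperp i))
  obtain ⟨z, hz⟩ := exists_h_ne_zero c.form hu0
  set t := (h u z)⁻¹ • z with htdef
  have ht : h u t = 1 := by rw [htdef, map_smul, smul_eq_mul, inv_mul_cancel₀ hz]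
  clear_value t
  have hlt : LinearMap.ker (h u) < ⊤ := lt_top_iff_ne_top.2 fun e => one_ne_zero (α := F) (by
    rw [← ht]; exact LinearMap.mem_ker.1 (e.symm ▸ Submodule.mem_top))
  have h5 : Module.finrank F W = 5 := by
    rw [hW, finrank_span_eq_card hli, Fintype.card_fin]
  have h6 := Submodule.finrank_lt hlt.ne
  rw [Module.finrank_fin_fun] at h6
  have hWeq : W = LinearMap.ker (h u) := Submodule.eq_of_le_of_finrank_le hWle (by omega)
  have hfix : ∀ y ∈ W, T y = y := fun y hy => by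
    induction hy using Submodule.span_induction with
    | mem x hx => obtain ⟨i, rfl⟩ := hx; exact hTv i
    | zero => exact map_zero _
    | add p q _ _ hp hq => rw [map_add, hp, hq]
    | smul a p _ hp => rw [map_smul, hp]
  have hdec : ∀ x, x - h u x • t ∈ W := fun x => by
    rw [hWeq, LinearMap.mem_ker, map_sub, map_smul, ht, smul_eq_mul, mul_one, sub_self]
  set d := T t - t with hd
  have hdW : ∀ y ∈ W, h y d = 0 := fun y hy => by
    rw [hd, map_sub, show h y (T t) = h (T y) (T t) by rw [hfix y hy], hT, sub_self]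
  set k := h t d with hk
  have htu : h t u = 1 := by rw [c.form.swap u t, ht, map_one]
  have hdu : d = k • u := by
    refine sub_eq_zero.1 (c.form.sep _ fun y => c.form.comm_zero ?_)
    have k1 : h (y - h u y • t) (d - k • u) = 0 := by
      rw [map_sub (h _), hdW _ (hdec y), map_smul,
        c.form.comm_zero (LinearMap.mem_ker.1 (hWeq ▸ hdec y))]
      simp
    have k2 : h t (d - k • u) = 0 := by
      rw [map_sub (h t), map_smul, htu, ← hk]
      simp
    conv_lhs => rw [← sub_add_cancel y (h u y • t)]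
    rw [map_add, LinearMap.add_apply, map_smulₛₗ, LinearMap.smul_apply, k1, k2, smul_zero, add_zero]
  have hk01 : k = 0 ∨ k = 1 := by
    by_cases hk0 : k = 0
    · exact Or.inl hk0
    refine Or.inr (c.eq_one ?_ hk0)
    have e := hT t t
    rw [show T t = t + k • u by rw [← hdu, hd]; abel] at e
    simp [hu, ht, htu] at e
    linear_combination e - k * c.two
  refine ⟨l, hl0, ?_⟩
  have hTx : ∀ x, T x = x + (h u x * k) • u := fun x => by
    conv_lhs => rw [← sub_add_cancel x (h u x • t)]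
    rw [map_add, hfix _ (hdec x), map_smul, show T t = t + k • u by rw [← hdu, hd]; abel]
    simp only [smul_add, smul_smul]
    abel
  have hΨT : ∀ x, Ψ x = l • T x := fun x => (smul_inv_smul₀ hl0 (Ψ x)).symm
  rcases hk01 with e | e
  · exact Or.inl fun x => by rw [hΨT, hTx, e, mul_zero, zero_smul, add_zero]
  · exact Or.inr fun x => by rw [hΨT, hTx, e, mul_one]

variable {G : Type*} [Group G] {D : Set G}

/-- Elements commuting with `a` and five members spanning a hyperplane at `a`. -/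
theorem M22.eq_of_five [Finite G] (H : M22 D) {a t : G} (ha : a ∈ D) (hta : Commute t a) (M : Model D a)
    {x : Fin 5 → G} {v : Fin 5 → Fin 6 → M.F} (hx : ∀ i, M.IsPt (x i) (v i))
    (hli : LinearIndependent M.F v) (hlink : ∀ i, i ≠ 0 → ∃ j, j < i ∧ M.h (v j) (v i) ≠ 0)
    (htx : ∀ i, Commute t (x i)) {u : Fin 6 → M.F} (hu0 : u ≠ 0) (hu : M.h u u = 0)
    (hperp : ∀ i, M.h (v i) u = 0) :
    t = 1 ∨ t = a ∨ ∃ z, M.IsPt z u ∧ (t = z ∨ t = z * a) := by
  have hfa : MulAut.conj t a = a := by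
    show t * a * t⁻¹ = a
    rw [hta.eq, mul_inv_cancel_right]
  obtain ⟨Ψ, τ, hΨ, hact⟩ := M.exists_semi H ha (preserves_conj H.grp t) hfa
  have hτ := H.linear ha hta M hΨ hact
  have heig : ∀ i, ∃ m : M.F, m ≠ 0 ∧ Ψ (v i) = m • v i := fun i =>
    (M.fix_iff H ha hact (hx i)).1 (by
      show t * x i * t⁻¹ = x i
      rw [(htx i).eq, mul_inv_cancel_right])
  obtain ⟨l, hl0, hl | hl⟩ := M.c.five_fix hτ hΨ hli hlink heig hu0 hu hperp
  · have hfix := M.fix_of_acts_scalar H ha (hact.congr hl)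
    rcases H.eq_one_or_eq ha hta fun y hy => by
      have := hfix y hy
      change t * y * t⁻¹ = y at this
      exact mul_inv_eq_iff_eq_mul.1 this with e | e
    exacts [Or.inl e, Or.inr (Or.inl e)]
  · obtain ⟨z, hz⟩ := M.exists_mem H ha hu hu0
    refine Or.inr (Or.inr ⟨z, hz, ?_⟩)
    have zz := sq_one H.grp.1 hz.mem.1
    have hq : ∀ y ∈ Dc D a, Commute (z * t) y := fun y hy => by
      obtain ⟨w, hw⟩ := M.exists_vec H ha hy
      have e : t * y * t⁻¹ = z * y * z⁻¹ :=
        (Model.eq_of_smul M H ha (M.acts_tv H ha hz y w hw) (hact y w hw) (hl w)).symm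
      have e2 : z * t * y * (z * t)⁻¹ = y := by
        calc z * t * y * (z * t)⁻¹ = z * (t * y * t⁻¹) * z⁻¹ := by group
          _ = z * z * y * (z * z)⁻¹ := by rw [e]; group
          _ = y := by rw [zz]; group
      exact mul_inv_eq_iff_eq_mul.1 e2
    rcases H.eq_one_or_eq ha (hz.mem.2.2.symm.mul_left hta) hq with e | e
    · left
      rw [← mul_mul_cancel H.grp.1 hz.mem.1 t, e, mul_one]
    · right
      rw [← mul_mul_cancel H.grp.1 hz.mem.1 t, e]

namespace Pattern

open Presented.Y332 (ev pal coxWord coxWord' rWord xWord pWord thetaWord thetaQ sevenWord spiderWord)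

variable (p : Pattern D)

theorem ne_ga : p.g ≠ p.a := fun e => p.nfg (e.symm ▸ p.caf.symm)
theorem ne_gb : p.g ≠ p.b := fun e => p.nab (e ▸ p.cag)
theorem ne_fb : p.f ≠ p.b := fun e => p.nab (e ▸ p.caf)
theorem ne_eb : p.e ≠ p.b := fun e => p.nab (e ▸ p.cae)
theorem ne_db : p.d ≠ p.b := fun e => p.nab (e ▸ p.cad)
theorem ne_hb : p.h ≠ p.b := fun e => p.nab (e ▸ p.cah)
theorem ne_ib : p.i ≠ p.b := fun e => p.nab (e ▸ p.cai)

theorem mem_common {x : G} (hx : x ∈ D) (h1 : Commute p.a x) (h2 : Commute p.b x) :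
    x ∈ Dc D p.a ∩ Dc D p.b :=
  ⟨⟨hx, fun e => p.nab (e ▸ h2).symm, h1⟩, hx, fun e => p.nab (e ▸ h1), h2⟩

/-- `f e d c b a h`. -/
def s7 : Fin 7 → G := ![p.f, p.e, p.d, p.c, p.b, p.a, p.h]

theorem seven : Seven D p.s7 :=
  Seven.of ⟨p.mf, p.me, p.md, p.mc, p.mb, p.ma, p.mh⟩
    ⟨fun k => p.nef k.symm, fun k => p.nde k.symm, fun k => p.ncd k.symm, p.ndh,
      fun k => p.nbc k.symm, fun k => p.nab k.symm⟩
    ⟨p.cdf.symm, p.ccf.symm, p.cbf.symm, p.caf.symm, p.cfh, p.cce.symm, p.cbe.symm, p.cae.symm, p.ceh,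
      p.cbd.symm, p.cad.symm, p.cac.symm, p.cch, p.cbh, p.cah⟩

/-- `i h d e f g c`. -/
def sT : Fin 7 → G := ![p.i, p.h, p.d, p.e, p.f, p.g, p.c]

theorem sevenT : Seven D p.sT :=
  Seven.of ⟨p.mi, p.mh, p.md, p.me, p.mf, p.mg, p.mc⟩
    ⟨fun k => p.nhi k.symm, fun k => p.ndh k.symm, p.nde, fun k => p.ncd k.symm, p.nef, p.nfg⟩
    ⟨p.cdi.symm, p.cei.symm, p.cfi.symm, p.cgi.symm, p.cci.symm, p.ceh.symm, p.cfh.symm, p.cgh.symm,
      p.cch.symm, p.cdf, p.cdg, p.ceg, p.cce.symm, p.ccf.symm, p.ccg.symm⟩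

/-- `b c d e f h i`. -/
def sQ : Fin 7 → G := ![p.b, p.c, p.d, p.e, p.f, p.h, p.i]

variable [Finite G] (hD : IsThreeTranspositionGroup D) (hprim : IsPrimitiveUnderConj D)
  (h22 : IsOfTypeM22 G D)
include hD hprim h22

/-- The ninth power of the product along `a b c d e f h`. -/
theorem e7_pow : (p.a * p.b * p.c * p.d * p.e * p.f * p.h) ^ 9 = 1 := by
  obtain ⟨_, H, -⟩ := m22_of_primitive hD hprim h22
  set w := (List.replicate 9 coxWord).flatten with hw
  have hz : ev p.s7 w = (p.a * p.b * p.c * p.d * p.e * p.f * p.h) ^ 9 := by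
    rw [hw, Presented.Y332.ev_pow]
    congr 1
    simp only [coxWord, Presented.Y332.ev_cons, Presented.Y332.ev_nil, one_mul]
    rfl
  rw [← hz]
  set z := ev p.s7 w
  have hcz : ∀ k : Fin 7, Commute z (p.s7 k) := fun k => by
    have := (seven p).ev_comm hD (List.all_eq_true.1 Presented.Y332.z_central k.1 (List.mem_range.2 k.2))
    rwa [show Fin.ofNat 7 k.1 = k from Fin.ext (Nat.mod_eq_of_lt k.2)] at this
  have za : Commute z p.a := hcz 5
  have zb : Commute z p.b := hcz 4
  obtain ⟨M⟩ := (H.model p.a p.ma).2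
  obtain ⟨Dv, hDv⟩ := M.exists_vec H p.ma ⟨p.md, fun e => p.nde (e.symm ▸ p.cae), p.cad⟩
  obtain ⟨Cv, hCv⟩ := M.exists_vec H p.ma ⟨p.mc, fun e => p.ncd (e.symm ▸ p.cad), p.cac⟩
  obtain ⟨Ev, hEv⟩ := M.exists_vec H p.ma ⟨p.me, fun e => p.nef (e.symm ▸ p.caf), p.cae⟩
  obtain ⟨Hv, hHv⟩ := M.exists_vec H p.ma ⟨p.mh, fun e => p.nhi (e.symm ▸ p.cai), p.cah⟩
  obtain ⟨Fv, hFv⟩ := M.exists_vec H p.ma ⟨p.mf, fun e => p.nef (e.symm ▸ p.cae.symm), p.caf⟩
  obtain ⟨Gv, hGv⟩ := M.exists_vec H p.ma ⟨p.mg, p.ne_ga, p.cag⟩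
  obtain ⟨Iv, hIv⟩ := M.exists_vec H p.ma ⟨p.mi, fun e => p.nhi (e.symm ▸ p.cah.symm), p.cai⟩
  have cm := fun {x y : G} {u v : Fin 6 → M.F} (hu : M.IsPt x u) (hv : M.IsPt y v) =>
    Model.comm_iff M H p.ma hu hv
  have cz := @M.c.form.comm_zero
  have CE := (cm hCv hEv).1 p.cce
  have CH := (cm hCv hHv).1 p.cch
  have CF := (cm hCv hFv).1 p.ccf
  have DF := (cm hDv hFv).1 p.cdf
  have EH := (cm hEv hHv).1 p.ceh
  have FH := (cm hFv hHv).1 p.cfh
  have DC : M.h Dv Cv ≠ 0 := fun k => p.ncd ((cm hDv hCv).2 k).symm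
  have DE : M.h Dv Ev ≠ 0 := fun k => p.nde ((cm hDv hEv).2 k)
  have DH : M.h Dv Hv ≠ 0 := fun k => p.ndh ((cm hDv hHv).2 k)
  have EF : M.h Ev Fv ≠ 0 := fun k => p.nef ((cm hEv hFv).2 k)
  have chne : p.c ≠ p.h := fun e => p.nhi (e ▸ p.cci)
  have hli : LinearIndependent M.F ![Dv, Cv, Ev, Hv, Fv] := by
    refine Fintype.linearIndependent_iff.2 fun m hm => ?_
    simp only [Fin.sum_univ_five] at hm
    have k1 := congrArg (M.h Cv) hm
    have k2 := congrArg (M.h Fv) hm
    have k3 := congrArg (M.h Ev) hm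
    simp [hCv.iso, hFv.iso, hEv.iso, CE, CH, CF, cz DF, cz CF, FH, EH, cz CE] at k1 k2 k3
    have m0 : m 0 = 0 := k1.resolve_right fun e => DC (cz e)
    have m2 : m 2 = 0 := k2.resolve_right fun e => EF (cz e)
    rw [m0] at k3
    simp only [zero_mul, zero_add] at k3
    have m4 : m 4 = 0 := (mul_eq_zero.1 k3).resolve_right EF
    simp [m0, m2, m4] at hm
    have m3 : m 3 = 0 := by
      by_contra hne
      refine Model.ne_of_ne M H p.ma hCv hHv chne (-((m 3)⁻¹ * m 1)) ?_
      rw [← inv_smul_smul₀ hne Hv, eq_neg_of_add_eq_zero_right hm]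
      module
    simp [m3, hCv.ne_zero] at hm
    intro i
    fin_cases i <;> assumption
  set u := M.h Dv Hv • Cv + M.h Dv Cv • Hv with hu_def
  have hu : M.h u u = 0 := by simp [hu_def, hCv.iso, hHv.iso, CH, cz CH]
  have hIu : M.h Iv u ≠ 0 := by
    have IC := (cm hIv hCv).1 p.cci.symm
    have IH : M.h Iv Hv ≠ 0 := fun k => p.nhi ((cm hIv hHv).2 k).symm
    simp [hu_def, IC, DC, IH]
  have hperp : ∀ i, M.h (![Dv, Cv, Ev, Hv, Fv] i) u = 0 := by
    intro i
    fin_cases i <;> simp [hu_def, hCv.iso, hHv.iso, CH, cz CH, cz CE, EH, cz CF, FH]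
    rw [mul_comm (M.h Dv Cv)]
    exact M.c.addF _
  rcases H.eq_of_five p.ma za M (x := ![p.d, p.c, p.e, p.h, p.f]) (v := ![Dv, Cv, Ev, Hv, Fv])
      (fun i => by fin_cases i <;> assumption) hli (fun i hi => by
        fin_cases i
        · exact absurd rfl hi
        · exact ⟨0, by decide, DC⟩
        · exact ⟨0, by decide, DE⟩
        · exact ⟨0, by decide, DH⟩
        · exact ⟨2, by decide, EF⟩)
      (fun i => by fin_cases i <;> first | exact hcz 2 | exact hcz 3 | exact hcz 1 | exact hcz 6 | exact hcz 0)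
      (fun e => hIu (by rw [e, map_zero])) hu hperp with e | e | ⟨y, hy, e | e⟩
  · exact e
  · exact absurd (e ▸ zb) p.nab
  · exfalso
    have hyP : y ∈ Dc D p.a ∩ Dc D p.b := p.mem_common hy.mem.1 hy.mem.2.2 (e ▸ zb).symm
    refine H.no_path p.ma p.mb p.nab hD hprim h22 (p.mem_common p.mg p.cag p.cbg)
      (p.mem_common p.mf p.caf p.cbf) (p.mem_common p.me p.cae p.cbe) (p.mem_common p.md p.cad p.cbd)
      (p.mem_common p.mi p.cai p.cbi) hyP (fun k => p.nfg k.symm) (fun k => p.nef k.symm)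
      (fun k => p.nde k.symm) p.ceg.symm p.cdg.symm p.cdf.symm (fun k => hIu ((cm hIv hy).1 k))
      fun x hx => ?_
    simp only [List.mem_cons, List.not_mem_nil, or_false] at hx
    rcases hx with rfl | rfl | rfl | rfl
    · exact ⟨p.cgi.symm, ((cm hGv hy).2 (by
        simp [hu_def, (cm hGv hCv).1 p.ccg.symm, (cm hGv hHv).1 p.cgh])).symm⟩
    · exact ⟨p.cfi.symm, ((cm hFv hy).2 (hperp 4)).symm⟩
    · exact ⟨p.cei.symm, ((cm hEv hy).2 (hperp 2)).symm⟩
    · exact ⟨p.cdi.symm, ((cm hDv hy).2 (hperp 0)).symm⟩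
  · exfalso
    have bb := sq_one hD.1 p.mb
    have e2 : y * p.a = p.b * y * p.b * (p.b * p.a * p.b) := by
      have : z = p.b * z * p.b := by rw [← zb.eq, mul_assoc, bb, mul_one]
      rw [← e]
      rw [show p.b * y * p.b * (p.b * p.a * p.b) = p.b * (y * (p.b * p.b) * p.a) * p.b by group, bb,
        mul_one, ← e]
      exact this
    have hne : p.b * y * p.b ≠ p.b * p.a * p.b := fun k =>
      hy.mem.2.1 (mul_left_cancel (mul_right_cancel k))
    have hcomm : Commute (p.b * y * p.b) (p.b * p.a * p.b) := by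
      have := (Commute.conj_iff p.b).2 hy.mem.2.2.symm
      rwa [inv_eq hD.1 p.mb] at this
    rcases mem_of_prod_two H.tr H.noTwin₂ hy.mem.1 p.ma (H.tr.conj p.b p.mb y hy.mem.1)
      (H.tr.conj p.b p.mb p.a p.ma) hy.mem.2.1 hne hy.mem.2.2.symm hcomm e2 with k | k
    · rw [← k] at e2
      have k2 : p.a = p.b * p.a * p.b := mul_left_cancel e2
      refine p.nab ?_
      show p.a * p.b = p.b * p.a
      calc p.a * p.b = p.b * p.a * (p.b * p.b) := by rw [← mul_assoc, ← k2]
        _ = p.b * p.a := by rw [bb, mul_one]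
    · have aa := sq_one hD.1 p.ma
      have hc := hy.mem.2.2
      rw [k, braid_of_pow_three aa bb (pow_three_of_not_commute hD.1 p.ma p.mb p.nab)] at hc
      refine p.nab ?_
      have := hc.eq
      rw [show p.a * (p.a * p.b * p.a) = p.a * p.a * p.b * p.a by group, aa, one_mul,
        mul_assoc (p.a * p.b), aa, mul_one] at this
      exact this.symm

/-- The ninth power of the product along `b c d e f g h`. -/
theorem e7_pow' : (p.b * p.c * p.d * p.e * p.f * p.g * p.h) ^ 9 = 1 := by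
  have h := p.swap.e7_pow hD hprim h22
  have e := p.swap.seven.ev_eq hD Presented.Y332.z_swap
  simp only [Presented.Y332.ev_pow, coxWord, coxWord', Presented.Y332.ev_cons, Presented.Y332.ev_nil,
    one_mul] at e
  exact e.trans h

omit hprim h22 in
/-- A reflection conjugated along a path does not commute with the end. -/
theorem not_commute_conj_end {x y w : G} (hx : x ∈ D) (hy : y ∈ D) (nxy : ¬ Commute x y)
    (nyw : ¬ Commute y w) (cxw : Commute x w) : ¬ Commute x (y * w * y) := fun k => by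
  have yy := sq_one hD.1 hy
  have xx := sq_one hD.1 hx
  rw [← inv_eq hD.1 hy] at k
  have k1 := (Commute.conj_iff y).2 k
  rw [show y * (y⁻¹ * w * y⁻¹) * y⁻¹ = w * (y⁻¹ * y⁻¹) by group, inv_eq hD.1 hy, yy, mul_one,
    braid_of_pow_three xx yy (pow_three_of_not_commute hD.1 hx hy nxy)] at k1
  refine nyw ?_
  have k2 := (Commute.conj_iff x).2 k1
  rw [inv_eq hD.1 hx, show x * (x * y * x) * x = x * x * y * (x * x) by group, xx, one_mul, mul_one,
    show x * w * x = w by rw [cxw.eq, mul_assoc, xx, mul_one]] at k2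
  exact k2

omit hprim h22 in
/-- The reflection `d c e h d h e c d`: a member, commuting with `c`, `e`, `h`, not with `f`, `i`. -/
theorem x_spec : ev p.s7 xWord ∈ D ∧ Commute (ev p.s7 xWord) p.c ∧ Commute (ev p.s7 xWord) p.e ∧
    Commute (ev p.s7 xWord) p.h ∧ ¬ Commute (ev p.s7 xWord) p.f ∧ ¬ Commute (ev p.s7 xWord) p.i := by
  have hS := seven p
  have hc := List.all_eq_true.1 Presented.Y332.x_comm7
  refine ⟨hS.pal_mem hD _ _, hS.ev_comm hD (hc 3 (by simp)), hS.ev_comm hD (hc 1 (by simp)),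
    hS.ev_comm hD (hc 6 (by simp)), ?_⟩
  set q := p.h * p.e * p.c * p.d with hq
  have hx : ev p.s7 xWord = q⁻¹ * p.d * q := by
    rw [xWord, Presented.Y332.ev_pal (hS.sq hD)]
    simp only [Presented.Y332.ev_cons, Presented.Y332.ev_nil, one_mul, hq]
    rfl
  have inv := fun {y : G} (hy : y ∈ D) => inv_eq hD.1 hy
  have fix : ∀ {y w : G}, y ∈ D → Commute y w → y * w * y = w := fun hy k => by
    rw [k.eq, mul_assoc, sq_one hD.1 hy, mul_one]
  have step : ∀ {m k : G}, q * m * q⁻¹ = k → ¬ Commute p.d k → ¬ Commute (q⁻¹ * p.d * q) m :=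
    fun {m k} e hn h => hn (by
      have := (Commute.conj_iff q).2 h
      rwa [show q * (q⁻¹ * p.d * q) * q⁻¹ = p.d by group, e] at this)
  have qconj : ∀ m, q * m * q⁻¹ = p.h * (p.e * (p.c * (p.d * m * p.d) * p.c) * p.e) * p.h := fun m => by
    simp only [hq, mul_inv_rev, inv p.mh, inv p.me, inv p.mc, inv p.md, mul_assoc]
  rw [hx]
  constructor
  · refine step (k := p.e * p.f * p.e) ?_ (not_commute_conj_end hD p.md p.me p.nde p.nef p.cdf)
    rw [qconj, fix p.md p.cdf, fix p.mc p.ccf,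
      fix p.mh ((p.ceh.symm.mul_right p.cfh.symm).mul_right p.ceh.symm)]
  · refine step (k := p.h * p.i * p.h) ?_ (not_commute_conj_end hD p.md p.mh p.ndh p.nhi p.cdi)
    rw [qconj, fix p.md p.cdi, fix p.mc p.cci, fix p.me p.cei]

/-- The tenth power of the spider word. -/
theorem spider_pow : (p.d * p.c * p.b * p.d * p.e * p.f * p.d * p.h * p.i) ^ 10 = 1 := by
  classical
  obtain ⟨_, H, -⟩ := m22_of_primitive hD hprim h22
  have hST := sevenT p
  -- the relations of the Y222 quotient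
  obtain ⟨hθ, t0, t1, -, t3, t4, t5, t6⟩ := hST.theta_spec hD
  set θ := ev p.sT thetaWord with hθdef
  have caθ : Commute p.a θ := Seven.commute_ev (x := p.a) (fun j => by
    fin_cases j <;>
      first | exact p.cai | exact p.cah | exact p.cad | exact p.cae | exact p.caf | exact p.cag | exact p.cac)
    thetaWord
  have hbθ : ¬ Commute p.b θ := fun k => by
    refine H.no_path p.ma p.mb p.nab hD hprim h22 (p.mem_common hθ caθ k)
      (p.mem_common p.mg p.cag p.cbg) (p.mem_common p.mf p.caf p.cbf) (p.mem_common p.me p.cae p.cbe)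
      (p.mem_common p.mh p.cah p.cbh) (p.mem_common p.mi p.cai p.cbi) t5 (fun k => p.nfg k.symm)
      (fun k => p.nef k.symm) t4 t3 p.ceg.symm p.nhi fun x hx => ?_
    simp only [List.mem_cons, List.not_mem_nil, or_false] at hx
    rcases hx with rfl | rfl | rfl | rfl
    exacts [⟨t1.symm, t0.symm⟩, ⟨p.cgh.symm, p.cgi.symm⟩, ⟨p.cfh.symm, p.cfi.symm⟩,
      ⟨p.ceh.symm, p.cei.symm⟩]
  have hθQ : ev p.sQ thetaQ = θ := rfl
  have hR : (p.sQ 0 * ev p.sQ thetaQ) ^ 3 = 1 := by
    rw [hθQ]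
    exact pow_three_of_not_commute hD.1 p.mb hθ hbθ
  have sq := fun {y : G} (hy : y ∈ D) => sq_one hD.1 hy
  have c2 : ∀ {y w : G}, y ∈ D → w ∈ D → Commute y w → (y * w) ^ 2 = 1 := fun hy hw k =>
    (commute_iff_sq hD.1 hy hw).1 k
  have c3 : ∀ {y w : G}, y ∈ D → w ∈ D → ¬ Commute y w → (y * w) ^ 3 = 1 := fun hy hw k =>
    pow_three_of_not_commute hD.1 hy hw k
  have hm : ∀ j, p.sQ j ∈ D := fun j => by
    fin_cases j
    exacts [p.mb, p.mc, p.md, p.me, p.mf, p.mh, p.mi]
  have hup : ∀ i j : Fin 7, i < j → (p.sQ i * p.sQ j) ^ Spor.coxLabel Presented.Y332.edgesQ i j = 1 := by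
    intro i j hij
    fin_cases i <;> fin_cases j <;>
      first
        | exact absurd hij (by decide)
        | exact c2 (hm _) (hm _) (by
            first | exact p.cbd | exact p.cbe | exact p.cbf | exact p.cbh | exact p.cbi | exact p.cce
                  | exact p.ccf | exact p.cch | exact p.cci | exact p.cdf | exact p.cdi | exact p.ceh
                  | exact p.cei | exact p.cfh | exact p.cfi)
        | exact c3 (hm _) (hm _) (by
            first | exact p.nbc | exact p.ncd | exact p.nde | exact p.nef | exact p.ndh | exact p.nhi)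
  have hcox : ∀ i j : Fin 7, (p.sQ i * p.sQ j) ^ Spor.coxLabel Presented.Y332.edgesQ i j = 1 := by
    intro i j
    rcases lt_trichotomy i j with k | rfl | k
    · exact hup i j k
    · rw [show Spor.coxLabel Presented.Y332.edgesQ i i = 1 by simp [Spor.coxLabel], pow_one]
      exact sq (hm i)
    · have hsym : ∀ i j : Fin 7, Spor.coxLabel Presented.Y332.edgesQ i j =
          Spor.coxLabel Presented.Y332.edgesQ j i := by decide
      rw [hsym, show p.sQ i * p.sQ j = (p.sQ j * p.sQ i)⁻¹ by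
        rw [mul_inv_rev, inv_eq hD.1 (hm i), inv_eq hD.1 (hm j)], inv_pow, hup j i k, inv_one]
  set w := (spiderWord : List ℕ) with hw
  have hT : ev p.sQ w = (p.d * p.c * p.b * p.d * p.e * p.f * p.d * p.h * p.i) ^ 10 := by
    rw [hw, spiderWord, Presented.Y332.ev_pow]
    congr 1
    simp only [Presented.Y332.ev_cons, Presented.Y332.ev_nil, one_mul]
    rfl
  rw [← hT]
  set T := ev p.sQ w
  have T3 : T * (T * T) = 1 := by
    have := Presented.Y332.ev_sameQ hcox hR Presented.Y332.spider_cube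
    rw [Presented.Y332.ev_append, Presented.Y332.ev_append, Presented.Y332.ev_nil] at this
    exact this
  have hcT : ∀ k : Fin 7, Commute T (p.sQ k) := fun k => by
    have := Presented.Y332.ev_sameQ hcox hR
      (List.all_eq_true.1 Presented.Y332.spider_central k.1 (List.mem_range.2 k.2))
    rw [Presented.Y332.ev_append, Presented.Y332.ev_append, Presented.Y332.ev_singleton,
      show Fin.ofNat 7 k.1 = k from Fin.ext (Nat.mod_eq_of_lt k.2)] at this
    exact this.symm
  obtain ⟨hx, cxc, cxe, cxh, nxf, nxi⟩ := x_spec p hD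
  set x := ev p.s7 xWord with hxdef
  have Tx : Commute T x := by
    have e : x = ev p.sQ (pal [2, 1, 3, 5] 2) := rfl
    rw [e]
    exact Seven.commute_ev hcT _
  -- at `c`
  obtain ⟨M⟩ := (H.model p.c p.mc).2
  have xne_e : x ≠ p.e := fun e => nxi (e ▸ p.cei)
  have xne_h : x ≠ p.h := fun e => nxf (e ▸ p.cfh.symm)
  have ene_h : p.e ≠ p.h := fun e => p.nef (e ▸ p.cfh.symm)
  have hec : p.e ∈ Dc D p.c := ⟨p.me, fun e => p.nef (e.symm ▸ p.ccf), p.cce⟩
  have hxc : x ∈ Dc D p.c := ⟨hx, fun e => nxf (e.symm ▸ p.ccf), cxc.symm⟩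
  obtain ⟨Ev, hEv⟩ := M.exists_vec H p.mc hec
  obtain ⟨Fv, hFv⟩ := M.exists_vec H p.mc ⟨p.mf, fun e => p.nef (e.symm ▸ p.cce.symm), p.ccf⟩
  obtain ⟨Xv, hXv⟩ := M.exists_vec H p.mc hxc
  obtain ⟨Iv, hIv⟩ := M.exists_vec H p.mc ⟨p.mi, fun e => p.nhi (e.symm ▸ p.cch.symm), p.cci⟩
  obtain ⟨Hv, hHv⟩ := M.exists_vec H p.mc ⟨p.mh, fun e => p.nhi (e.symm ▸ p.cci), p.cch⟩
  have cm := fun {x y : G} {u v : Fin 6 → M.F} (hu : M.IsPt x u) (hv : M.IsPt y v) =>
    Model.comm_iff M H p.mc hu hv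
  have cz := @M.c.form.comm_zero
  have EX := (cm hEv hXv).1 cxe.symm
  have EI := (cm hEv hIv).1 p.cei
  have EH := (cm hEv hHv).1 p.ceh
  have FI := (cm hFv hIv).1 p.cfi
  have FH := (cm hFv hHv).1 p.cfh
  have XH := (cm hXv hHv).1 cxh
  have FE : M.h Fv Ev ≠ 0 := fun k => p.nef ((cm hFv hEv).2 k).symm
  have FX : M.h Fv Xv ≠ 0 := fun k => nxf ((cm hFv hXv).2 k).symm
  have IX : M.h Iv Xv ≠ 0 := fun k => nxi ((cm hIv hXv).2 k).symm
  have IH : M.h Iv Hv ≠ 0 := fun k => p.nhi ((cm hIv hHv).2 k).symm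
  have notline : ∀ m n : M.F, Hv ≠ m • Ev + n • Xv := fun m n hmn => by
    have tw := Model.twin_of_span M H p.mc hEv hXv hHv p.ceh cxh ene_h.symm xne_h.symm hmn
    obtain ⟨f₁, f₂, f₃, ⟨w1, w2, w3⟩, ⟨n12, n13, n23⟩, hall, he⟩ :=
      H.triple p.mc hec (c := x) ⟨hxc, xne_e, cxe.symm⟩
    have c12 := M22.twin_commute w1 w2
    have c13 := M22.twin_commute w1 w3
    have c23 := M22.twin_commute w2 w3
    have frame2 : ∀ {y z : G}, y ∈ D → z ∈ D → y ≠ z → Commute y z → IsFrameProd D 2 (y * z) :=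
      fun {y z} hy hz hne hc => ⟨[y, z], by simp [hne], rfl, by simp [hy, hz],
        by simp [hc, hc.symm], by simp⟩
    have h2 : IsFrameProd D 2 (p.c * p.e * x * p.h) := by
      rw [← he]
      rcases hall _ tw with e | e | e <;> rw [e]
      · have e' : f₁ * f₂ * f₃ * f₁ = f₂ * f₃ := by
          rw [show f₁ * f₂ * f₃ * f₁ = f₁ * (f₂ * f₃) * f₁ by group,
            (c12.mul_right c13).eq, mul_assoc, sq w1.1.1.1, mul_one]
        rw [e']
        exact frame2 w2.1.1.1 w3.1.1.1 n23 c23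
      · have e' : f₁ * f₂ * f₃ * f₂ = f₁ * f₃ := by
          rw [show f₁ * f₂ * f₃ * f₂ = f₁ * (f₂ * f₃ * f₂) by group, c23.eq, mul_assoc f₃,
            sq w2.1.1.1, mul_one]
        rw [e']
        exact frame2 w1.1.1.1 w3.1.1.1 n13 c13
      · have e' : f₁ * f₂ * f₃ * f₃ = f₁ * f₂ := by
          rw [mul_assoc, sq w3.1.1.1, mul_one]
        rw [e']
        exact frame2 w1.1.1.1 w2.1.1.1 n12 c12
    -- the product of the seven commuting reflections is trivial
    have hS := seven p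
    set r := ev p.s7 rWord
    set q := ev p.s7 pWord
    have hr : r ∈ D := hS.pal_mem hD _ _
    have hq : q ∈ D := hS.pal_mem hD _ _
    have e1 : p.a * r * p.c * x * p.e * p.h * q = 1 := by
      have h9 := e7_pow p hD hprim h22
      have e := hS.ev_eq hD Presented.Y332.z_seven
      rw [Presented.Y332.ev_pow, sevenWord] at e
      simp only [Presented.Y332.ev_append] at e
      simp only [coxWord, Presented.Y332.ev_cons, Presented.Y332.ev_nil, one_mul] at e
      replace e := h9.symm.trans e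
      simp only [r, q, x, mul_assoc] at e ⊢
      exact e.symm
    have k1 := hS.pair hD Presented.Y332.pair_ar
    have k2 := hS.pair hD Presented.Y332.pair_ap
    have k3 := hS.pair hD Presented.Y332.pair_rp
    simp only [Presented.Y332.ev_singleton] at k1 k2 k3
    have ahne : p.a ≠ p.h := fun e => p.ndh (e ▸ p.cad.symm)
    have h3 : IsFrameProd D 3 (r * p.a * q) := by
      have car : Commute p.a r := k1.1.2 p.ceh
      have caq : Commute p.a q := k2.1.2 p.ceh
      have crq : Commute r q := k3.1.2 p.cah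
      have n1 : p.a ≠ r := fun k => ene_h (k1.2 k)
      have n2 : p.a ≠ q := fun k => ene_h (k2.2 k)
      have n3 : r ≠ q := fun k => ahne (k3.2 k)
      exact ⟨[r, p.a, q], by simp [n1.symm, n2, n3], rfl, by simp [hr, p.ma, hq],
        by simp [car, car.symm, caq, caq.symm, crq, crq.symm], by simp [mul_assoc]⟩
    have e3 : p.c * p.e * x * p.h = r * p.a * q := by
      rw [mul_assoc p.c, ← cxe.eq]
      calc p.c * (x * p.e) * p.h
          = (p.a * r)⁻¹ * (p.a * r * p.c * x * p.e * p.h * q) * q⁻¹ := by group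
        _ = r * p.a * q := by rw [e1, mul_one, mul_inv_rev, inv_eq hD.1 hr, inv_eq hD.1 p.ma, inv_eq hD.1 hq]
    exact absurd (H.len_unique (by norm_num) (by norm_num) (by norm_num) (by norm_num) h2 (e3 ▸ h3))
      (by norm_num)
  have hli : LinearIndependent M.F ![Ev, Fv, Xv, Iv, Hv] := by
    refine Fintype.linearIndependent_iff.2 fun m hm => ?_
    simp only [Fin.sum_univ_five] at hm
    have k1 := congrArg (M.h Ev) hm
    have k2 := congrArg (M.h Hv) hm
    have k3 := congrArg (M.h Fv) hm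
    have k4 := congrArg (M.h Iv) hm
    simp [hEv.iso, hHv.iso, hFv.iso, hIv.iso, EX, EI, EH, FI, FH, XH, cz EX, cz EI, cz EH, cz FI,
      cz FH, cz XH] at k1 k2 k3 k4
    have m1 : m 1 = 0 := k1.resolve_right fun e => FE (cz e)
    have m3 : m 3 = 0 := k2.resolve_right fun e => IH (cz e)
    have m2 : m 2 = 0 := by
      by_contra hne
      simp [m1, m3] at hm
      by_cases m4 : m 4 = 0
      · rw [m4, zero_mul, add_zero] at k4
        exact mul_ne_zero hne IX k4
      refine notline (-((m 4)⁻¹ * m 0)) (-((m 4)⁻¹ * m 2)) ?_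
      rw [← inv_smul_smul₀ m4 Hv, eq_neg_of_add_eq_zero_right hm]
      module
    have m0 : m 0 = 0 := by
      rw [m2, zero_mul, add_zero] at k3
      exact (mul_eq_zero.1 k3).resolve_right FE
    have m4 : m 4 = 0 := by
      rw [m2, zero_mul, zero_add] at k4
      exact (mul_eq_zero.1 k4).resolve_right IH
    intro i
    fin_cases i <;> assumption
  set u := (M.h Fv Xv * M.h Iv Hv) • Ev + (M.h Fv Ev * M.h Iv Hv) • Xv + (M.h Fv Ev * M.h Iv Xv) • Hv
    with hu_def
  have hperp : ∀ i, M.h (![Ev, Fv, Xv, Iv, Hv] i) u = 0 := by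
    intro i
    fin_cases i <;> simp [hu_def, hEv.iso, hXv.iso, hHv.iso, EX, EH, XH, cz EX, cz EI, cz EH, FH, cz XH]
    · linear_combination (M.h Fv Xv * M.h Iv Hv * M.h Fv Ev) * M.c.two
    · linear_combination (M.h Fv Ev * M.h Iv Hv * M.h Iv Xv) * M.c.two
  have hu : M.h u u = 0 := by
    simp [hu_def, hEv.iso, hXv.iso, hHv.iso, EX, EH, XH, cz EX, cz EH, cz XH]
  have hu0 : u ≠ 0 := fun e => by
    refine notline (-((M.h Fv Ev * M.h Iv Xv)⁻¹ * (M.h Fv Xv * M.h Iv Hv)))
      (-((M.h Fv Ev * M.h Iv Xv)⁻¹ * (M.h Fv Ev * M.h Iv Hv))) ?_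
    rw [hu_def] at e
    have hne := mul_ne_zero FE IX
    generalize M.h Fv Xv * M.h Iv Hv = α at e ⊢
    generalize M.h Fv Ev * M.h Iv Hv = β at e ⊢
    generalize M.h Fv Ev * M.h Iv Xv = γ at e hne ⊢
    rw [← inv_smul_smul₀ hne Hv, eq_neg_of_add_eq_zero_right e]
    module
  have one_of_sq : T * T = 1 → T = 1 := fun k => by rw [k, mul_one] at T3; exact T3
  rcases H.eq_of_five p.mc (hcT 1) M (x := ![p.e, p.f, x, p.i, p.h]) (v := ![Ev, Fv, Xv, Iv, Hv])
      (fun i => by fin_cases i <;> assumption) hli (fun i hi => by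
        fin_cases i
        · exact absurd rfl hi
        · exact ⟨0, by decide, fun k => FE (cz k)⟩
        · exact ⟨1, by decide, FX⟩
        · exact ⟨2, by decide, fun k => IX (cz k)⟩
        · exact ⟨3, by decide, IH⟩)
      (fun i => by fin_cases i <;> first | exact hcT 3 | exact hcT 4 | exact Tx | exact hcT 6 | exact hcT 5)
      hu0 hu hperp with e | e | ⟨z, hz, e | e⟩
  · exact e
  · exact one_of_sq (by rw [e]; exact sq p.mc)
  · exact one_of_sq (by rw [e]; exact sq hz.mem.1)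
  · exact one_of_sq (by
      rw [e, hz.mem.2.2.mul_mul_mul_comm, sq hz.mem.1, sq p.mc, one_mul])

end Pattern

end Cfsg.Agent.Transpos
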