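import Mathlib
import Cfsg.Prelude.Def_SporadicB

/-!
# 3-transpositions: elementary facts
-/

set_option autoImplicit false

namespace Cfsg.Agent.Transpos

variable {G : Type*} [Group G] {E : Set G}

theorem sq_one (hE : IsThreeTranspositionSet E) {d : G} (hd : d ∈ E) : d * d = 1 := by
  have h := hE.1 d hd
  have h2 : d ^ 2 = 1 := h ▸ pow_orderOf_eq_one d
  rw [← sq, h2]

theorem inv_eq (hE : IsThreeTranspositionSet E) {d : G} (hd : d ∈ E) : d⁻¹ = d :=
  inv_eq_of_mul_eq_one_left (sq_one hE hd)

theorem ne_one (hE : IsThreeTranspositionSet E) {d : G} (hd : d ∈ E) : d ≠ 1 := by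
  intro h
  have := hE.1 d hd
  simp [h] at this

theorem commute_iff_sq (hE : IsThreeTranspositionSet E) {a b : G} (ha : a ∈ E) (hb : b ∈ E) :
    Commute a b ↔ (a * b) ^ 2 = 1 := by
  constructor
  · intro h
    rw [h.mul_pow, sq, sq, sq_one hE ha, sq_one hE hb, one_mul]
  · intro h
    have h1 : (a * b)⁻¹ = a * b := inv_eq_of_mul_eq_one_left (by rw [← sq]; exact h)
    rw [mul_inv_rev, inv_eq hE ha, inv_eq hE hb] at h1
    exact h1.symm

theorem pow_three_of_not_commute (hE : IsThreeTranspositionSet E) {a b : G} (ha : a ∈ E)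
    (hb : b ∈ E) (h : ¬ Commute a b) : (a * b) ^ 3 = 1 :=
  (hE.2 a ha b hb).resolve_left fun h2 => h ((commute_iff_sq hE ha hb).2 h2)

theorem orderOf_mul_eq_three (hE : IsThreeTranspositionSet E) {a b : G} (ha : a ∈ E)
    (hb : b ∈ E) (h : ¬ Commute a b) : orderOf (a * b) = 3 := by
  have hne : a * b ≠ 1 := by
    intro h1
    apply h
    rw [eq_inv_of_mul_eq_one_left h1, inv_eq hE hb]
  exact orderOf_eq_prime (pow_three_of_not_commute hE ha hb h) hne

/-- The braid relation. -/
theorem braid (hE : IsThreeTranspositionSet E) {a b : G} (ha : a ∈ E) (hb : b ∈ E)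
    (h : ¬ Commute a b) : a * b * a = b * a * b := by
  have h3 := pow_three_of_not_commute hE ha hb h
  have h1 : (a * b * a) * (b * a * b) = 1 := by
    rw [← h3, pow_succ, pow_succ, pow_one]; group
  have h2 := eq_inv_of_mul_eq_one_left h1
  rw [mul_inv_rev, mul_inv_rev, inv_eq hE ha, inv_eq hE hb, ← mul_assoc] at h2
  exact h2

theorem mul_mul_cancel (hE : IsThreeTranspositionSet E) {a : G} (ha : a ∈ E) (x : G) :
    a * (a * x) = x := by rw [← mul_assoc, sq_one hE ha, one_mul]

theorem conj_involutive (hE : IsThreeTranspositionSet E) {a : G} (ha : a ∈ E) (x : G) :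
    a * (a * x * a) * a = x := by
  simp [mul_assoc, mul_mul_cancel hE ha, sq_one hE ha]

theorem conj_of_commute (hE : IsThreeTranspositionSet E) {a x : G} (ha : a ∈ E)
    (h : Commute a x) : a * x * a = x := by
  rw [h.eq, mul_assoc, sq_one hE ha, mul_one]

theorem commute_of_conj (hE : IsThreeTranspositionSet E) {a x : G} (ha : a ∈ E)
    (h : a * x * a = x) : Commute a x := by
  have : a * x * a * a = x * a := by rw [h]
  rw [mul_assoc, sq_one hE ha, mul_one] at this
  exact this

/-- If `e` commutes with the product of two commuting members of `E`, it commutes with both. -/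
theorem commute_both (hE : IsThreeTranspositionSet E) {a b e : G} (ha : a ∈ E) (hb : b ∈ E)
    (he : e ∈ E) (hab : a ≠ b) (hcomm : Commute a b) (h : Commute e (a * b)) :
    Commute e a ∧ Commute e b := by
  have hc : e * (a * b) * e = a * b := conj_of_commute hE he h
  have hsplit : (e * a * e) * (e * b * e) = a * b := by
    conv_rhs => rw [← hc]
    simp [mul_assoc, mul_mul_cancel hE he]
  by_cases hea : Commute e a
  · refine ⟨hea, commute_of_conj hE he ?_⟩
    rw [conj_of_commute hE he hea] at hsplit
    exact mul_left_cancel hsplit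
  by_cases heb : Commute e b
  · refine absurd ?_ hea
    rw [conj_of_commute hE he heb] at hsplit
    exact commute_of_conj hE he (mul_right_cancel hsplit)
  exfalso
  rw [braid hE he ha hea, braid hE he hb heb] at hsplit
  simp only [mul_assoc] at hsplit
  have h1 : e * (a * (b * (e * b))) = b := mul_left_cancel hsplit
  have h2 : (e * (a * b) * e) * b = b := by simpa only [mul_assoc] using h1
  rw [hc] at h2
  have h3 : a * b = 1 := mul_eq_right.1 h2
  rw [eq_inv_of_mul_eq_one_left h3, inv_eq hE hb] at hab
  exact hab rfl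

/-- If `e` commutes with the product of three commuting members of `E`, it commutes with each. -/
theorem commute_three (hE : IsThreeTranspositionSet E) {a b c e : G} (ha : a ∈ E) (hb : b ∈ E)
    (hc : c ∈ E) (he : e ∈ E) (hab : a ≠ b) (hac : a ≠ c) (hbc : b ≠ c) (h₁ : Commute a b)
    (h₂ : Commute a c) (h₃ : Commute b c) (h : Commute e (a * b * c)) :
    Commute e a ∧ Commute e b ∧ Commute e c := by
  by_cases hea : Commute e a
  · refine ⟨hea, commute_both hE hb hc he hbc h₃ ?_⟩
    have := hea.mul_right h
    rwa [mul_assoc a b c, mul_mul_cancel hE ha] at this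
  by_cases hec : Commute e c
  · have : Commute e (a * b) := by
      have := h.mul_right hec
      rwa [mul_assoc (a * b) c c, sq_one hE hc, mul_one] at this
    exact absurd (commute_both hE ha hb he hab h₁ this).1 hea
  by_cases heb : Commute e b
  · have : Commute e (a * c) := by
      have := h.mul_right heb
      rwa [mul_assoc (a * b) c b, ← h₃.eq, ← mul_assoc, mul_assoc a b b, sq_one hE hb, mul_one] at this
    exact absurd (commute_both hE ha hc he hac h₂ this).1 hea
  exfalso
  have ee := mul_mul_cancel hE he
  have bba := mul_mul_cancel hE hb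
  have hsplit : (e * a * e) * ((e * b * e) * (e * c * e)) = a * (b * c) := by
    rw [← mul_assoc a b c, ← conj_of_commute hE he h]
    simp [mul_assoc, ee]
  rw [braid hE he ha hea, braid hE he hb heb, braid hE he hc hec] at hsplit
  simp only [mul_assoc] at hsplit
  have h1 := mul_left_cancel hsplit
  -- h1 : e * (a * (b * (e * (b * (c * (e * c)))))) = b * c
  have h2 : (e * (a * b) * e) * (b * c * e) * c = b * c := by simpa only [mul_assoc] using h1
  have h3 : (e * (a * b) * e) * (b * c * e) = b := mul_right_cancel h2
  have h4 : e * (a * b) * e = b * e * (b * c) := by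
    have h5 := eq_mul_inv_of_mul_eq h3
    rw [mul_inv_rev, mul_inv_rev, inv_eq hE he, inv_eq hE hb, inv_eq hE hc] at h5
    rw [h5, h₃.eq]
    simp [mul_assoc]
  have hab2 : (e * (a * b) * e) * (e * (a * b) * e) = 1 := by
    have : (a * b) * (a * b) = 1 := by rw [← sq]; exact (commute_iff_sq hE ha hb).1 h₁
    simp only [mul_assoc, ee]
    simp only [mul_assoc] at this
    calc e * (a * (b * (a * (b * e)))) = e * ((a * (b * (a * b))) * e) := by simp [mul_assoc]
      _ = 1 := by rw [this, one_mul, sq_one hE he]
  rw [h4] at hab2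
  have h6 := eq_inv_of_mul_eq_one_left hab2
  simp only [mul_inv_rev, inv_eq hE he, inv_eq hE hb, inv_eq hE hc] at h6
  -- h6 : b * e * (b * c) = c * b * (e * b)
  have hk : Commute (b * e * b) c := by
    show b * e * b * c = c * (b * e * b)
    simpa only [mul_assoc] using h6
  apply hec
  have hkb : Commute (b * (b * e * b) * b) (b * c * b) := by
    show b * (b * e * b) * b * (b * c * b) = b * c * b * (b * (b * e * b) * b)
    have e1 : b * (b * e * b) * b * (b * c * b) = b * ((b * e * b) * c) * b := by
      simp [mul_assoc, bba]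
    have e2 : b * c * b * (b * (b * e * b) * b) = b * (c * (b * e * b)) * b := by
      simp [mul_assoc, bba]
    rw [e1, e2, hk.eq]
  rwa [conj_involutive hE hb, conj_of_commute hE hb h₃] at hkb

end Cfsg.Agent.Transpos
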