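import Cfsg.Agent.Lib.Transpos.M22Relators
import Cfsg.Agent.Lib.Presented.FiOrder

/-!
# A group of type M(22) is the presented Fischer group Fi22

`exists_fi22_iso`: an isomorphism from `Fi22` carries the class of the first generator onto the class of
transpositions.
-/

set_option autoImplicit false
set_option linter.unusedSimpArgs false
set_option linter.style.haveILetI false

namespace Cfsg.Agent.Transpos

open Cfsg Cfsg.Spor Cfsg.Agent.Presented

variable {G : Type*} [Group G] [Finite G] {D : Set G}

/-- The pattern as images of the generators. -/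
def Pattern.val (p : Pattern D) : Fi22.Gen → G
  | .a => p.a | .b => p.b | .c => p.c | .d => p.d | .e => p.e | .f => p.f | .g => p.g | .h => p.h | .i => p.i

omit [Finite G] in
theorem Pattern.val_mem (p : Pattern D) (x : Fi22.Gen) : p.val x ∈ D := by
  cases x
  exacts [p.ma, p.mb, p.mc, p.md, p.me, p.mf, p.mg, p.mh, p.mi]

/-- The isomorphism of a pattern, with the images of all generators. -/
theorem exists_fi22_iso' (hD : IsThreeTranspositionGroup D) (hprim : IsPrimitiveUnderConj D)
    (h22 : IsOfTypeM22 G D) : ∃ e : Fi22 ≃* G, e '' conjugatesOf (FiIndex.gen 0) = D ∧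
      ∀ x : Fi22.Gen, e (PresentedGroup.of x) ∈ D := by
  obtain ⟨p⟩ := M22.exists_pattern hD hprim h22
  have sq := fun x => sq_one hD.1 (p.val_mem x)
  have c2 : ∀ {y w : G}, y ∈ D → w ∈ D → Commute y w → (y * w) ^ 2 = 1 := fun hy hw k =>
    (commute_iff_sq hD.1 hy hw).1 k
  have c3 : ∀ {y w : G}, y ∈ D → w ∈ D → ¬ Commute y w → (y * w) ^ 3 = 1 := fun hy hw k =>
    pow_three_of_not_commute hD.1 hy hw k
  have num : ∀ x : Fi22.Gen, x ∈ [Fi22.Gen.a, .b, .c, .d, .e, .f, .g, .h, .i] := fun x => by
    cases x <;> simp
  have hcomm : ∀ x y : Fi22.Gen, x ≠ y → coxLabel Fi22.edges x y = 2 → Commute (p.val x) (p.val y) := by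
    intro x y hne hl
    cases x <;> cases y <;>
      first
        | exact absurd rfl hne
        | exact absurd hl (by decide)
        | (dsimp only [Pattern.val]
           first
            | exact p.cac | exact p.cac.symm | exact p.cad | exact p.cad.symm
            | exact p.cae | exact p.cae.symm | exact p.caf | exact p.caf.symm
            | exact p.cag | exact p.cag.symm | exact p.cah | exact p.cah.symm
            | exact p.cai | exact p.cai.symm | exact p.cbd | exact p.cbd.symm
            | exact p.cbe | exact p.cbe.symm | exact p.cbf | exact p.cbf.symm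
            | exact p.cbg | exact p.cbg.symm | exact p.cbh | exact p.cbh.symm
            | exact p.cbi | exact p.cbi.symm | exact p.cce | exact p.cce.symm
            | exact p.ccf | exact p.ccf.symm | exact p.ccg | exact p.ccg.symm
            | exact p.cch | exact p.cch.symm | exact p.cci | exact p.cci.symm
            | exact p.cdf | exact p.cdf.symm | exact p.cdg | exact p.cdg.symm
            | exact p.cdi | exact p.cdi.symm | exact p.ceg | exact p.ceg.symm
            | exact p.ceh | exact p.ceh.symm | exact p.cei | exact p.cei.symm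
            | exact p.cfh | exact p.cfh.symm | exact p.cfi | exact p.cfi.symm
            | exact p.cgh | exact p.cgh.symm | exact p.cgi | exact p.cgi.symm)
  have hnc : ∀ x y : Fi22.Gen, coxLabel Fi22.edges x y = 3 → ¬ Commute (p.val x) (p.val y) := by
    intro x y hl
    cases x <;> cases y <;>
      first
        | exact absurd hl (by decide)
        | (dsimp only [Pattern.val]
           first
            | exact p.nab | exact p.nbc | exact p.ncd | exact p.nde | exact p.ndh | exact p.nef
            | exact p.nfg | exact p.nhi | exact fun k => p.nab k.symm | exact fun k => p.nbc k.symm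
            | exact fun k => p.ncd k.symm | exact fun k => p.nde k.symm | exact fun k => p.ndh k.symm
            | exact fun k => p.nef k.symm | exact fun k => p.nfg k.symm | exact fun k => p.nhi k.symm)
  have hlab : ∀ x y : Fi22.Gen, x ≠ y →
      coxLabel Fi22.edges x y = 2 ∨ coxLabel Fi22.edges x y = 3 := by
    intro x y hne
    cases x <;> cases y <;> first | exact absurd rfl hne | exact Or.inl (by decide) | exact Or.inr (by decide)
  have hrel : ∀ r ∈ coxRelators Fi22.edges ∪ {r | r ∈ Fi22.extra}, FreeGroup.lift p.val r = 1 := by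
    rintro r (⟨x, -, y, -, rfl⟩ | hr)
    · rw [map_pow, map_mul, FreeGroup.lift_apply_of, FreeGroup.lift_apply_of]
      by_cases hxy : x = y
      · subst hxy
        rw [show coxLabel Fi22.edges x x = 1 by simp [coxLabel], pow_one, sq]
      rcases hlab x y hxy with e | e <;> rw [e]
      · exact c2 (p.val_mem x) (p.val_mem y) (hcomm x y hxy e)
      · exact c3 (p.val_mem x) (p.val_mem y) (hnc x y e)
    · simp only [Set.mem_ofPred_eq, Fi22.extra, List.mem_cons, List.not_mem_nil, or_false] at hr
      rcases hr with rfl | rfl | rfl <;>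
        simp only [map_pow, map_mul, FreeGroup.lift_apply_of, Pattern.val]
      · exact p.spider_pow hD hprim h22
      · exact p.e7_pow hD hprim h22
      · exact p.e7_pow' hD hprim h22
  let φ : Fi22 →* G := PresentedGroup.toGroup hrel
  have hφ : ∀ x, φ (PresentedGroup.of x) = p.val x := fun x => PresentedGroup.toGroup.of _
  haveI := FiOrder.card_le.1
  haveI := FiOrder.simple_fi22
  have hinj : Function.Injective φ := by
    rw [← MonoidHom.ker_eq_bot_iff]
    refine (IsSimpleGroup.eq_bot_or_eq_top_of_normal _ inferInstance).resolve_right fun h => ?_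
    refine ne_one hD.1 p.ma ((hφ .a).symm.trans (MonoidHom.mem_ker.1 ?_))
    rw [h]
    trivial
  have hcard : Nat.card G ≤ Nat.card Fi22 := le_of_eq (by
    rw [card_m22 hD hprim h22, FiOrder.card_fi22]; norm_num)
  let e := MulEquiv.ofBijective φ (hinj.bijective_of_nat_card_le hcard)
  have he : ∀ x, e x = φ x := fun x => rfl
  refine ⟨e, ?_, fun x => ?_⟩
  · have h0 : FiIndex.gen 0 = (PresentedGroup.of Fi22.Gen.a : Fi22) := rfl
    have h1 : e (FiIndex.gen 0) = p.a := by rw [h0, he, hφ]; rfl
    ext y
    constructor
    · rintro ⟨x, hx, rfl⟩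
      obtain ⟨g, rfl⟩ := isConj_iff.1 hx
      rw [map_mul, map_mul, map_inv, h1]
      exact hD.2.1 (e g) _ p.ma
    · intro hy
      obtain ⟨g, rfl⟩ := hprim.1 _ p.ma y hy
      refine ⟨e.symm g * FiIndex.gen 0 * (e.symm g)⁻¹, isConj_iff.2 ⟨e.symm g, rfl⟩, ?_⟩
      rw [map_mul, map_mul, map_inv, h1, e.apply_symm_apply]
  · rw [he, hφ]
    exact p.val_mem x

/-- A group of type M(22) is `Fi22`, with the transpositions the class of the first generator. -/
theorem exists_fi22_iso {G : Type*} [Group G] [Finite G] {D : Set G} (hD : IsThreeTranspositionGroup D)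
    (hprim : IsPrimitiveUnderConj D) (h22 : IsOfTypeM22 G D) :
    ∃ e : Cfsg.Spor.Fi22 ≃* G, e '' conjugatesOf (Presented.FiIndex.gen 0) = D :=
  let ⟨e, he, _⟩ := exists_fi22_iso' hD hprim h22
  ⟨e, he⟩

end Cfsg.Agent.Transpos
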