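import Cfsg.Agent.Lib.SmallSimple.CentralizerOrbits

/-!
# Subgroups of prime order that are Sylow subgroups

`conj_of_prime_card`: if `p²` does not divide the group order, all subgroups of order `p` are conjugate.
`normalizer_data`: then `|N(X)| = |C(X)| e` with `e ∣ p - 1` and `|G : N(X)| ≡ 1 (mod p)`.
`exists_split`: a subgroup of order `2 m` (`m` odd) with a central involution is a direct product.
-/

set_option autoImplicit false

namespace Cfsg.Agent.Transpos

variable {G : Type*} [Group G] [Finite G]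

theorem exists_sylow_eq {p : ℕ} [hp : Fact p.Prime] (hp2 : ¬ p ^ 2 ∣ Nat.card G) {X : Subgroup G}
    (hX : Nat.card X = p) : ∃ P : Sylow p G, (P : Subgroup G) = X := by
  have h1 : p ∣ Nat.card G := hX ▸ X.card_subgroup_dvd_card
  have h2 : (Nat.card G).factorization p = 1 := by
    have hne : Nat.card G ≠ 0 := Nat.card_pos.ne'
    have hle := (hp.out.pow_dvd_iff_le_factorization hne (k := 1)).1 (by rwa [pow_one])
    by_contra hc
    exact hp2 ((hp.out.pow_dvd_iff_le_factorization hne).2 (by omega))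
  exact ⟨Sylow.ofCard X (by rw [hX, h2, pow_one]), rfl⟩

/-- Subgroups of order `p` are conjugate when `p²` does not divide the order. -/
theorem conj_of_prime_card {p : ℕ} [hp : Fact p.Prime] (hp2 : ¬ p ^ 2 ∣ Nat.card G)
    {X Y : Subgroup G} (hX : Nat.card X = p) (hY : Nat.card Y = p) :
    ∃ g : G, X.map (MulAut.conj g).toMonoidHom = Y := by
  obtain ⟨P, rfl⟩ := exists_sylow_eq hp2 hX
  obtain ⟨Q, rfl⟩ := exists_sylow_eq hp2 hY
  obtain ⟨g, hg⟩ := MulAction.exists_smul_eq G P Q
  exact ⟨g, by rw [← hg]; rfl⟩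

/-- The normaliser of a Sylow subgroup of prime order. -/
theorem normalizer_data {p : ℕ} [hp : Fact p.Prime] (hp2 : ¬ p ^ 2 ∣ Nat.card G) {X : Subgroup G}
    (hX : Nat.card X = p) : ∃ e, e ∣ p - 1 ∧
      Nat.card (Subgroup.normalizer (X : Set G)) = Nat.card (Subgroup.centralizer (X : Set G)) * e ∧
      Nat.card G / Nat.card (Subgroup.normalizer (X : Set G)) % p = 1 := by
  obtain ⟨P, rfl⟩ := exists_sylow_eq hp2 hX
  have hdvd := SmallSimple.card_normalizer_dvd P hX
  obtain ⟨e, he⟩ : Nat.card (Subgroup.centralizer ((P : Subgroup G) : Set G)) ∣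
      Nat.card (Subgroup.normalizer ((P : Subgroup G) : Set G)) :=
    Subgroup.card_dvd_of_le (SmallSimple.centralizer_le_normalizer _)
  refine ⟨e, Nat.dvd_of_mul_dvd_mul_left Nat.card_pos (he ▸ hdvd), he, ?_⟩
  rw [← SmallSimple.card_sylow_mul_card_normalizer P, Nat.mul_div_cancel _ Nat.card_pos]
  have := card_sylow_modEq_one p G
  rw [Nat.ModEq, Nat.mod_eq_of_lt hp.out.one_lt] at this
  exact this

/-- A subgroup of order twice an odd number with a central involution splits. -/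
theorem exists_split {N : Subgroup G} {a : G} (ha : orderOf a = 2) (haN : a ∈ N)
    (hc : ∀ x ∈ N, Commute a x) {m : ℕ} (hm : Odd m) (hN : Nat.card N = 2 * m) :
    ∃ F : Subgroup G, Nat.card F = m ∧ F ⊓ Subgroup.zpowers a = ⊥ ∧
      (∀ x ∈ F, ∀ y ∈ Subgroup.zpowers a, x * y = y * x) ∧ F ⊔ Subgroup.zpowers a = N ∧
      ∀ x ∈ N, orderOf x ∣ m → x ∈ F := by
  set Z := (Subgroup.zpowers a).subgroupOf N with hZ
  have hle : Subgroup.zpowers a ≤ N := Subgroup.zpowers_le.2 haN
  have hZcard : Nat.card Z = 2 := by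
    rw [hZ, Nat.card_congr (Subgroup.subgroupOfEquivOfLe hle).toEquiv, Nat.card_zpowers, ha]
  have hcomm : ∀ x ∈ N, ∀ y ∈ Subgroup.zpowers a, x * y = y * x := by
    intro x hx y hy
    obtain ⟨k, rfl⟩ := Subgroup.mem_zpowers_iff.1 hy
    exact ((hc x hx).zpow_left k).symm.eq
  haveI : Z.Normal := ⟨fun z hz g => by
    have : g * z = z * g := Subtype.ext (hcomm g g.2 z hz)
    rwa [this, mul_inv_cancel_right]⟩
  have hindex : Z.index = m := by
    have := Z.card_mul_index
    rw [hZcard, hN] at this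
    omega
  obtain ⟨K, hK⟩ := Subgroup.exists_right_complement'_of_coprime (N := Z)
    (by rw [hZcard, hindex]; exact hm.coprime_two_left)
  have hKcard : Nat.card K = m := by
    have := hK.card_mul
    rw [hZcard, hN] at this
    omega
  have hKF : Nat.card (K.map N.subtype) = m := by
    rw [Subgroup.card_map_of_injective N.subtype_injective, hKcard]
  have hle' : K.map N.subtype ≤ N := Subgroup.map_subtype_le K
  have hinf : K.map N.subtype ⊓ Subgroup.zpowers a = ⊥ := by
    rw [Subgroup.eq_bot_iff_forall]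
    rintro _ ⟨⟨x, hx, rfl⟩, hxa⟩
    have : x ∈ (Z ⊓ K) := ⟨hxa, hx⟩
    rw [disjoint_iff.1 hK.disjoint] at this
    simp only [Subgroup.mem_bot] at this
    simp [this]
  refine ⟨K.map N.subtype, hKF, hinf, fun x hx => hcomm x (hle' hx), ?_, fun x hx hxm => ?_⟩
  · refine le_antisymm (sup_le hle' hle) fun x hx => ?_
    obtain ⟨⟨z, k⟩, hzk⟩ := (hK.existsUnique ⟨x, hx⟩).exists
    rw [show x = (z.1 : G) * (k.1 : G) from (congrArg Subtype.val hzk).symm]
    exact mul_mem ((le_sup_right : _ ≤ K.map N.subtype ⊔ _) z.2)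
      ((le_sup_left : _ ≤ K.map N.subtype ⊔ _) ⟨k.1, k.2, rfl⟩)
  · obtain ⟨⟨z, k⟩, hzk, -⟩ := hK.existsUnique ⟨x, hx⟩
    have hx' : x = (z.1 : G) * (k.1 : G) := (congrArg Subtype.val hzk).symm
    have hcz : Commute (z.1 : G) (k.1 : G) := (hcomm _ k.1.2 _ z.2).symm
    have h1 : ((z.1 : G)) ^ m * ((k.1 : G)) ^ m = 1 := by
      rw [← hcz.mul_pow, ← hx', orderOf_dvd_iff_pow_eq_one.1 hxm]
    have h2 : ((k.1 : G)) ^ m = 1 := by
      have := congrArg (fun y : K => ((y : N) : G)) (pow_card_eq_one' (x := k))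
      simpa [hKcard] using this
    rw [h2, mul_one] at h1
    have h3 : orderOf (z.1 : G) ∣ m := orderOf_dvd_iff_pow_eq_one.2 h1
    have h4 : orderOf (z.1 : G) ∣ 2 := by
      have hz : (z.1 : G) ∈ Subgroup.zpowers a := z.2
      rw [← ha, ← Nat.card_zpowers a]
      exact Subgroup.orderOf_dvd_natCard _ hz
    have h5 : orderOf (z.1 : G) = 1 :=
      Nat.dvd_one.1 (hm.coprime_two_left ▸ Nat.dvd_gcd h4 h3 : _ ∣ 1)
    rw [orderOf_eq_one_iff] at h5
    rw [hx', h5, one_mul]
    exact ⟨k.1, k.2, rfl⟩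

end Cfsg.Agent.Transpos
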