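import Cfsg.Agent.Lib.Transpos.M22Cent
import Cfsg.Agent.Lib.Forms.HermStab
import Cfsg.Agent.Lib.Forms.Classify

/-!
# Counting members through the points of the unitary space

* `ncard_dc`: a member commutes with 693 others; `ncard_off`: 512 of these do not commute with a given one.
* `common_le`: two non-commuting members have at most 198 common commuting members: their images meet
  each totally isotropic plane in an arc, so in at most six of its 21 points, and the group is transitive.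
-/

set_option autoImplicit false
set_option linter.style.haveILetI false

namespace Cfsg.Agent.Transpos

open Cfsg Cfsg.Agent.ClassicalSimple

namespace U6.Ctx

variable {F : Type} [Field F] {σ : F →+* F}
  {h : (Fin 6 → F) →ₛₗ[σ] (Fin 6 → F) →ₗ[F] F} (c : U6.Ctx σ h)
include c

theorem card_field : Nat.card F = 4 := by
  classical
  obtain ⟨w, hw0, hw, -⟩ := c.exists_omega
  have hw1 : w ≠ 1 := fun e => one_ne_zero (α := F) (by
    subst e; linear_combination hw - c.two)
  have hww1 : w * w ≠ 1 := fun e => hw0 (by linear_combination hw - c.two - e)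
  have hwww : w * w ≠ w := fun e => hw1 (mul_left_cancel₀ hw0 (e.trans (mul_one w).symm))
  have hall : ∀ x : F, x = 0 ∨ x = 1 ∨ x = w ∨ x = w * w := by
    intro x
    rcases eq_or_ne x 0 with h0 | h0
    · exact Or.inl h0
    right
    have e : (x - 1) * ((x - w) * (x - w * w)) = 0 := by
      linear_combination c.cube x h0 - x * x * hw + x * (w * hw) - (w - 1) * hw
    rcases mul_eq_zero.1 e with e | e
    · exact Or.inl (sub_eq_zero.1 e)
    rcases mul_eq_zero.1 e with e | e
    · exact Or.inr (Or.inl (sub_eq_zero.1 e))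
    · exact Or.inr (Or.inr (sub_eq_zero.1 e))
  have hu : (Set.univ : Set F) = {0, 1, w, w * w} := Set.ext fun x => by simpa using hall x
  rw [← Set.ncard_univ, hu, Set.ncard_insert_of_notMem, Set.ncard_insert_of_notMem, Set.ncard_pair]
  · exact fun e => hwww e.symm
  · simp [Ne.symm hw1, Ne.symm hww1]
  · simp [Ne.symm hw0, Ne.symm (mul_ne_zero hw0 hw0)]

theorem card_ne_zero_field : Nat.card {m : F // m ≠ 0} = 3 := by
  classical
  haveI : Finite F := Nat.finite_of_card_ne_zero (by rw [c.card_field]; norm_num)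
  have h1 : Nat.card {m : F // m = 0} = 1 :=
    Nat.card_eq_one_iff_unique.2 ⟨inferInstance, ⟨⟨0, rfl⟩⟩⟩
  have h2 : Nat.card {m : F // m = 0} + Nat.card {m : F // m ≠ 0} = Nat.card F := by
    rw [← Nat.card_sum]
    exact Nat.card_congr (Equiv.sumCompl fun m : F => m = 0)
  rw [c.card_field, h1] at h2
  omega

/-- Coordinates in which the form is the standard one. -/
theorem exists_coords : ∃ (e : (Fin 6 → F) ≃ₗ[F] (Fin 6 → F)),
    ∀ x y, h x y = hermForm 6 F 2 (e y) (e x) := by
  classical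
  haveI : Finite F := Nat.finite_of_card_ne_zero (by rw [c.card_field]; norm_num)
  haveI : Fintype F := Fintype.ofFinite F
  have hF : Fintype.card F = 2 ^ 2 := by rw [← Nat.card_eq_fintype_card, c.card_field]; norm_num
  obtain rfl : σ = Forms.qEnd hF := by
    ext x
    rw [Forms.qEnd_apply]
    rcases eq_or_ne x 0 with rfl | h0
    · simp
    · rw [pow_two]
      exact mul_right_cancel₀ h0 ((c.norm x h0).trans (c.cube x h0).symm)
  have := Forms.exists_herm_coords hF (B := h) (fun x y => (c.form.swap x y).symm) c.form.sep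
  rw [c.dim] at this
  exact this

theorem card_iso : Nat.card {v : Fin 6 → F // h v v = 0 ∧ v ≠ 0} = 2079 := by
  classical
  obtain ⟨e, he⟩ := c.exists_coords
  haveI : Finite F := Nat.finite_of_card_ne_zero (by rw [c.card_field]; norm_num)
  haveI : Fintype F := Fintype.ofFinite F
  have hF : Fintype.card F = 2 ^ 2 := by rw [← Nat.card_eq_fintype_card, c.card_field]; norm_num
  have h1 : Nat.card {v : Fin 6 → F // h v v = 0} = 2080 := by
    rw [Nat.card_congr (e.toEquiv.subtypeEquiv (q := fun v => hermForm 6 F 2 v v = 0)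
      (fun v => by rw [he]; rfl)), Forms.card_herm_isotropic hF]
    norm_num [Nat.even_iff]
  have h2 : Nat.card {v : Fin 6 → F // h v v = 0 ∧ v ≠ 0} + 1 =
      Nat.card {v : Fin 6 → F // h v v = 0} := by
    rw [← Nat.card_congr (Equiv.sumCompl fun v : {v : Fin 6 → F // h v v = 0} => v.1 = 0),
      Nat.card_sum, add_comm]
    congr 1
    · have hz : Nat.card {v : {v : Fin 6 → F // h v v = 0} // v.1 = 0} = 1 :=
        Nat.card_eq_one_iff_unique.2 ⟨⟨fun a b => Subtype.ext (Subtype.ext (a.2.trans b.2.symm))⟩,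
          ⟨⟨⟨0, LinearMap.map_zero _⟩, rfl⟩⟩⟩
      exact hz.symm
    · exact (Nat.card_congr (Equiv.subtypeSubtypeEquivSubtypeInter
        (fun v : Fin 6 → F => h v v = 0) (fun v => ¬ v = 0))).symm
  omega

/-- Isotropic vectors pairing to one with a given isotropic vector. -/
theorem card_pair_one {u : Fin 6 → F} (hu : h u u = 0) (hu0 : u ≠ 0) :
    Nat.card {v : Fin 6 → F // h v v = 0 ∧ h u v = 1} = 512 := by
  classical
  haveI : Finite F := Nat.finite_of_card_ne_zero (by rw [c.card_field]; norm_num)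
  -- the affine hyperplane
  set f : (Fin 6 → F) →+ F := (h u).toAddMonoidHom with hf
  obtain ⟨z, hz⟩ := exists_h_ne_zero c.form hu0
  set v₁ := (h u z)⁻¹ • z with hv₁
  have hv₁1 : h u v₁ = 1 := by rw [hv₁, map_smul, smul_eq_mul, inv_mul_cancel₀ hz]
  have hsurj : Function.Surjective f := fun m => ⟨m • v₁, by
    show h u (m • v₁) = m
    rw [map_smul, hv₁1, smul_eq_mul, mul_one]⟩
  have hT : Nat.card {v : Fin 6 → F // h u v = 1} = 1024 := by
    have e1 := f.ker.card_mul_index
    rw [AddSubgroup.index_ker, AddMonoidHom.range_eq_top.2 hsurj, AddSubgroup.card_top,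
      c.card_field, Nat.card_fun, c.card_field, Nat.card_fin] at e1
    have e2 : Nat.card {v : Fin 6 → F // h u v = 1} = Nat.card f.ker :=
      Nat.card_congr ((Equiv.subRight v₁).subtypeEquiv fun v => by
        show h u v = 1 ↔ h u (v - v₁) = 0
        rw [map_sub, hv₁1, sub_eq_zero])
    rw [e2]
    omega
  obtain ⟨w, -, hw, hσw, -⟩ := c.exists_omega
  have key : ∀ v, h u v = 1 → h (v + w • u) (v + w • u) = h v v + 1 ∧ h u (v + w • u) = 1 :=
    fun v hv => by
      have hvu : h v u = 1 := by rw [c.form.swap u v, hv, map_one]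
      constructor
      · simp only [map_add, map_smulₛₗ, LinearMap.add_apply, LinearMap.smul_apply, smul_eq_mul,
          RingHom.id_apply, hu, hv, hvu, hσw]
        linear_combination hw - c.two
      · simp [hv, hu]
  have hval : ∀ v : Fin 6 → F, h v v = 0 ∨ h v v = 1 := fun v =>
    (eq_or_ne (h v v) 0).imp id fun h0 => c.eq_one (c.form.σ_self v) h0
  have hneg : (1 : F) ≠ 0 := one_ne_zero
  let τ : {v : Fin 6 → F // h v v = 0 ∧ h u v = 1} ≃ {v : Fin 6 → F // h v v = 1 ∧ h u v = 1} :=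
    { toFun := fun v => ⟨v.1 + w • u, by rw [(key v.1 v.2.2).1, v.2.1, zero_add],
        (key v.1 v.2.2).2⟩
      invFun := fun v => ⟨v.1 + w • u, by rw [(key v.1 v.2.2).1, v.2.1, c.two],
        (key v.1 v.2.2).2⟩
      left_inv := fun v => Subtype.ext (by simp only [add_assoc, c.addV, add_zero])
      right_inv := fun v => Subtype.ext (by simp only [add_assoc, c.addV, add_zero]) }
  have hsum : Nat.card {v : Fin 6 → F // h v v = 0 ∧ h u v = 1} +
      Nat.card {v : Fin 6 → F // h v v = 1 ∧ h u v = 1} =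
      Nat.card {v : Fin 6 → F // h u v = 1} := by
    rw [← Nat.card_sum, ← Nat.card_congr (Equiv.sumCompl
      fun v : {v : Fin 6 → F // h u v = 1} => h v.1 v.1 = 0), Nat.card_sum, Nat.card_sum]
    congr 1
    · exact Nat.card_congr ((Equiv.subtypeEquivRight fun v => (and_comm :
        (h v v = 0 ∧ h u v = 1) ↔ _)).trans (Equiv.subtypeSubtypeEquivSubtypeInter
          (fun v : Fin 6 → F => h u v = 1) (fun v => h v v = 0)).symm)
    · refine Nat.card_congr ((Equiv.subtypeEquivRight fun v => ?_).trans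
        (Equiv.subtypeSubtypeEquivSubtypeInter
          (fun v : Fin 6 → F => h u v = 1) (fun v => ¬ h v v = 0)).symm)
      constructor
      · exact fun hv => ⟨hv.2, fun h0 => hneg (hv.1.symm.trans h0)⟩
      · exact fun hv => ⟨(hval v).resolve_left hv.2, hv.1⟩
  rw [← Nat.card_congr τ, hT] at hsum
  omega

/-- A totally isotropic plane. -/
theorem exists_plane : ∃ L : (Fin 3 → F) →ₗ[F] (Fin 6 → F),
    Function.Injective L ∧ ∀ p q, h (L p) (L q) = 0 := by
  obtain ⟨e, he⟩ := c.exists_coords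
  let P : (Fin 3 → F) →ₗ[F] (Fin 6 → F) :=
    LinearMap.funLeft F F (![0, 0, 1, 1, 2, 2] : Fin 6 → Fin 3)
  refine ⟨e.symm.toLinearMap.comp P, e.symm.injective.comp
    (LinearMap.funLeft_injective_of_surjective F F _ (by decide)), fun p q => ?_⟩
  rw [he]
  simp only [hermForm, LinearMap.comp_apply, LinearEquiv.coe_coe, LinearEquiv.apply_symm_apply,
    Fin.sum_univ_six, P, LinearMap.funLeft_apply]
  simp
  linear_combination (q 0 * p 0 ^ 2 + q 1 * p 1 ^ 2 + q 2 * p 2 ^ 2) * c.two

end U6.Ctx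

variable {G : Type*} [Group G] {D : Set G}

namespace Model

variable {a : G} (M : Model D a) (H : M22 D) (ha : a ∈ D)
include M H ha

/-- A chosen vector over a member. -/
noncomputable def vec (x : Dc D a) : Fin 6 → M.F := (M.exists_vec H ha x.2).choose

theorem isPt_vec (x : Dc D a) : M.IsPt x (vec M H ha x) := (M.exists_vec H ha x.2).choose_spec

theorem ncard_dc_aux : (Dc D a).ncard = 693 := by
  classical
  have e : (Dc D a) × {m : M.F // m ≠ 0} ≃ {v : Fin 6 → M.F // M.h v v = 0 ∧ v ≠ 0} :=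
    Equiv.ofBijective (fun p => ⟨p.2.1 • vec M H ha p.1,
      ((isPt_vec M H ha p.1).smul p.2.2).iso, ((isPt_vec M H ha p.1).smul p.2.2).ne_zero⟩) ⟨by
      rintro ⟨x, m, hm⟩ ⟨y, k, hk⟩ e
      have e' : m • vec M H ha x = k • vec M H ha y := congrArg Subtype.val e
      obtain rfl : x = y := Subtype.ext (eq_of_smul M H ha (isPt_vec M H ha x) (isPt_vec M H ha y)
        (m := k⁻¹ * m) (by rw [mul_smul, e', inv_smul_smul₀ hk]))
      exact Prod.ext rfl (Subtype.ext (smul_left_injective M.F (isPt_vec M H ha x).ne_zero e')), by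
      rintro ⟨v, hv, hv0⟩
      obtain ⟨x, hx⟩ := M.exists_mem H ha hv hv0
      obtain ⟨m, hm⟩ := smul_of_eq M (isPt_vec M H ha ⟨x, hx.mem⟩) hx rfl
      exact ⟨⟨⟨x, hx.mem⟩, m, fun e => hv0 (by rw [hm, e, zero_smul])⟩, Subtype.ext hm.symm⟩⟩
  have h1 := Nat.card_congr e
  rw [Nat.card_prod, M.c.card_ne_zero_field, M.c.card_iso, Nat.card_coe_set_eq] at h1
  omega

theorem ncard_off_aux {b : G} (hb : b ∈ Dc D a) :
    {x | x ∈ Dc D a ∧ ¬ Commute x b}.ncard = 512 := by
  classical
  obtain ⟨u, hu⟩ := M.exists_vec H ha hb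
  rw [← M.c.card_pair_one hu.iso hu.ne_zero, ← Nat.card_coe_set_eq]
  have hne : ∀ x : {x | x ∈ Dc D a ∧ ¬ Commute x b},
      M.h u (vec M H ha ⟨x, x.2.1⟩) ≠ 0 := fun x h0 =>
    x.2.2 ((comm_iff M H ha hu (isPt_vec M H ha ⟨x, x.2.1⟩)).2 h0).symm
  refine Nat.card_congr (Equiv.ofBijective (fun x =>
    ⟨(M.h u (vec M H ha ⟨x, x.2.1⟩))⁻¹ • vec M H ha ⟨x, x.2.1⟩,
      ((isPt_vec M H ha ⟨x, x.2.1⟩).smul (inv_ne_zero (hne x))).iso,
      by rw [map_smul, smul_eq_mul, inv_mul_cancel₀ (hne x)]⟩) ⟨fun x y e => ?_, fun v => ?_⟩)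
  · exact Subtype.ext (eq_of_smul M H ha
      ((isPt_vec M H ha ⟨x, x.2.1⟩).smul (inv_ne_zero (hne x)))
      ((isPt_vec M H ha ⟨y, y.2.1⟩).smul (inv_ne_zero (hne y)))
      (m := 1) (by rw [one_smul]; exact (congrArg Subtype.val e).symm))
  · obtain ⟨v, hv, hv1⟩ := v
    obtain ⟨x, hx⟩ := M.exists_mem H ha hv fun e => by simp [e] at hv1
    have hxb : ¬ Commute x b := fun h => by
      have := (comm_iff M H ha hu hx).1 h.symm
      rw [hv1] at this
      exact one_ne_zero this
    obtain ⟨m, hm⟩ := smul_of_eq M (isPt_vec M H ha ⟨x, hx.mem⟩) hx rfl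
    refine ⟨⟨x, hx.mem, hxb⟩, Subtype.ext ?_⟩
    show (M.h u (vec M H ha ⟨x, hx.mem⟩))⁻¹ • vec M H ha ⟨x, hx.mem⟩ = v
    have e : m * M.h u (vec M H ha ⟨x, hx.mem⟩) = 1 := by
      have := (congrArg (M.h u) hm).symm.trans hv1
      rwa [map_smul, smul_eq_mul] at this
    rw [← eq_inv_of_mul_eq_one_left e]
    exact hm.symm

theorem exists_conj_dc {x x' : G} (hx : x ∈ Dc D a) (hx' : x' ∈ Dc D a) :
    ∃ y ∈ Subgroup.closure (Dc D a), y * x * y⁻¹ = x' := by
  obtain ⟨u, hu⟩ := M.exists_vec H ha hx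
  obtain ⟨v, hv⟩ := M.exists_vec H ha hx'
  obtain ⟨k, hk⟩ := U6.pt_exists_conj M.c hu.iso hv.iso hu.ne_zero hv.ne_zero
  obtain ⟨y, hy⟩ := M.surj k
  have hpt : M.IsPt ((y : G) * x * (y : G)⁻¹) v := by
    refine ⟨Model.conj_mem M H ha y hx, hv.iso, hv.ne_zero, ?_⟩
    rw [← hk, ← hy, ← hu.2.2.2, ← map_inv, ← map_mul, ← map_mul]
    rfl
  exact ⟨y, y.2, eq_of_smul M H ha hpt hv (m := 1) (one_smul _ _).symm⟩

/-- No line has three points on the common perp of `a` and a member not commuting with it. -/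
theorem no_three {c b f g : G} (hc : c ∈ D) (hac : ¬ Commute a c) {u w r : Fin 6 → M.F}
    (hu : M.IsPt b u) (hw : M.IsPt f w) (hr : M.IsPt g r) (cbf : M.h u w = 0)
    (nbf : b ≠ f) (ngb : g ≠ b) (ngf : g ≠ f) (hbc : Commute b c) (hfc : Commute f c)
    (hgc : Commute g c) {m n : M.F} (e : r = m • u + n • w) : False := by
  have cgb : Commute b g := (comm_iff M H ha hu hr).2 (by rw [e]; simp [hu.iso, cbf])
  have cgf : Commute f g := (comm_iff M H ha hw hr).2 (by
    rw [e]; simp [hw.iso, M.c.form.comm_zero cbf])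
  have cbf' : Commute b f := (comm_iff M H ha hu hw).2 cbf
  obtain ⟨-, -, -, hs⟩ := twin_of_span M H ha hu hw hr cgb cgf ngb ngf e
  obtain ⟨Mb⟩ := (H.model b hu.mem.1).2
  have hab : a ∈ Dc D b := mem_dc_symm ha hu.mem
  have hfb : f ∈ Dc D b := ⟨hw.mem.1, nbf.symm, cbf'⟩
  have hgb : g ∈ Dc D b := ⟨hr.mem.1, ngb, cgb⟩
  have hcb : c ∈ Dc D b := ⟨hc, fun e' => hac (e' ▸ hu.mem.2.2), hbc⟩
  obtain ⟨A, hA⟩ := Mb.exists_vec H hu.mem.1 hab
  obtain ⟨W, hW⟩ := Mb.exists_vec H hu.mem.1 hfb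
  obtain ⟨R, hR⟩ := Mb.exists_vec H hu.mem.1 hgb
  obtain ⟨C, hC⟩ := Mb.exists_vec H hu.mem.1 hcb
  have cm := fun {x y : G} {p q : Fin 6 → Mb.F} (hp : Mb.IsPt x p) (hq : Mb.IsPt y q) =>
    comm_iff Mb H hu.mem.1 hp hq
  obtain ⟨k, l, eR⟩ := Mb.c.mem_line_of_twin hA.iso ((cm hA hW).1 hw.mem.2.2)
    ((cm hA hR).1 hr.mem.2.2) fun y hy hAy hne hWy => by
      obtain ⟨x, hx⟩ := Mb.exists_mem H hu.mem.1 hy fun e' => hne 0 (by rw [e', zero_smul])
      have hxa : x ≠ a := fun e' => by
        obtain ⟨s, hs'⟩ := smul_of_eq Mb hA hx e'.symm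
        exact hne s hs'
      have hmem : x ∈ Dc (Dc D a) b :=
        ⟨⟨hx.mem.1, hxa, (cm hA hx).2 hAy⟩, hx.mem.2.1, hx.mem.2.2⟩
      exact (cm hR hx).1 ((hs x hmem).1 ((cm hW hx).2 hWy).symm).symm
  have h1 := (cm hC hR).1 hgc.symm
  rw [eR, map_add, map_smul, map_smul, (cm hC hW).1 hfc.symm, smul_zero, add_zero, smul_eq_mul] at h1
  rcases mul_eq_zero.1 h1 with h1 | h1
  · rw [h1, zero_smul, zero_add] at eR
    exact ngf (eq_of_smul Mb H hu.mem.1 hW hR eR).symm
  · exact hac ((cm hC hA).2 h1).symm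

/-- A plane meets the common perp in at most six points, so eighteen vectors. -/
theorem plane_le [Finite G] {c : G} (hc : c ∈ D) (hac : ¬ Commute a c)
    (L : (Fin 3 → M.F) →ₗ[M.F] (Fin 6 → M.F)) (hL : Function.Injective L)
    (hiso : ∀ p q, M.h (L p) (L q) = 0) :
    {p : Fin 3 → M.F | ∃ x, M.IsPt x (L p) ∧ Commute x c}.ncard ≤ 18 := by
  classical
  set X := {p : Fin 3 → M.F | ∃ x, M.IsPt x (L p) ∧ Commute x c} with hX
  rcases X.eq_empty_or_nonempty with h | ⟨p₀, x₀, hx₀, hx₀c⟩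
  · simp [h]
  set U := Submodule.span M.F ({p₀} : Set (Fin 3 → M.F)) with hU
  have hp₀ : p₀ ≠ 0 := fun e => hx₀.ne_zero (by rw [e, map_zero])
  haveI : Finite M.F := M.fin
  haveI : Finite ((Fin 3 → M.F) ⧸ U) := Finite.of_surjective _ U.mkQ_surjective
  have hUcard : Nat.card U = 4 := by
    rw [← M.c.card_field]
    exact (Nat.card_congr (LinearEquiv.toSpanNonzeroSingleton M.F _ p₀ hp₀).toEquiv).symm
  have hQ : Nat.card ((Fin 3 → M.F) ⧸ U) = 16 := by
    have := U.toAddSubgroup.card_eq_card_quotient_mul_card_addSubgroup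
    rw [Nat.card_fun, M.c.card_field, Nat.card_fin] at this
    have h' : Nat.card ((Fin 3 → M.F) ⧸ U) * Nat.card U = 4 ^ 3 := this.symm
    rw [hUcard] at h'
    omega
  have h1 : (X ∩ (U : Set (Fin 3 → M.F))).ncard ≤ 3 := by
    refine (Set.ncard_le_ncard (t := (U : Set (Fin 3 → M.F)) \ {0}) (fun p hp => ⟨hp.2, ?_⟩)).trans ?_
    · obtain ⟨x, hx, -⟩ := hp.1
      exact fun e : p = 0 => hx.ne_zero (by rw [e, map_zero])
    · rw [Set.ncard_sdiff_singleton_of_mem U.zero_mem, ← Nat.card_coe_set_eq]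
      exact le_of_eq (by rw [show Nat.card ↥(U : Set (Fin 3 → M.F)) = 4 from hUcard])
  have h2 : (X \ (U : Set (Fin 3 → M.F))).ncard ≤ 15 := by
    refine (Set.ncard_le_ncard_of_injOn U.mkQ (t := (Set.univ : Set ((Fin 3 → M.F) ⧸ U)) \ {0})
      (fun p hp => ⟨trivial, fun e : U.mkQ p = 0 => hp.2 ((Submodule.Quotient.mk_eq_zero U).1 e)⟩)
      ?_).trans ?_
    · rintro p ⟨⟨x, hx, hxc⟩, hpU⟩ q ⟨⟨y, hy, hyc⟩, hqU⟩ e
      obtain ⟨s, hs⟩ := Submodule.mem_span_singleton.1 ((Submodule.Quotient.eq U).1 e)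
      by_contra hne
      have hn0 : s ≠ 0 := fun h0 => hne (sub_eq_zero.1 (by rw [← hs, h0, zero_smul]))
      have e' : L p = s • L p₀ + (1 : M.F) • L q := by
        rw [one_smul, ← map_smul, ← map_add, hs, sub_add_cancel]
      refine no_three M H ha hc hac hx₀ hy hx (hiso _ _) ?_ ?_ ?_ hx₀c hyc hxc e'
      · intro e0
        obtain ⟨t, ht⟩ := smul_of_eq M hx₀ hy e0
        rw [← map_smul] at ht
        exact hqU (hL ht ▸ U.smul_mem t (Submodule.mem_span_singleton_self p₀))
      · intro e0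
        obtain ⟨t, ht⟩ := smul_of_eq M hx₀ hx e0.symm
        rw [← map_smul] at ht
        exact hpU (hL ht ▸ U.smul_mem t (Submodule.mem_span_singleton_self p₀))
      · intro e0
        obtain ⟨t, ht⟩ := smul_of_eq M hy hx e0.symm
        rw [← map_smul] at ht
        have hp : p = t • q := hL ht
        have hq : (t - 1) • q ∈ U := by
          rw [sub_smul, one_smul, ← hp, ← hs]
          exact U.smul_mem s (Submodule.mem_span_singleton_self p₀)
        by_cases ht1 : t - 1 = 0
        · exact hne (by rw [hp, sub_eq_zero.1 ht1, one_smul])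
        · exact hqU (by simpa [ht1] using U.smul_mem (t - 1)⁻¹ hq)
    · rw [Set.ncard_sdiff_singleton_of_mem (Set.mem_univ _), Set.ncard_univ, hQ]
  rw [← Set.ncard_inter_add_ncard_sdiff_eq_ncard X (U : Set (Fin 3 → M.F))]
  omega

end Model

namespace M22

variable (H : M22 D) [Finite G]
include H

omit [Finite G] in
theorem ncard_dc {a : G} (ha : a ∈ D) : (Dc D a).ncard = 693 :=
  (Model.ncard_dc_aux (H.model a ha).2.some H ha)

omit [Finite G] in
theorem ncard_off {a b : G} (ha : a ∈ D) (hb : b ∈ Dc D a) :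
    {x | x ∈ Dc D a ∧ ¬ Commute x b}.ncard = 512 :=
  Model.ncard_off_aux (H.model a ha).2.some H ha hb

theorem common_le {a c : G} (ha : a ∈ D) (hc : c ∈ D) (hac : ¬ Commute a c) :
    (Dc D a ∩ Dc D c).ncard ≤ 198 := by
  classical
  obtain ⟨M⟩ := (H.model a ha).2
  haveI : Finite M.F := M.fin
  obtain ⟨L, hL, hiso⟩ := M.c.exists_plane
  set K := Subgroup.closure (Dc D a) with hK
  have hKa : ∀ y ∈ K, Commute y a := fun y hy =>
    Subgroup.mem_centralizer_singleton_iff.1 ((Subgroup.closure_le _).2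
      (fun x hx => Subgroup.mem_centralizer_singleton_iff.2 hx.2.2.eq.symm) hy)
  haveI : Fintype ↥K := Fintype.ofFinite _
  haveI : Fintype M.F := Fintype.ofFinite _
  set S := Dc D a ∩ Dc D c with hS
  set T : Finset (Fin 3 → M.F) := Finset.univ.filter fun p => p ≠ 0 with hT
  let R : ↥K → (Fin 3 → M.F) → Prop := fun y p =>
    ∃ x, M.IsPt x (L p) ∧ (y : G) * x * (y : G)⁻¹ ∈ S
  have hTcard : T.card = 63 := by
    rw [hT, Finset.filter_ne', Finset.card_erase_of_mem (Finset.mem_univ _), Finset.card_univ,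
      ← Nat.card_eq_fintype_card, Nat.card_fun, M.c.card_field, Nat.card_fin]
    norm_num
  have hrow : ∀ y : ↥K, (T.filter (R y)).card ≤ 18 := by
    intro y
    have hyc : ¬ Commute a ((y : G)⁻¹ * c * y) := fun h => hac (by
      have h' := (commute_conj_iff (y : G)).2 h
      rwa [show (y : G) * ((y : G)⁻¹ * c * y) * (y : G)⁻¹ = c by group,
        mul_inv_eq_iff_eq_mul.2 (hKa y y.2).eq] at h')
    have hyD : (y : G)⁻¹ * c * y ∈ D := by simpa using H.conj_mem (y : G)⁻¹ hc
    refine le_trans ?_ (Model.plane_le M H ha hyD hyc L hL hiso)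
    rw [← Set.ncard_coe_finset]
    refine Set.ncard_le_ncard ?_ (Set.toFinite _)
    intro p hp
    simp only [Finset.coe_filter, Set.mem_ofPred_eq] at hp
    obtain ⟨-, x, hx, hxS⟩ := hp
    refine ⟨x, hx, (commute_conj_iff (y : G)).1 ?_⟩
    rw [show (y : G) * ((y : G)⁻¹ * c * y) * (y : G)⁻¹ = c by group]
    exact hxS.2.2.2.symm
  have hcol : ∀ p ∈ T, 693 * (Finset.univ.filter fun y : ↥K => R y p).card =
      S.ncard * Fintype.card ↥K := by
    intro p hp
    simp only [hT, Finset.mem_filter, Finset.mem_univ, true_and] at hp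
    obtain ⟨x, hx⟩ := M.exists_mem H ha (hiso p p) fun e => hp (hL (by rw [e, map_zero]))
    let φ : ↥K → G := fun y => (y : G) * x * (y : G)⁻¹
    have hR : ∀ y, R y p ↔ φ y ∈ S := fun y => ⟨fun ⟨x', hx', h⟩ => by
      obtain rfl : x = x' := Model.eq_of_smul M H ha hx hx' (m := 1) (one_smul _ _).symm
      exact h, fun h => ⟨x, hx, h⟩⟩
    have hfib : ∀ s ∈ Dc D a, (Finset.univ.filter fun y : ↥K => φ y = s).card =
        (Finset.univ.filter fun y : ↥K => φ y = x).card := by
      intro s hs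
      obtain ⟨k, hk, hks⟩ := Model.exists_conj_dc M H ha hx.mem hs
      refine Finset.card_equiv (Equiv.mulLeft (⟨k, hk⟩ : ↥K)⁻¹) fun y => ?_
      simp only [Finset.mem_filter, Finset.mem_univ, true_and, φ, Equiv.coe_mulLeft,
        Subgroup.coe_mul, InvMemClass.coe_inv]
      constructor
      · intro h
        calc k⁻¹ * y * x * (k⁻¹ * (y : G))⁻¹ = k⁻¹ * ((y : G) * x * (y : G)⁻¹) * k := by group
          _ = x := by rw [h, ← hks]; group
      · intro h
        calc (y : G) * x * (y : G)⁻¹ = k * (k⁻¹ * y * x * (k⁻¹ * (y : G))⁻¹) * k⁻¹ := by group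
          _ = s := by rw [h, hks]
    have hsum : ∀ A : Set G, A ⊆ Dc D a → (Finset.univ.filter fun y : ↥K => φ y ∈ A).card =
        A.ncard * (Finset.univ.filter fun y : ↥K => φ y = x).card := by
      intro A hA
      rw [Finset.card_eq_sum_card_fiberwise (f := φ) (t := (Set.toFinite A).toFinset)
        fun y hy => by simpa using hy]
      rw [Finset.sum_congr rfl (g := fun _ => (Finset.univ.filter fun y : ↥K => φ y = x).card)
        fun s hs => ?_, Finset.sum_const, smul_eq_mul, Set.ncard_eq_toFinset_card _ (Set.toFinite A)]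
      rw [Finset.filter_filter, ← hfib s (hA (by simpa using hs))]
      congr 1
      ext y
      simp only [Finset.mem_filter, Finset.mem_univ, true_and]
      exact ⟨fun h => h.2, fun h => ⟨h ▸ (by simpa using hs), h⟩⟩
    have e1 := hsum S Set.inter_subset_left
    have e2 := hsum (Dc D a) subset_rfl
    rw [Finset.filter_true_of_mem fun y _ => Model.conj_mem M H ha y hx.mem, Finset.card_univ,
      H.ncard_dc ha] at e2
    have e0 : (Finset.univ.filter fun y : ↥K => R y p).card =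
        S.ncard * (Finset.univ.filter fun y : ↥K => φ y = x).card := by
      rw [← e1]
      congr 1
      ext y
      simp [hR]
    rw [e0, e2]
    ring
  have h1 : ∑ p ∈ T, (Finset.univ.filter fun y : ↥K => R y p).card =
      ∑ y : ↥K, (T.filter (R y)).card := by
    simp only [Finset.card_filter]
    exact Finset.sum_comm
  have h2 : 63 * (S.ncard * Fintype.card ↥K) ≤ 693 * (18 * Fintype.card ↥K) := by
    rw [← hTcard, ← smul_eq_mul, ← Finset.sum_const, ← Finset.sum_congr rfl hcol, ← Finset.mul_sum,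
      h1]
    refine Nat.mul_le_mul_left _ ((Finset.sum_le_sum fun y _ => hrow y).trans_eq ?_)
    rw [Finset.sum_const, smul_eq_mul, Finset.card_univ, mul_comm]
  have h3 : (63 * S.ncard) * Fintype.card ↥K ≤ (693 * 18) * Fintype.card ↥K := by
    rw [mul_assoc, mul_assoc]; exact h2
  have := Nat.le_of_mul_le_mul_right h3 Fintype.card_pos
  omega

end M22

end Cfsg.Agent.Transpos
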