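import Cfsg.Agent.Lib.Transpos.UnitarySix
import Cfsg.Agent.Lib.Transpos.M22Points

/-!
# The centraliser of an element of order eleven in `PSU₆(2)`

`U6.Ctx.card_centralizer_eleven`: its order divides `3 · 1023`.  An element of order eleven fixes a
line and is irreducible on a complement; its centraliser is semiregular on the non-zero vectors of both.
-/

set_option autoImplicit false

set_option maxHeartbeats 1000000

namespace Cfsg.Agent.Transpos

open Cfsg Cfsg.Agent.ClassicalSimple

/-- If all orbits have stabiliser `N` then the index of `N` divides the number of points. -/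
theorem index_dvd_card_of_stabilizer {C S : Type*} [Group C] [Finite C] [Finite S] [MulAction C S]
    (N : Subgroup C) (hN : ∀ s : S, MulAction.stabilizer C s = N) : N.index ∣ Nat.card S := by
  classical
  haveI : Fintype (Quotient (MulAction.orbitRel C S)) := Fintype.ofFinite _
  rw [Nat.card_congr (MulAction.selfEquivSigmaOrbits C S), Nat.card_sigma]
  refine Finset.dvd_sum fun ω _ => dvd_of_eq ?_
  rw [← hN ω.out, MulAction.index_stabilizer, ← Nat.card_coe_set_eq]

namespace U6.Ctx

variable {F : Type} [Field F] {σ : F →+* F}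
  {h : (Fin 6 → F) →ₛₗ[σ] (Fin 6 → F) →ₗ[F] F} (c : U6.Ctx σ h)
include c

/-- An element of order eleven has centraliser of order dividing `3 · 1023`. -/
theorem card_centralizer_eleven [Finite F] {g : SUH h} (hg : g ^ 11 = 1) (hg1 : g ≠ 1) :
    Nat.card ↥(Subgroup.centralizer ({g} : Set (SUH h))) ∣ 3069 := by
  classical
  haveI : Finite (SUH h) := Finite.of_injective
    (fun k : SUH h => fun x : Fin 6 → F => k • x) fun k l e => U6.ext_smul c (congrFun e)
  haveI : Fintype F := Fintype.ofFinite F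
  set L : (Fin 6 → F) →ₗ[F] (Fin 6 → F) := ((g : UH h) : (Fin 6 → F) ≃ₗ[F] (Fin 6 → F)).toLinearMap
  have hL : ∀ v, L v = g • v := fun _ => rfl
  set T := L - LinearMap.id with hTdef
  have hT : ∀ v, T v = g • v - v := fun _ => rfl
  set W := LinearMap.range T with hWdef
  set K := LinearMap.ker T with hKdef
  have hK : ∀ v, v ∈ K ↔ g • v = v := fun v => by rw [hKdef, LinearMap.mem_ker, hT, sub_eq_zero]
  have hsmul : ∀ (k : SUH h) (v w : Fin 6 → F), k • (v - w) = k • v - k • w :=
    fun k v w => map_sub ((k : UH h) : (Fin 6 → F) ≃ₗ[F] (Fin 6 → F)) v w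
  have hlin : ∀ (k : SUH h) (m : F) (v : Fin 6 → F), k • (m • v) = m • (k • v) :=
    fun k m v => map_smul ((k : UH h) : (Fin 6 → F) ≃ₗ[F] (Fin 6 → F)) m v
  have hadd : ∀ (k : SUH h) (v w : Fin 6 → F), k • (v + w) = k • v + k • w :=
    fun k v w => map_add ((k : UH h) : (Fin 6 → F) ≃ₗ[F] (Fin 6 → F)) v w
  have hz : ∀ k : SUH h, k • (0 : Fin 6 → F) = 0 :=
    fun k => map_zero ((k : UH h) : (Fin 6 → F) ≃ₗ[F] (Fin 6 → F))
  -- the fixed space meets the image trivially
  have hKW : ∀ v ∈ W, g • v = v → v = 0 := by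
    rintro _ ⟨w, rfl⟩ hv
    have hpow : ∀ n : ℕ, g ^ n • w = w + (n : F) • T w := fun n => by
      induction n with
      | zero => simp
      | succ n ih =>
        rw [pow_succ', mul_smul, ih, hadd, hlin, hv, Nat.cast_succ, add_smul, one_smul,
          show g • w = w + T w by rw [hT]; abel]
        abel
    have e := hpow 11
    rw [hg, one_smul, left_eq_add] at e
    have h11 : ((11 : ℕ) : F) = 1 := by push_cast; linear_combination (5 : F) * c.two
    rwa [h11, one_smul] at e
  -- invariant subspaces of the image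
  haveI hg11 : Fact (Nat.Prime 11) := ⟨by norm_num⟩
  have hord : orderOf g = 11 := orderOf_eq_prime hg hg1
  have hinv : ∀ U : Submodule F (Fin 6 → F), U ≤ W → (∀ v ∈ U, g • v ∈ U) → U ≠ ⊥ →
      Module.finrank F U = 5 := by
    intro U hUW hU hU0
    letI : MulAction ↥(Subgroup.zpowers g) {v : Fin 6 → F // v ∈ U ∧ v ≠ 0} :=
      { smul := fun k v => ⟨(k : SUH h) • (v : Fin 6 → F), by
          obtain ⟨n, hn⟩ := mem_powers_iff_mem_zpowers.2 k.2
          have hn' : g ^ n = (k : SUH h) := hn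
          rw [← hn']
          clear hn hn'
          induction n with
          | zero => simpa using v.2.1
          | succ n ih => rw [pow_succ', mul_smul]; exact hU _ ih,
          fun e => v.2.2 (by rw [← inv_smul_smul (k : SUH h) (v : Fin 6 → F), e, hz])⟩
        one_smul := fun v => Subtype.ext (one_smul (SUH h) (v : Fin 6 → F))
        mul_smul := fun k l v => Subtype.ext (mul_smul (k : SUH h) (l : SUH h) (v : Fin 6 → F)) }
    have hst : ∀ v : {v : Fin 6 → F // v ∈ U ∧ v ≠ 0},
        MulAction.stabilizer ↥(Subgroup.zpowers g) v = ⊥ := by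
      intro v
      haveI : Fact (Nat.card ↥(Subgroup.zpowers g)).Prime :=
        ⟨by rw [Nat.card_zpowers, hord]; norm_num⟩
      refine (Subgroup.eq_bot_or_eq_top_of_prime_card _).resolve_right fun e => v.2.2 ?_
      have := MulAction.mem_stabilizer_iff.1 (e ▸ Subgroup.mem_top
        (⟨g, Subgroup.mem_zpowers g⟩ : ↥(Subgroup.zpowers g)))
      exact hKW _ (hUW v.2.1) (congrArg Subtype.val this)
    have hd := index_dvd_card_of_stabilizer (⊥ : Subgroup ↥(Subgroup.zpowers g)) hst
    rw [Subgroup.index_bot, Nat.card_zpowers, hord] at hd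
    have hc : Nat.card {v : Fin 6 → F // v ∈ U ∧ v ≠ 0} = 4 ^ Module.finrank F U - 1 := by
      rw [← c.card_field, ← Module.natCard_eq_pow_finrank (K := F) (V := U)]
      have e1 := Set.ncard_sdiff_singleton_of_mem (s := (U : Set (Fin 6 → F))) U.zero_mem
      rw [← Nat.card_coe_set_eq, ← Nat.card_coe_set_eq] at e1
      exact e1
    rw [hc] at hd
    have h1 : Module.finrank F U ≤ 6 := (Submodule.finrank_le U).trans (by rw [c.dim])
    have h2 : Module.finrank F U ≠ 0 := fun e => hU0 (Submodule.finrank_eq_zero.1 e)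
    interval_cases Module.finrank F U <;> first | omega | norm_num at hd
  have hW0 : W ≠ ⊥ := fun e => hg1 (U6.ext_smul c fun v => by
    have : T v ∈ W := ⟨v, rfl⟩
    rw [e, Submodule.mem_bot, hT, sub_eq_zero] at this
    rw [this, one_smul])
  have hWinv : ∀ v ∈ W, g • v ∈ W := by
    rintro _ ⟨w, rfl⟩
    exact ⟨g • w, by rw [hT, hT, hsmul]⟩
  have hW5 := hinv W le_rfl hWinv hW0
  have hirr : ∀ U : Submodule F (Fin 6 → F), U ≤ W → (∀ v ∈ U, g • v ∈ U) → U ≠ ⊥ → U = W :=
    fun U hUW hU hU0 => Submodule.eq_of_le_of_finrank_eq hUW (by rw [hinv U hUW hU hU0, hW5])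
  have hK1 : Module.finrank F K = 1 := by
    have := LinearMap.finrank_range_add_finrank_ker T
    rw [← hWdef, ← hKdef, hW5, c.dim] at this
    omega
  -- the centraliser
  set C := Subgroup.centralizer ({g} : Set (SUH h)) with hCdef
  have hC : ∀ (k : ↥C) (v : Fin 6 → F), g • ((k : SUH h) • v) = (k : SUH h) • (g • v) := fun k v => by
    rw [← mul_smul, ← mul_smul, Subgroup.mem_centralizer_singleton_iff.1 k.2]
  have hCW : ∀ k : ↥C, ∀ v ∈ W, (k : SUH h) • v ∈ W := by
    rintro k _ ⟨w, rfl⟩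
    exact ⟨(k : SUH h) • w, by rw [hT, hT, hsmul, hC]⟩
  have hCK : ∀ k : ↥C, ∀ v ∈ K, (k : SUH h) • v ∈ K := fun k v hv => by
    rw [hK] at hv ⊢
    rw [hC, hv]
  let N : Subgroup ↥C :=
    { carrier := {k | ∀ v ∈ W, (k : SUH h) • v = v}
      one_mem' := fun v _ => one_smul _ v
      mul_mem' := fun {k l} hk hl v hv => by
        show ((k : SUH h) * (l : SUH h)) • v = v
        rw [mul_smul, hl v hv, hk v hv]
      inv_mem' := fun {k} hk v hv => by
        show ((k : SUH h))⁻¹ • v = v
        rw [inv_smul_eq_iff, hk v hv] }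
  have hN : ∀ k : ↥C, ∀ v ∈ W, v ≠ 0 → (k : SUH h) • v = v → k ∈ N := by
    intro k v hv hv0 hkv
    let U : Submodule F (Fin 6 → F) :=
      { carrier := {u | u ∈ W ∧ (k : SUH h) • u = u}
        add_mem' := fun {p q} hp hq => ⟨W.add_mem hp.1 hq.1, by rw [hadd, hp.2, hq.2]⟩
        zero_mem' := ⟨W.zero_mem, hz _⟩
        smul_mem' := fun m p hp => ⟨W.smul_mem m hp.1, by rw [hlin, hp.2]⟩ }
    have hU : U = W := hirr U (fun u hu => hu.1) (fun u hu => ⟨hWinv u hu.1, by
      rw [← hC, hu.2]⟩) (fun e => hv0 ((Submodule.eq_bot_iff _).1 e v ⟨hv, hkv⟩))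
    intro u hu
    rw [← hU] at hu
    exact hu.2
  letI : MulAction ↥C {v : Fin 6 → F // v ∈ W ∧ v ≠ 0} :=
    { smul := fun k v => ⟨(k : SUH h) • (v : Fin 6 → F), hCW k _ v.2.1,
        fun e => v.2.2 (by rw [← inv_smul_smul (k : SUH h) (v : Fin 6 → F), e, hz])⟩
      one_smul := fun v => Subtype.ext (one_smul (SUH h) (v : Fin 6 → F))
      mul_smul := fun k l v => Subtype.ext (mul_smul (k : SUH h) (l : SUH h) (v : Fin 6 → F)) }
  have h1 := index_dvd_card_of_stabilizer N (S := {v : Fin 6 → F // v ∈ W ∧ v ≠ 0}) fun v =>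
    Subgroup.ext fun k => ⟨fun hk => hN k v v.2.1 v.2.2 (congrArg Subtype.val hk),
      fun hk => Subtype.ext (hk v v.2.1)⟩
  letI : MulAction ↥N {v : Fin 6 → F // v ∈ K ∧ v ≠ 0} :=
    { smul := fun k v => ⟨((k : ↥C) : SUH h) • (v : Fin 6 → F), hCK k _ v.2.1,
        fun e => v.2.2 (by rw [← inv_smul_smul ((k : ↥C) : SUH h) (v : Fin 6 → F), e, hz])⟩
      one_smul := fun v => Subtype.ext (one_smul (SUH h) (v : Fin 6 → F))
      mul_smul := fun k l v => Subtype.ext
        (mul_smul ((k : ↥C) : SUH h) ((l : ↥C) : SUH h) (v : Fin 6 → F)) }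
  have h2 := index_dvd_card_of_stabilizer (⊥ : Subgroup ↥N)
      (S := {v : Fin 6 → F // v ∈ K ∧ v ≠ 0}) fun v => by
    rw [Subgroup.eq_bot_iff_forall]
    intro k hk
    have hkv : ((k : ↥C) : SUH h) • (v : Fin 6 → F) = v := congrArg Subtype.val hk
    refine Subtype.ext (Subtype.ext (U6.ext_smul c fun u => ?_))
    show ((k : ↥C) : SUH h) • u = (1 : SUH h) • u
    rw [one_smul]
    let Q : Submodule F (Fin 6 → F) :=
      { carrier := {x | ((k : ↥C) : SUH h) • x = x}
        add_mem' := fun {p q} (hp : _ = _) (hq : _ = _) => show _ = _ by rw [hadd, hp, hq]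
        zero_mem' := hz _
        smul_mem' := fun m p (hp : _ = _) => show _ = _ by rw [hlin, hp] }
    have hWQ : W ≤ Q := fun x hx => k.2 x hx
    have hKQ : K ≤ Q := by
      intro x hx
      obtain ⟨m, hm⟩ := exists_smul_eq_of_finrank_eq_one hK1
        (x := (⟨(v : Fin 6 → F), v.2.1⟩ : K)) (fun e => v.2.2 (congrArg Subtype.val e)) ⟨x, hx⟩
      rw [show x = m • (v : Fin 6 → F) from (congrArg Subtype.val hm).symm]
      exact Q.smul_mem m hkv
    have hdis : Disjoint W K := by
      rw [Submodule.disjoint_def]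
      exact fun x hx hxK => hKW x hx ((hK x).1 hxK)
    have htop : W ⊔ K = ⊤ := Submodule.eq_top_of_disjoint W K
      (by rw [hW5, hK1, c.dim]) hdis
    exact (show u ∈ Q from sup_le hWQ hKQ (htop ▸ Submodule.mem_top))
  have hc : ∀ U : Submodule F (Fin 6 → F),
      Nat.card {v : Fin 6 → F // v ∈ U ∧ v ≠ 0} = 4 ^ Module.finrank F U - 1 := fun U => by
    rw [← c.card_field, ← Module.natCard_eq_pow_finrank (K := F) (V := U)]
    have e1 := Set.ncard_sdiff_singleton_of_mem (s := (U : Set (Fin 6 → F))) U.zero_mem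
    rw [← Nat.card_coe_set_eq, ← Nat.card_coe_set_eq] at e1
    exact e1
  rw [hc, hW5] at h1
  rw [hc, hK1, Subgroup.index_bot] at h2
  rw [← N.card_mul_index]
  exact (mul_dvd_mul h2 h1).trans (by norm_num)

/-- The same in the projective group. -/
theorem card_centralizer_eleven_proj [Finite F] {x : SUH h ⧸ Subgroup.center (SUH h)}
    (hx : orderOf x = 11) :
    Nat.card ↥(Subgroup.centralizer ({x} : Set (SUH h ⧸ Subgroup.center (SUH h)))) ∣ 3069 := by
  classical
  haveI : Finite (SUH h) := Finite.of_injective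
    (fun k : SUH h => fun v : Fin 6 → F => k • v) fun k l e => U6.ext_smul c (congrFun e)
  set π : SUH h →* SUH h ⧸ Subgroup.center (SUH h) := QuotientGroup.mk' _ with hπ
  have hZ : ∀ z : SUH h, π z = 1 → z ^ 3 = 1 := by
    intro z hz
    obtain ⟨a, ha, hact⟩ := (U6.proj_eq_one_iff c z).1 hz
    have ha0 : a ≠ 0 := fun e => by simp [e] at ha
    refine U6.ext_smul c fun v => ?_
    rw [one_smul, pow_succ, pow_two, mul_smul, mul_smul, hact, hact, hact, smul_smul, smul_smul,
      c.cube a ha0, one_smul]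
  have hcomm : ∀ z : SUH h, π z = 1 → ∀ k, Commute z k := fun z hz k =>
    (Subgroup.mem_center_iff.1 ((QuotientGroup.eq_one_iff z).1 hz) k).symm
  obtain ⟨g₀, rfl⟩ := QuotientGroup.mk'_surjective (Subgroup.center (SUH h)) x
  rw [← hπ] at hx ⊢
  have hx11 : π g₀ ^ 11 = 1 := by rw [← hx]; exact pow_orderOf_eq_one _
  set g := g₀ ^ 12 with hgdef
  have hgx : π g = π g₀ := by rw [hgdef, map_pow, pow_succ, hx11, one_mul]
  have h33 : g₀ ^ 33 = 1 := by
    rw [show (33 : ℕ) = 11 * 3 by rfl, pow_mul]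
    exact hZ _ (by rw [map_pow, hx11])
  have hg : g ^ 11 = 1 := by
    rw [hgdef, ← pow_mul, show 12 * 11 = 33 * 4 by rfl, pow_mul, h33, one_pow]
  have hg1 : g ≠ 1 := fun e => by
    rw [e, map_one] at hgx
    rw [← hgx, orderOf_one] at hx
    norm_num at hx
  have hle : Subgroup.centralizer ({π g₀} : Set (SUH h ⧸ Subgroup.center (SUH h))) ≤
      (Subgroup.centralizer ({g} : Set (SUH h))).map π := by
    intro y hy
    obtain ⟨k, rfl⟩ := QuotientGroup.mk'_surjective (Subgroup.center (SUH h)) y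
    refine ⟨k, ?_, rfl⟩
    have hy' : π k * π g = π g * π k := by
      rw [hgx]; exact Subgroup.mem_centralizer_singleton_iff.1 hy
    set z := g⁻¹ * (k * g * k⁻¹) with hzdef
    have hzπ : π z = 1 := by
      rw [hzdef, map_mul, map_mul, map_mul, map_inv, map_inv, hy']
      group
    have hz3 := hZ z hzπ
    have hz11 : z ^ 11 = 1 := by
      have e : (k * g * k⁻¹) ^ 11 = 1 := by rw [conj_pow, hg]; group
      rw [show k * g * k⁻¹ = g * z by rw [hzdef, mul_inv_cancel_left],
        (hcomm z hzπ g).symm.mul_pow, hg, one_mul] at e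
      exact e
    have hz1 : z = 1 := by
      have : z ^ 12 = 1 := by rw [show 12 = 3 * 4 by rfl, pow_mul, hz3, one_pow]
      rwa [pow_succ, hz11, one_mul] at this
    rw [SetLike.mem_coe, Subgroup.mem_centralizer_singleton_iff]
    rw [hzdef, inv_mul_eq_one, eq_mul_inv_iff_mul_eq] at hz1
    exact hz1.symm
  exact (Subgroup.card_dvd_of_le hle).trans
    ((Subgroup.card_map_dvd _ _).trans (c.card_centralizer_eleven hg hg1))

end U6.Ctx

end Cfsg.Agent.Transpos
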