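import Cfsg.Agent.Lib.Transpos.M22Count
import Cfsg.Agent.Lib.Transpos.SylowNorm
import Cfsg.Agent.Lib.Transpos.U6Eleven

/-!
# The normaliser of a subgroup of order eleven in a group of type M(22)

`M22.eleven_fixed`: it fixes exactly one member.  `M22.eleven_data`: its centraliser has order 22 and
its normaliser, which centralises that member, order 110.
-/

set_option autoImplicit false

namespace Cfsg.Agent.Transpos

open Cfsg Cfsg.Agent.ClassicalSimple

variable {G : Type*} [Group G] [Finite G] {D : Set G}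

/-- The number of members centralised by a `p`-subgroup is `|D|` modulo `p`. -/
theorem fixed_member_modEq (hconj : ∀ g : G, ∀ d ∈ D, g * d * g⁻¹ ∈ D) {p : ℕ} [Fact p.Prime]
    {X : Subgroup G} (hX : IsPGroup p X) :
    D.ncard ≡ (D ∩ (Subgroup.centralizer (X : Set G) : Set G)).ncard [MOD p] := by
  letI : MulAction ↥X D :=
    { smul := fun k d => ⟨(k : G) * d * (k : G)⁻¹, hconj k d d.2⟩
      one_smul := fun d => Subtype.ext (by show (1 : G) * d * (1 : G)⁻¹ = d; group)
      mul_smul := fun k l d => Subtype.ext (by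
        show ((k : G) * l) * d * ((k : G) * l)⁻¹ = (k : G) * ((l : G) * d * (l : G)⁻¹) * (k : G)⁻¹
        group) }
  have h := hX.card_modEq_card_fixedPoints D
  rw [Nat.card_coe_set_eq] at h
  refine h.trans (congrArg (· % p) ?_)
  rw [← Nat.card_coe_set_eq (D ∩ _)]
  refine Nat.card_congr
    { toFun := fun d => ⟨d.1.1, d.1.2, Subgroup.mem_centralizer_iff.2 fun k hk =>
        (mul_inv_eq_iff_eq_mul.1 (congrArg Subtype.val (d.2 ⟨k, hk⟩) : k * (d.1 : G) * k⁻¹ = d.1))⟩
      invFun := fun d => ⟨⟨d.1, d.2.1⟩, fun k => Subtype.ext (mul_inv_eq_iff_eq_mul.2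
        (Subgroup.mem_centralizer_iff.1 d.2.2 k k.2))⟩
      left_inv := fun _ => rfl
      right_inv := fun _ => rfl }

variable (hD : IsThreeTranspositionGroup D) (hprim : IsPrimitiveUnderConj D) (h22 : IsOfTypeM22 G D)
include hD hprim h22

theorem eleven_sq_not_dvd : ¬ 11 ^ 2 ∣ Nat.card G := by
  rw [card_m22 hD hprim h22]; norm_num

/-- The joint centraliser of two members has order prime to 11. -/
theorem eleven_not_dvd_pair {a y : G} (ha : a ∈ D) (hy : y ∈ D) (hne : y ≠ a) :
    ¬ 11 ∣ Nat.card ↥(Subgroup.centralizer ({a} : Set G) ⊓ Subgroup.centralizer ({y} : Set G)) := by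
  by_cases hc : Commute a y
  · obtain ⟨_, H, hfull⟩ := m22_of_primitive hD hprim h22
    obtain ⟨M⟩ := (H.model a ha).2
    have h := card_eq_orbit_mul (Subgroup.centralizer ({a} : Set G)) y (Dc D a)
      (fun k hk => by
        rw [hfull.cent a ha] at hk
        exact Model.conj_mem M H ha ⟨k, hk⟩ ⟨hy, hne, hc⟩)
      (fun o ho => by
        obtain ⟨k, hk, hko⟩ := Model.exists_conj_dc M H ha (x := y) ⟨hy, hne, hc⟩ ho
        exact ⟨k, by rw [hfull.cent a ha]; exact hk, hko⟩)
    rw [card_centralizer_member hD hprim h22 ha, H.ncard_dc ha] at h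
    intro hd
    obtain ⟨k, hk⟩ := hd
    rw [hk] at h
    omega
  · rw [(pair_data hD hprim h22 ha hy hc).2.2]; norm_num

/-- A subgroup of order 11 centralises exactly one member. -/
theorem eleven_fixed {X : Subgroup G} (hX : Nat.card X = 11) :
    ∃ a ∈ D, D ∩ (Subgroup.centralizer (X : Set G) : Set G) = {a} := by
  haveI : Fact (Nat.Prime 11) := ⟨by norm_num⟩
  have hp : IsPGroup 11 X := IsPGroup.of_card (n := 1) (by rw [hX, pow_one])
  have h := fixed_member_modEq hD.2.1 hp
  rw [ncard_m22 hD hprim h22] at h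
  obtain ⟨a, ha⟩ : (D ∩ (Subgroup.centralizer (X : Set G) : Set G)).Nonempty := by
    rw [Set.nonempty_iff_ne_empty]
    intro e
    rw [e, Set.ncard_empty] at h
    exact absurd h (by decide)
  refine ⟨a, ha.1, Set.eq_singleton_iff_unique_mem.2 ⟨ha, fun y hy => by_contra fun hne => ?_⟩⟩
  refine eleven_not_dvd_pair hD hprim h22 ha.1 hy.1 hne (hX ▸ Subgroup.card_dvd_of_le fun k hk => ?_)
  exact ⟨Subgroup.mem_centralizer_singleton_iff.2 (Subgroup.mem_centralizer_iff.1 ha.2 k hk),
    Subgroup.mem_centralizer_singleton_iff.2 (Subgroup.mem_centralizer_iff.1 hy.2 k hk)⟩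

/-- The normaliser of a subgroup of order 11. -/
theorem eleven_data {X : Subgroup G} (hX : Nat.card X = 11) :
    ∃ a ∈ D, Nat.card (Subgroup.centralizer (X : Set G)) = 22 ∧
      Nat.card (Subgroup.normalizer (X : Set G)) = 110 ∧
      a ∈ Subgroup.centralizer (X : Set G) ∧
      Subgroup.normalizer (X : Set G) ≤ Subgroup.centralizer ({a} : Set G) := by
  classical
  haveI : Fact (Nat.Prime 11) := ⟨by norm_num⟩
  obtain ⟨_, H, hfull⟩ := m22_of_primitive hD hprim h22
  obtain ⟨a, ha, hfix⟩ := eleven_fixed hD hprim h22 hX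
  have haX : a ∈ Subgroup.centralizer (X : Set G) :=
    ((Set.ext_iff.1 hfix a).2 rfl).2
  have hNa : Subgroup.normalizer (X : Set G) ≤ Subgroup.centralizer ({a} : Set G) := by
    intro n hn
    refine Subgroup.mem_centralizer_singleton_iff.2 (mul_inv_eq_iff_eq_mul.1 ?_)
    refine (Set.ext_iff.1 hfix (n * a * n⁻¹)).1 ⟨hD.2.1 n a ha, ?_⟩
    refine Subgroup.mem_centralizer_iff.2 fun k hk => ?_
    have hk' : n⁻¹ * k * n ∈ X := by
      have := (Subgroup.mem_normalizer_iff.1 (inv_mem hn) k).1 hk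
      simpa using this
    have e : Commute (n⁻¹ * k * n) a := Subgroup.mem_centralizer_iff.1 haX _ hk'
    have e2 := e.map (MulAut.conj n).toMonoidHom
    simp only [MulEquiv.coe_toMonoidHom, MulAut.conj_apply] at e2
    rw [show n * (n⁻¹ * k * n) * n⁻¹ = k by group] at e2
    exact e2.eq
  refine ⟨a, ha, ?_⟩
  obtain ⟨M⟩ := (H.model a ha).2
  haveI : Finite M.F := M.fin
  set K := Subgroup.closure (Dc D a) with hK
  have hcK : ∀ k, k ∈ Subgroup.centralizer (X : Set G) → k ∈ K := fun k hk => by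
    rw [hK, ← hfull.cent a ha]
    exact hNa (SmallSimple.centralizer_le_normalizer _ hk)
  -- a generator
  obtain ⟨⟨x, hx⟩, hgen⟩ := (isCyclic_of_prime_card hX).exists_generator
  have hord : orderOf x = 11 := by
    have := orderOf_eq_card_of_forall_mem_zpowers hgen
    rwa [hX, Subgroup.orderOf_mk] at this
  have hxK : x ∈ K := hcK x (Subgroup.mem_centralizer_iff.2 fun k hk => by
    obtain ⟨i, hi⟩ := Subgroup.mem_zpowers_iff.1 (hgen ⟨k, hk⟩)
    have hk' : x ^ i = k := congrArg Subtype.val hi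
    rw [← hk']
    exact (Commute.zpow_self x i).eq)
  have hker : M.ψ.ker = (Subgroup.zpowers a).subgroupOf K := by
    ext z
    rw [MonoidHom.mem_ker, M.ker, H.center_eq ha]
  have hordψ : orderOf (M.ψ ⟨x, hxK⟩) = 11 := by
    refine orderOf_eq_prime (by rw [← map_pow, show (⟨x, hxK⟩ : ↥K) ^ 11 = 1 from
      Subtype.ext (hord ▸ pow_orderOf_eq_one x), map_one]) fun e => ?_
    rw [← MonoidHom.mem_ker, hker, Subgroup.mem_subgroupOf] at e
    have h := Subgroup.orderOf_dvd_natCard _ e
    rw [Nat.card_zpowers, hD.1.1 a ha, Subgroup.coe_mk, hord] at h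
    norm_num at h
  set CK := (Subgroup.centralizer (X : Set G)).subgroupOf K
  have hle : CK.map M.ψ ≤ Subgroup.centralizer {M.ψ ⟨x, hxK⟩} := by
    rintro _ ⟨z, hz, rfl⟩
    rw [Subgroup.mem_centralizer_singleton_iff, ← map_mul, ← map_mul]
    exact congrArg M.ψ (Subtype.ext (Subgroup.mem_centralizer_iff.1 hz x hx).symm)
  have hC : Nat.card (Subgroup.centralizer (X : Set G)) ∣ 2 * 3069 := by
    rw [← Nat.card_congr (Subgroup.subgroupOfEquivOfLe hcK).toEquiv]
    change Nat.card CK ∣ _
    set f := M.ψ.comp CK.subtype with hf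
    rw [← f.ker.card_mul_index, Subgroup.index_ker]
    refine mul_dvd_mul ?_ ((Subgroup.card_dvd_of_le ?_).trans (M.c.card_centralizer_eleven_proj hordψ))
    · rw [hf, ← MonoidHom.comap_ker]
      refine (Subgroup.card_comap_dvd_of_injective _ _ CK.subtype_injective).trans ?_
      rw [hker, Nat.card_congr (Subgroup.subgroupOfEquivOfLe (Subgroup.zpowers_le.2
        (H.mem_closure_dc ha))).toEquiv, Nat.card_zpowers, hD.1.1 a ha]
    · rw [hf, MonoidHom.range_comp, Subgroup.range_subtype]
      exact hle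
  obtain ⟨e, he, hN, hmod⟩ := normalizer_data (eleven_sq_not_dvd hD hprim h22) hX
  have hCG := Subgroup.card_subgroup_dvd_card (Subgroup.centralizer (X : Set G))
  rw [card_m22 hD hprim h22] at hCG hmod
  have h22' : 22 ∣ Nat.card (Subgroup.centralizer (X : Set G)) := by
    refine (show Nat.Coprime 2 11 by norm_num).mul_dvd_of_dvd_of_dvd ?_ ?_
    · rw [← hD.1.1 a ha]
      exact Subgroup.orderOf_dvd_natCard _ haX
    · rw [← hord]
      exact Subgroup.orderOf_dvd_natCard _ (Subgroup.mem_centralizer_iff.2 fun k hk => by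
        obtain ⟨i, hi⟩ := Subgroup.mem_zpowers_iff.1 (hgen ⟨k, hk⟩)
        have hk' : x ^ i = k := congrArg Subtype.val hi
        rw [← hk']
        exact (Commute.zpow_self x i).eq)
  have hsol : Nat.card (Subgroup.centralizer (X : Set G)) = 22 ∧ e = 5 := by
    set cC := Nat.card (Subgroup.centralizer (X : Set G))
    rw [hN] at hmod
    have hg : cC ∣ 198 := by
      have := Nat.dvd_gcd hC hCG
      norm_num at this ⊢
      exact this
    obtain ⟨h, hh⟩ := h22'
    rw [hh] at hg hmod ⊢
    have h9 : h ∣ 9 := Nat.dvd_of_mul_dvd_mul_left (by norm_num : 0 < 22) (by simpa using hg)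
    have hh9 : h ≤ 9 := Nat.le_of_dvd (by norm_num) h9
    have he10 : e ≤ 10 := Nat.le_of_dvd (by norm_num) he
    interval_cases h <;> first | omega | (interval_cases e <;> simp_all <;> omega)
  refine ⟨hsol.1, ?_, haX, hNa⟩
  rw [hN, hsol.1, hsol.2]

end Cfsg.Agent.Transpos
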