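import Cfsg.Agent.Lib.Transpos.M23Cent
import Cfsg.Agent.Lib.Transpos.M22InvolClasses

/-!
# The classes of involutions in type M(23)

Products of one, two or three distinct commuting members form the three classes of involutions.
-/

set_option autoImplicit false

namespace Cfsg.Agent.Transpos

open Cfsg

universe u

variable {G : Type u} [Group G] [Finite G] {D : Set G}

namespace M23

variable (H : M23 D)
include H

/-- A pair of commuting members is carried to any other. -/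
theorem conj_pair {p q p' q' : G} (hp : p ∈ D) (hq : q ∈ Dc D p) (hp' : p' ∈ D) (hq' : q' ∈ Dc D p') :
    ∃ g : G, g * p * g⁻¹ = p' ∧ g * q * g⁻¹ = q' := by
  obtain ⟨g, rfl⟩ := H.trans p hp p' hp'
  obtain ⟨C⟩ := H.charts _ hp'
  have hq'' : g * q * g⁻¹ ∈ Dc D (g * p * g⁻¹) := ((stab_of_normal H.grp g).carries.dc p).1 q hq
  obtain ⟨z, hz⟩ := C.m22.trans _ (C.img_mem hq'') _ (C.img_mem hq')
  obtain ⟨y, rfl⟩ := C.surj z
  have hy := ((H.tr.dc hp').stab_closure y.2 _ hq'').1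
  have hyp : Commute (y : G) (g * p * g⁻¹) := Subgroup.mem_centralizer_singleton_iff.1
    ((H.cent_eq hp').ge y.2)
  refine ⟨y * g, ?_, ?_⟩
  · rw [show (y : G) * g * p * ((y : G) * g)⁻¹ = (y : G) * (g * p * g⁻¹) * (y : G)⁻¹ by group,
      hyp.eq, mul_inv_cancel_right]
  · rw [show (y : G) * g * q * ((y : G) * g)⁻¹ = (y : G) * (g * q * g⁻¹) * (y : G)⁻¹ by group]
    exact C.inj H hp' hy hq' ((C.img_pi y hq'' hy).trans hz)

/-- A triple of commuting members is carried to any other. -/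
theorem conj_triple {p q r p' q' r' : G} (hp : p ∈ D) (hq : q ∈ Dc D p) (hr : r ∈ Dc (Dc D p) q)
    (hp' : p' ∈ D) (hq' : q' ∈ Dc D p') (hr' : r' ∈ Dc (Dc D p') q') :
    ∃ g : G, g * p * g⁻¹ = p' ∧ g * q * g⁻¹ = q' ∧ g * r * g⁻¹ = r' := by
  obtain ⟨g, rfl, rfl⟩ := H.conj_pair hp hq hp' hq'
  have hr'' : g * r * g⁻¹ ∈ Dc (Dc D (g * p * g⁻¹)) (g * q * g⁻¹) :=
    (((stab_of_normal H.grp g).carries.dc p).dc q).1 r hr
  obtain ⟨C⟩ := H.charts _ hp'
  obtain ⟨z, hz1, hz2⟩ := C.m22.conj_pair (C.img_mem hq') ((C.dc_iff H hp' hq' hr''.1).2 hr'')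
    (C.img_mem hq') ((C.dc_iff H hp' hq' hr'.1).2 hr')
  obtain ⟨y, rfl⟩ := C.surj z
  have hm : ∀ {x}, x ∈ Dc D (g * p * g⁻¹) → (y : G) * x * (y : G)⁻¹ ∈ Dc D (g * p * g⁻¹) :=
    fun hx => ((H.tr.dc hp').stab_closure y.2 _ hx).1
  have hyp : Commute (y : G) (g * p * g⁻¹) := Subgroup.mem_centralizer_singleton_iff.1
    ((H.cent_eq hp').ge y.2)
  refine ⟨y * g, ?_, ?_, ?_⟩
  · rw [show (y : G) * g * p * ((y : G) * g)⁻¹ = (y : G) * (g * p * g⁻¹) * (y : G)⁻¹ by group,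
      hyp.eq, mul_inv_cancel_right]
  · rw [show (y : G) * g * q * ((y : G) * g)⁻¹ = (y : G) * (g * q * g⁻¹) * (y : G)⁻¹ by group]
    exact C.inj H hp' (hm hq') hq' ((C.img_pi y hq' (hm hq')).trans hz1)
  · rw [show (y : G) * g * r * ((y : G) * g)⁻¹ = (y : G) * (g * r * g⁻¹) * (y : G)⁻¹ by group]
    exact C.inj H hp' (hm hr''.1) hr'.1 ((C.img_pi y hr''.1 (hm hr''.1)).trans hz2)

/-- Two commuting members do not have the product of three. -/
theorem two_ne_three {p q g k l : G} (hp : p ∈ D) (hq : q ∈ Dc D p) (hg : g ∈ D) (hk : k ∈ Dc D g)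
    (hl : l ∈ Dc (Dc D g) k) : g * k * l ≠ p * q := by
  intro e
  have cm : ∀ {u : G}, u ∈ D → Commute u (p * q) → Commute u g ∧ Commute u k ∧ Commute u l :=
    fun hu h => commute_three H.grp.1 hg hk.1 hl.1.1 hu hk.2.1.symm hl.1.2.1.symm hl.2.1.symm
      hk.2.2 hl.1.2.2 hl.2.2 (by rw [e]; exact h)
  obtain ⟨pg, pk, pl⟩ := cm hp ((Commute.refl p).mul_right hq.2.2)
  obtain ⟨qg, qk, ql⟩ := cm hq.1 (hq.2.2.symm.mul_right (Commute.refl q))
  have pm : ∀ {x y z : G}, x ∈ D → y ∈ Dc D x → z ∈ D → x * y ≠ z := fun hx hy hz =>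
    member_ne_two H.tr H.noTwin₂ hz hx hy
  have hkl : l ∈ Dc D k := ⟨hl.1.1, hl.2.1, hl.2.2⟩
  have e' : g * k * l = q * p := e.trans hq.2.2.eq
  -- none of the factors repeats
  have off : ∀ {u w}, u ∈ D → w ∈ D → g * k * l = u * w → u ≠ g ∧ u ≠ k ∧ u ≠ l := by
    refine fun {u w} hu hw he => ⟨fun h => ?_, fun h => ?_, fun h => ?_⟩
    · exact pm hk.1 hkl hw (mul_left_cancel (a := g) (by rw [← mul_assoc, he, h]))
    · refine pm hg hl.1 hw (mul_left_cancel (a := k) ?_)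
      rw [← mul_assoc, hk.2.2.symm.eq, he, h]
    · refine pm hg hk hw (mul_left_cancel (a := l) ?_)
      rw [(hl.1.2.2.symm.mul_right hl.2.2.symm).eq, he, h]
  obtain ⟨npg, npk, npl⟩ := off hp hq.1 e
  obtain ⟨nqg, nqk, nql⟩ := off hq.1 hp e'
  -- the four others in the chart at `g`
  obtain ⟨C⟩ := H.charts g hg
  have hpm : p ∈ Dc D g := ⟨hp, npg, pg.symm⟩
  have hqm : q ∈ Dc D g := ⟨hq.1, nqg, qg.symm⟩
  have hne : ∀ {x y} (hx : x ∈ Dc D g) (hy : y ∈ Dc D g), x ≠ y → C.img hx ≠ C.img hy :=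
    fun hx hy h he => h (C.inj H hg hx hy he)
  let el : ∀ {x}, x ∈ Dc D g → ↥(Subgroup.closure (Dc D g)) :=
    fun {x} hx => ⟨x, Subgroup.subset_closure hx⟩
  have hg' : ((el hk * el hl.1)⁻¹ * (el hpm * el hqm) : G) = g := by
    show (k * l)⁻¹ * (p * q) = g
    rw [← e, mul_assoc g k l, ← mul_assoc, (hk.2.2.mul_right hl.1.2.2).inv_right.symm.eq, mul_assoc,
      inv_mul_cancel, mul_one]
  have hπ : C.π ((el hk * el hl.1)⁻¹ * (el hpm * el hqm)) = 1 := by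
    rw [← Subgroup.mem_bot, ← C.m22.center]
    refine Subgroup.mem_center_iff.2 fun z => ?_
    obtain ⟨z, rfl⟩ := C.surj z
    rw [← map_mul, ← map_mul]
    congr 1
    refine Subtype.ext ?_
    show (z : G) * ((k * l)⁻¹ * (p * q)) = (k * l)⁻¹ * (p * q) * (z : G)
    rw [show (k * l)⁻¹ * (p * q) = g from hg']
    exact Subgroup.mem_centralizer_singleton_iff.1 ((H.cent_eq hg).ge z.2)
  rw [map_mul, map_inv, inv_mul_eq_one, map_mul, map_mul] at hπ
  rcases mem_of_prod_two C.m22.tr C.m22.noTwin₂ (C.img_mem hk) (C.img_mem hl.1) (C.img_mem hpm)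
    (C.img_mem hqm) (hne hk hl.1 hl.2.1.symm) (hne hpm hqm hq.2.1.symm)
    ((C.comm_iff H hg hk hl.1).2 hl.2.2) ((C.comm_iff H hg hpm hqm).2 hq.2.2) hπ with h | h
  · exact hne hk hpm (Ne.symm npk) h
  · exact hne hk hqm (Ne.symm nqk) h

/-- The three classes of involutions. -/
theorem invol_classes :
    (∀ x : G, orderOf x = 2 → ∃ m : ℕ, 1 ≤ m ∧ m ≤ 3 ∧ IsFrameProd D m x) ∧
    (∀ m : ℕ, 1 ≤ m → m ≤ 3 → (∃ x : G, orderOf x = 2 ∧ IsFrameProd D m x) ∧
      ∀ x y : G, IsFrameProd D m x → IsFrameProd D m y → IsConj x y) ∧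
    ∀ (m m' : ℕ) (x : G), 1 ≤ m → m ≤ 3 → 1 ≤ m' → m' ≤ 3 →
      IsFrameProd D m x → IsFrameProd D m' x → m = m' := by
  refine ⟨fun x hx => ?_, fun m h1 h3 => ⟨?_, fun x y hx hy => ?_⟩,
    fun m m' x h1 h3 h1' h3' hx hx' => ?_⟩
  · have h2 : x * x = 1 := by have := pow_orderOf_eq_one x; rwa [hx, pow_two] at this
    obtain ⟨l, hn, hl, hD, hc, hp⟩ := H.short_invol h2
    refine ⟨l.length, ?_, hl, l, hn, rfl, hD, hc, hp⟩
    rcases l with - | ⟨a, l⟩
    · rw [← hp, List.prod_nil, orderOf_one] at hx; norm_num at hx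
    · simp
  · obtain ⟨-, a, ha, -⟩ := H.type
    obtain ⟨b, hb⟩ := H.dc_nonempty ha
    obtain ⟨C⟩ := H.charts a ha
    obtain ⟨β, hβ⟩ := (C.m22.model _ (C.img_mem hb)).1
    obtain ⟨c, hca, rfl⟩ := C.lift β hβ.1
    have hc : c ∈ Dc (Dc D a) b := (C.dc_iff H ha hb hca).1 hβ
    have key : ∀ {x : G}, x * x = 1 → x ≠ 1 → orderOf x = 2 := fun h h' =>
      orderOf_eq_prime (by rw [pow_two]; exact h) h'
    interval_cases m
    · exact ⟨a, key (sq_one H.grp.1 ha) (ne_one H.grp.1 ha), [a], by simp, rfl, by simp [ha],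
        by simp, by simp⟩
    · refine ⟨a * b, key ?_ fun e => hb.2.1 ?_, [a, b], by simp [hb.2.1.symm], rfl,
        by simp [ha, hb.1], by simp [hb.2.2, hb.2.2.symm], by simp⟩
      · rw [hb.2.2.symm.mul_mul_mul_comm, sq_one H.grp.1 ha, sq_one H.grp.1 hb.1, one_mul]
      · rw [eq_inv_of_mul_eq_one_right e, inv_eq H.grp.1 ha]
    · have hcab : Commute c (a * b) := hc.1.2.2.symm.mul_right hc.2.2.symm
      refine ⟨a * b * c, key ?_ fun e => ?_, [a, b, c],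
        by simp [hb.2.1.symm, hc.1.2.1.symm, hc.2.1.symm], rfl, by simp [ha, hb.1, hc.1.1],
        by simp [hb.2.2, hb.2.2.symm, hc.1.2.2, hc.1.2.2.symm, hc.2.2, hc.2.2.symm],
        by simp [mul_assoc]⟩
      · rw [← pow_two, hcab.symm.mul_pow, hb.2.2.mul_pow, pow_two, pow_two, pow_two,
          sq_one H.grp.1 ha, sq_one H.grp.1 hb.1, sq_one H.grp.1 hc.1.1, one_mul, one_mul]
      · exact member_ne_two H.tr H.noTwin₂ hc.1.1 ha hb (by
          rw [eq_inv_of_mul_eq_one_left e, inv_eq H.grp.1 hc.1.1])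
  · rw [isConj_iff]
    interval_cases m
    · exact H.trans x hx.one y hy.one
    · obtain ⟨p, q, hp, hq, rfl⟩ := hx.two
      obtain ⟨p', q', hp', hq', rfl⟩ := hy.two
      obtain ⟨g, rfl, rfl⟩ := H.conj_pair hp hq hp' hq'
      exact ⟨g, by group⟩
    · obtain ⟨p, q, r, hp, hq, hr, rfl⟩ := hx.three
      obtain ⟨p', q', r', hp', hq', hr', rfl⟩ := hy.three
      obtain ⟨g, rfl, rfl, rfl⟩ := H.conj_triple hp hq hr hp' hq' hr'
      exact ⟨g, by group⟩
  · have k12 : ∀ {x}, IsFrameProd D 1 x → ¬ IsFrameProd D 2 x := fun hx hy => by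
      obtain ⟨p, q, hp, hq, e⟩ := hy.two
      exact member_ne_two H.tr H.noTwin₂ hx.one hp hq e
    have k13 : ∀ {x}, IsFrameProd D 1 x → ¬ IsFrameProd D 3 x := fun hx hy => by
      obtain ⟨p, q, r, hp, hq, hr, e⟩ := hy.three
      exact member_ne_three H.tr H.noTwin₂ hx.one hp hq hr e
    have k23 : ∀ {x}, IsFrameProd D 2 x → ¬ IsFrameProd D 3 x := fun {x} hx hy => by
      obtain ⟨p, q, hp, hq, e⟩ := hx.two
      obtain ⟨g, k, l, hg, hk, hl, e'⟩ := hy.three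
      exact H.two_ne_three hp hq hg hk hl (e'.trans e.symm)
    interval_cases m <;> interval_cases m' <;>
      first
        | rfl
        | exact absurd hx' (k12 hx) | exact absurd hx' (k13 hx) | exact absurd hx' (k23 hx)
        | exact absurd hx (k12 hx') | exact absurd hx (k13 hx') | exact absurd hx (k23 hx')

end M23

end Cfsg.Agent.Transpos
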