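import Cfsg.Agent.Lib.Transpos.Linked
import Cfsg.Agent.Lib.Perm.CoxeterPresentation

/-!
# The members centralising a subgroup of prime order

`Fx D X`: the members commuting with all of `X`.  Its size is that of `D` modulo `p`
(`FixGraph.modEq_fx`), conjugation inside a subgroup can be adjusted to normalise `X` when `X` is a
Sylow subgroup of the stabiliser (`FixGraph.exists_norm`), and a conjugation permuting the images of
the transpositions under an embedding of `Sym(n)` is that of a permutation (`FixGraph.exists_perm`).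
-/

set_option autoImplicit false
set_option linter.style.haveILetI false

namespace Cfsg.Agent.Transpos

open Equiv

variable {G : Type*} [Group G]

/-- The members of `D` centralising `X`. -/
def Fx (D : Set G) (X : Subgroup G) : Set G := D ∩ (Subgroup.centralizer (X : Set G) : Set G)

namespace FixGraph

variable {D : Set G} {X : Subgroup G}

theorem mem_fx {f : G} : f ∈ Fx D X ↔ f ∈ D ∧ X ≤ Subgroup.centralizer ({f} : Set G) := by
  refine and_congr_right fun _ => ?_
  rw [SetLike.mem_coe, Subgroup.mem_centralizer_iff]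
  exact ⟨fun h x hx => Subgroup.mem_centralizer_singleton_iff.2 (h x hx), fun h x hx =>
    Subgroup.mem_centralizer_singleton_iff.1 (h hx)⟩

theorem commute_of_fx {f x : G} (hf : f ∈ Fx D X) (hx : x ∈ X) : Commute x f :=
  Subgroup.mem_centralizer_singleton_iff.1 ((mem_fx.1 hf).2 hx)

theorem mem_normalizer {n : G} (h : ∀ x ∈ X, n * x * n⁻¹ ∈ X) [Finite G] :
    n ∈ Subgroup.normalizer (X : Set G) := by
  have e : X.map (MulAut.conj n).toMonoidHom = X := by
    refine Subgroup.eq_of_le_of_card_ge ?_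
      (Subgroup.card_map_of_injective (MulAut.conj n).injective).ge
    rintro _ ⟨x, hx, rfl⟩
    exact h x hx
  rw [Subgroup.mem_normalizer_iff]
  refine fun x => ⟨h x, fun hx => ?_⟩
  have hx' : n * x * n⁻¹ ∈ X.map (MulAut.conj n).toMonoidHom := e.symm ▸ hx
  obtain ⟨y, hy, hy'⟩ := hx'
  have : y = x := (MulAut.conj n).injective hy'
  exact this ▸ hy

theorem conj_mem_of_normalizer {n x : G} (hn : n ∈ Subgroup.normalizer (X : Set G)) (hx : x ∈ X) :
    n * x * n⁻¹ ∈ X := (Subgroup.mem_normalizer_iff.1 hn x).1 hx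

/-- Conjugation by the normaliser permutes the members centralising `X`. -/
theorem conj_fx (hD : ∀ g : G, ∀ d ∈ D, g * d * g⁻¹ ∈ D) {n f : G}
    (hn : n ∈ Subgroup.normalizer (X : Set G)) (hf : f ∈ Fx D X) : n * f * n⁻¹ ∈ Fx D X := by
  refine mem_fx.2 ⟨hD n f hf.1, fun x hx => Subgroup.mem_centralizer_singleton_iff.2 ?_⟩
  have h := conj_mem_of_normalizer ((Subgroup.normalizer _).inv_mem hn) hx
  have := (Commute.conj_iff n).2 (commute_of_fx hf h)
  rwa [show n * (n⁻¹ * x * n⁻¹⁻¹) * n⁻¹ = x by group] at this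

/-- Two subgroups of order `p` of a group of order not divisible by `p * p` are conjugate in it. -/
theorem exists_conj_subgroup [Finite G] {p : ℕ} (hp : p.Prime) {C X Y : Subgroup G}
    (hC : ¬ p * p ∣ Nat.card C) (hX : X ≤ C) (hY : Y ≤ C) (hXc : Nat.card X = p)
    (hYc : Nat.card Y = p) : ∃ k ∈ C, ∀ x ∈ X, k * x * k⁻¹ ∈ Y := by
  haveI := Fact.mk hp
  have hsyl : ∀ Z : Subgroup G, Z ≤ C → Nat.card Z = p →
      ∃ S : Sylow p C, (S : Subgroup C) = Z.subgroupOf C := by
    intro Z hZ hZc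
    have hc : Nat.card (Z.subgroupOf C) = p :=
      (Nat.card_congr (Subgroup.subgroupOfEquivOfLe hZ).toEquiv).trans hZc
    obtain ⟨S, hS⟩ := (IsPGroup.of_card (n := 1) (by rw [pow_one]; exact hc) :
      IsPGroup p (Z.subgroupOf C)).exists_le_sylow
    refine ⟨S, (Subgroup.eq_of_le_of_card_ge hS ?_).symm⟩
    obtain ⟨k, hk⟩ := IsPGroup.iff_card.1 S.isPGroup'
    have hd : p ^ k ∣ Nat.card C := hk ▸ Subgroup.card_subgroup_dvd_card _
    rcases k with _ | _ | k
    · rw [hk, hc]; simpa using hp.one_lt.le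
    · rw [hk, hc]; simp
    · exact absurd ((dvd_of_eq (by ring : p * p = p ^ 2)).trans ((pow_dvd_pow p (by omega)).trans hd)) hC
  obtain ⟨S, hS⟩ := hsyl X hX hXc
  obtain ⟨T, hT⟩ := hsyl Y hY hYc
  obtain ⟨k, hk⟩ := MulAction.exists_smul_eq C S T
  refine ⟨k, k.2, fun x hx => ?_⟩
  have hx' : k * ⟨x, hX hx⟩ * k⁻¹ ∈ ((k • S : Sylow p C) : Subgroup C) := by
    rw [Sylow.coe_subgroup_smul]
    exact Subgroup.smul_mem_pointwise_smul (⟨x, hX hx⟩ : C) (MulAut.conj k) _
      (by rw [hS]; exact hx)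
  rw [hk, hT] at hx'
  exact hx'

/-- An element moving `X` into the stabiliser `C` can be adjusted inside `C` to normalise `X`. -/
theorem exists_norm [Finite G] {p : ℕ} (hp : p.Prime) {C : Subgroup G} {g : G}
    (hC : ¬ p * p ∣ Nat.card C) (hXc : Nat.card X = p) (hX : X ≤ C)
    (hg : ∀ x ∈ X, g * x * g⁻¹ ∈ C) : ∃ k ∈ C, k * g ∈ Subgroup.normalizer (X : Set G) := by
  obtain ⟨k, hk, hkx⟩ := exists_conj_subgroup hp hC (X := X.map (MulAut.conj g).toMonoidHom)
    (Y := X) (by rintro _ ⟨x, hx, rfl⟩; exact hg x hx) hX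
    ((Subgroup.card_map_of_injective (MulAut.conj g).injective).trans hXc) hXc
  refine ⟨k, hk, mem_normalizer fun x hx => ?_⟩
  have := hkx _ ⟨x, hx, rfl⟩
  rwa [show k * g * x * (k * g)⁻¹ = k * (g * x * g⁻¹) * k⁻¹ by group]

/-- The number of members of an invariant set fixed by `X` is its size modulo `p`. -/
theorem modEq_fx [Finite G] {p : ℕ} (hp : p.Prime) (hXc : Nat.card X = p) (S : Set G)
    (hS : ∀ x ∈ X, ∀ s ∈ S, x * s * x⁻¹ ∈ S) :
    S.ncard ≡ (S ∩ (Subgroup.centralizer (X : Set G) : Set G)).ncard [MOD p] := by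
  haveI := Fact.mk hp
  letI : MulAction ↥X ↥S :=
    { smul := fun x s => ⟨(x : G) * s * (x : G)⁻¹, hS x x.2 s s.2⟩
      one_smul := fun s => Subtype.ext (show (1 : G) * s * (1 : G)⁻¹ = s by group)
      mul_smul := fun x y s => Subtype.ext
        (show ((x : G) * y) * s * ((x : G) * y)⁻¹ = x * (y * s * (y : G)⁻¹) * (x : G)⁻¹ by group) }
  have hpg : IsPGroup p ↥X := IsPGroup.of_card (n := 1) (by rw [pow_one]; exact hXc)
  have h := hpg.card_modEq_card_fixedPoints ↥S
  rw [Nat.card_coe_set_eq] at h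
  refine h.trans (congrArg (· % p) ?_)
  rw [← Nat.card_coe_set_eq]
  exact Nat.card_congr
    { toFun := fun s => ⟨(s.1 : G), s.1.2, Subgroup.mem_centralizer_iff.2 fun x hx =>
        mul_inv_eq_iff_eq_mul.1 (congrArg Subtype.val (s.2 ⟨x, hx⟩))⟩
      invFun := fun s => ⟨⟨s.1, s.2.1⟩, fun x => Subtype.ext (mul_inv_eq_iff_eq_mul.2
        (Subgroup.mem_centralizer_iff.1 s.2.2 x x.2))⟩
      left_inv := fun _ => rfl
      right_inv := fun _ => rfl }

theorem swap_commute {n : ℕ} {a b c d : Fin n} (h1 : a ≠ c) (h2 : a ≠ d) (h3 : b ≠ c) (h4 : b ≠ d) :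
    Commute (swap a b) (swap c d) := by
  refine Equiv.ext fun x => ?_
  simp only [Perm.mul_apply, swap_apply_def]
  split_ifs <;> simp_all

theorem not_commute_swap {n : ℕ} {o i j : Fin n} (hoi : o ≠ i) (hoj : o ≠ j) (hij : i ≠ j) :
    ¬ Commute (swap o i) (swap o j) := fun h => by
  have := DFunLike.congr_fun h.eq o
  simp [swap_apply_def, hoi.symm, hoj.symm, hij, hij.symm] at this

theorem swap_conj {n : ℕ} {o x y : Fin n} (h1 : y ≠ o) (h2 : y ≠ x) :
    swap o x * swap o y * swap o x = swap x y := by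
  rw [swap_comm o y]
  exact Equiv.swap_mul_swap_mul_swap h1 h2

/-- A conjugation permuting the images of the transpositions is that of a permutation. -/
theorem exists_perm {n : ℕ} (hn : 3 ≤ n) {φ : Perm (Fin n) →* G} (hφ : Function.Injective φ)
    {g : G} (hg : ∀ i j : Fin n, i ≠ j →
      ∃ k l : Fin n, k ≠ l ∧ g * φ (swap i j) * g⁻¹ = φ (swap k l)) :
    ∃ π : Perm (Fin n), ∀ σ, g * φ σ * g⁻¹ = φ (π * σ * π⁻¹) := by
  classical
  choose k l hkl he using hg
  set o : Fin n := ⟨0, by omega⟩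
  set e₁ : Fin n := ⟨1, by omega⟩
  set e₂ : Fin n := ⟨2, by omega⟩
  have h01 : o ≠ e₁ := Fin.ne_of_val_ne (by simp [o, e₁])
  have h02 : o ≠ e₂ := Fin.ne_of_val_ne (by simp [o, e₂])
  have h12 : e₁ ≠ e₂ := Fin.ne_of_val_ne (by simp [e₁, e₂])
  let T : ∀ i j : Fin n, i ≠ j → Perm (Fin n) := fun i j h => swap (k i j h) (l i j h)
  have hTinj : ∀ i j (h : i ≠ j) i' j' (h' : i' ≠ j'), T i j h = T i' j' h' →
      swap i j = swap i' j' := fun i j h i' j' h' e => by
    refine hφ (mul_left_cancel (mul_right_cancel ((he i j h).trans ?_ : g * _ * g⁻¹ = g * _ * g⁻¹)))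
    rw [he i' j' h']
    exact congrArg φ e
  have hTnc : ∀ i j (h : i ≠ j) i' j' (h' : i' ≠ j'), ¬ Commute (swap i j) (swap i' j') →
      ¬ Commute (T i j h) (T i' j' h') := fun i j h i' j' h' hn hc => hn <| hφ <| by
    rw [map_mul, map_mul]
    have := hc.map φ
    simp only [T] at this
    rw [← he i j h, ← he i' j' h', Commute.conj_iff] at this
    exact this.eq
  -- the common point
  obtain ⟨p, q, r, hpq, hpr, hq, hr⟩ : ∃ p q r : Fin n, p ≠ q ∧ p ≠ r ∧
      T o e₁ h01 = swap p q ∧ T o e₂ h02 = swap p r := by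
    by_contra hno
    push Not at hno
    refine hTnc o e₁ h01 o e₂ h02 (not_commute_swap h01 h02 h12) (swap_commute ?_ ?_ ?_ ?_)
    · exact fun e => hno _ _ _ (hkl o e₁ h01) (e ▸ hkl o e₂ h02) rfl (by simp only [T]; rw [e])
    · exact fun e => hno _ _ _ (hkl o e₁ h01) (e ▸ (hkl o e₂ h02).symm) rfl
        (by simp only [T]; rw [e, swap_comm])
    · exact fun e => hno _ _ _ (hkl o e₁ h01).symm (e ▸ hkl o e₂ h02) (swap_comm _ _)
        (by simp only [T]; rw [e])
    · exact fun e => hno _ _ _ (hkl o e₁ h01).symm (e ▸ (hkl o e₂ h02).symm) (swap_comm _ _)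
        (by simp only [T]; rw [e, swap_comm])
  have hqr : q ≠ r := fun e => h12 (by
    have := DFunLike.congr_fun (hTinj o e₁ h01 o e₂ h02 (by rw [hq, hr, e])) o
    simpa using this)
  have h3rd : T e₁ e₂ h12 = swap q r := by
    have hgen : φ (swap q r) = g * φ (swap e₁ e₂) * g⁻¹ := by
      have e1 : swap e₁ e₂ = swap o e₁ * swap o e₂ * swap o e₁ := (swap_conj h02.symm h12.symm).symm
      have e2 : swap q r = swap p q * swap p r * swap p q := (swap_conj hpr.symm hqr.symm).symm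
      have a1 : g * φ (swap o e₁) * g⁻¹ = φ (swap p q) := (he o e₁ h01).trans (congrArg φ hq)
      have a2 : g * φ (swap o e₂) * g⁻¹ = φ (swap p r) := (he o e₂ h02).trans (congrArg φ hr)
      rw [e1, e2, map_mul, map_mul, map_mul, map_mul, ← a1, ← a2]
      group
    exact (hφ (hgen.trans (he e₁ e₂ h12))).symm
  have hall : ∀ i (h : o ≠ i), ∃ s, s ≠ p ∧ T o i h = swap p s := by
    intro i h
    by_cases hi1 : i = e₁
    · subst hi1; exact ⟨q, hpq.symm, hq⟩
    by_cases hi2 : i = e₂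
    · subst hi2; exact ⟨r, hpr.symm, hr⟩
    have hc1 := hTnc o i h o e₁ h01 (not_commute_swap h h01 hi1)
    have hc2 := hTnc o i h o e₂ h02 (not_commute_swap h h02 hi2)
    rw [hq] at hc1
    rw [hr] at hc2
    have hne : T o i h ≠ swap q r := fun e => by
      have := DFunLike.congr_fun (hTinj o i h e₁ e₂ h12 (e.trans h3rd.symm)) o
      simp [swap_apply_def, h01, h02, h.symm] at this
    simp only [T] at hc1 hc2 hne ⊢
    have hkl' := hkl o i h
    by_cases hk : k o i h = p
    · exact ⟨l o i h, fun e => hkl' (hk.trans e.symm), by rw [hk]⟩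
    by_cases hl : l o i h = p
    · exact ⟨k o i h, hk, by rw [hl, swap_comm]⟩
    exfalso
    have h1 : k o i h = q ∨ l o i h = q := by
      by_contra hh
      push Not at hh
      exact hc1 (swap_commute hk hh.1 hl hh.2)
    have h2 : k o i h = r ∨ l o i h = r := by
      by_contra hh
      push Not at hh
      exact hc2 (swap_commute hk hh.1 hl hh.2)
    rcases h1 with h1 | h1 <;> rcases h2 with h2 | h2
    · exact hqr (h1.symm.trans h2)
    · exact hne (by rw [h1, h2])
    · exact hne (by rw [h1, h2, swap_comm])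
    · exact hqr (h1.symm.trans h2)
  choose s hsp hs using hall
  let f : Fin n → Fin n := fun i => if h : o = i then p else s i h
  have hf : Function.Injective f := fun i j e => by
    by_cases hi : o = i <;> by_cases hj : o = j
    · exact hi.symm.trans hj
    · simp only [f, dif_pos hi, dif_neg hj] at e; exact absurd e.symm (hsp j hj)
    · simp only [f, dif_pos hj, dif_neg hi] at e; exact absurd e (hsp i hi)
    · simp only [f, dif_neg hi, dif_neg hj] at e
      have := DFunLike.congr_fun (hTinj o i hi o j hj (by rw [hs i hi, hs j hj, e])) o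
      simpa using this
  let π : Perm (Fin n) := Equiv.ofBijective f (Finite.injective_iff_bijective.1 hf)
  refine ⟨π, fun σ => ?_⟩
  suffices (MulAut.conj g).toMonoidHom.comp φ = φ.comp (MulAut.conj π).toMonoidHom from
    DFunLike.congr_fun this σ
  refine MonoidHom.eq_of_eqOn_dense Perm.closure_isSwap ?_
  have hbase : ∀ i, o ≠ i → g * φ (swap o i) * g⁻¹ = φ (π * swap o i * π⁻¹) := fun i hi => by
    rw [← Equiv.swap_apply_apply, show π o = p by simp [π, f], show π i = s i hi by simp [π, f, hi]]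
    exact (he o i hi).trans (congrArg φ (hs i hi))
  rintro _ ⟨x, y, hxy, rfl⟩
  show g * φ (swap x y) * g⁻¹ = φ (π * swap x y * π⁻¹)
  by_cases hx : o = x
  · subst hx; exact hbase y hxy
  by_cases hy : o = y
  · subst hy; rw [swap_comm]; exact hbase x hxy.symm
  have e : swap x y = swap o x * swap o y * swap o x := (swap_conj (Ne.symm hy) hxy.symm).symm
  rw [e]
  simp only [map_mul, map_inv, mul_assoc]
  have b1 := hbase x hx
  have b2 := hbase y hy
  simp only [map_mul, map_inv] at b1 b2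
  calc g * (φ (swap o x) * (φ (swap o y) * (φ (swap o x) * g⁻¹)))
      = (g * φ (swap o x) * g⁻¹) * (g * φ (swap o y) * g⁻¹) * (g * φ (swap o x) * g⁻¹) := by group
    _ = _ := by rw [b1, b2]; group

/-- The number of Sylow subgroups, for a subgroup `X` of order `p` of a group `C`. -/
theorem exists_index [Finite G] {p : ℕ} (hp : p.Prime) {C : Subgroup G}
    (hC : ¬ p * p ∣ Nat.card C) (hX : X ≤ C) (hXc : Nat.card X = p) :
    ∃ m, Nat.card C = m * Nat.card ↥(C ⊓ Subgroup.normalizer (X : Set G)) ∧ m ≡ 1 [MOD p] := by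
  haveI := Fact.mk hp
  obtain ⟨S, hS⟩ : ∃ S : Sylow p C, (S : Subgroup C) = X.subgroupOf C := by
    have hc : Nat.card (X.subgroupOf C) = p :=
      (Nat.card_congr (Subgroup.subgroupOfEquivOfLe hX).toEquiv).trans hXc
    obtain ⟨S, hS⟩ := (IsPGroup.of_card (n := 1) (by rw [pow_one]; exact hc) :
      IsPGroup p (X.subgroupOf C)).exists_le_sylow
    refine ⟨S, (Subgroup.eq_of_le_of_card_ge hS ?_).symm⟩
    obtain ⟨k, hk⟩ := IsPGroup.iff_card.1 S.isPGroup'
    have hd : p ^ k ∣ Nat.card C := hk ▸ Subgroup.card_subgroup_dvd_card _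
    rcases k with _ | _ | k
    · rw [hk, hc]; simpa using hp.one_lt.le
    · rw [hk, hc]; simp
    · exact absurd ((dvd_of_eq (by ring : p * p = p ^ 2)).trans ((pow_dvd_pow p (by omega)).trans hd)) hC
  refine ⟨Nat.card (Sylow p C), ?_, card_sylow_modEq_one p C⟩
  have hN : Subgroup.normalizer (S : Set C) =
      (C ⊓ Subgroup.normalizer (X : Set G)).subgroupOf C := by
    change Subgroup.normalizer ((S : Subgroup C) : Set C) = _
    ext n
    rw [Subgroup.mem_subgroupOf, Subgroup.mem_inf, Subgroup.mem_normalizer_iff,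
      Subgroup.mem_normalizer_iff, hS]
    refine ⟨fun h => ⟨n.2, fun x => ⟨fun hx => (h ⟨x, hX hx⟩).1 hx, fun hx => ?_⟩⟩, fun h x => h.2 x⟩
    have hxC : x ∈ C := by
      have := C.mul_mem (C.mul_mem (C.inv_mem n.2) (hX hx)) n.2
      rwa [show (n : G)⁻¹ * ((n : G) * x * (n : G)⁻¹) * n = x by group] at this
    exact (h ⟨x, hxC⟩).2 hx
  rw [Sylow.card_eq_index_normalizer S, hN, mul_comm,
    ← Nat.card_congr (Subgroup.subgroupOfEquivOfLe (inf_le_left :
      C ⊓ Subgroup.normalizer (X : Set G) ≤ C)).toEquiv]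
  exact (Subgroup.card_mul_index _).symm

/-- With the members centralising `X` the transpositions of an embedded `Sym(n)`, the normaliser of
`X` is that group times its centraliser. -/
theorem split [Finite G] (hD : ∀ g : G, ∀ d ∈ D, g * d * g⁻¹ ∈ D) {n : ℕ} (hn : 3 ≤ n)
    {φ : Perm (Fin n) →* G} (hφ : Function.Injective φ)
    (hF : Fx D X = φ '' {σ | σ.IsSwap}) :
    Subgroup.closure (Fx D X) = φ.range ∧
      Nonempty (↥(Subgroup.closure (Fx D X)) ≃* Perm (Fin n)) ∧
      Subgroup.closure (Fx D X) ≤ Subgroup.centralizer (X : Set G) ∧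
      Subgroup.centralizer (Subgroup.closure (Fx D X) : Set G) ⊓ Subgroup.closure (Fx D X) = ⊥ ∧
      ∀ g ∈ Subgroup.normalizer (X : Set G), ∃ k ∈ Subgroup.closure (Fx D X),
        k⁻¹ * g ∈ Subgroup.centralizer (Subgroup.closure (Fx D X) : Set G) := by
  have hK : Subgroup.closure (Fx D X) = φ.range := by
    rw [hF, ← MonoidHom.map_closure, Perm.closure_isSwap, MonoidHom.range_eq_map]
  refine ⟨hK, ⟨(MulEquiv.subgroupCongr hK).trans (MonoidHom.ofInjective hφ).symm⟩,
    (Subgroup.closure_le _).2 fun f hf => hf.2, ?_, fun g hg => ?_⟩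
  · rw [hK, eq_bot_iff]
    rintro _ ⟨hc, σ, rfl⟩
    have hσ : σ ∈ Subgroup.center (Perm (Fin n)) := Subgroup.mem_center_iff.2 fun τ => hφ (by
      rw [map_mul, map_mul]
      exact Subgroup.mem_centralizer_iff.1 hc (φ τ) ⟨τ, rfl⟩)
    rw [Subgroup.mem_bot, ← map_one φ]
    congr 1
    refine Equiv.ext fun i => ?_
    by_contra hi
    change σ i ≠ i at hi
    obtain ⟨j, hj1, hj2⟩ : ∃ j : Fin n, j ≠ i ∧ j ≠ σ i := by
      by_contra hh
      push Not at hh
      have hle : Fintype.card (Fin n) ≤ 2 := (Finset.card_le_card (s := Finset.univ)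
        (t := {i, σ i}) fun j _ => by
          by_cases e : j = i
          · simp [e]
          · simp [hh j e]).trans Finset.card_le_two
      rw [Fintype.card_fin] at hle
      omega
    have := DFunLike.congr_fun (Subgroup.mem_center_iff.1 hσ (swap i j)) i
    simp [swap_apply_def, hi, hj2.symm] at this
    exact hj1 this.symm
  · obtain ⟨π, hπ⟩ := exists_perm hn hφ (g := g) fun i j hij => by
      have h1 : φ (swap i j) ∈ Fx D X := by rw [hF]; exact ⟨_, ⟨i, j, hij, rfl⟩, rfl⟩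
      have h2 := conj_fx hD hg h1
      rw [hF] at h2
      obtain ⟨_, ⟨k, l, hkl, rfl⟩, e⟩ := h2
      exact ⟨k, l, hkl, e.symm⟩
    refine ⟨φ π, hK ▸ ⟨π, rfl⟩, Subgroup.mem_centralizer_iff.2 fun k hk => ?_⟩
    rw [SetLike.mem_coe, hK] at hk
    obtain ⟨σ, rfl⟩ := hk
    have h := hπ σ
    rw [map_mul, map_mul, map_inv] at h
    calc φ σ * ((φ π)⁻¹ * g) = (φ π)⁻¹ * (φ π * φ σ * (φ π)⁻¹) * g := by group
      _ = (φ π)⁻¹ * (g * φ σ * g⁻¹) * g := by rw [h]
      _ = (φ π)⁻¹ * g * φ σ := by group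

/-- A product decomposition from a splitting. -/
theorem card_of_split [Finite G] {A Z K : Subgroup G} (hZ : Z ≤ A) (hK : K ≤ A) (hb : Z ⊓ K = ⊥)
    (hsplit : ∀ g ∈ A, ∃ k ∈ K, k⁻¹ * g ∈ Z) : Nat.card A = Nat.card Z * Nat.card K ∧ Z ⊔ K = A := by
  refine ⟨?_, le_antisymm (sup_le hZ hK) fun g hg => ?_⟩
  · rw [← Nat.card_prod]
    refine (Nat.card_eq_of_bijective
      (fun p : Z × K => (⟨p.2 * p.1, A.mul_mem (hK p.2.2) (hZ p.1.2)⟩ : ↥A)) ⟨fun p q e => ?_, fun g => ?_⟩).symm
    · have e' : (p.2 : G) * p.1 = q.2 * q.1 := congrArg Subtype.val e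
      have h1 : (q.2 : G)⁻¹ * p.2 = q.1 * (p.1 : G)⁻¹ := by
        rw [eq_mul_inv_iff_mul_eq, mul_assoc, e', inv_mul_cancel_left]
      have h2 : (q.2 : G)⁻¹ * p.2 ∈ Z ⊓ K :=
        ⟨h1 ▸ Z.mul_mem q.1.2 (Z.inv_mem p.1.2), K.mul_mem (K.inv_mem q.2.2) p.2.2⟩
      rw [hb, Subgroup.mem_bot, inv_mul_eq_one] at h2
      rw [← h2] at e'
      exact Prod.ext (Subtype.ext (mul_left_cancel e')) (Subtype.ext h2.symm)
    · obtain ⟨k, hk, hz⟩ := hsplit g g.2
      exact ⟨(⟨_, hz⟩, ⟨k, hk⟩), Subtype.ext (mul_inv_cancel_left k (g : G))⟩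
  · obtain ⟨k, hk, hz⟩ := hsplit g hg
    rw [← mul_inv_cancel_left k g]
    exact mul_mem ((le_sup_right : K ≤ Z ⊔ K) hk) ((le_sup_left : Z ≤ Z ⊔ K) hz)

/-- An injective image of `Sym(n)` from adjacent transpositions. -/
theorem exists_embed {n : ℕ} (hn : 4 ≤ n) {s : ℕ → G} (hs : Cfsg.Agent.Perm.BraidRels s n)
    (hne : s 0 ≠ s 2) :
    ∃ φ : Perm (Fin (n + 1)) →* G, Function.Injective φ ∧
      ∀ i < n, φ (Cfsg.Agent.Perm.adjSwap n i) = s i := by
  classical
  obtain ⟨φ, hφ⟩ := Cfsg.Agent.Perm.exists_hom_of_braidRels hs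
  refine ⟨φ, (MonoidHom.ker_eq_bot_iff φ).1 ?_, hφ⟩
  by_contra hker
  have hle := Equiv.Perm.alternatingGroup_le_of_normal (α := Fin (n + 1))
    (by rw [Nat.card_fin]; omega) (N := φ.ker) ((Subgroup.nontrivial_iff_ne_bot _).2 hker)
  have hmem : Cfsg.Agent.Perm.adjSwap n 0 * Cfsg.Agent.Perm.adjSwap n 2 ∈
      alternatingGroup (Fin (n + 1)) := by
    rw [Equiv.Perm.mem_alternatingGroup, map_mul]
    simp [Cfsg.Agent.Perm.adjSwap, show 0 < n by omega, show 2 < n by omega, Fin.ext_iff]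
  have h1 := hle hmem
  rw [MonoidHom.mem_ker, map_mul, hφ 0 (by omega), hφ 2 (by omega)] at h1
  refine hne (mul_right_cancel (b := s 2) (h1.trans (hs.sq 2 (by omega)).symm))

/-- The images of the transpositions lie in `Fx D X` as soon as one does. -/
theorem image_swap_subset [Finite G] (hD : ∀ g : G, ∀ d ∈ D, g * d * g⁻¹ ∈ D) {n : ℕ}
    {φ : Perm (Fin n) →* G} (hφ : ∀ σ, φ σ ∈ Subgroup.centralizer (X : Set G)) {a b : Fin n}
    (hab : a ≠ b) (h : φ (swap a b) ∈ Fx D X) : φ '' {σ | σ.IsSwap} ⊆ Fx D X := by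
  rintro _ ⟨_, ⟨i, j, hij, rfl⟩, rfl⟩
  obtain ⟨π, hπ⟩ := isConj_iff.1 (Perm.isConj_swap hab hij)
  rw [← hπ, map_mul, map_mul, map_inv]
  exact conj_fx hD (mem_normalizer fun x hx => by
    have := (Subgroup.mem_centralizer_iff.1 (hφ π) x hx)
    rwa [show φ π * x * (φ π)⁻¹ = x by rw [← this, mul_inv_cancel_right]]) h


end FixGraph

end Cfsg.Agent.Transpos
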