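import Cfsg.Prelude.Def_FischerSpaces
import Cfsg.Agent.Lib.QForm.Diag
import Cfsg.Agent.Lib.Forms.QuadOrder
import Cfsg.Agent.Lib.ClassicalSimple.OrthMatrix
import Cfsg.Agent.S5359

/-!
# The projective reflection groups in dimension seven over three elements

The isometry group has order `18341406720`, a reflection class generates a subgroup of index two and
the centre consists of scalars, so the projective group has order a multiple of `4585351680`.
-/

set_option autoImplicit false

namespace Cfsg.Agent.Transpos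

open Cfsg Cfsg.Agent.ClassicalSimple

theorem card_isometry_seven {Q : QuadraticForm (ZMod 3) (Fin 7 → ZMod 3)}
    (hQ : (QuadraticMap.polarBilin Q).Nondegenerate) :
    Nat.card (isometryGroup (ZMod 3) ⇑Q) = 18341406720 := by
  classical
  let ε : Unit ⊕ (Fin 3 ⊕ Fin 3) ≃ Fin 7 :=
    (Equiv.sumCongr finOneEquiv.symm finSumFinEquiv).trans finSumFinEquiv
  set b := (Pi.basisFun (ZMod 3) (Unit ⊕ (Fin 3 ⊕ Fin 3))).reindex ε
  set d₀ := (QForm.gram ⇑(Forms.quadOdd 3 (ZMod 3)) ⇑b).det
  have hd₀ : d₀ ≠ 0 := by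
    simp only [d₀, QForm.gram_eq_toMatrix]
    exact (LinearMap.BilinForm.nondegenerate_iff_det_ne_zero _).1
      (Forms.quadOdd_nondegenerate (by decide) 3)
  -- one of `Q`, `-Q` is isometric to the standard form
  have key : ∀ Q' : QuadraticForm (ZMod 3) (Fin 7 → ZMod 3),
      (QuadraticMap.polarBilin Q').Nondegenerate →
      (QForm.gram ⇑Q' ⇑(Pi.basisFun (ZMod 3) (Fin 7))).det * d₀ = 1 →
      Nat.card (Forms.isomQ Q') = 18341406720 := by
    intro Q' hQ' hd
    obtain ⟨g, hg⟩ := (QForm.isometric_iff (F := ZMod 3) (by decide) Q' (Forms.quadOdd 3 (ZMod 3))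
      hQ' (Forms.quadOdd_nondegenerate (by decide) 3) (Pi.basisFun _ _) b).2
      ⟨1, by rw [hd, one_mul]⟩
    rw [Forms.card_isomQ_congr g hg, Forms.card_isomQ_quadOdd (by decide) 3, ZMod.card]
    norm_num [Finset.prod_range_succ]
  rw [Forms.card_isometryGroup Q (fun _ => rfl)]
  have hd0 : (QForm.gram ⇑Q ⇑(Pi.basisFun (ZMod 3) (Fin 7))).det ≠ 0 := by
    rw [QForm.gram_eq_toMatrix]
    exact (LinearMap.BilinForm.nondegenerate_iff_det_ne_zero _).1 hQ
  rcases (by decide : ∀ d e : ZMod 3, d ≠ 0 → e ≠ 0 → d * e = 1 ∨ -d * e = 1) _ _ hd0 hd₀ with h | h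
  · exact key Q hQ h
  · have hn : (QuadraticMap.polarBilin (-Q)).Nondegenerate := by
      have e : ∀ x y, QuadraticMap.polarBilin (-Q) x y = -QuadraticMap.polarBilin Q x y := fun x y => by
        simp [QuadraticMap.polar]; ring
      exact ⟨fun x hx => hQ.1 x fun y => by simpa [e] using hx y,
        fun x hx => hQ.2 x fun y => by simpa [e] using hx y⟩
    have hneg : QForm.gram ⇑(-Q) ⇑(Pi.basisFun (ZMod 3) (Fin 7)) =
        -QForm.gram ⇑Q ⇑(Pi.basisFun (ZMod 3) (Fin 7)) := by
      ext i j
      simp [QForm.gram, QuadraticMap.polar]; ring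
    rw [← key (-Q) hn (by
      rw [hneg, Matrix.det_neg, Fintype.card_fin, show ((-1 : ZMod 3) ^ 7) = -1 by decide, neg_one_mul, h])]
    exact congrArg (fun H : Subgroup _ => Nat.card H) (Forms.isom_eq_of_iff fun g => by simp)

/-- The projective reflection group has order a multiple of `|PΩ₇(3)|`. -/
theorem seven_dvd_card_refl {X : Type*} [Group X] {μ c : ZMod 3} (hc : c ≠ 0)
    (h : IsProjReflectionGroupModThree X 7 μ c) : 4585351680 ∣ Nat.card X := by
  classical
  obtain ⟨Q, hQ, -, ⟨eX⟩⟩ := h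
  rw [Nat.card_congr eX.toEquiv]
  set K := reflectionSubgroup (⇑Q) c with hKdef
  have hidx : K.index = 2 := S5359.result 7 (by norm_num) (by decide) Q hQ c hc
  have hK : Nat.card K = 9170703360 := by
    have := K.card_mul_index
    rw [hidx, card_isometry_seven hQ] at this
    omega
  have hN : (bil Q).Nondegenerate := hQ
  have hn' : 5 ≤ Module.finrank (ZMod 3) (Fin 7 → ZMod 3) := by simp
  set φ := isometryEquiv Q
  have hcomK : commutator (isometryGroup (ZMod 3) ⇑Q) ≤ K := by
    have hKn : K.Normal := Subgroup.normal_of_index_eq_two hidx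
    refine Subgroup.Normal.quotient_commutative_iff_commutator_le.1 ?_
    have : Fact (Nat.Prime 2) := ⟨Nat.prime_two⟩
    have := isCyclic_of_prime_card (hidx : Nat.card (_ ⧸ K) = 2)
    exact IsCyclic.isMulCommutative
  -- central elements are `± 1`
  have hscal : ∀ k ∈ Subgroup.center ↥K, ∃ a : ZMod 3, (a = 1 ∨ a = -1) ∧
      ∀ x : Fin 7 → ZMod 3, φ (k : isometryGroup (ZMod 3) ⇑Q) • x = a • x := by
    intro k hk
    obtain ⟨a, ha2, ha⟩ := orth_scalar_of_sameLine hN hn' (φ (k : isometryGroup (ZMod 3) ⇑Q))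
      fun v hv0 hv => orth_sameLine_of_commute hN hn' _ (fun s hs => by
        rw [← commutator_eq_siegelGroup hN hn', ← map_commutator_top φ] at hs
        obtain ⟨w, hw, rfl⟩ := hs
        have := congrArg (fun x : K => φ (x : isometryGroup (ZMod 3) ⇑Q))
          (Subgroup.mem_center_iff.1 hk ⟨w, hcomK hw⟩)
        simp only [Subgroup.coe_mul, map_mul] at this
        exact this.symm) v hv0 hv
    exact ⟨a, (by decide : ∀ a : ZMod 3, a * a = 1 → a = 1 ∨ a = -1) a ha2, ha⟩
  have hZ : Nat.card (Subgroup.center ↥K) ≤ 2 := by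
    choose a ha ha' using hscal
    let f : ↥(Subgroup.center ↥K) → ↥({1, -1} : Finset (ZMod 3)) := fun z =>
      ⟨a z z.2, by simpa using ha z z.2⟩
    have hf : Function.Injective f := fun z z' e => by
      have e' : a z z.2 = a z' z'.2 := congrArg Subtype.val e
      exact Subtype.ext (Subtype.ext (φ.injective (OQ.ext' fun x => by
        rw [ha' z z.2, ha' z' z'.2, e'])))
    refine (Nat.card_le_card_of_injective f hf).trans ?_
    rw [Nat.card_eq_fintype_card, Fintype.card_coe]
    exact Finset.card_le_two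
  have h1 := Subgroup.card_eq_card_quotient_mul_card_subgroup (Subgroup.center ↥K)
  rw [hK] at h1
  have hpos : 0 < Nat.card (Subgroup.center ↥K) := Nat.card_pos
  rcases (show Nat.card (Subgroup.center ↥K) = 1 ∨ Nat.card (Subgroup.center ↥K) = 2 by omega) with
    h | h <;> rw [h] at h1
  · exact ⟨2, by omega⟩
  · exact ⟨1, by omega⟩

end Cfsg.Agent.Transpos
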