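import Cfsg.Agent.Lib.Transpos.M23Frame
import Cfsg.Agent.Lib.Transpos.M23Count
import Cfsg.Agent.Lib.Transpos.M22Present
import Cfsg.Agent.Lib.Presented.Fi23Transp

/-!
# A group of type M(23) is the presented group Fi23

Through the identification of type M(22) with the presented Fi22, two charts supply a tenth member joined only to
the seventh of a frame; the ten members satisfy the relations of Fi23 and generate.
-/

set_option autoImplicit false

namespace Cfsg.Agent.Transpos

open Cfsg Cfsg.Spor Cfsg.Agent.Presented M23Frame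

universe u

variable {G : Type u} [Group G] {D : Set G}

/-- A chart identified with the presented Fi22. -/
theorem M23.fi22_chart [Finite G] (H : M23 D) {a : G} (ha : a ∈ D) :
    ∃ (C : Chart D a) (e : Fi22 ≃* C.Q), e '' conjugatesOf (FiIndex.gen 0) = C.E := by
  obtain ⟨C, hp, h22⟩ := H.chart22 ha
  obtain ⟨e, he⟩ := exists_fi22_iso C.m22.grp hp h22
  exact ⟨C, e, he⟩

theorem wval_congr' {s s' : ℕ → G} : ∀ {w : List ℕ}, (∀ g ∈ w, s g = s' g) → wval s w = wval s' w
  | [], _ => rfl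
  | g :: w, h => by
    rw [wval, wval, wval_congr' fun k hk => h k (List.mem_cons_of_mem _ hk), h g List.mem_cons_self]

theorem map_wval' {P : Type*} [Group P] (f : G →* P) (s : ℕ → G) :
    ∀ w : List ℕ, f (wval s w) = wval (fun j => f (s j)) w
  | [] => map_one f
  | g :: w => by rw [wval, wval, map_mul, map_wval' f s w]

theorem wval_map' (s : ℕ → G) (π : ℕ → ℕ) :
    ∀ w : List ℕ, wval s (w.map π) = wval (fun j => s (π j)) w
  | [] => rfl
  | g :: w => by rw [List.map_cons, wval, wval, wval_map' s π w]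

section pull

variable [Finite G] (H : M23 D) {a : G} (ha : a ∈ D) (C : Chart D a) (e : Fi22 ≃* C.Q)
  (he : e '' conjugatesOf (FiIndex.gen 0) = C.E)

include he in
omit [Finite G] in
theorem Chart.pull_mem {y : G} (hy : y ∈ Dc D a) : e.symm (C.img hy) ∈ conjugatesOf (FiIndex.gen 0) := by
  have := C.img_mem hy
  rw [← he] at this
  obtain ⟨m, hm, hme⟩ := this
  rw [← hme, e.symm_apply_apply]
  exact hm

include H ha in
omit [Finite G] in
theorem Chart.pull_comm {y z : G} (hy : y ∈ Dc D a) (hz : z ∈ Dc D a) :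
    Commute (e.symm (C.img hy)) (e.symm (C.img hz)) ↔ Commute y z := by
  rw [← C.comm_iff H ha hy hz]
  exact ⟨fun h => by simpa using h.map e.toMonoidHom, fun h => h.map e.symm.toMonoidHom⟩

include H ha in
omit [Finite G] in
theorem Chart.pull_com {y z : G} (hy : y ∈ Dc D a) (hz : z ∈ Dc D a) :
    (e.symm (C.img hy) ≠ e.symm (C.img hz) ∧ Commute (e.symm (C.img hy)) (e.symm (C.img hz))) ↔
      (y ≠ z ∧ Commute y z) := by
  refine and_congr ⟨fun h e' => h (congrArg _ (C.img_congr hy hz e')), fun h e' => h ?_⟩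
    (C.pull_comm H ha e hy hz)
  exact C.inj H ha hy hz (e.symm.injective e')

end pull

/-- Seven-letter E7 words agree between the diagrams `bcdefgh` and `cdefghi`. -/
theorem Frame.z₃ [Finite G] {H : M23 D} {t : G} {C : Chart D t} {x : ℕ → G} {φ : Fi22 →* C.Q}
    (F : Frame H t C x φ) (h : wval x (w7.map fun j => p₂.getD j 0) = t) :
    wval x (w7.map fun j => p₃.getD j 0) = t := by
  let a : List ℕ := [0, 1, 2, 6, 3, 4, 2, 3, 1, 2, 6, 5, 4, 3, 2, 1]
  let r : List ℕ := a ++ [0] ++ a.reverse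
  let q : List ℕ := (List.replicate 5 [1, 2, 3, 4, 5, 6]).flatten
  let q' : List ℕ := (List.replicate 5 [6, 2, 3, 4, 5, 1]).flatten
  let g₂ : ℕ → ℕ := fun j => p₂.getD j 0
  let g₃ : ℕ → ℕ := fun j => p₃.getD j 0
  have h2 : wval x (w7.map g₂) = wval x ((r ++ q').map g₂) :=
    F.e7_same (Or.inr (Or.inl rfl)) (by decide +kernel) (by decide)
  have h3 : wval x (w7.map g₃) = wval x ((r ++ q).map g₃) :=
    F.e7_same (Or.inr (Or.inr rfl)) (by decide +kernel) (by decide)
  have hq : q'.map g₂ = q.map g₃ := by decide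
  have hlt : ∀ g ∈ r.map g₂ ++ r.map g₃, g < 9 := by decide
  have hr2 : r.map g₂ = a.map g₂ ++ [1] ++ (a.map g₂).reverse := by decide
  have hr3 : r.map g₃ = a.map g₃ ++ [8] ++ (a.map g₃).reverse := by decide
  have m2 : wval x (r.map g₂) ∈ Dc D t := hr2 ▸ F.conj_mem _
  have m3 : wval x (r.map g₃) ∈ Dc D t := hr3 ▸ F.conj_mem _
  have hrr : wval x (r.map g₂) = wval x (r.map g₃) := C.inj H F.ht m2 m3 (by
    refine (F.pi_wval _ fun g hg => hlt g (List.mem_append_left _ hg)).trans (Eq.trans ?_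
      (F.pi_wval _ fun g hg => hlt g (List.mem_append_right _ hg)).symm)
    exact congrArg φ (FiU6Iso.eq_of_same (by decide +kernel)))
  change wval x (w7.map g₃) = t
  rw [h3, List.map_append, wval_append, ← hrr, ← hq, ← wval_append, ← List.map_append, ← h2]
  exact h

/-- The tenth member. -/
theorem Frame.exists_j [Finite G] {H : M23 D} {t : G} {C : Chart D t}
    {x : ℕ → G} {φ : Fi22 →* C.Q} (F : Frame H t C x φ)
    (h2 : wval x (w7.map fun j => p₂.getD j 0) = t) :
    ∃ j ∈ D, ¬ Commute t j ∧ ¬ Commute (x 6) j ∧ ∀ k, k < 9 → k ≠ 6 → Commute (x k) j := by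
  classical
  have hz3 := F.z₃ h2
  have hD : ∀ k, x k ∈ D := fun k => (F.mem k).1
  have hcm : ∀ {k l}, k < 9 → l < 9 → commG k l = true → Commute (x k) (x l) :=
    fun hk hl h => (F.commute_iff hk hl).2 h
  have hnc : ∀ {k l}, k < 9 → l < 9 → commG k l = false → ¬ Commute (x k) (x l) := fun hk hl h hc =>
    Bool.false_ne_true (h.symm.trans ((F.commute_iff hk hl).1 hc))
  have inDc : ∀ {s k}, s < 9 → k < 9 → k ≠ s → commG s k = true → x k ∈ Dc D (x s) :=
    fun hs hk hne hc => ⟨hD _, F.ne hk hs hne, hcm hs hk hc⟩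
  have tDc : ∀ s, t ∈ Dc D (x s) := fun s => ⟨F.ht, (F.mem s).2.1.symm, (F.mem s).2.2.symm⟩
  -- the chart at the first member
  obtain ⟨A, eA, heA⟩ := H.fi22_chart (hD 0)
  let S := Subgroup.closure (Dc D (x 0))
  have mA : ∀ {k}, k < 9 → k ≠ 0 → commG 0 k = true → x k ∈ Dc D (x 0) := fun hk h1 h2 =>
    inDc (by norm_num) hk h1 h2
  have m2 := mA (k := 2) (by norm_num) (by norm_num) (by decide)
  have m3 := mA (k := 3) (by norm_num) (by norm_num) (by decide)
  have m4 := mA (k := 4) (by norm_num) (by norm_num) (by decide)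
  have m5 := mA (k := 5) (by norm_num) (by norm_num) (by decide)
  have m6 := mA (k := 6) (by norm_num) (by norm_num) (by decide)
  have m7 := mA (k := 7) (by norm_num) (by norm_num) (by decide)
  have m8 := mA (k := 8) (by norm_num) (by norm_num) (by decide)
  have mt := tDc 0
  let P : ∀ {y}, y ∈ Dc D (x 0) → Fi22 := fun {y} hy => eA.symm (A.img hy)
  have cA : ∀ {k l} (hk : x k ∈ Dc D (x 0)) (hl : x l ∈ Dc D (x 0)), k < 9 → l < 9 → k ≠ l →
      commG k l = true → P hk ≠ P hl ∧ Commute (P hk) (P hl) := fun hk hl hk9 hl9 hne hc =>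
    (A.pull_com H (hD 0) eA hk hl).2 ⟨F.ne hk9 hl9 hne, hcm hk9 hl9 hc⟩
  have aA : ∀ {k l} (hk : x k ∈ Dc D (x 0)) (hl : x l ∈ Dc D (x 0)), k < 9 → l < 9 →
      commG k l = false → ¬ Commute (P hk) (P hl) := fun hk hl hk9 hl9 hc h =>
    hnc hk9 hl9 hc ((A.pull_comm H (hD 0) eA hk hl).1 h)
  have tA : ∀ {k} (hk : x k ∈ Dc D (x 0)), P mt ≠ P hk ∧ Commute (P mt) (P hk) := fun {k} hk =>
    (A.pull_com H (hD 0) eA mt hk).2 ⟨(F.mem k).2.1.symm, (F.mem k).2.2⟩
  have hz : wval (fun j => [P mt, P m2, P m3, P m4, P m5, P m7, P m8, P m6].getD j 1)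
      Fi22Config.zWord = P mt := by
    let f : ↥S →* Fi22 := eA.symm.toMonoidHom.comp A.π
    let el : ∀ {y}, y ∈ Dc D (x 0) → ↥S := fun {y} hy => ⟨y, Subgroup.subset_closure hy⟩
    let E : List ↥S := [el mt, el m2, el m3, el m4, el m5, el m7, el m8, el m6]
    have h1 : (fun j => [P mt, P m2, P m3, P m4, P m5, P m7, P m8, P m6].getD j 1) =
        fun j => f (E.getD j 1) := by
      funext j
      rw [show [P mt, P m2, P m3, P m4, P m5, P m7, P m8, P m6] = E.map f from rfl,
        List.getD_eq_getElem?_getD, List.getD_eq_getElem?_getD, List.getElem?_map]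
      cases E[j]? <;> simp
    rw [h1, ← map_wval']
    refine congrArg f (Subtype.ext ?_)
    show S.subtype (wval (fun j => E.getD j 1) Fi22Config.zWord) = t
    rw [map_wval']
    refine Eq.trans ?_ hz3
    rw [show w7.map (fun j => p₃.getD j 0) =
        Fi22Config.zWord.map (fun j => [0, 2, 3, 4, 5, 7, 8, 6].getD j 0) by decide, wval_map']
    refine wval_congr' fun j hj => ?_
    have hj' : ∀ j ∈ Fi22Config.zWord, j = 1 ∨ j = 2 ∨ j = 3 ∨ j = 4 ∨ j = 5 ∨ j = 6 ∨ j = 7 := by
      decide +kernel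
    rcases hj' j hj with rfl | rfl | rfl | rfl | rfl | rfl | rfl <;> rfl
  obtain ⟨y, hy, hyt, hyc, hyg⟩ := Fi22Config.exists_ext (A.pull_mem eA heA mt) (A.pull_mem eA heA m2)
    (A.pull_mem eA heA m3) (A.pull_mem eA heA m4) (A.pull_mem eA heA m5) (A.pull_mem eA heA m7)
    (A.pull_mem eA heA m8) (A.pull_mem eA heA m6)
    ⟨tA m2, trivial⟩
    ⟨tA m3, aA m2 m3 (by norm_num) (by norm_num) (by decide), trivial⟩
    ⟨tA m4, cA m2 m4 (by norm_num) (by norm_num) (by norm_num) (by decide),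
      aA m3 m4 (by norm_num) (by norm_num) (by decide), trivial⟩
    ⟨tA m5, cA m2 m5 (by norm_num) (by norm_num) (by norm_num) (by decide),
      cA m3 m5 (by norm_num) (by norm_num) (by norm_num) (by decide),
      aA m4 m5 (by norm_num) (by norm_num) (by decide), trivial⟩
    ⟨tA m7, cA m2 m7 (by norm_num) (by norm_num) (by norm_num) (by decide),
      aA m3 m7 (by norm_num) (by norm_num) (by decide),
      cA m4 m7 (by norm_num) (by norm_num) (by norm_num) (by decide),
      cA m5 m7 (by norm_num) (by norm_num) (by norm_num) (by decide), trivial⟩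
    ⟨tA m8, cA m2 m8 (by norm_num) (by norm_num) (by norm_num) (by decide),
      cA m3 m8 (by norm_num) (by norm_num) (by norm_num) (by decide),
      cA m4 m8 (by norm_num) (by norm_num) (by norm_num) (by decide),
      cA m5 m8 (by norm_num) (by norm_num) (by norm_num) (by decide),
      aA m7 m8 (by norm_num) (by norm_num) (by decide), trivial⟩
    ⟨tA m6, cA m2 m6 (by norm_num) (by norm_num) (by norm_num) (by decide),
      cA m3 m6 (by norm_num) (by norm_num) (by norm_num) (by decide),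
      cA m4 m6 (by norm_num) (by norm_num) (by norm_num) (by decide),
      aA m5 m6 (by norm_num) (by norm_num) (by decide),
      cA m7 m6 (by norm_num) (by norm_num) (by norm_num) (by decide),
      cA m8 m6 (by norm_num) (by norm_num) (by norm_num) (by decide), trivial⟩ hz
  obtain ⟨j, hj, hje⟩ := A.lift (eA y) (heA ▸ ⟨y, hy, rfl⟩)
  have hjy : P hj = y := by
    show eA.symm (A.img hj) = y
    rw [show A.img hj = eA y from hje, eA.symm_apply_apply]
  rw [← hjy] at hyt hyc hyg
  have jt : ¬ Commute t j := fun h => hyt ((A.pull_comm H (hD 0) eA mt hj).2 h)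
  have jg : ¬ Commute (x 6) j := fun h => hyg ((A.pull_comm H (hD 0) eA m6 hj).2 h)
  simp only [List.mem_cons, List.not_mem_nil, or_false, forall_eq_or_imp, forall_eq] at hyc
  obtain ⟨c2, c3, c4, c5, c7, c8⟩ := hyc
  have J : ∀ {k} (hk : x k ∈ Dc D (x 0)), P hk ≠ P hj ∧ Commute (P hk) (P hj) →
      x k ≠ j ∧ Commute (x k) j := fun hk h => (A.pull_com H (hD 0) eA hk hj).1 h
  have j2 := J m2 c2
  have j3 := J m3 c3
  have j4 := J m4 c4
  have j5 := J m5 c5
  have j7 := J m7 c7
  have j8 := J m8 c8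
  refine ⟨j, hj.1, jt, jg, ?_⟩
  -- the chart at the ninth member
  obtain ⟨B, eB, heB⟩ := H.fi22_chart (hD 8)
  have mB : ∀ {k}, k < 9 → k ≠ 8 → commG 8 k = true → x k ∈ Dc D (x 8) := fun hk h1 h2 =>
    inDc (by norm_num) hk h1 h2
  have n0 := mB (k := 0) (by norm_num) (by norm_num) (by decide)
  have n1 := mB (k := 1) (by norm_num) (by norm_num) (by decide)
  have n2 := mB (k := 2) (by norm_num) (by norm_num) (by decide)
  have n3 := mB (k := 3) (by norm_num) (by norm_num) (by decide)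
  have n4 := mB (k := 4) (by norm_num) (by norm_num) (by decide)
  have n5 := mB (k := 5) (by norm_num) (by norm_num) (by decide)
  have n6 := mB (k := 6) (by norm_num) (by norm_num) (by decide)
  have nt := tDc 8
  have nj : j ∈ Dc D (x 8) := ⟨hj.1, j8.1.symm, j8.2⟩
  let Q : ∀ {y}, y ∈ Dc D (x 8) → Fi22 := fun {y} hy => eB.symm (B.img hy)
  have cB : ∀ {k l} (hk : x k ∈ Dc D (x 8)) (hl : x l ∈ Dc D (x 8)), k < 9 → l < 9 → k ≠ l →
      commG k l = true → Q hk ≠ Q hl ∧ Commute (Q hk) (Q hl) := fun hk hl hk9 hl9 hne hc =>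
    (B.pull_com H (hD 8) eB hk hl).2 ⟨F.ne hk9 hl9 hne, hcm hk9 hl9 hc⟩
  have aB : ∀ {k l} (hk : x k ∈ Dc D (x 8)) (hl : x l ∈ Dc D (x 8)), k < 9 → l < 9 →
      commG k l = false → ¬ Commute (Q hk) (Q hl) := fun hk hl hk9 hl9 hc h =>
    hnc hk9 hl9 hc ((B.pull_comm H (hD 8) eB hk hl).1 h)
  have tB : ∀ {k} (hk : x k ∈ Dc D (x 8)), Q nt ≠ Q hk ∧ Commute (Q nt) (Q hk) := fun {k} hk =>
    (B.pull_com H (hD 8) eB nt hk).2 ⟨(F.mem k).2.1.symm, (F.mem k).2.2⟩
  have jB : ∀ {k} (hk : x k ∈ Dc D (x 8)), x k ≠ j ∧ Commute (x k) j →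
      Q hk ≠ Q nj ∧ Commute (Q hk) (Q nj) := fun hk h => (B.pull_com H (hD 8) eB hk nj).2 h
  have hb := Fi22Config.chain_commute (B.pull_mem eB heB nt) (B.pull_mem eB heB n0)
    (B.pull_mem eB heB n1) (B.pull_mem eB heB n2) (B.pull_mem eB heB n3) (B.pull_mem eB heB n4)
    (B.pull_mem eB heB n5) (B.pull_mem eB heB n6) (B.pull_mem eB heB nj)
    ⟨tB n0, trivial⟩
    ⟨tB n1, aB n0 n1 (by norm_num) (by norm_num) (by decide), trivial⟩
    ⟨tB n2, cB n0 n2 (by norm_num) (by norm_num) (by norm_num) (by decide),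
      aB n1 n2 (by norm_num) (by norm_num) (by decide), trivial⟩
    ⟨tB n3, cB n0 n3 (by norm_num) (by norm_num) (by norm_num) (by decide),
      cB n1 n3 (by norm_num) (by norm_num) (by norm_num) (by decide),
      aB n2 n3 (by norm_num) (by norm_num) (by decide), trivial⟩
    ⟨tB n4, cB n0 n4 (by norm_num) (by norm_num) (by norm_num) (by decide),
      cB n1 n4 (by norm_num) (by norm_num) (by norm_num) (by decide),
      cB n2 n4 (by norm_num) (by norm_num) (by norm_num) (by decide),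
      aB n3 n4 (by norm_num) (by norm_num) (by decide), trivial⟩
    ⟨tB n5, cB n0 n5 (by norm_num) (by norm_num) (by norm_num) (by decide),
      cB n1 n5 (by norm_num) (by norm_num) (by norm_num) (by decide),
      cB n2 n5 (by norm_num) (by norm_num) (by norm_num) (by decide),
      cB n3 n5 (by norm_num) (by norm_num) (by norm_num) (by decide),
      aB n4 n5 (by norm_num) (by norm_num) (by decide), trivial⟩
    ⟨tB n6, cB n0 n6 (by norm_num) (by norm_num) (by norm_num) (by decide),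
      cB n1 n6 (by norm_num) (by norm_num) (by norm_num) (by decide),
      cB n2 n6 (by norm_num) (by norm_num) (by norm_num) (by decide),
      cB n3 n6 (by norm_num) (by norm_num) (by norm_num) (by decide),
      cB n4 n6 (by norm_num) (by norm_num) (by norm_num) (by decide),
      aB n5 n6 (by norm_num) (by norm_num) (by decide), trivial⟩
    ⟨fun h => jt ((B.pull_comm H (hD 8) eB nt nj).1 h), jB n0 ⟨hj.2.1.symm, hj.2.2⟩, jB n2 j2,
      jB n3 j3, jB n4 j4, jB n5 j5, fun h => jg ((B.pull_comm H (hD 8) eB n6 nj).1 h), trivial⟩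
  have jb : Commute (x 1) j := (B.pull_comm H (hD 8) eB n1 nj).1 hb
  intro k hk hk6
  interval_cases k
  exacts [hj.2.2, jb, j2.2, j3.2, j4.2, j5.2, absurd rfl hk6, j7.2, j8.2]

/-- Noncommuting members are conjugate by their product. -/
theorem conj_of_not_commute {E : Set G} (hE : IsThreeTranspositionSet E) {u v : G} (hu : u ∈ E)
    (hv : v ∈ E) (h : ¬ Commute u v) : (u * v) * u * (u * v)⁻¹ = v := by
  have h3 : u * v * (u * v) * (u * v) = 1 := by
    rw [← pow_three_of_not_commute hE hu hv h, pow_succ, pow_two]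
  calc u * v * u * (u * v)⁻¹ = u * v * u * (v * u) := by rw [mul_inv_rev, inv_eq hE hu, inv_eq hE hv]
    _ = u * v * (u * v) * (u * v) * v⁻¹ := by group
    _ = v := by rw [h3, one_mul, inv_eq hE hv]

/-- A group of type M(23) is the presented group Fi23, its class the class of transpositions. -/
theorem M23.exists_fi23_iso [Finite G] (H : M23 D) :
    ∃ e : Fi23 ≃* G, e '' conjugatesOf Fi23Transp.t = D := by
  classical
  obtain ⟨-, t, ht, -⟩ := H.type
  obtain ⟨C, e, he⟩ := H.fi22_chart ht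
  obtain ⟨x, φ, F, hz2⟩ := H.exists_frame ht C e he
  obtain ⟨j, hjD, jt, jg, jc⟩ := F.exists_j hz2
  let ι : ℕ → ℕ := fun k => if k < 7 then k else k + 1
  let X : ℕ → G := fun k => if k < 7 then x k else if k = 7 then j else x (k - 1)
  have hXι : ∀ k, X (ι k) = x k := fun k => by
    by_cases hk : k < 7
    · simp [X, ι, hk]
    · simp [X, ι, hk, show ¬ k + 1 < 7 by omega, show k + 1 ≠ 7 by omega]
  have hXw : ∀ w : List ℕ, wval X (w.map ι) = wval x w := fun w => by
    rw [wval_map']; exact wval_congr' fun g _ => hXι g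
  have hXD : ∀ k, X k ∈ D := fun k => by
    simp only [X]; split_ifs
    exacts [(F.mem k).1, hjD, (F.mem _).1]
  -- the relations
  have hcox : ∀ k l : Fin 10,
      (X k.1 * X l.1) ^ coxLabel Fi23.edges (Fi23Index.gens.getD k.1 .a) (Fi23Index.gens.getD l.1 .a) = 1 := by
    have hdiag : ∀ k, (X k * X k) ^ 1 = 1 := fun k => by rw [pow_one, sq_one H.grp.1 (hXD k)]
    have h2 : ∀ {u v : G}, u ∈ D → v ∈ D → Commute u v → (u * v) ^ 2 = 1 := fun hu hv hc => by
      rw [pow_two, hc.symm.mul_mul_mul_comm, sq_one H.grp.1 hu, sq_one H.grp.1 hv, one_mul]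
    have h : ∀ k l : Fin 10,
        (k = l ∧ coxLabel Fi23.edges (Fi23Index.gens.getD k.1 .a) (Fi23Index.gens.getD l.1 .a) = 1) ∨
        (k.1 ≠ 7 ∧ l.1 ≠ 7 ∧ ∃ k' l' : Fin 9, ι k'.1 = k.1 ∧ ι l'.1 = l.1 ∧
          coxLabel Fi23.edges (Fi23Index.gens.getD k.1 .a) (Fi23Index.gens.getD l.1 .a) =
            coxLabel Fi22.edges (FiIndex.gens.getD k'.1 .a) (FiIndex.gens.getD l'.1 .a)) ∨
        (∃ i' : Fin 9, ((k.1 = 7 ∧ ι i'.1 = l.1) ∨ (l.1 = 7 ∧ ι i'.1 = k.1)) ∧
          coxLabel Fi23.edges (Fi23Index.gens.getD k.1 .a) (Fi23Index.gens.getD l.1 .a) =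
            if i'.1 = 6 then 3 else 2) := by
      decide +kernel
    intro k l
    rcases h k l with ⟨rfl, e1⟩ | ⟨-, -, k', l', ek, el, e1⟩ | ⟨i', hor, e1⟩
    · rw [e1]; exact hdiag _
    · rw [e1, ← ek, ← el, hXι, hXι]; exact F.cox k'.2 l'.2
    · rw [e1]
      have hX7 : X 7 = j := by simp [X]
      split_ifs with h6
      · rcases hor with ⟨e7, ei⟩ | ⟨e7, ei⟩ <;> rw [e7, ← ei, hXι, hX7, h6]
        · exact pow_three_of_not_commute H.grp.1 hjD (F.mem 6).1 fun h => jg h.symm
        · exact pow_three_of_not_commute H.grp.1 (F.mem 6).1 hjD jg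
      · rcases hor with ⟨e7, ei⟩ | ⟨e7, ei⟩ <;> rw [e7, ← ei, hXι, hX7]
        · exact h2 hjD (F.mem _).1 (jc _ i'.2 h6).symm
        · exact h2 (F.mem _).1 hjD (jc _ i'.2 h6)
  have hz1 : wval x (w7.map fun j => p₁.getD j 0) = 1 := by
    refine (F.z_cases (p := p₁) (Or.inl rfl)).resolve_right fun h => jt ?_
    rw [← h]
    have hw : ∀ w : List ℕ, (∀ g ∈ w, g < 9 ∧ g ≠ 6) → Commute (wval x w) j := by
      intro w
      induction w with
      | nil => exact fun _ => Commute.one_left _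
      | cons g w ih =>
        exact fun hw => (ih fun k hk => hw k (List.mem_cons_of_mem _ hk)).mul_left
          (jc g (hw g List.mem_cons_self).1 (hw g List.mem_cons_self).2)
    exact hw _ (by decide +kernel)
  have hlen : Fi23Index.gens.length = 10 := rfl
  obtain ⟨ψ, hψ⟩ := exists_cox_hom (edges := Fi23.edges) (extra := Fi23.extra) Fi23Index.gens_all
    Fi23Index.gens_nodup X (fun k _ => sq_one H.grp.1 (hXD k)) (fun k l hk hl => by
      rw [← List.getD_eq_getElem _ .a hk, ← List.getD_eq_getElem _ .a hl]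
      exact hcox ⟨k, hlen ▸ hk⟩ ⟨l, hlen ▸ hl⟩) (fun r hr => by
      have hl : Fi23.extra.map (letters Fi23Index.gens) = [((List.replicate 10 spider).flatten).map ι,
          (((List.replicate 9 [6, 0, 1, 2, 3, 4, 5]).flatten.map fun j => p₁.getD j 0)).map ι] := by
        decide +kernel
      have hr' := List.mem_map_of_mem (f := letters Fi23Index.gens) hr
      rw [hl] at hr'
      simp only [List.mem_cons, List.not_mem_nil, or_false] at hr'
      rcases hr' with e | e <;> rw [e, hXw]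
      · exact F.spider_one
      · rw [F.e7_same (p := p₁) (Or.inl rfl) (v := w7) (by decide +kernel) (by decide), hz1])
  have hψ' : ∀ w : List ℕ, (∀ g ∈ w, g < 10) → ψ (wval Fi23Index.gen w) = wval X w := fun w hw => by
    rw [map_wval']; exact wval_congr' fun g hg => hψ g (hw g hg)
  set K := ψ.range
  have hXK : ∀ k, k < 10 → X k ∈ K := fun k hk => ⟨_, hψ k hk⟩
  have hxK : ∀ k, k < 9 → x k ∈ K := fun k hk => hXι k ▸ hXK _ (by
    simp only [ι]; split_ifs <;> omega)
  have hwK : ∀ w : List ℕ, (∀ g ∈ w, g < 9) → wval x w ∈ K := by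
    intro w
    induction w with
    | nil => exact fun _ => one_mem K
    | cons g w ih =>
      exact fun hw => mul_mem (ih fun k hk => hw k (List.mem_cons_of_mem _ hk))
        (hxK g (hw g List.mem_cons_self))
  have htK : t ∈ K := hz2 ▸ hwK _ (by decide +kernel)
  have hjK : j ∈ K := by simpa [X] using hXK 7 (by norm_num)
  have hCK := F.le_of_gens (K := K) hxK
  -- conjugate within the image
  have step : ∀ {u v : G}, u ∈ D → v ∈ D → u ∈ K → v ∈ K → ¬ Commute u v →
      (∃ k ∈ K, k * t * k⁻¹ = u) → ∃ k ∈ K, k * t * k⁻¹ = v := by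
    rintro u v hu hv huK hvK hne ⟨k, hk, e⟩
    refine ⟨u * v * k, mul_mem (mul_mem huK hvK) hk, ?_⟩
    calc u * v * k * t * (u * v * k)⁻¹ = u * v * (k * t * k⁻¹) * (u * v)⁻¹ := by group
      _ = v := by rw [e, conj_of_not_commute H.grp.1 hu hv hne]
  have hnc : ∀ {k l}, k < 9 → l < 9 → commG k l = false → ¬ Commute (x k) (x l) := fun hk hl h hc =>
    Bool.false_ne_true (h.symm.trans ((F.commute_iff hk hl).1 hc))
  have cj := step ht hjD htK hjK jt ⟨1, one_mem _, by group⟩
  have c6 := step hjD (F.mem 6).1 hjK (hxK 6 (by norm_num)) (fun h => jg h.symm) cj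
  have c0 : ∃ k ∈ K, k * t * k⁻¹ = x 0 := by
    have hchain : ∀ n, n < 6 → commG (6 - n) (6 - (n + 1)) = false := by decide
    have down : ∀ n, n ≤ 6 → ∃ k ∈ K, k * t * k⁻¹ = x (6 - n) := by
      intro n
      induction n with
      | zero => exact fun _ => c6
      | succ n ih =>
        intro hn
        refine step (F.mem (6 - n)).1 (F.mem _).1 (hxK _ (by omega)) (hxK _ (by omega))
          (hnc (by omega) (by omega) ?_) (ih (by omega))
        exact hchain n (by omega)
    exact down 6 le_rfl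
  have hDc : ∀ y ∈ Dc D t, ∃ k ∈ K, k * t * k⁻¹ = y := fun y hy => by
    obtain ⟨a, ha, rfl⟩ := F.exists_conj hy
    obtain ⟨k, hk, ek⟩ := c0
    refine ⟨(wval x a)⁻¹ * k, mul_mem (inv_mem (hwK a ha)) hk, ?_⟩
    have hrev : wval x a.reverse = (wval x a)⁻¹ := by
      clear ha hy
      induction a with
      | nil => simp [wval]
      | cons g a ih =>
        rw [List.reverse_cons, wval_append, ih]
        simp only [wval, one_mul, mul_inv_rev, inv_eq_of_mul_eq_one_right (F.sq g)]
    rw [wval_append, wval_append, hrev,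
      show (wval x a)⁻¹ * k * t * ((wval x a)⁻¹ * k)⁻¹ = (wval x a)⁻¹ * (k * t * k⁻¹) * wval x a by group, ek]
    simp [wval, mul_assoc]
  have hDK : ∀ v ∈ D, ∃ k ∈ K, k * t * k⁻¹ = v := by
    intro v hv
    have hr := H.conn t ht v hv
    clear hv
    induction hr with
    | refl => exact ⟨1, one_mem _, by group⟩
    | @tail b c hb hbc ih =>
      obtain ⟨k, hk, e⟩ := ih
      obtain ⟨hcD, hbc⟩ := hbc
      by_cases hcb : c = b
      · exact ⟨k, hk, by rw [e, hcb]⟩
      · have hc' : k⁻¹ * c * k ∈ Dc D t := by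
          refine ⟨by simpa using H.conj_mem k⁻¹ hcD, fun h => hcb ?_, ?_⟩
          · rw [← e, ← h]; group
          · refine (commute_conj_iff k).1 ?_
            rwa [e, show k * (k⁻¹ * c * k) * k⁻¹ = c by group]
        obtain ⟨l, hl, el⟩ := hDc _ hc'
        exact ⟨k * l, mul_mem hk hl, by
          rw [show k * l * t * (k * l)⁻¹ = k * (l * t * l⁻¹) * k⁻¹ by group, el]; group⟩
  have htop : K = ⊤ := by
    rw [eq_top_iff, ← H.grp.2.2, Subgroup.closure_le]
    intro v hv
    obtain ⟨k, hk, rfl⟩ := hDK v hv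
    exact mul_mem (mul_mem hk htK) (inv_mem hk)
  have := Fi23Order.simple_fi23
  have hinj : Function.Injective ψ := by
    rw [← MonoidHom.ker_eq_bot_iff]
    refine (ψ.normal_ker.eq_bot_or_eq_top).resolve_right fun h => ne_one H.grp.1 (hXD 0) ?_
    rw [← hψ 0 (by rw [hlen]; norm_num), ← MonoidHom.mem_ker, h]
    trivial
  let E := MulEquiv.ofBijective ψ ⟨hinj, MonoidHom.range_eq_top.1 htop⟩
  have hEt : ψ Fi23Transp.t = t := by
    show ψ (wval Fi23Index.gen Fi23Chain.zWord) = t
    rw [hψ' _ (by decide +kernel), show Fi23Chain.zWord = (w7.map fun j => p₂.getD j 0).map ι by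
      decide +kernel, hXw, hz2]
  refine ⟨E, Set.ext fun v => ⟨?_, fun hv => ?_⟩⟩
  · rintro ⟨m, hm, rfl⟩
    obtain ⟨g, rfl⟩ := isConj_iff.mp hm
    show ψ (g * Fi23Transp.t * g⁻¹) ∈ D
    rw [map_mul, map_mul, map_inv, hEt]
    exact H.conj_mem _ ht
  · obtain ⟨k, ⟨g, rfl⟩, rfl⟩ := hDK v hv
    exact ⟨g * Fi23Transp.t * g⁻¹, isConj_iff.mpr ⟨g, rfl⟩, by
      show ψ (g * Fi23Transp.t * g⁻¹) = _
      rw [map_mul, map_mul, map_inv, hEt]⟩

/-- Two groups of type M(23) are isomorphic by a map of the classes. -/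
theorem M23.exists_iso [Finite G] (H : M23 D) {G' : Type*} [Group G'] [Finite G'] {D' : Set G'}
    (H' : M23 D') : ∃ e : G ≃* G', e '' D = D' := by
  obtain ⟨e₁, h₁⟩ := H.exists_fi23_iso
  obtain ⟨e₂, h₂⟩ := H'.exists_fi23_iso
  refine ⟨e₁.symm.trans e₂, ?_⟩
  rw [← h₁, ← h₂, ← Set.image_comp]
  exact Set.image_congr' fun m => congrArg e₂ (e₁.symm_apply_apply m)

end Cfsg.Agent.Transpos
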