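import Mathlib

/-!
`Sym(4)` from three involutions `a, b, c` with `(ab)^3 = (bc)^3 = 1` and `ac = ca`:
a homomorphism `Perm (Fin 4) →* G` sending the adjacent transpositions to `a, b, c`, injective
when `a ≠ c`.
-/

set_option autoImplicit false

namespace Cfsg.Agent.Transpos

open Equiv

section Words

variable {G : Type*} [Group G]

/-- The six normal forms in the first two generators. -/
def wordA (a b : G) : Fin 6 → G := ![1, a, b, a * b, b * a, a * b * a]

/-- Representatives of the four cosets of the subgroup generated by the first two generators. -/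
def wordR (a b c : G) : Fin 4 → G := ![1, c, c * b, c * b * a]

/-- Normal forms. -/
def wordS4 (a b c : G) (i : Fin 6 × Fin 4) : G := wordA a b i.1 * wordR a b c i.2

/-- `wordA i` times `1`, `a`, `b`. -/
def nextA : Fin 6 → Fin 3 → Fin 6 :=
  ![![0, 1, 2], ![1, 0, 3], ![2, 4, 0], ![3, 5, 1], ![4, 2, 5], ![5, 3, 4]]

/-- `wordR j` times a generator: the part in the first two generators. -/
def preR : Fin 4 → Fin 3 → Fin 3 := ![![1, 2, 0], ![1, 0, 0], ![0, 0, 2], ![0, 1, 2]]

/-- `wordR j` times a generator: the new representative. -/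
def nextR : Fin 4 → Fin 3 → Fin 4 := ![![0, 0, 1], ![1, 2, 0], ![3, 1, 2], ![2, 3, 3]]

/-- The effect of right multiplication by a generator on normal forms. -/
def nextS4 (i : Fin 6 × Fin 4) (k : Fin 3) : Fin 6 × Fin 4 :=
  (nextA i.1 (preR i.2 k), nextR i.2 k)

/-- The relations. -/
structure S4Rel (a b c : G) : Prop where
  haa : a * a = 1
  hbb : b * b = 1
  hcc : c * c = 1
  hab : b * a * b = a * b * a
  hbc : c * b * c = b * c * b
  hac : c * a = a * c

theorem wordA_mul {a b c : G} (h : S4Rel a b c) (i : Fin 6) (m : Fin 3) :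
    wordA a b i * ![1, a, b] m = wordA a b (nextA i m) := by
  have h1 := h.haa
  have h2 := h.hbb
  have h1' : ∀ x : G, x * a * a = x := fun x => by rw [mul_assoc, h1, mul_one]
  have h2' : ∀ x : G, x * b * b = x := fun x => by rw [mul_assoc, h2, mul_one]
  have h4 : a * b * a * b = b * a := by rw [← h.hab, h2']
  fin_cases i <;> fin_cases m <;>
    simp [wordA, nextA, h1, h2, h1', h2', h4, h.hab]

theorem wordR_mul {a b c : G} (h : S4Rel a b c) (j : Fin 4) (k : Fin 3) :
    wordR a b c j * ![a, b, c] k = ![1, a, b] (preR j k) * wordR a b c (nextR j k) := by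
  have hca := h.hac
  have hcbc := h.hbc
  have e1 : c * b * a * b = a * (c * b * a) := by
    calc c * b * a * b = c * (b * a * b) := by group
      _ = c * (a * b * a) := by rw [h.hab]
      _ = c * a * (b * a) := by group
      _ = a * c * (b * a) := by rw [hca]
      _ = a * (c * b * a) := by group
  have e2 : c * b * a * c = b * (c * b * a) := by
    calc c * b * a * c = c * b * (a * c) := by group
      _ = c * b * (c * a) := by rw [hca]
      _ = c * b * c * a := by group
      _ = b * c * b * a := by rw [hcbc]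
      _ = b * (c * b * a) := by group
  have e3 : c * b * c = b * (c * b) := by rw [hcbc]; group
  fin_cases j <;> fin_cases k <;>
    simp [wordR, preR, nextR, h.hcc, hca, e1, e2, e3, mul_assoc c b b, h.hbb,
      mul_assoc (c * b) a a, h.haa]

theorem wordS4_mul {a b c : G} (h : S4Rel a b c) (i : Fin 6 × Fin 4) (k : Fin 3) :
    wordS4 a b c i * ![a, b, c] k = wordS4 a b c (nextS4 i k) := by
  rw [wordS4, wordS4, mul_assoc, wordR_mul h, ← mul_assoc, wordA_mul h]
  rfl

/-- The generator words of the normal forms. -/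
def listA : Fin 6 → List (Fin 3) := ![[], [0], [1], [0, 1], [1, 0], [0, 1, 0]]

/-- The generator words of the coset representatives. -/
def listR : Fin 4 → List (Fin 3) := ![[], [2], [2, 1], [2, 1, 0]]

theorem wordS4_eq_prod (a b c : G) (i : Fin 6 × Fin 4) :
    wordS4 a b c i = ((listA i.1 ++ listR i.2).map ![a, b, c]).prod := by
  obtain ⟨i, j⟩ := i
  rw [List.map_append, List.prod_append, wordS4]
  congr 1
  · fin_cases i <;> simp [wordA, listA, mul_assoc]
  · fin_cases j <;> simp [wordR, listR, mul_assoc]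

end Words

/-- The three adjacent transpositions. -/
def s4gen : Fin 3 → Perm (Fin 4) := ![swap 0 1, swap 1 2, swap 2 3]

theorem s4Rel_swap : S4Rel (swap (0 : Fin 4) 1) (swap 1 2) (swap 2 3) :=
  ⟨by decide, by decide, by decide, by decide, by decide, by decide⟩

theorem wordS4_bijective :
    Function.Bijective (wordS4 (swap (0 : Fin 4) 1) (swap 1 2) (swap 2 3)) := by
  rw [Fintype.bijective_iff_injective_and_card]
  exact ⟨by decide +kernel, by decide +kernel⟩

variable {G : Type*} [Group G]

/-- The map on normal forms. -/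
noncomputable def s4Fun (a b c : G) (σ : Perm (Fin 4)) : G :=
  wordS4 a b c ((Equiv.ofBijective _ wordS4_bijective).symm σ)

theorem s4Fun_word (a b c : G) (i : Fin 6 × Fin 4) :
    s4Fun a b c (wordS4 (swap (0 : Fin 4) 1) (swap 1 2) (swap 2 3) i) = wordS4 a b c i := by
  rw [s4Fun]
  congr 1
  exact (Equiv.ofBijective _ wordS4_bijective).symm_apply_apply i

theorem s4Fun_mul_list {a b c : G} (h : S4Rel a b c) (l : List (Fin 3)) (σ : Perm (Fin 4)) :
    s4Fun a b c (σ * (l.map s4gen).prod) = s4Fun a b c σ * (l.map ![a, b, c]).prod := by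
  induction l generalizing σ with
  | nil => simp
  | cons k l ih =>
    obtain ⟨i, rfl⟩ := wordS4_bijective.2 σ
    rw [List.map_cons, List.map_cons, List.prod_cons, List.prod_cons, ← mul_assoc, ← mul_assoc,
      s4gen, wordS4_mul s4Rel_swap, ← s4gen, ih, s4Fun_word, s4Fun_word, wordS4_mul h]

/-- The homomorphism `Sym(4) → G` given by three involutions with the braid relations. -/
noncomputable def s4Hom {a b c : G} (h : S4Rel a b c) : Perm (Fin 4) →* G where
  toFun := s4Fun a b c
  map_one' := by
    have := s4Fun_word a b c (0, 0)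
    simpa [wordS4, wordA, wordR] using this
  map_mul' σ τ := by
    obtain ⟨i, rfl⟩ := wordS4_bijective.2 τ
    conv_rhs => rw [s4Fun_word, wordS4_eq_prod]
    conv_lhs => rw [wordS4_eq_prod]
    exact s4Fun_mul_list h _ σ

theorem s4Hom_gen {a b c : G} (h : S4Rel a b c) (k : Fin 3) :
    s4Hom h (s4gen k) = ![a, b, c] k := by
  have := s4Fun_mul_list h [k] 1
  have h1 : s4Fun a b c 1 = 1 := (s4Hom h).map_one
  simpa [s4Hom, h1] using this

theorem s4_normal_aux : ∀ σ : Perm (Fin 4), σ ≠ 1 →
    ∃ g ∈ [1, swap (0 : Fin 4) 1, swap 1 2, swap 0 2, swap 0 1 * swap 1 2, swap 1 2 * swap 0 1],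
      g * σ * g⁻¹ = swap 0 1 * swap 2 3 ∨
      ∃ v ∈ [swap (0 : Fin 4) 1 * swap 2 3, swap 0 2 * swap 1 3],
        g * (σ * v * σ⁻¹ * v⁻¹) * g⁻¹ = swap 0 1 * swap 2 3 := by
  decide +kernel

theorem s4Hom_injective {a b c : G} (h : S4Rel a b c) (hac : a ≠ c) :
    Function.Injective (s4Hom h) := by
  rw [injective_iff_map_eq_one]
  intro σ hσ
  by_contra hne
  have key : ∀ g x : Perm (Fin 4), s4Hom h x = 1 → s4Hom h (g * x * g⁻¹) = 1 := fun g x hx => by
    simp [hx]
  have hz : s4Hom h (swap 0 1 * swap 2 3) = 1 := by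
    obtain ⟨g, -, hg | ⟨v, -, hv⟩⟩ := s4_normal_aux σ hne
    · rw [← hg]; exact key g σ hσ
    · rw [← hv]
      exact key g _ (by simp [hσ])
  have h2 : a * c = 1 := by
    have e0 := s4Hom_gen h 0
    have e2 := s4Hom_gen h 2
    simp [s4gen] at e0 e2
    rwa [map_mul, e0, e2] at hz
  exact hac (mul_right_cancel (h2.trans h.hcc.symm))

/-- Two involutions whose product has order dividing 3 satisfy the braid relation. -/
theorem braid_of_pow_three {a b : G} (ha : a * a = 1) (hb : b * b = 1) (h : (a * b) ^ 3 = 1) :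
    b * a * b = a * b * a := by
  have hai : a⁻¹ = a := inv_eq_of_mul_eq_one_right ha
  have hbi : b⁻¹ = b := inv_eq_of_mul_eq_one_right hb
  have h' : (a * b * a) * (b * a * b) = 1 := by rw [← h]; simp [pow_succ, mul_assoc]
  have := eq_inv_of_mul_eq_one_right h'
  rw [this]
  simp [hai, hbi, mul_assoc]

end Cfsg.Agent.Transpos
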