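/-
The collinearity graph of the 45 isotropic points of the four-dimensional unitary space over four elements:
its automorphisms act faithfully on the six-dimensional orthogonal space of minus type over two elements,
the 27 totally isotropic lines being the singular vectors.
-/
import Mathlib
import Cfsg.Prelude.Def_Classical

set_option autoImplicit false

namespace Cfsg.Agent.Transpos.O6

/-- The coordinates. -/
abbrev I6 : Type := (Fin 2 ⊕ Fin 2) ⊕ Fin 2

/-- The form. -/
abbrev Q6 : (I6 → ZMod 2) → ZMod 2 := Cfsg.quadFormMinus 2 (ZMod 2) 1 1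

/-- The 45 points, coded by base four. -/
def ptT : List ℕ :=
  [80, 144, 208, 68, 132, 196, 20, 36, 52, 65,
    129, 193, 17, 33, 49, 5, 85, 149, 213, 101,
    165, 229, 117, 181, 245, 9, 89, 153, 217, 105,
    169, 233, 121, 185, 249, 13, 93, 157, 221, 109,
    173, 237, 125, 189, 253]

/-- Orthogonality, a bit set per point. -/
def adjT : List ℕ :=
  [18813149085697, 6775485136898, 9664524484612, 20075889913864, 5036127186960,
    10037961715744, 30790084136512, 511104781952, 3848789823232, 5021425533888,
    10042851067328, 20085702134208, 481506562104, 3852052471864, 30816419725368,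
    33521671, 4673613435465, 8866161136722, 17731848804452, 2273120658060,
    697950119057, 1392112740514, 18150605374218, 5514881451284, 10999697623329,
    34326183943, 705553503009, 1381008217354, 2277188442388, 5506989105764,
    11013471216713, 18148553402450, 8871440040610, 17739059053708, 4691289196689,
    35150012350471, 18799340950161, 6777526817954, 9672402737292, 9657306325780,
    18795458471201, 6770227947786, 6786593669714, 9660472116324, 18805518780489]

/-- The 27 lines, as bit sets of points. -/
def clT : List ℕ :=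
  [17924097, 18354274305, 18794776887297, 6455298, 6610223106,
    6768868458498, 9207812, 9428795396, 9655086481412, 275012194312,
    2200097529864, 17600780189704, 68988047376, 551904354320, 4415234785296,
    137506328608, 1100050604064, 8800404783136, 4398583448128, 8797166896192,
    17594333792320, 73014968960, 146029937792, 292059875456, 549827117824,
    1099654235392, 2199308470528]

/-- The singular vector of each line. -/
def svT : List ℕ :=
  [8, 4, 12, 1, 2, 3, 9, 6, 15, 37,
    30, 59, 27, 53, 46, 62, 43, 21, 45, 26,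
    55, 23, 61, 42, 58, 39, 29]

/-- Orthogonality of two points. -/
def adj (i j : Fin 45) : Bool := (adjT.getD i.1 0).testBit j.1

/-- Incidence. -/
def inc (i : Fin 45) (l : Fin 27) : Bool := (clT.getD l.1 0).testBit i.1

/-- A first point of each line. -/
def p1 (l : Fin 27) : Fin 45 := Fin.ofNat 45 ([0, 0, 0, 1, 1, 1, 2, 2, 2, 3, 3, 3, 4, 4, 4, 5, 5, 5, 6, 6, 6, 7, 7, 7, 8, 8, 8].getD l.1 0)

/-- A second point of each line. -/
def p2 (l : Fin 27) : Fin 45 := Fin.ofNat 45 ([15, 25, 35, 15, 25, 35, 15, 25, 35, 12, 13, 14, 12, 13, 14, 12, 13, 14, 9, 10, 11, 9, 10, 11, 9, 10, 11].getD l.1 0)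

/-- The position of a coordinate. -/
def enc : I6 → ℕ
  | .inl (.inl i) => i.1
  | .inl (.inr i) => 2 + i.1
  | .inr i => 4 + i.1

/-- The singular vector of a line. -/
def sv (l : Fin 27) : I6 → ZMod 2 := fun x => if (svT.getD l.1 0).testBit (enc x) then 1 else 0

/-- Six lines whose vectors form a basis. -/
def base (k : Fin 6) : Fin 27 := Fin.ofNat 27 ([7, 24, 14, 15, 17, 26].getD k.1 0)

/-- The coefficient of the basis vector `k` in a standard vector. -/
def cf (y : I6) (k : Fin 6) : ZMod 2 := if ([22, 11, 10, 48, 12, 53].getD (enc y) 0).testBit k.1 then 1 else 0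

/-- Triples of lines through a point generating all lines from the six. -/
def steps : List (Fin 27 × Fin 27 × Fin 27) :=
  [(12, 7, 26), (1, 24, 15), (25, 24, 26), (11, 14, 17), (13, 14, 12), (23, 14, 1), (6, 14, 25), (16, 15, 17), (9, 15, 12), (20, 15, 6), (0, 17, 26), (4, 7, 1), (22, 7, 11), (8, 7, 6), (18, 7, 16), (3, 24, 11), (21, 24, 18), (5, 14, 18), (19, 17, 8), (10, 26, 5), (2, 12, 21)]

/-- Two lines meet. -/
def meets (l m : Fin 27) : Bool := decide ((clT.getD l.1 0) &&& (clT.getD m.1 0) ≠ 0)

theorem meets_iff : ∀ l m, meets l m = true ↔ ∃ i, inc i l = true ∧ inc i m = true := by decide +kernel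

theorem inc_iff : ∀ l i, inc i l = true ↔ adj i (p1 l) = true ∧ adj i (p2 l) = true := by decide +kernel

theorem p_ne : ∀ l, p1 l ≠ p2 l ∧ adj (p1 l) (p2 l) = true := by decide +kernel

theorem exists_line : ∀ i j, adj i j = true → i ≠ j →
    ∃ l, ∀ k, inc k l = true ↔ adj k i = true ∧ adj k j = true := by decide +kernel

theorem line_ext : ∀ l m, (∀ i, inc i l = true ↔ inc i m = true) → l = m := by decide +kernel

theorem point_ext : ∀ i j, (∀ l, inc i l = true ↔ inc j l = true) → i = j := by decide +kernel

theorem adj_refl : ∀ i, adj i i = true := by decide +kernel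

theorem sv_inj : ∀ l m, sv l = sv m → l = m := by decide +kernel

theorem sv_ne_zero : ∀ l, sv l ≠ 0 := by decide +kernel

theorem sv_singular : ∀ l, Q6 (sv l) = 0 := by decide +kernel

theorem sv_surj : ∀ v, Q6 v = 0 → v ≠ 0 → ∃ l, sv l = v := by decide +kernel

theorem sv_third : ∀ l m n, l ≠ m → n ≠ l → n ≠ m → meets l m = true → meets n l = true → meets n m = true →
    ∀ x, sv n x = sv l x + sv m x := by decide +kernel

theorem base_coef : ∀ k k', ∑ y, cf y k' * sv (base k) y = if k = k' then 1 else 0 := by decide +kernel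

theorem coef_base : ∀ x y, ∑ k, cf y k * sv (base k) x = if x = y then 1 else 0 := by decide +kernel

set_option maxRecDepth 100000 in
theorem steps_ok : ∀ t ∈ steps, t.2.1 ≠ t.2.2 ∧ t.1 ≠ t.2.1 ∧ t.1 ≠ t.2.2 ∧ meets t.2.1 t.2.2 = true ∧
    meets t.1 t.2.1 = true ∧ meets t.1 t.2.2 = true := by decide +kernel

/-- Which lines are reached. -/
def reach : List (Fin 27 × Fin 27 × Fin 27) → List (Fin 27) → List (Fin 27)
  | [], K => K
  | t :: ts, K => if t.2.1 ∈ K ∧ t.2.2 ∈ K then reach ts (t.1 :: K) else reach ts K

theorem reach_all : ∀ l, l ∈ reach steps (List.ofFn base) := by decide +kernel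

theorem reach_induction {P : Fin 27 → Prop} (hb : ∀ k, P (base k))
    (hs : ∀ t ∈ steps, P t.2.1 → P t.2.2 → P t.1) (l : Fin 27) : P l := by
  suffices h : ∀ ts : List (Fin 27 × Fin 27 × Fin 27), (∀ t ∈ ts, P t.2.1 → P t.2.2 → P t.1) →
      ∀ K : List (Fin 27), (∀ m ∈ K, P m) → ∀ m ∈ reach ts K, P m from
    h steps hs _ (fun m hm => by obtain ⟨k, rfl⟩ := List.mem_ofFn.1 hm; exact hb k) l (reach_all l)
  intro ts
  induction ts with
  | nil => exact fun _ K hK => hK
  | cons t ts ih =>
    intro h K hK m hm
    rw [reach] at hm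
    have h' : ∀ t ∈ ts, P t.2.1 → P t.2.2 → P t.1 := fun t ht => h t (List.mem_cons_of_mem _ ht)
    split at hm
    · rename_i hin
      refine ih h' _ (fun m hm => ?_) m hm
      rcases List.mem_cons.1 hm with rfl | hm
      exacts [h t List.mem_cons_self (hK _ hin.1) (hK _ hin.2), hK m hm]
    · exact ih h' K hK m hm

/-- The automorphisms of the graph. -/
def autGraph : Subgroup (Equiv.Perm (Fin 45)) where
  carrier := {π | ∀ i j, adj (π i) (π j) = adj i j}
  mul_mem' := fun {π ρ} hπ hρ i j => (hπ (ρ i) (ρ j)).trans (hρ i j)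
  one_mem' := fun _ _ => rfl
  inv_mem' := fun {π} hπ i j => by
    have := hπ (π⁻¹ i) (π⁻¹ j)
    simpa using this.symm

theorem exists_image (π : autGraph) (l : Fin 27) :
    ∃ m, ∀ i, inc (π.1 i) m = true ↔ inc i l = true := by
  obtain ⟨m, hm⟩ := exists_line (π.1 (p1 l)) (π.1 (p2 l)) ((π.2 _ _).trans (p_ne l).2)
    fun e => (p_ne l).1 (π.1.injective e)
  exact ⟨m, fun i => by rw [hm, inc_iff, π.2, π.2]⟩

/-- The permutation of the lines. -/
noncomputable def line (π : autGraph) (l : Fin 27) : Fin 27 := (exists_image π l).choose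

theorem inc_line (π : autGraph) (l : Fin 27) (i : Fin 45) :
    inc (π.1 i) (line π l) = true ↔ inc i l = true := (exists_image π l).choose_spec i

theorem line_injective (π : autGraph) : Function.Injective (line π) := fun l m e =>
  line_ext l m fun i => by rw [← inc_line π l i, ← inc_line π m i, e]

theorem line_mul (π ρ : autGraph) (l : Fin 27) : line (π * ρ) l = line π (line ρ l) := by
  refine line_ext _ _ fun i => ?_
  obtain ⟨j, rfl⟩ := (π * ρ).1.surjective i
  rw [inc_line, show ((π * ρ).1 j) = π.1 (ρ.1 j) from rfl, inc_line, inc_line]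

theorem line_one (l : Fin 27) : line 1 l = l := line_ext _ _ fun i => inc_line 1 l i

theorem meets_line (π : autGraph) {l m : Fin 27} (h : meets l m = true) :
    meets (line π l) (line π m) = true := by
  obtain ⟨i, hl, hm⟩ := (meets_iff l m).1 h
  exact (meets_iff _ _).2 ⟨π.1 i, (inc_line π l i).2 hl, (inc_line π m i).2 hm⟩

/-- The matrix of an automorphism. -/
noncomputable def mat (π : autGraph) : Matrix I6 I6 (ZMod 2) :=
  Matrix.of fun x y => ∑ k, cf y k * sv (line π (base k)) x

theorem mat_sv (π : autGraph) (l : Fin 27) : Matrix.mulVec (mat π) (sv l) = sv (line π l) := by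
  refine reach_induction (P := fun l => Matrix.mulVec (mat π) (sv l) = sv (line π l)) (fun k => ?_)
    (fun t ht h1 h2 => ?_) l
  · funext x
    simp only [mat, Matrix.mulVec, dotProduct, Matrix.of_apply, Finset.sum_mul]
    rw [Finset.sum_comm]
    simp only [mul_right_comm (cf _ _) _ (sv (base k) _), ← Finset.sum_mul, base_coef, ite_mul, one_mul,
      zero_mul, Finset.sum_ite_eq, Finset.mem_univ, if_true]
  · obtain ⟨n1, n2, n3, m1, m2, m3⟩ := steps_ok t ht
    have e1 : sv t.1 = sv t.2.1 + sv t.2.2 := funext fun x => sv_third _ _ _ n1 n2 n3 m1 m2 m3 x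
    have e2 : sv (line π t.1) = sv (line π t.2.1) + sv (line π t.2.2) := funext fun x =>
      sv_third _ _ _ ((line_injective π).ne n1) ((line_injective π).ne n2) ((line_injective π).ne n3)
        (meets_line π m1) (meets_line π m2) (meets_line π m3) x
    rw [e1, Matrix.mulVec_add, h1, h2, e2]

theorem ext_sv {A B : Matrix I6 I6 (ZMod 2)}
    (h : ∀ l, Matrix.mulVec A (sv l) = Matrix.mulVec B (sv l)) : A = B := by
  have key : ∀ C : Matrix I6 I6 (ZMod 2), ∀ x y,
      ∑ k, cf y k * Matrix.mulVec C (sv (base k)) x = C x y := by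
    intro C x y
    simp only [Matrix.mulVec, dotProduct, Finset.mul_sum]
    rw [Finset.sum_comm]
    simp only [mul_left_comm (cf y _) (C x _), ← Finset.mul_sum, coef_base, mul_ite, mul_one, mul_zero,
      Finset.sum_ite_eq', Finset.mem_univ, if_true]
  ext x y
  rw [← key A, ← key B]
  simp only [h]

/-- The action on the orthogonal space. -/
noncomputable def matHom : autGraph →* Matrix I6 I6 (ZMod 2) where
  toFun := mat
  map_one' := ext_sv fun l => by rw [mat_sv, line_one, Matrix.one_mulVec]
  map_mul' π ρ := ext_sv fun l => by rw [mat_sv, line_mul, ← Matrix.mulVec_mulVec, mat_sv, mat_sv]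

theorem matHom_mem (π : autGraph) : matHom.toHomUnits π ∈ Cfsg.isometryGroup (ZMod 2) Q6 := by
  have key : ∀ (π : autGraph) v, Q6 v = 0 → Q6 (Matrix.mulVec (mat π) v) = 0 := by
    intro π v hv
    by_cases h0 : v = 0
    · subst h0; rw [Matrix.mulVec_zero]; exact hv
    obtain ⟨l, rfl⟩ := sv_surj v hv h0
    rw [mat_sv]
    exact sv_singular _
  have hinv : ∀ v, Matrix.mulVec (mat π⁻¹) (Matrix.mulVec (mat π) v) = v := fun v => by
    rw [Matrix.mulVec_mulVec, show mat π⁻¹ * mat π = matHom (π⁻¹ * π) from (map_mul matHom _ _).symm,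
      inv_mul_cancel, map_one, Matrix.one_mulVec]
  intro v _
  show Q6 (Matrix.mulVec (mat π) v) = Q6 v
  have h2 : ∀ a b : ZMod 2, (b = 0 → a = 0) → (a = 0 → b = 0) → a = b := by decide
  exact h2 _ _ (key π v) fun h => by simpa [hinv] using key π⁻¹ _ h

/-- The action of the graph automorphisms on the orthogonal space. -/
noncomputable def toIsometry : autGraph →* ↥(Cfsg.isometryGroup (ZMod 2) Q6) :=
  matHom.toHomUnits.codRestrict _ matHom_mem

theorem toIsometry_injective : Function.Injective toIsometry := by
  rw [injective_iff_map_eq_one]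
  intro π hπ
  have e : mat π = 1 := congrArg (fun g : ↥(Cfsg.isometryGroup (ZMod 2) Q6) =>
    ((g.1 : GL I6 (ZMod 2)) : Matrix I6 I6 (ZMod 2))) hπ
  refine Subtype.ext (Equiv.ext fun i => point_ext _ _ fun l => ?_)
  have hl : line π l = l := sv_inj _ _ (by rw [← mat_sv, e, Matrix.one_mulVec])
  conv_lhs => rw [← hl, inc_line]
  rfl

end Cfsg.Agent.Transpos.O6
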