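import Cfsg.Agent.Lib.Transpos.M22Linear

/-!
# The centraliser of a member in a group of type M(22)

`M22.inner_of_linear`: an automorphism linear at `a` is inner.  `M22.cent_eq`: it is generated by the members commuting with it.  An element of it induces a linear
isometry; moving four members back inside that group leaves one fixing three points of a totally
isotropic plane and permuting points of a hyperoval, hence of determinant 1.
-/

set_option autoImplicit false

namespace Cfsg.Agent.Transpos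

open Cfsg Cfsg.Agent.ClassicalSimple

variable {G : Type*} [Group G] {D : Set G} {a : G}

namespace Model

variable (M : Model D a) (H : M22 D) (ha : a ∈ D)
include M H ha

/-- A member carries one point to another with pairing `1`. -/
theorem step {x x' : G} {v w : Fin 6 → M.F} (hx : M.IsPt x v) (hx' : M.IsPt x' w)
    (hvw : M.h v w = 1) : ∃ z, M.IsPt z (v + w) ∧ z * x * z⁻¹ = x' := by
  obtain ⟨hu, hu0, e⟩ := U6.one_step M.c hx.iso hx'.iso hvw
  obtain ⟨z, hz⟩ := M.exists_mem H ha hu hu0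
  exact ⟨z, hz, eq_of_smul M H ha (M.acts_tv H ha hz x v hx) hx' (m := 1)
    (by rw [one_smul]; exact e.symm)⟩

/-- Two points of the perp of `P` are moved into each other by members over the perp of `P`. -/
theorem exists_move {k : ℕ} (P : Fin k → Fin 6 → M.F) (hP : LinearIndependent M.F P) (K : Subgroup G)
    (hK : ∀ z u, M.IsPt z u → (∀ i, M.h (P i) u = 0) → z ∈ K) {x x' : G} {v w : Fin 6 → M.F}
    (hx : M.IsPt x v) (hx' : M.IsPt x' w) (hv : ∀ i, M.h (P i) v = 0) (hw : ∀ i, M.h (P i) w = 0)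
    (hv' : v ∉ Submodule.span M.F (Set.range P)) (hw' : w ∉ Submodule.span M.F (Set.range P)) :
    ∃ y ∈ K, y * x * y⁻¹ = x' := by
  have one : ∀ {x x' : G} {v w : Fin 6 → M.F}, M.IsPt x v → M.IsPt x' w →
      (∀ i, M.h (P i) v = 0) → (∀ i, M.h (P i) w = 0) → M.h v w ≠ 0 →
      ∃ y ∈ K, y * x * y⁻¹ = x' := by
    intro x x' v w hx hx' hv hw hne
    obtain ⟨z, hz, e⟩ := M.step H ha hx (hx'.smul (inv_ne_zero hne))
      (by rw [map_smul, smul_eq_mul, inv_mul_cancel₀ hne])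
    exact ⟨z, hK z _ hz fun i => by simp [hv, hw], e⟩
  by_cases hne : M.h v w ≠ 0
  · exact one hx hx' hv hw hne
  rw [not_not] at hne
  obtain ⟨z, hz, hPz, hvz, hwz⟩ := U6.exists_mid M.c P hP hx.iso hne hv hv' hw'
  obtain ⟨m, hm⟩ := M.exists_mem H ha hz fun e => hvz (by rw [e, map_zero])
  obtain ⟨y, hy, e⟩ := one hx hm hv hPz hvz
  obtain ⟨y', hy', e'⟩ := one hm hx' hPz hw fun h => hwz (M.c.form.comm_zero h)
  exact ⟨y' * y, K.mul_mem hy' hy, by rw [← e', ← e]; group⟩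

/-- Two points off the perp of `A` are moved into each other by members over its perp. -/
theorem exists_move_off {A : Fin 6 → M.F} (hA : M.h A A = 0) (hA0 : A ≠ 0) (K : Subgroup G)
    (hK : ∀ z u, M.IsPt z u → M.h A u = 0 → z ∈ K) {x x' : G} {v₀ w₀ : Fin 6 → M.F}
    (hx₀ : M.IsPt x v₀) (hx₀' : M.IsPt x' w₀) (hv₀ : M.h A v₀ ≠ 0) (hw₀ : M.h A w₀ ≠ 0) :
    ∃ y ∈ K, y * x * y⁻¹ = x' := by
  have one : ∀ {x x' : G} {v w : Fin 6 → M.F}, M.IsPt x v → M.IsPt x' w →
      M.h A v = 1 → M.h A w = 1 → M.h v w = 1 → ∃ y ∈ K, y * x * y⁻¹ = x' := by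
    intro x x' v w hx hx' hv hw e
    obtain ⟨z, hz, e⟩ := M.step H ha hx hx' e
    exact ⟨z, hK z _ hz (by simp [hv, hw, M.c.two]), e⟩
  obtain ⟨v, hx, hv⟩ : ∃ v, M.IsPt x v ∧ M.h A v = 1 :=
    ⟨_, hx₀.smul (inv_ne_zero hv₀), by rw [map_smul, smul_eq_mul, inv_mul_cancel₀ hv₀]⟩
  obtain ⟨w, hx', hw⟩ : ∃ w, M.IsPt x' w ∧ M.h A w = 1 :=
    ⟨_, hx₀'.smul (inv_ne_zero hw₀), by rw [map_smul, smul_eq_mul, inv_mul_cancel₀ hw₀]⟩
  by_cases h1 : M.h v w = 1
  · exact one hx hx' hv hw h1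
  by_cases h2 : v = w
  · exact ⟨1, K.one_mem, by rw [M.eq_of_smul H ha hx hx' (m := 1) (by rw [one_smul, h2])]; group⟩
  have hvA : M.h v A = 1 := by rw [M.c.form.swap A v, hv, map_one]
  have hli : LinearIndependent M.F ![A, v, w] := by
    rw [Fintype.linearIndependent_iff]
    intro g hg
    simp only [Fin.sum_univ_three, Matrix.cons_val_zero, Matrix.cons_val_one,
      Matrix.cons_val_two, Matrix.tail_cons, Matrix.head_cons] at hg
    have h2' : g 2 = 0 := by
      by_contra hne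
      have e : w = (-((g 2)⁻¹ * g 0)) • A + (-((g 2)⁻¹ * g 1)) • v := by
        rw [← inv_smul_smul₀ hne w, eq_neg_of_add_eq_zero_right hg]
        module
      generalize -((g 2)⁻¹ * g 0) = m at e
      generalize -((g 2)⁻¹ * g 1) = n at e
      have hn : n = 1 := by rw [← hw, e]; simp [hA, hv]
      have e1 : M.h v w = m := by rw [e]; simp [hx.iso, hvA]
      have hiso : m + M.σ m = 0 := by
        have := hx'.iso
        rw [e, hn] at this
        simpa [hA, hx.iso, hv, hvA, add_comm] using this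
      have hfix : M.σ m = m := by linear_combination hiso - m * M.c.two
      by_cases hm : m = 0
      · exact h2 (by rw [e, hn, hm, zero_smul, one_smul, zero_add])
      · exact h1 (e1.trans (M.c.eq_one hfix hm))
    rw [h2', zero_smul, add_zero] at hg
    have h1' : g 1 = 0 := by simpa [hA, hv] using congrArg (M.h A) hg
    rw [h1', zero_smul, add_zero] at hg
    intro i
    fin_cases i
    exacts [(smul_eq_zero.1 hg).resolve_right hA0, h1', h2']
  obtain ⟨z, hz, hAz, hvz, hwz⟩ := U6.exists_mid_affine M.c hA hx.iso hv hli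
  obtain ⟨m, hm⟩ := M.exists_mem H ha hz fun e => one_ne_zero (α := M.F) (by rw [← hAz, e, map_zero])
  obtain ⟨y, hy, e⟩ := one hx hm hv hAz hvz
  obtain ⟨y', hy', e'⟩ := one hm hx' hAz hw (by rw [M.c.form.swap w z, hwz, map_one])
  exact ⟨y' * y, K.mul_mem hy' hy, by rw [← e', ← e]; group⟩

end Model

namespace M22

variable (H : M22 D)
include H

/-- Members commuting with an opposite pair contain no twins. -/
theorem not_twin {x b c e : G} (ha : a ∈ D) (hb : b ∈ Dc D a)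
    (hx : x ∈ Dc D b) (hax : ¬ Commute a x) (hxc : Commute x c) (hxe : Commute x e)
    (hc : c ∈ Dc (Dc D a) b) : ¬ Twin D a b c e := by
  intro hf
  obtain ⟨Mb⟩ := (H.model b hb.1).2
  obtain ⟨A, hA⟩ := Mb.exists_vec H hb.1 (mem_dc_symm ha hb)
  obtain ⟨X, hX⟩ := Mb.exists_vec H hb.1 hx
  have hmem : ∀ {z}, z ∈ Dc (Dc D a) b → z ∈ Dc D b := fun hz => ⟨hz.1.1, hz.2.1, hz.2.2⟩
  obtain ⟨C, hC⟩ := Mb.exists_vec H hb.1 (hmem hc)
  obtain ⟨E, hE⟩ := Mb.exists_vec H hb.1 (hmem hf.1)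
  have hAC : Mb.h A C = 0 := (Mb.comm_iff H hb.1 hA hC).1 hc.1.2.2
  obtain ⟨α, β, e'⟩ := Mb.c.mem_line_of_twin hA.iso hAC ((Mb.comm_iff H hb.1 hA hE).1 hf.1.1.2.2)
    fun y hy hAy hym hCy => by
      obtain ⟨z, hz⟩ := Mb.exists_mem H hb.1 hy fun e => hym 0 (by rw [e, zero_smul])
      have hza : z ≠ a := fun e => by
        obtain ⟨m, hm⟩ := Mb.smul_of_eq hA hz e.symm
        exact hym m hm
      have hzT : z ∈ Dc (Dc D a) b :=
        ⟨⟨hz.mem.1, hza, (Mb.comm_iff H hb.1 hA hz).2 hAy⟩, hz.mem.2.1, hz.mem.2.2⟩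
      exact (Mb.comm_iff H hb.1 hE hz).1
        ((hf.2.2.2 z hzT).1 ((Mb.comm_iff H hb.1 hC hz).2 hCy).symm).symm
  have hXA : Mb.h X A ≠ 0 := fun h => hax ((Mb.comm_iff H hb.1 hX hA).2 h).symm
  have h0 : Mb.h X E = 0 := (Mb.comm_iff H hb.1 hX hE).1 hxe
  rw [e', map_add, map_smul, map_smul, (Mb.comm_iff H hb.1 hX hC).1 hxc, smul_zero, add_zero,
    smul_eq_mul] at h0
  rw [(mul_eq_zero.1 h0).resolve_right hXA, zero_smul, zero_add] at e'
  exact Model.ne_of_ne Mb H hb.1 hC hE hf.2.1.symm β e'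

variable [Finite G]

/-- An automorphism acting linearly at `a` is conjugation by an element of `closure (Dc D a)`. -/
theorem inner_of_linear (ha : a ∈ D) (M : Model D a) {φ : G ≃* G} (hφ : Preserves D φ)
    (hfa : φ a = a) {Ψ : (Fin 6 → M.F) → (Fin 6 → M.F)} (hΨ : U6.Semi M.h id Ψ)
    (hact : M.Acts φ Ψ) : ∃ y ∈ Subgroup.closure (Dc D a), ∀ g, φ g = y * g * y⁻¹ := by
  classical
  set K := Subgroup.closure (Dc D a) with hKdef
  have hKle : K ≤ Subgroup.centralizer ({a} : Set G) :=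
    (Subgroup.closure_le _).2 fun y hy => Subgroup.mem_centralizer_singleton_iff.2 hy.2.2.eq.symm
  obtain ⟨b, hb⟩ := (H.model a ha).1
  obtain ⟨U, hU⟩ := M.exists_vec H ha hb
  obtain ⟨Mb⟩ := (H.model b hb.1).2
  obtain ⟨A, hA⟩ := Mb.exists_vec H hb.1 (mem_dc_symm ha hb)
  obtain ⟨x, hx, hax⟩ := H.exists_opp ha hb
  obtain ⟨X, hX⟩ := Mb.exists_vec H hb.1 hx
  have hAX : Mb.h A X ≠ 0 := fun h => hax ((Mb.comm_iff H hb.1 hA hX).2 h)
  have hXA : Mb.h X A ≠ 0 := fun h => hAX (Mb.c.form.comm_zero h)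
  have conjmem : ∀ {t : G ≃* G} {p q : G}, Preserves D t → t p = p → q ∈ Dc D p → t q ∈ Dc D p :=
    fun ht hp hq => (ht.mem_dc_fix hp).2 hq
  have memK : ∀ {z u}, Mb.IsPt z u → Mb.h A u = 0 → z ∈ K ∧ Commute z a ∧ Commute z b := by
    intro z u hz hu
    have hza : Commute z a := ((Mb.comm_iff H hb.1 hA hz).2 hu).symm
    refine ⟨?_, hza, hz.mem.2.2.symm⟩
    by_cases e : z = a
    · rw [e]; exact H.mem_closure_dc ha
    · exact Subgroup.subset_closure ⟨hz.mem.1, e, hza.symm⟩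
  -- the two points `c`, `d`
  have outAX : ∀ {C : Fin 6 → Mb.F}, Mb.h A C = 0 → Mb.h X C = 0 → C ≠ 0 →
      C ∉ Submodule.span Mb.F (Set.range ![A, X]) := by
    intro C h1 h2 h0 hC
    rw [Matrix.range_cons_cons_empty, Submodule.mem_span_pair] at hC
    obtain ⟨m, n, e⟩ := hC
    have hn : n = 0 := by
      have := congrArg (Mb.h A) e
      simpa [hA.iso, h1, hAX] using this
    have hm : m = 0 := by
      have := congrArg (Mb.h X) e
      simpa [hX.iso, h2, hXA] using this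
    exact h0 (by rw [← e, hm, hn, zero_smul, zero_smul, add_zero])
  have liAX : LinearIndependent Mb.F ![A, X] := by
    rw [LinearIndependent.pair_iff]
    intro m n e
    exact ⟨by simpa [hX.iso, hXA] using congrArg (Mb.h X) e,
      by simpa [hA.iso, hAX] using congrArg (Mb.h A) e⟩
  obtain ⟨C, hC0, hCC, hCP⟩ := U6.exists_iso_perp Mb.c ![A, X, A, A]
  have hAC : Mb.h A C = 0 := hCP 0
  have hXC : Mb.h X C = 0 := hCP 1
  have hPC : ∀ i, Mb.h (![A, X] i) C = 0 := fun i => by fin_cases i <;> assumption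
  obtain ⟨C₂, -, hPC₂, hCC₂, -⟩ := U6.exists_mid Mb.c ![A, X] liAX hCC hCC hPC
    (outAX hAC hXC hC0) (outAX hAC hXC hC0)
  obtain ⟨E, hE0, hEE, hEP⟩ := U6.exists_iso_perp Mb.c ![A, X, C, C₂]
  have hAE : Mb.h A E = 0 := hEP 0
  have hXE : Mb.h X E = 0 := hEP 1
  have hCE : Mb.h C E = 0 := hEP 2
  have hC₂E : Mb.h C₂ E = 0 := hEP 3
  obtain ⟨c, hc⟩ := Mb.exists_mem H hb.1 hCC hC0
  obtain ⟨d, hd⟩ := Mb.exists_mem H hb.1 hEE hE0
  have hcd : c ≠ d := fun e => by
    obtain ⟨m, hm⟩ := Mb.smul_of_eq hc hd e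
    have hC₂C : Mb.h C₂ C ≠ 0 := fun h => hCC₂ (Mb.c.form.comm_zero h)
    rw [hm, map_smul, smul_eq_mul] at hC₂E
    exact hE0 (by rw [hm, (mul_eq_zero.1 hC₂E).resolve_right hC₂C, zero_smul])
  have comm : ∀ {z u}, Mb.IsPt z u → Mb.h A u = 0 → Mb.h X u = 0 →
      z ∈ Dc (Dc D a) b ∧ Commute x z := fun {z u} hz h1 h2 => by
    have hxz := (Mb.comm_iff H hb.1 hX hz).2 h2
    exact ⟨⟨⟨hz.mem.1, fun e => hax (e ▸ hxz).symm, (Mb.comm_iff H hb.1 hA hz).2 h1⟩, hz.mem.2.1,
      hz.mem.2.2⟩, hxz⟩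
  obtain ⟨hcT, hxc⟩ := comm hc hAC hXC
  obtain ⟨hdT, hxd⟩ := comm hd hAE hXE
  have ccd : Commute c d := (Mb.comm_iff H hb.1 hc hd).2 hCE
  -- an element fixing `b`, `x`, `c`, `d`
  have base : ∀ (t : G ≃* G) (Ψ : (Fin 6 → M.F) → (Fin 6 → M.F)), Preserves D t → U6.Semi M.h id Ψ →
      M.Acts t Ψ → t a = a → t b = b → t x = x → t c = c → t d = d →
      ∃ y ∈ K, ∀ g, t g = y * g * y⁻¹ := by
    intro t Ψ ht hΨ hact hta htb htx htc htd
    obtain ⟨W, hW⟩ := M.exists_vec H ha hcT.1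
    obtain ⟨R, hR⟩ := M.exists_vec H ha hdT.1
    have noline : ∀ {p q r : G} {P Q S : Fin 6 → M.F}, p ∈ Dc D a → q ∈ Dc (Dc D a) p →
        r ∈ Dc D a → Commute x p → Commute x q → Commute x r → Commute p r → Commute q r →
        r ≠ p → r ≠ q → M.IsPt p P → M.IsPt q Q → M.IsPt r S → ∀ m n : M.F, S ≠ m • P + n • Q := by
      intro p q r P Q S hp hq hr kp kq kr cpr cqr nrp nrq iP iQ iS m n e
      exact H.not_twin ha hp ⟨hx.1, fun h => hax (h ▸ hp.2.2), kp.symm⟩ hax kq kr hq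
        (Model.twin_of_span M H ha iP iQ iS cpr cqr nrp nrq e)
    have i12 : c ∈ Dc (Dc D a) b := hcT
    have i13 : d ∈ Dc (Dc D a) b := hdT
    have i23 : d ∈ Dc (Dc D a) c := ⟨hdT.1, hcd.symm, ccd⟩
    have hxb : Commute x b := hx.2.2.symm
    have hind : ∀ α β γ : M.F, α • U + β • W + γ • R = 0 → α = 0 ∧ β = 0 ∧ γ = 0 := by
      intro α β γ e
      have hγ : γ = 0 := by
        by_contra h
        refine noline hb i12 hdT.1 hxb hxc hxd hdT.2.2 ccd hdT.2.1 hcd.symm hU hW hR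
          (-(γ⁻¹ * α)) (-(γ⁻¹ * β)) ?_
        rw [← inv_smul_smul₀ h R, eq_neg_of_add_eq_zero_right e]
        module
      rw [hγ, zero_smul, add_zero] at e
      have hβ : β = 0 := by
        by_contra h
        refine Model.ne_of_ne M H ha hU hW hcT.2.1.symm (-(β⁻¹ * α)) ?_
        rw [← inv_smul_smul₀ h W, eq_neg_of_add_eq_zero_right e]
        module
      rw [hβ, zero_smul, add_zero] at e
      exact ⟨(smul_eq_zero.1 e).resolve_right hU.ne_zero, hβ, hγ⟩
    have hli : LinearIndependent M.F ![U, W, R] := by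
      rw [Fintype.linearIndependent_iff]
      intro g hg
      simp only [Fin.sum_univ_three, Matrix.cons_val_zero, Matrix.cons_val_one,
        Matrix.cons_val_two, Matrix.tail_cons, Matrix.head_cons] at hg
      obtain ⟨h0, h1, h2⟩ := hind _ _ _ hg
      intro i; fin_cases i <;> assumption
    have horth : ∀ i j, M.h (![U, W, R] i) (![U, W, R] j) = 0 := by
      have k1 := (M.comm_iff H ha hU hW).1 hcT.2.2
      have k2 := (M.comm_iff H ha hU hR).1 hdT.2.2
      have k3 := (M.comm_iff H ha hW hR).1 ccd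
      intro i j
      fin_cases i <;> fin_cases j <;>
        simp [hU.iso, hW.iso, hR.iso, k1, k2, k3, M.c.form.comm_zero k1, M.c.form.comm_zero k2,
          M.c.form.comm_zero k3]
    obtain ⟨p, hp0, hp⟩ := (M.fix_iff H ha hact hU).1 htb
    obtain ⟨q, hq0, hq⟩ := (M.fix_iff H ha hact hW).1 htc
    obtain ⟨s, hs0, hs⟩ := (M.fix_iff H ha hact hR).1 htd
    -- a fourth point
    have hiso4 : Mb.h (C + E) (C + E) = 0 := by simp [hCC, hEE, hCE, Mb.c.form.comm_zero hCE]
    have hne4 : C + E ≠ 0 := fun e => hcd (Model.eq_of_smul Mb H hb.1 hc hd (m := -1) (by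
      rw [neg_one_smul]; exact eq_neg_of_add_eq_zero_right e))
    obtain ⟨f, hf⟩ := Mb.exists_mem H hb.1 hiso4 hne4
    obtain ⟨hfT, hxf⟩ := comm hf (by simp [hAC, hAE]) (by simp [hXC, hXE])
    have hfc : f ≠ c := fun e => by
      obtain ⟨m, hm⟩ := Mb.smul_of_eq hc hf e.symm
      exact Model.ne_of_ne Mb H hb.1 hc hd hcd (m - 1) (by
        rw [sub_smul, one_smul, ← hm]; abel)
    have hfd : f ≠ d := fun e => by
      obtain ⟨m, hm⟩ := Mb.smul_of_eq hd hf e.symm
      exact Model.ne_of_ne Mb H hb.1 hd hc hcd.symm (m - 1) (by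
        rw [sub_smul, one_smul, ← hm]; abel)
    have ccf : Commute c f := (Mb.comm_iff H hb.1 hc hf).2 (by simp [hCC, hCE])
    have cdf : Commute d f :=
      (Mb.comm_iff H hb.1 hd hf).2 (by simp [hEE, Mb.c.form.comm_zero hCE])
    obtain ⟨F₀, hF₀⟩ := M.exists_vec H ha hfT.1
    have hspan : ∀ {r : G} {S : Fin 6 → M.F}, M.IsPt r S → Commute b r → Commute c r → Commute d r →
        ∃ α β γ : M.F, S = α • U + β • W + γ • R := by
      intro r S hS k1 k2 k3
      obtain ⟨g, hg⟩ := (Submodule.mem_span_range_iff_exists_fun M.F).1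
        (U6.mem_plane M.c hli horth (t := S) fun i => by
          fin_cases i
          exacts [(M.comm_iff H ha hU hS).1 k1, (M.comm_iff H ha hW hS).1 k2,
            (M.comm_iff H ha hR hS).1 k3])
      exact ⟨g 0, g 1, g 2, by simpa [Fin.sum_univ_three] using hg.symm⟩
    obtain ⟨α, β, γ, eF⟩ := hspan hF₀ hfT.2.2 ccf cdf
    have hα : α ≠ 0 := fun h => noline hcT.1 i23 hfT.1 hxc hxd hxf ccf cdf hfc hfd hW hR hF₀ β γ
      (by rw [eF, h, zero_smul, zero_add])
    have hβ : β ≠ 0 := fun h => noline hb i13 hfT.1 hxb hxd hxf hfT.2.2 cdf hfT.2.1 hfd hU hR hF₀ α γ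
      (by rw [eF, h, zero_smul, add_zero])
    have hγ : γ ≠ 0 := fun h => noline hb i12 hfT.1 hxb hxc hxf hfT.2.2 ccf hfT.2.1 hfc hU hW hF₀ α β
      (by rw [eF, h, zero_smul, add_zero])
    -- its image
    set f' := t f with hf'
    have hact' := hact f F₀ hF₀
    have eF' : Ψ F₀ = (p * α) • U + (q * β) • W + (s * γ) • R := by
      rw [eF, hΨ.add, hΨ.add, hΨ.smul, hΨ.smul, hΨ.smul, id, id, id, hp, hq, hs]
      module
    have tr : ∀ {r}, t r = r → Commute r f → Commute r f' := fun {r} h k => by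
      have := k.map t
      rwa [h] at this
    have hxf' : Commute x f' := tr htx hxf
    have kb : Commute b f' := tr htb hfT.2.2
    have kc : Commute c f' := tr htc ccf
    have kd : Commute d f' := tr htd cdf
    have hne' : ∀ {r}, t r = r → f ≠ r → f' ≠ r := fun {r} h hr e => hr (t.injective (e.trans h.symm))
    have prod1 : p * q * s = 1 := by
      by_cases hff : f' = f
      · obtain ⟨m, hm⟩ := M.smul_of_eq hF₀ hact' hff.symm
        rw [eF', eF] at hm
        obtain ⟨e1, e2, e3⟩ := hind ((p - m) * α) ((q - m) * β) ((s - m) * γ) (by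
          rw [← sub_eq_zero.2 hm]; module)
        rw [sub_eq_zero.1 ((mul_eq_zero.1 e1).resolve_right hα),
          sub_eq_zero.1 ((mul_eq_zero.1 e2).resolve_right hβ),
          sub_eq_zero.1 ((mul_eq_zero.1 e3).resolve_right hγ)]
        exact M.c.cube m fun e => hact'.ne_zero (by
          rw [eF']; simp [sub_eq_zero.1 ((mul_eq_zero.1 e1).resolve_right hα),
            sub_eq_zero.1 ((mul_eq_zero.1 e2).resolve_right hβ),
            sub_eq_zero.1 ((mul_eq_zero.1 e3).resolve_right hγ), e])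
      have cff : Commute f f' := (M.comm_iff H ha hF₀ hact').2 (by
        rw [eF', eF]
        have k := horth
        have k00 := k 0 0; have k01 := k 0 1; have k02 := k 0 2
        have k10 := k 1 0; have k11 := k 1 1; have k12 := k 1 2
        have k20 := k 2 0; have k21 := k 2 1; have k22 := k 2 2
        simp only [Matrix.cons_val_zero, Matrix.cons_val_one, Matrix.cons_val_two, Matrix.tail_cons,
          Matrix.head_cons] at k00 k01 k02 k10 k11 k12 k20 k21 k22
        simp [k00, k01, k02, k10, k11, k12, k20, k21, k22])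
      have hf'a : f' ∈ Dc D a := conjmem ht hta hfT.1
      have pq : p ≠ q := fun e => noline hdT.1 (⟨hfT.1, hfd, cdf⟩ : f ∈ Dc (Dc D a) d) hf'a hxd hxf
        hxf' kd cff (hne' htd hfd) hff hR hF₀ hact' ((s - p) * γ) p (by rw [eF', eF, e]; module)
      have ps : p ≠ s := fun e => noline hcT.1 (⟨hfT.1, hfc, ccf⟩ : f ∈ Dc (Dc D a) c) hf'a hxc hxf
        hxf' kc cff (hne' htc hfc) hff hW hF₀ hact' ((q - p) * β) p (by rw [eF', eF, e]; module)
      have qs : q ≠ s := fun e => noline hb (⟨hfT.1, hfT.2.1, hfT.2.2⟩ : f ∈ Dc (Dc D a) b) hf'a hxb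
        hxf hxf' kb cff (hne' htb hfT.2.1) hff hU hF₀ hact' ((p - q) * α) q (by
          rw [eF', eF, e]; module)
      have cube : ∀ {u v : M.F}, u ≠ 0 → v ≠ 0 → u ≠ v → u * u + u * v + v * v = 0 :=
        fun {u v} hu hv huv => (mul_eq_zero.1 (show (u - v) * (u * u + u * v + v * v) = 0 by
          linear_combination M.c.cube u hu - M.c.cube v hv)).resolve_left (sub_ne_zero.2 huv)
      have h1 := cube hp0 hq0 pq
      have h2 : p + q + s = 0 := (mul_eq_zero.1 (show (q - s) * (p + q + s) = 0 by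
          linear_combination h1 - cube hp0 hs0 ps)).resolve_left (sub_ne_zero.2 qs)
      linear_combination (p * q) * h2 - p * h1 + M.c.cube p hp0
    let T : (Fin 6 → M.F) →ₗ[M.F] (Fin 6 → M.F) :=
      { toFun := Ψ
        map_add' := hΨ.add
        map_smul' := fun m u => by rw [hΨ.smul]; rfl }
    have hT : ∀ u v, M.h (T u) (T v) = M.h u v := fun u v => hΨ.form u v
    have hdet : LinearMap.det T = 1 := U6.det_eq_one M.c hT hli horth (p := ![p, q, s])
      (fun i => by fin_cases i <;> simp [T, hp, hq, hs]) (by simp [prod1])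
    obtain ⟨-, g, hg, hgS⟩ := Model.exists_uh T hT
    obtain ⟨y, hy, hyact⟩ := M.exists_lift H ha (⟨g, hgS hdet⟩⁻¹ : SUH M.h)
    have hyt : M.Acts (t.trans (MulAut.conj y)) fun u => (1 : M.F) • u :=
      (hyact.comp hact).congr fun u => by
        rw [one_smul]
        show (⟨g, hgS hdet⟩ : SUH M.h)⁻¹ • Ψ u = u
        rw [inv_smul_eq_iff]
        exact (hg u).symm
    have hya : y * a * y⁻¹ = a := by
      rw [Subgroup.mem_centralizer_singleton_iff.1 (hKle hy), mul_inv_cancel_right]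
    have hχa : t.trans (MulAut.conj y) a = a := by
      show y * t a * y⁻¹ = a
      rw [hta, hya]
    rcases H.eq_id_or_conj (ht.trans (preserves_conj H.grp y)) ha hχa
        (M.fix_of_acts_scalar H ha hyt) with e | e
    · refine ⟨y⁻¹, K.inv_mem hy, fun g => ?_⟩
      have := e g
      change y * t g * y⁻¹ = g at this
      conv_rhs => rw [← this]
      group
    · refine ⟨y⁻¹ * a, K.mul_mem (K.inv_mem hy) (H.mem_closure_dc ha), fun g => ?_⟩
      have := e g
      change y * t g * y⁻¹ = a * g * a⁻¹ at this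
      rw [show t g = y⁻¹ * (y * t g * y⁻¹) * y by group, this]
      group
  -- composing with an element of `K`
  have cz : ∀ {y q : G}, y ∈ Subgroup.centralizer ({q} : Set G) → y * q * y⁻¹ = q := fun h => by
    rw [Subgroup.mem_centralizer_singleton_iff.1 h, mul_inv_cancel_right]
  have zc : ∀ {y q : G}, Commute y q → y ∈ Subgroup.centralizer ({q} : Set G) :=
    fun h => Subgroup.mem_centralizer_singleton_iff.2 h.eq
  have fixd : ∀ {y q : G} {t : G ≃* G}, y * t q * y⁻¹ = q → t.trans (MulAut.conj y) q = q :=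
    fun h => h
  have keep : ∀ {y q : G} {t : G ≃* G}, y ∈ Subgroup.centralizer ({q} : Set G) → t q = q →
      t.trans (MulAut.conj y) q = q := fun {y q t} h e => by
    show y * t q * y⁻¹ = q
    rw [e, cz h]
  have lin : ∀ {y : G} {t : G ≃* G} {Ψ : (Fin 6 → M.F) → (Fin 6 → M.F)}, y ∈ K →
      U6.Semi M.h id Ψ → M.Acts t Ψ → ∃ Ψ', U6.Semi M.h id Ψ' ∧
        M.Acts (t.trans (MulAut.conj y)) Ψ' := fun {y t Ψ} hy hΨ hact => by
    obtain ⟨g, hg⟩ := QuotientGroup.mk_surjective (M.ψ ⟨y, hy⟩)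
    refine ⟨fun u => g • Ψ u, ⟨fun u v => by simp only [hΨ.add, smul_add], fun m u => ?_,
      fun u v => by rw [U6.isom M.c, hΨ.form]⟩,
      (M.acts_lift H ha ⟨y, hy⟩ hg.symm).comp hact⟩
    simp only [hΨ.smul, id]
    exact ((g : UH M.h).1).map_smul m (Ψ u)
  have back : ∀ {y : G} {t : G ≃* G}, y ∈ K →
      (∃ z ∈ K, ∀ g, t.trans (MulAut.conj y) g = z * g * z⁻¹) → ∃ z ∈ K, ∀ g, t g = z * g * z⁻¹ := by
    rintro y t hy ⟨z, hz, e⟩
    refine ⟨y⁻¹ * z, K.mul_mem (K.inv_mem hy) hz, fun g => ?_⟩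
    have := e g
    change y * t g * y⁻¹ = z * g * z⁻¹ at this
    rw [show t g = y⁻¹ * (y * t g * y⁻¹) * y by group, this]
    group
  -- fixing `d`
  have fix_d : ∀ (t : G ≃* G) (Ψ : (Fin 6 → M.F) → (Fin 6 → M.F)), Preserves D t → U6.Semi M.h id Ψ →
      M.Acts t Ψ → t a = a → t b = b → t x = x → t c = c → ∃ y ∈ K, ∀ g, t g = y * g * y⁻¹ := by
    intro t Ψ ht hΨ hact hta htb htx htc
    have hd' : t d ∈ Dc D b := conjmem ht htb hd.mem
    obtain ⟨E', hE'⟩ := Mb.exists_vec H hb.1 hd'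
    have tr : ∀ {r}, t r = r → Commute r d → Commute r (t d) := fun {r} h k => by
      have := k.map t
      rwa [h] at this
    have hA' := (Mb.comm_iff H hb.1 hA hE').1 (tr hta hdT.1.2.2)
    have hX' := (Mb.comm_iff H hb.1 hX hE').1 (tr htx hxd)
    have hC' := (Mb.comm_iff H hb.1 hc hE').1 (tr htc ccd)
    have hli : LinearIndependent Mb.F ![C, A, X] :=
      U6.li_cons Mb.c liAX (outAX hAC hXC hC0)
    have hout : ∀ {r : G} {S : Fin 6 → Mb.F}, Mb.IsPt r S → Mb.h A S = 0 → Mb.h X S = 0 → r ≠ c →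
        S ∉ Submodule.span Mb.F (Set.range ![C, A, X]) := by
      intro r S hS h1 h2 hne hmem
      obtain ⟨g, hg⟩ := (Submodule.mem_span_range_iff_exists_fun Mb.F).1 hmem
      simp only [Fin.sum_univ_three, Matrix.cons_val_zero, Matrix.cons_val_one, Matrix.cons_val_two,
        Matrix.tail_cons, Matrix.head_cons] at hg
      have g2 : g 2 = 0 := by
        have := congrArg (Mb.h A) hg
        simpa [hA.iso, hAC, hAX, h1] using this
      have g1 : g 1 = 0 := by
        have := congrArg (Mb.h X) hg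
        simpa [hX.iso, hXC, hXA, h2] using this
      rw [g1, g2, zero_smul, zero_smul, add_zero, add_zero] at hg
      exact Model.ne_of_ne Mb H hb.1 hc hS hne.symm (g 0) hg.symm
    have hne : t d ≠ c := fun e => hcd (t.injective (htc.trans e.symm))
    obtain ⟨y, hy, e⟩ := Mb.exists_move H hb.1 ![C, A, X] hli
      (K ⊓ Subgroup.centralizer ({b} : Set G) ⊓ Subgroup.centralizer ({x} : Set G) ⊓
        Subgroup.centralizer ({c} : Set G))
      (fun z u hz hu => by
        obtain ⟨k1, -, k3⟩ := memK hz (hu 1)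
        exact ⟨⟨⟨k1, zc k3⟩, zc ((Mb.comm_iff H hb.1 hX hz).2 (hu 2)).symm⟩,
          zc ((Mb.comm_iff H hb.1 hc hz).2 (hu 0)).symm⟩)
      hE' hd (fun i => by fin_cases i <;> assumption) (fun i => by fin_cases i <;> assumption)
      (hout hE' hA' hX' hne) (hout hd hAE hXE hcd.symm)
    obtain ⟨⟨⟨hyK, hyb⟩, hyx⟩, hyc⟩ := hy
    obtain ⟨Ψ', hΨ', hact'⟩ := lin hyK hΨ hact
    exact back hyK (base _ Ψ' (ht.trans (preserves_conj H.grp y)) hΨ' hact' (keep (hKle hyK) hta)
      (keep hyb htb) (keep hyx htx) (keep hyc htc) (fixd e))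
  have fix_c : ∀ (t : G ≃* G) (Ψ : (Fin 6 → M.F) → (Fin 6 → M.F)), Preserves D t → U6.Semi M.h id Ψ →
      M.Acts t Ψ → t a = a → t b = b → t x = x → ∃ y ∈ K, ∀ g, t g = y * g * y⁻¹ := by
    intro t Ψ ht hΨ hact hta htb htx
    have hc' : t c ∈ Dc D b := conjmem ht htb hc.mem
    obtain ⟨C', hC'⟩ := Mb.exists_vec H hb.1 hc'
    have tr : ∀ {r}, t r = r → Commute r c → Commute r (t c) := fun {r} h k => by
      have := k.map t
      rwa [h] at this
    have hA' := (Mb.comm_iff H hb.1 hA hC').1 (tr hta hcT.1.2.2)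
    have hX' := (Mb.comm_iff H hb.1 hX hC').1 (tr htx hxc)
    obtain ⟨y, hy, e⟩ := Mb.exists_move H hb.1 ![A, X] liAX
      (K ⊓ Subgroup.centralizer ({b} : Set G) ⊓ Subgroup.centralizer ({x} : Set G))
      (fun z u hz hu => by
        obtain ⟨k1, -, k3⟩ := memK hz (hu 0)
        exact ⟨⟨k1, zc k3⟩, zc ((Mb.comm_iff H hb.1 hX hz).2 (hu 1)).symm⟩)
      hC' hc (fun i => by fin_cases i <;> assumption) hPC (outAX hA' hX' hC'.ne_zero)
      (outAX hAC hXC hC0)
    obtain ⟨⟨hyK, hyb⟩, hyx⟩ := hy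
    obtain ⟨Ψ', hΨ', hact'⟩ := lin hyK hΨ hact
    exact back hyK (fix_d _ Ψ' (ht.trans (preserves_conj H.grp y)) hΨ' hact' (keep (hKle hyK) hta)
      (keep hyb htb) (keep hyx htx) (fixd e))
  have fix_x : ∀ (t : G ≃* G) (Ψ : (Fin 6 → M.F) → (Fin 6 → M.F)), Preserves D t → U6.Semi M.h id Ψ →
      M.Acts t Ψ → t a = a → t b = b → ∃ y ∈ K, ∀ g, t g = y * g * y⁻¹ := by
    intro t Ψ ht hΨ hact hta htb
    have hx' : t x ∈ Dc D b := conjmem ht htb hx
    obtain ⟨X', hX'⟩ := Mb.exists_vec H hb.1 hx'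
    have hA' : Mb.h A X' ≠ 0 := fun h => hax ((Preserves.commute (φ := t)).1 (by
      rw [hta]
      exact (Mb.comm_iff H hb.1 hA hX').2 h))
    obtain ⟨y, hy, e⟩ := Mb.exists_move_off H hb.1 hA.iso hA.ne_zero
      (K ⊓ Subgroup.centralizer ({b} : Set G))
      (fun z u hz hu => ⟨(memK hz hu).1, zc (memK hz hu).2.2⟩) hX' hX hA' hAX
    obtain ⟨Ψ', hΨ', hact'⟩ := lin hy.1 hΨ hact
    exact back hy.1 (fix_c _ Ψ' (ht.trans (preserves_conj H.grp y)) hΨ' hact' (keep (hKle hy.1) hta)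
      (keep hy.2 htb) (fixd e))
  -- fixing `b`
  have hb' : φ b ∈ Dc D a := conjmem hφ hfa hb
  obtain ⟨U', hU'⟩ := M.exists_vec H ha hb'
  obtain ⟨k, hk⟩ := U6.pt_exists_conj M.c hU'.iso hU.iso hU'.ne_zero hU.ne_zero
  obtain ⟨y, hy⟩ := M.surj k
  have e : (y : G) * φ b * (y : G)⁻¹ = b := by
    have hpt : M.IsPt ((y : G) * φ b * (y : G)⁻¹) U := by
      refine ⟨Model.conj_mem M H ha y hb', hU.iso, hU.ne_zero, ?_⟩
      rw [← hk, ← hy, ← hU'.2.2.2, ← map_inv, ← map_mul, ← map_mul]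
      rfl
    exact Model.eq_of_smul M H ha hpt hU (m := 1) (one_smul _ _).symm
  obtain ⟨Ψ', hΨ', hact'⟩ := lin y.2 hΨ hact
  exact back y.2 (fix_x _ Ψ' (hφ.trans (preserves_conj H.grp y)) hΨ' hact' (keep (hKle y.2) hfa)
    (fixd e))

/-- The centraliser of a member is generated by the members commuting with it. -/
theorem cent_eq (ha : a ∈ D) :
    Subgroup.centralizer ({a} : Set G) = Subgroup.closure (Dc D a) := by
  refine le_antisymm (fun t ht => ?_)
    ((Subgroup.closure_le _).2 fun y hy => Subgroup.mem_centralizer_singleton_iff.2 hy.2.2.eq.symm)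
  have hta : Commute t a := Subgroup.mem_centralizer_singleton_iff.1 ht
  obtain ⟨M⟩ := (H.model a ha).2
  have hfa : MulAut.conj t a = a := by
    show t * a * t⁻¹ = a
    rw [hta.eq, mul_inv_cancel_right]
  obtain ⟨Ψ, τ, hΨ, hact⟩ := M.exists_semi H ha (preserves_conj H.grp t) hfa
  have hid := H.linear ha hta M hΨ hact
  obtain ⟨y, hy, e⟩ := H.inner_of_linear ha M (preserves_conj H.grp t) hfa
    (Ψ := Ψ) ⟨hΨ.add, fun m u => by rw [hΨ.smul, hid, id], fun u v => by rw [hΨ.form, hid, id]⟩ hact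
  have hc : y⁻¹ * t ∈ Subgroup.center G := Subgroup.mem_center_iff.2 fun g => by
    have h1 : y⁻¹ * t * g * (y⁻¹ * t)⁻¹ = g := by
      have := e g
      change t * g * t⁻¹ = y * g * y⁻¹ at this
      rw [show y⁻¹ * t * g * (y⁻¹ * t)⁻¹ = y⁻¹ * (t * g * t⁻¹) * y by group, this]
      group
    exact (mul_inv_eq_iff_eq_mul.1 h1).symm
  rw [H.center, Subgroup.mem_bot, inv_mul_eq_one] at hc
  exact hc ▸ hy

/-- The consequences for every group of type M(22), with no further hypothesis. -/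
theorem full' [Nonempty D] : M22.Full D := by
  classical
  have hcent : ∀ a ∈ D, Subgroup.centralizer ({a} : Set G) = Subgroup.closure (Dc D a) :=
    fun a ha => H.cent_eq ha
  obtain ⟨a, b, c, f, g, k, l, ha, ⟨hb, hc, hf⟩, ⟨hg, hk, hl⟩, -, -, -, he, -⟩ := H.exists_seven
  refine H.full_of ha ?_ hcent
  rw [hcent a ha]
  set K := Subgroup.closure (Dc D a)
  obtain ⟨M⟩ := (H.model a ha).2
  let φ : ↥K →* Abelianization ↥K := Abelianization.of
  let el : ∀ {z : G}, z ∈ Dc D a → ↥K := fun {z} hz => ⟨z, Subgroup.subset_closure hz⟩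
  have hsq : ∀ {z : G} (hz : z ∈ Dc D a), φ (el hz) * φ (el hz) = 1 := fun {z} hz => by
    rw [← map_mul, show el hz * el hz = 1 from Subtype.ext (sq_one H.grp.1 hz.1), map_one]
  -- all members have one image
  have hsame : ∀ {z w : G} (hz : z ∈ Dc D a) (hw : w ∈ Dc D a), φ (el hz) = φ (el hw) := by
    intro z w hz hw
    obtain ⟨u, hu⟩ := M.exists_vec H ha hz
    obtain ⟨v, hv⟩ := M.exists_vec H ha hw
    obtain ⟨k, hk⟩ := U6.pt_exists_conj M.c hu.iso hv.iso hu.ne_zero hv.ne_zero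
    obtain ⟨y, hy⟩ := M.surj k
    have hpt : M.IsPt ((y : G) * z * (y : G)⁻¹) v := by
      refine ⟨Model.conj_mem M H ha y hz, hv.iso, hv.ne_zero, ?_⟩
      rw [← hk, ← hy, ← hu.2.2.2, ← map_inv, ← map_mul, ← map_mul]
      rfl
    have e : el hw = y * el hz * y⁻¹ :=
      Subtype.ext (Model.eq_of_smul M H ha hv hpt (m := 1) (one_smul _ _).symm)
    rw [e, map_mul, map_mul, map_inv, mul_comm (φ y), mul_inv_cancel_right]
  -- the image of `a`
  obtain ⟨c', hc'⟩ := (H.line a ha).1 b hb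
  obtain ⟨f₁, f₂, f₃, ⟨t1, t2, t3⟩, -, -, htri⟩ := H.triple ha hb hc'
  have hae : (⟨a, H.mem_closure_dc ha⟩ : ↥K) =
      el t1.1.1 * el t2.1.1 * el t3.1.1 * el hc'.1 * el hb := Subtype.ext (by
    show a = f₁ * f₂ * f₃ * c' * b
    rw [htri, mul_assoc (a * b), sq_one H.grp.1 hc'.1.1, mul_one, mul_assoc, sq_one H.grp.1 hb.1,
      mul_one])
  have hrel : (⟨a, H.mem_closure_dc ha⟩ : ↥K) * el hb * el hc * el hf = el hg * el hk * el hl :=
    Subtype.ext he
  have h1 : φ (el hb) = 1 := by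
    have e := congrArg φ hrel
    rw [hae] at e
    simp only [map_mul, hsame hc hb, hsame hf hb, hsame hg hb, hsame hk hb, hsame hl hb,
      hsame t1.1.1 hb, hsame t2.1.1 hb, hsame t3.1.1 hb, hsame hc'.1 hb, hsq hb, one_mul] at e
    exact e.symm
  rw [eq_top_iff]
  intro x _
  have hker : K ≤ (φ.ker).map K.subtype := by
    refine (Subgroup.closure_le _).2 fun z hz => ?_
    exact ⟨el hz, by rw [SetLike.mem_coe, MonoidHom.mem_ker, hsame hz hb, h1], rfl⟩
  obtain ⟨y, hy, e⟩ := hker x.2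
  rw [← Subtype.ext (a1 := y) (a2 := x) e]
  exact (QuotientGroup.eq_one_iff y).1 hy

end M22

end Cfsg.Agent.Transpos
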