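import Cfsg.Agent.Lib.Transpos.ReflectionSevenIso
import Cfsg.Agent.Lib.QForm.Spinor
import Cfsg.Agent.Lib.QForm.Diag

/-!
# The seven-dimensional projective reflection group of orthonormal type is PΩ₇(3)

For the sum of seven squares and norm one the reflections in the unit vectors multiply to `-1`, so the
projective reflection group has order at most `|PΩ₇(3)|` and `seven_refl_equiv` applies.
-/

set_option autoImplicit false
set_option maxRecDepth 10000
set_option linter.style.haveILetI false

namespace Cfsg.Agent.Transpos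

open Cfsg
open scoped Matrix

/-- The sum of seven squares. -/
noncomputable abbrev qSeven : QuadraticForm (ZMod 3) (Fin 7 → ZMod 3) :=
  QuadraticMap.weightedSumSquares (ZMod 3) (fun _ : Fin 7 => (1 : ZMod 3))

theorem exists_refl_seven : ∃ (Q : QuadraticForm (ZMod 3) (Fin 7 → ZMod 3)) (c : ZMod 3), c ≠ 0 ∧
    (QuadraticMap.polarBilin Q).Nondegenerate ∧ polarGramDet (⇑Q) = -c ∧
    Nonempty (POmega (ZMod 3) (quadFormOdd 3 (ZMod 3)) ≃*
      reflectionSubgroup (⇑Q) c ⧸ Subgroup.center (reflectionSubgroup (⇑Q) c)) := by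
  have hdet : polarGramDet (⇑qSeven) = -1 := by
    have : polarGramDet (⇑qSeven) =
        (QForm.gram (⇑qSeven) ⇑(Pi.basisFun (ZMod 3) (Fin 7))).det := by
      rw [polarGramDet]; congr 1; ext i j; simp [QForm.gram]
    rw [this, QForm.det_gram_diag]
    decide +kernel
  have hN : (QuadraticMap.polarBilin qSeven).Nondegenerate :=
    (LinearMap.BilinForm.nondegenerate_iff_det_ne_zero (Pi.basisFun (ZMod 3) (Fin 7))).2 (by
      rw [← QForm.gram_eq_toMatrix, QForm.det_gram_diag]
      decide +kernel)
  have hv : ∀ i : Fin 7, qSeven (Pi.single i 1) = 1 := fun i => by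
    rw [QuadraticMap.weightedSumSquares_apply]; revert i; decide +kernel
  let r : Fin 7 → ↥(isometryGroup (ZMod 3) ⇑qSeven) := fun i =>
    QForm.refl qSeven (Pi.single i 1) (by rw [hv]; exact one_ne_zero)
  set R := reflectionSubgroup (⇑qSeven) (1 : ZMod 3) with hR
  let val : ↥(isometryGroup (ZMod 3) ⇑qSeven) →* Matrix (Fin 7) (Fin 7) (ZMod 3) :=
    (Units.coeHom _).comp (isometryGroup (ZMod 3) ⇑qSeven).subtype
  have hval : Function.Injective val := Units.val_injective.comp Subtype.val_injective
  let d : Fin 7 → Fin 7 → ZMod 3 := fun i j => if j = i then -1 else 1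
  have hr : ∀ i, val (r i) = Matrix.diagonal (d i) := fun i => by
    show reflectionMatrix (⇑qSeven) (Pi.single i 1) = _
    ext a b
    simp only [reflectionMatrix, polarVec, QuadraticMap.polar, QuadraticMap.weightedSumSquares_apply,
      Matrix.sub_apply, Matrix.smul_apply, Matrix.vecMulVec_apply, Matrix.diagonal_apply, Matrix.one_apply,
      smul_eq_mul, d]
    revert i a b
    decide +kernel
  obtain ⟨P, hPR, hP⟩ : ∃ P ∈ R, val P = -1 := by
    refine ⟨(List.ofFn r).prod, list_prod_mem (fun x hx => by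
      obtain ⟨i, rfl⟩ := List.mem_ofFn.1 hx
      exact Subgroup.subset_closure ⟨_, hv i, rfl⟩), ?_⟩
    rw [map_list_prod, List.map_ofFn, show (⇑val ∘ r) = fun i => Matrix.diagonalRingHom (Fin 7) (ZMod 3) (d i)
      from funext hr]
    rw [show (fun i => Matrix.diagonalRingHom (Fin 7) (ZMod 3) (d i)) =
      ⇑(Matrix.diagonalRingHom (Fin 7) (ZMod 3)) ∘ d from rfl, ← List.map_ofFn, ← map_list_prod,
      show (List.ofFn d).prod = fun _ => -1 by decide +kernel]
    ext a b
    simp [Matrix.diagonal_apply, Matrix.one_apply]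
    split <;> simp_all
  have hPz : (⟨P, hPR⟩ : ↥R) ∈ Subgroup.center ↥R := Subgroup.mem_center_iff.2 fun g =>
    Subtype.ext (hval (by simp only [Subgroup.coe_mul, map_mul, hP, mul_neg, neg_mul, mul_one, one_mul]))
  have hP1 : (⟨P, hPR⟩ : ↥R) ≠ 1 := fun e => by
    have e' : (P : ↥(isometryGroup (ZMod 3) ⇑qSeven)) = 1 := congrArg Subtype.val e
    have h : val P = 1 := by rw [e', map_one]
    rw [hP] at h
    exact absurd h (fun h => absurd (congrArg (fun M : Matrix (Fin 7) (Fin 7) (ZMod 3) => M 0 0) h)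
      (by simp only [Matrix.neg_apply, Matrix.one_apply_eq]; decide))
  haveI : Finite ↥(isometryGroup (ZMod 3) ⇑qSeven) := Finite.of_injective val hval
  have hidx : R.index = 2 := S5359.result 7 (by norm_num) (by decide) qSeven hN 1 one_ne_zero
  have hcard : Nat.card R = 9170703360 := by
    have := R.card_mul_index
    rw [hidx, card_isometry_seven hN] at this
    omega
  have hc2 : 2 ≤ Nat.card (Subgroup.center ↥R) := by
    haveI : Nontrivial (Subgroup.center ↥R) :=
      ⟨⟨⟨_, hPz⟩, 1, fun e => hP1 (congrArg Subtype.val e)⟩⟩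
    exact Finite.one_lt_card
  have hle : Nat.card (↥R ⧸ Subgroup.center ↥R) ≤ 4585351680 := by
    have h := Subgroup.card_eq_card_quotient_mul_card_subgroup (Subgroup.center ↥R)
    rw [hcard] at h
    have := Nat.mul_le_mul_left (Nat.card (↥R ⧸ Subgroup.center ↥R)) hc2
    omega
  have htype : IsProjReflectionGroupModThree (↥R ⧸ Subgroup.center ↥R) 7 (-1) 1 :=
    ⟨qSeven, hN, hdet, ⟨MulEquiv.refl _⟩⟩
  obtain ⟨e⟩ := seven_refl_equiv one_ne_zero htype hle
  exact ⟨qSeven, 1, one_ne_zero, hN, hdet, ⟨e.symm⟩⟩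

end Cfsg.Agent.Transpos
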