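import Cfsg.Prelude.Def_FischerSpaces
import Cfsg.Prelude.Def_SporadicB
import Cfsg.Agent.Lib.ClassicalSimple.OrthMatrix

/-!
# The types M(22) and M(23) along isomorphisms
-/

set_option autoImplicit false

namespace Cfsg.Agent.Transpos.TypeTransfer

open Cfsg

universe u v

variable {A : Type u} [Group A] {B : Type v} [Group B] (e : A ≃* B)

/-- The subgroup generated by a set and by its image. -/
noncomputable def closureEquiv (S : Set A) : ↥(Subgroup.closure S) ≃* ↥(Subgroup.closure (e '' S)) :=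
  (e.subgroupMap (Subgroup.closure S)).trans (MulEquiv.subgroupCongr (MonoidHom.map_closure e.toMonoidHom S))

theorem coe_closureEquiv (S : Set A) (x : ↥(Subgroup.closure S)) :
    ((closureEquiv e S x : ↥(Subgroup.closure (e '' S))) : B) = e x := rfl

/-- The same modulo the centres. -/
noncomputable def quotEquiv (S : Set A) :
    ↥(Subgroup.closure S) ⧸ Subgroup.center ↥(Subgroup.closure S) ≃*
      ↥(Subgroup.closure (e '' S)) ⧸ Subgroup.center ↥(Subgroup.closure (e '' S)) :=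
  ClassicalSimple.centerQuotientCongr (closureEquiv e S)

theorem quotEquiv_mk (S : Set A) (x : ↥(Subgroup.closure S)) :
    quotEquiv e S (QuotientGroup.mk x) = QuotientGroup.mk (closureEquiv e S x) := rfl

theorem image_mk (S : Set A) :
    quotEquiv e S '' ((QuotientGroup.mk : ↥(Subgroup.closure S) → _) ''
        {x : ↥(Subgroup.closure S) | (x : A) ∈ S}) =
      (QuotientGroup.mk : ↥(Subgroup.closure (e '' S)) → _) ''
        {y : ↥(Subgroup.closure (e '' S)) | (y : B) ∈ e '' S} := by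
  apply Set.Subset.antisymm
  · rintro _ ⟨_, ⟨x, hx, rfl⟩, rfl⟩
    exact ⟨closureEquiv e S x, ⟨x, hx, rfl⟩, rfl⟩
  · rintro _ ⟨y, ⟨a, ha, hay⟩, rfl⟩
    refine ⟨_, ⟨(closureEquiv e S).symm y, ?_, rfl⟩, ?_⟩
    · have h := coe_closureEquiv e S ((closureEquiv e S).symm y)
      rw [MulEquiv.apply_symm_apply, ← hay] at h
      show ((closureEquiv e S).symm y : A) ∈ S
      rwa [← e.injective h]
    · rw [quotEquiv_mk, MulEquiv.apply_symm_apply]

theorem image_nbhd (D : Set A) (d : A) :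
    e '' {y : A | y ∈ D ∧ y ≠ d ∧ Commute d y} = {y : B | y ∈ e '' D ∧ y ≠ e d ∧ Commute (e d) y} := by
  ext y
  constructor
  · rintro ⟨x, ⟨hx, hne, hc⟩, rfl⟩
    exact ⟨⟨x, hx, rfl⟩, fun h => hne (e.injective h), hc.map e⟩
  · rintro ⟨⟨x, hx, rfl⟩, hne, hc⟩
    refine ⟨x, ⟨hx, fun h => hne (congrArg e h), ?_⟩, rfl⟩
    exact e.injective (by rw [map_mul, map_mul]; exact hc.eq)

include e in
theorem center_bot (h : Subgroup.center A = ⊥) : Subgroup.center B = ⊥ := by
  rw [← ClassicalSimple.center_map_equiv e, h, Subgroup.map_bot]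

theorem not_commute {x y : A} (h : ¬ Commute x y) : ¬ Commute (e x) (e y) := fun hc =>
  h (e.injective (by rw [map_mul, map_mul]; exact hc.eq))

theorem projRefl {X : Type u} [Group X] {Y : Type v} [Group Y] (g : X ≃* Y) {n : ℕ} {μ c : ZMod 3}
    (h : IsProjReflectionGroupModThree X n μ c) : IsProjReflectionGroupModThree Y n μ c := by
  obtain ⟨Q, h1, h2, ⟨f⟩⟩ := h
  exact ⟨Q, h1, h2, ⟨g.symm.trans f⟩⟩

theorem quot_psu {S : Set A} {T : Set B} (hT : T = e '' S) {P : Type} [Group P]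
    (f : ↥(Subgroup.closure S) ⧸ Subgroup.center ↥(Subgroup.closure S) ≃* P) :
    Nonempty (↥(Subgroup.closure T) ⧸ Subgroup.center ↥(Subgroup.closure T) ≃* P) := by
  subst hT
  exact ⟨(quotEquiv e S).symm.trans f⟩

theorem quot_refl {S : Set A} {T : Set B} (hT : T = e '' S) {n : ℕ} {μ c : ZMod 3}
    (h : IsProjReflectionGroupModThree
      (↥(Subgroup.closure S) ⧸ Subgroup.center ↥(Subgroup.closure S)) n μ c) :
    IsProjReflectionGroupModThree
      (↥(Subgroup.closure T) ⧸ Subgroup.center ↥(Subgroup.closure T)) n μ c := by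
  subst hT
  exact projRefl (quotEquiv e S) h

theorem m22 {D : Set A} (h : IsOfTypeM22 A D) : IsOfTypeM22 B (e '' D) := by
  obtain ⟨hz, d, hd, c, hc, hdc, ⟨F, iF, iFt, hF, ⟨f⟩⟩, c₃, hc₃, hL⟩ := h
  exact ⟨center_bot e hz, e d, ⟨d, hd, rfl⟩, e c, ⟨c, hc, rfl⟩, not_commute e hdc,
    ⟨F, iF, iFt, hF, quot_psu e (image_nbhd e D d).symm f⟩, c₃, hc₃,
    quot_refl e (by rw [Set.image_inter e.injective, image_nbhd, image_nbhd]) hL⟩

theorem quot_m22 {S : Set A} {T : Set B} (hT : T = e '' S)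
    (h : IsOfTypeM22 (↥(Subgroup.closure S) ⧸ Subgroup.center ↥(Subgroup.closure S))
      ((QuotientGroup.mk : ↥(Subgroup.closure S) → _) '' {x : ↥(Subgroup.closure S) | (x : A) ∈ S})) :
    IsOfTypeM22 (↥(Subgroup.closure T) ⧸ Subgroup.center ↥(Subgroup.closure T))
      ((QuotientGroup.mk : ↥(Subgroup.closure T) → _) '' {x : ↥(Subgroup.closure T) | (x : B) ∈ T}) := by
  subst hT
  rw [← image_mk]
  exact m22 (quotEquiv e S) h

theorem m23 {D : Set A} (h : IsOfTypeM23 A D) : IsOfTypeM23 B (e '' D) := by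
  obtain ⟨hz, d, hd, c, hc, hdc, h22, c₃, hc₃, hL⟩ := h
  exact ⟨center_bot e hz, e d, ⟨d, hd, rfl⟩, e c, ⟨c, hc, rfl⟩, not_commute e hdc,
    quot_m22 e (image_nbhd e D d).symm h22, c₃, hc₃,
    quot_refl e (by rw [Set.image_inter e.injective, image_nbhd, image_nbhd]) hL⟩

theorem image_conjugatesOf (d : A) : e '' conjugatesOf d = conjugatesOf (e d) := by
  ext y
  constructor
  · rintro ⟨x, hx, rfl⟩
    obtain ⟨a, rfl⟩ := isConj_iff.1 (hx : IsConj d x)
    exact isConj_iff.2 ⟨e a, by rw [map_mul, map_mul, map_inv]⟩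
  · intro hy
    obtain ⟨b, rfl⟩ := isConj_iff.1 (hy : IsConj (e d) y)
    exact ⟨e.symm b * d * (e.symm b)⁻¹, isConj_iff.2 ⟨_, rfl⟩, by simp⟩

theorem threeTransp {D : Set A} (h : IsThreeTranspositionClass D) : IsThreeTranspositionClass (e '' D) := by
  obtain ⟨⟨h1, h2⟩, ⟨d, hd, hD⟩, htop⟩ := h
  refine ⟨⟨?_, ?_⟩, ⟨e d, ⟨d, hd, rfl⟩, ?_⟩, ?_⟩
  · rintro _ ⟨x, hx, rfl⟩
    rw [← MulEquiv.coe_toMonoidHom, orderOf_injective _ e.injective, h1 x hx]
  · rintro _ ⟨x, hx, rfl⟩ _ ⟨y, hy, rfl⟩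
    rw [← map_mul, ← map_pow, ← map_pow]
    rcases h2 x hx y hy with h | h
    · exact Or.inl (by rw [h, map_one])
    · exact Or.inr (by rw [h, map_one])
  · rw [hD, image_conjugatesOf]
  · rw [← MulEquiv.coe_toMonoidHom, ← MonoidHom.map_closure, htop,
      Subgroup.map_top_of_surjective _ e.surjective]

end Cfsg.Agent.Transpos.TypeTransfer
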