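import Cfsg.Agent.Lib.Transpos.M22DoubleCases

/-!
# The orbit of `d` has 23 members
-/

set_option autoImplicit false
set_option linter.style.haveILetI false
set_option linter.unusedSectionVars false

namespace Cfsg.Agent.Transpos.DoubleThompson

open Cfsg Thompson

variable {G Gb : Type*} [Group G] [Group Gb] [Finite G] [Finite Gb] {d : G}
variable {π : ↥(Cd d) →* Gb} {z : ↥(Cd d)} {D : Set Gb} {X : Set ↥(Cd d)}

/-- The products of two members. -/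
def pairs (B : Set Gb) : Set Gb := {t | ∃ p ∈ B, ∃ q ∈ B, q ≠ p ∧ p * q = t}

/-- The products of three members. -/
def triples (B : Set Gb) : Set Gb :=
  {t | ∃ p ∈ B, ∃ q ∈ B, ∃ r ∈ B, (q ≠ p ∧ r ≠ p ∧ r ≠ q) ∧ p * q * r = t}

theorem ite_two {P Q : Prop} [Decidable P] [Decidable Q] :
    ((if P then 1 else 0 : ℕ) + if Q then 1 else 0) ≤ 2 ∧
      (((if P then 1 else 0 : ℕ) + if Q then 1 else 0) = 0 → ¬P ∧ ¬Q) ∧
      (((if P then 1 else 0 : ℕ) + if Q then 1 else 0) = 1 → P ∧ ¬Q ∨ ¬P ∧ Q) ∧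
      (((if P then 1 else 0 : ℕ) + if Q then 1 else 0) = 2 → P ∧ Q) := by
  split_ifs <;> simp_all

theorem ite_one {P : Prop} [Decidable P] : (if P then 1 else 0 : ℕ) ≤ 1 ∧
    ((if P then 1 else 0 : ℕ) = 0 → ¬P) ∧ ((if P then 1 else 0 : ℕ) = 1 → P) := by
  split_ifs <;> simp_all

/-- The sums of the kinds dividing the order of `GL₁₁(2)`. -/
theorem kinds_of_dvd {a b c : ℕ} (ha : a ≤ 2) (hb : b ≤ 1) (hc : c ≤ 2)
    (h : 1 + 22 * a + 231 * b + 770 * c ∣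
      2047 * 2046 * 2044 * 2040 * 2032 * 2016 * 1984 * 1920 * 1792 * 1536 * 1024) :
    (a = 0 ∧ b = 0 ∧ c = 0) ∨ (a = 1 ∧ b = 0 ∧ c = 0) ∨ (a = 2 ∧ b = 0 ∧ c = 0) ∨
      (a = 1 ∧ b = 1 ∧ c = 0) ∨ (a = 2 ∧ b = 1 ∧ c = 0) ∨ (a = 1 ∧ b = 1 ∧ c = 1) := by
  revert h; interval_cases a <;> interval_cases b <;> interval_cases c <;> norm_num

namespace Setting

variable (K : Setting π z D X) {B : Set Gb} (hB : IsBase D B)
include K hB

theorem closure_eq : (Subgroup.closure B : Set Gb) = insert 1 (B ∪ (pairs B ∪ triples B)) := by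
  refine Set.Subset.antisymm (fun x hx => kind_cases K.grp K.prim K.type22 hB hx) ?_
  rintro x (rfl | hx | ⟨p, hp, q, hq, -, rfl⟩ | ⟨p, hp, q, hq, r, hr, -, rfl⟩)
  exacts [one_mem _, Subgroup.subset_closure hx,
    mul_mem (Subgroup.subset_closure hp) (Subgroup.subset_closure hq),
    mul_mem (mul_mem (Subgroup.subset_closure hp) (Subgroup.subset_closure hq))
      (Subgroup.subset_closure hr)]

theorem disjoint_kinds :
    (1 : Gb) ∉ B ∪ (pairs B ∪ triples B) ∧ Disjoint B (pairs B ∪ triples B) ∧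
      Disjoint (pairs B) (triples B) := by
  have key := fun {p q : Gb} (hp : p ∈ B) (hq : q ∈ B) (h : q ≠ p) =>
    kind_exclusive K.grp K.prim K.type22 hB hp hq h
  refine ⟨?_, Set.disjoint_left.2 ?_, Set.disjoint_left.2 ?_⟩
  · rintro (h | ⟨p, hp, q, hq, hne, e⟩ | ⟨p, hp, q, hq, r, hr, hne, e⟩)
    exacts [ne_one K.grp.1 (hB.1 h) rfl, (key hp hq hne).1 e,
      ((key hp hq hne.1).2.2 r hr hne.2.1 hne.2.2).1 e]
  · rintro x hx (⟨p, hp, q, hq, hne, rfl⟩ | ⟨p, hp, q, hq, r, hr, hne, rfl⟩)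
    exacts [(key hp hq hne).2.1 (hB.1 hx),
      ((key hp hq hne.1).2.2 r hr hne.2.1 hne.2.2).2.1 (hB.1 hx)]
  · rintro x ⟨p', hp', q', hq', hne', rfl⟩ ⟨p, hp, q, hq, r, hr, hne, e⟩
    exact ((key hp hq hne.1).2.2 r hr hne.2.1 hne.2.2).2.2 p' hp' q' hq' hne' e

theorem ncard_pairs : (pairs B).ncard = 231 := by
  classical
  set F := (Set.toFinite B).toFinset with hF
  have hFcard : F.card = 22 := by rw [hF, ← Set.ncard_eq_toFinset_card B, hB.2.2]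
  set f : Gb × Gb → Gb := fun x => x.1 * x.2
  have himg : ((F.offDiag.image f : Finset Gb) : Set Gb) = pairs B := by
    ext t
    simp only [Finset.coe_image, Set.mem_image, Finset.mem_coe, Finset.mem_offDiag, hF,
      Set.Finite.mem_toFinset, pairs, f, Prod.exists]
    exact ⟨fun ⟨p, q, ⟨hp, hq, h⟩, e⟩ => ⟨p, hp, q, hq, Ne.symm h, e⟩,
      fun ⟨p, hp, q, hq, h, e⟩ => ⟨p, q, ⟨hp, hq, Ne.symm h⟩, e⟩⟩
  have hfib : ∀ t ∈ F.offDiag.image f, (F.offDiag.filter fun x => f x = t).card = 2 := by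
    intro t ht
    obtain ⟨⟨p, q⟩, hpq, rfl⟩ := Finset.mem_image.1 ht
    simp only [Finset.mem_offDiag, hF, Set.Finite.mem_toFinset] at hpq
    obtain ⟨hp, hq, hne⟩ := hpq
    have : (F.offDiag.filter fun x => f x = f (p, q)) = {(p, q), (q, p)} := by
      ext ⟨p', q'⟩
      simp only [Finset.mem_filter, Finset.mem_offDiag, hF, Set.Finite.mem_toFinset, f,
        Finset.mem_insert, Finset.mem_singleton, Prod.mk.injEq]
      constructor
      · rintro ⟨⟨hp', hq', hne'⟩, e⟩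
        rcases pair_eq K.grp K.prim K.type22 hB hp' hq' hp hq hne' hne e with rfl | rfl
        · exact Or.inl ⟨rfl, mul_left_cancel e⟩
        · rw [(hB.2.1 p hp p' hp').eq] at e
          exact Or.inr ⟨rfl, mul_left_cancel e⟩
      · rintro (⟨rfl, rfl⟩ | ⟨rfl, rfl⟩)
        exacts [⟨⟨hp, hq, hne⟩, rfl⟩, ⟨⟨hq, hp, hne.symm⟩, (hB.2.1 _ hq _ hp).eq⟩]
    rw [this, Finset.card_pair]
    simp [hne]
  have h := Finset.card_eq_sum_card_image f F.offDiag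
  rw [Finset.sum_congr rfl hfib, Finset.sum_const, Finset.offDiag_card, hFcard, smul_eq_mul] at h
  rw [← himg, Set.ncard_coe_finset]
  omega

theorem card_base : Nat.card ↥(Subgroup.closure B) = 2 ^ 10 := by
  have h := K.card hB
  rw [K.card_eq_two_mul_map _ (K.z_mem B), gp,
    Subgroup.map_comap_eq_self_of_surjective K.cover.surj] at h
  omega

theorem ncard_triples : (triples B).ncard = 770 := by
  obtain ⟨h1, h2, h3⟩ := K.disjoint_kinds hB
  have h := congrArg Set.ncard (K.closure_eq hB)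
  rw [Set.ncard_insert_of_notMem h1, Set.ncard_union_eq h2, Set.ncard_union_eq h3, hB.2.2,
    K.ncard_pairs hB, ← Nat.card_coe_set_eq] at h
  have h4 : Nat.card ↥(Subgroup.closure B) = 22 + (231 + (triples B).ncard) + 1 := h
  rw [K.card_base hB] at h4
  omega

open scoped Classical in
/-- The lifts in the orbit of the image of `u`. -/
theorem fibre {u : ↥(Cd d)} (hu : u ∈ gp π B) :
    {y : ↥(Cd d) | (y : G) ∈ orb π B ∧ π y = π u}.ncard =
      (if (u : G) ∈ orb π B then 1 else 0) + if ((u * z : ↥(Cd d)) : G) ∈ orb π B then 1 else 0 := by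
  have hne : u ≠ u * z := fun h => K.cover.ne (mul_eq_left.1 h.symm)
  have e : {y : ↥(Cd d) | (y : G) ∈ orb π B ∧ π y = π u} =
      {y | y ∈ ({u, u * z} : Set ↥(Cd d)) ∧ (y : G) ∈ orb π B} := by
    ext y
    refine ⟨fun h => ⟨?_, h.1⟩, ?_⟩
    · rcases K.cover.ker (u⁻¹ * y) (by simp [h.2]) with h' | h'
      · exact Or.inl (inv_mul_eq_one.1 h').symm
      · exact Or.inr (eq_mul_of_inv_mul_eq h')
    · rintro ⟨rfl | rfl, h⟩
      exacts [⟨h, rfl⟩, ⟨h, by simp [K.cover.map_z]⟩]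
  rw [e]
  by_cases h1 : (u : G) ∈ orb π B <;> by_cases h2 : ((u * z : ↥(Cd d)) : G) ∈ orb π B
  · rw [if_pos h1, if_pos h2, show {y | y ∈ ({u, u * z} : Set ↥(Cd d)) ∧ (y : G) ∈ orb π B} =
      {u, u * z} from Set.ext fun y => ⟨fun h => h.1, fun h => ⟨h, by rcases h with rfl | rfl <;> assumption⟩⟩,
      Set.ncard_pair hne]
  · rw [if_pos h1, if_neg h2, show {y | y ∈ ({u, u * z} : Set ↥(Cd d)) ∧ (y : G) ∈ orb π B} = {u} from
      Set.ext fun y => ⟨fun ⟨h, h'⟩ => h.resolve_right fun e => h2 (e ▸ h'), fun h => ⟨Or.inl h, by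
        rw [show y = u from h]; exact h1⟩⟩, Set.ncard_singleton]
  · rw [if_neg h1, if_pos h2, show {y | y ∈ ({u, u * z} : Set ↥(Cd d)) ∧ (y : G) ∈ orb π B} = {u * z} from
      Set.ext fun y => ⟨fun ⟨h, h'⟩ => h.resolve_left fun e => h1 (e ▸ h'), fun h => ⟨Or.inr h, by
        rw [show y = u * z from h]; exact h2⟩⟩, Set.ncard_singleton]
  · rw [if_neg h1, if_neg h2, show {y | y ∈ ({u, u * z} : Set ↥(Cd d)) ∧ (y : G) ∈ orb π B} = ∅ from
      Set.eq_empty_iff_forall_notMem.2 fun y ⟨h, h'⟩ => by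
        rcases h with rfl | rfl
        exacts [h1 h', h2 h'], Set.ncard_empty]

theorem fibre_sum {T : Set Gb} {m : ℕ}
    (h : ∀ t ∈ T, {y : ↥(Cd d) | (y : G) ∈ orb π B ∧ π y = t}.ncard = m) :
    {y : ↥(Cd d) | (y : G) ∈ orb π B ∧ π y ∈ T}.ncard = T.ncard * m := by
  classical
  set W := (Set.toFinite {y : ↥(Cd d) | (y : G) ∈ orb π B ∧ π y ∈ T}).toFinset with hW
  have hs := Finset.card_eq_sum_card_fiberwise (f := π) (s := W) (t := (Set.toFinite T).toFinset)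
    fun x hx => by
      simp only [hW, Finset.mem_coe, Set.Finite.mem_toFinset] at hx ⊢
      exact hx.2
  rw [Finset.sum_congr rfl (g := fun _ => m) fun t ht => by
    rw [← h t ((Set.toFinite T).mem_toFinset.1 ht), ← Set.ncard_coe_finset]
    congr 1
    ext y
    simp only [hW, Finset.coe_filter, Set.Finite.mem_toFinset]
    exact ⟨fun h => ⟨h.1.1, h.2⟩, fun h => ⟨⟨h.1, (congrArg (· ∈ T) h.2).mpr ((Set.toFinite T).mem_toFinset.1 ht)⟩, h.2⟩⟩,
    Finset.sum_const, smul_eq_mul, ← Set.ncard_eq_toFinset_card T] at hs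
  rw [← hs, hW, ← Set.ncard_eq_toFinset_card]

open scoped Classical in
/-- The length of the orbit from the kinds. -/
theorem ncard_eq {p q r : ↥(Cd d)} (hp : p ∈ lifts π X B) (hq : q ∈ lifts π X B) (hr : r ∈ lifts π X B)
    (hne : q ≠ p ∧ r ≠ p ∧ r ≠ q) :
    (orb π B).ncard = 1 +
      22 * ((if (p : G) ∈ orb π B then 1 else 0) + if ((p * z : ↥(Cd d)) : G) ∈ orb π B then 1 else 0) +
      231 * (if ((p * q * z : ↥(Cd d)) : G) ∈ orb π B then 1 else 0) +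
      770 * ((if ((p * q * r : ↥(Cd d)) : G) ∈ orb π B then 1 else 0) +
        if ((p * q * r * z : ↥(Cd d)) : G) ∈ orb π B then 1 else 0) := by
  obtain ⟨h1, h2, h3⟩ := K.disjoint_kinds hB
  set m : Set Gb → ℕ := fun T => {y : ↥(Cd d) | (y : G) ∈ orb π B ∧ π y ∈ T}.ncard with hm
  have hunion : ∀ T T' : Set Gb, Disjoint T T' → m (T ∪ T') = m T + m T' := fun T T' hd => by
    simp only [hm]
    rw [← Set.ncard_union_eq (s := {y : ↥(Cd d) | (y : G) ∈ orb π B ∧ π y ∈ T})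
      (t := {y : ↥(Cd d) | (y : G) ∈ orb π B ∧ π y ∈ T'})
      (Set.disjoint_left.2 fun y hy hy' => Set.disjoint_left.1 hd hy.2 hy'.2)]
    congr 1
    ext y
    exact ⟨fun h => h.2.imp (fun h' => ⟨h.1, h'⟩) fun h' => ⟨h.1, h'⟩,
      fun h => h.elim (fun h => ⟨h.1, Or.inl h.2⟩) fun h => ⟨h.1, Or.inr h.2⟩⟩
  have e : (orb π B).ncard = m (Subgroup.closure B : Set Gb) := by
    rw [hm]
    show _ = Set.ncard _
    rw [← Set.ncard_image_of_injective _ Subtype.val_injective]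
    congr 1
    ext x
    refine ⟨fun hx => ?_, ?_⟩
    · obtain ⟨⟨c, hc, rfl⟩, h⟩ := hx
      exact ⟨c, ⟨mem_orb.2 ⟨hc, h⟩, mem_gp.1 hc⟩, rfl⟩
    · rintro ⟨c, hc, rfl⟩; exact hc.1
  have hf : ∀ {u v : ↥(Cd d)}, π v = π u → u ∈ gp π B →
      {y : ↥(Cd d) | (y : G) ∈ orb π B ∧ π y = π v}.ncard =
        (if (u : G) ∈ orb π B then 1 else 0) + if ((u * z : ↥(Cd d)) : G) ∈ orb π B then 1 else 0 :=
    fun {u v} e hu => by rw [e]; exact K.fibre hB hu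
  have hl := fun {x : ↥(Cd d)} (hx : x ∈ lifts π X B) => K.lifts_gp hB hx
  have m1 : m {1} = 1 := by
    refine (K.fibre_sum hB (T := {1}) (m := 1) ?_).trans (by rw [Set.ncard_singleton, one_mul])
    intro t ht
    rw [show t = π 1 by rw [map_one]; exact ht, hf rfl (one_mem _), Subgroup.coe_one,
      if_neg (K.one_notMem_orb hB), one_mul, if_pos (K.z_mem_orb hB)]
  have m2 : m B = 22 * ((if (p : G) ∈ orb π B then 1 else 0) +
      if ((p * z : ↥(Cd d)) : G) ∈ orb π B then 1 else 0) := by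
    rw [← hB.2.2]
    refine K.fibre_sum hB fun t ht => ?_
    obtain ⟨x, hx, rfl⟩ := K.cover.X_lift t (hB.1 ht)
    have hx' : x ∈ lifts π X B := ⟨hx, ht⟩
    rw [hf rfl (hl hx')]
    have u1 := K.one_uniform hB hx' hp (ε := 1) (Or.inl rfl)
    rw [mul_one, mul_one] at u1
    simp only [u1, K.one_uniform hB hx' hp (ε := z) (Or.inr rfl)]
  have m3 : m (pairs B) = 231 * (if ((p * q * z : ↥(Cd d)) : G) ∈ orb π B then 1 else 0) := by
    rw [← K.ncard_pairs hB]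
    refine K.fibre_sum hB ?_
    rintro _ ⟨a, ha, b, hb, hab, rfl⟩
    obtain ⟨x, hx, rfl⟩ := K.cover.X_lift a (hB.1 ha)
    obtain ⟨y, hy, rfl⟩ := K.cover.X_lift b (hB.1 hb)
    rw [← map_mul, hf rfl (mul_mem (hl ⟨hx, ha⟩) (hl ⟨hy, hb⟩)), if_neg (K.pair_notMem hB ⟨hx, ha⟩ ⟨hy, hb⟩),
      zero_add]
    simp only [K.two_uniform hB ⟨hx, ha⟩ ⟨hy, hb⟩ hp hq (fun h => hab (congrArg π h)) hne.1 (Or.inr rfl)]
  have m4 : m (triples B) = 770 * ((if ((p * q * r : ↥(Cd d)) : G) ∈ orb π B then 1 else 0) +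
      if ((p * q * r * z : ↥(Cd d)) : G) ∈ orb π B then 1 else 0) := by
    rw [← K.ncard_triples hB]
    refine K.fibre_sum hB ?_
    rintro _ ⟨a, ha, b, hb, c, hc, hd, rfl⟩
    obtain ⟨x, hx, rfl⟩ := K.cover.X_lift a (hB.1 ha)
    obtain ⟨y, hy, rfl⟩ := K.cover.X_lift b (hB.1 hb)
    obtain ⟨w, hw, rfl⟩ := K.cover.X_lift c (hB.1 hc)
    rw [← map_mul, ← map_mul, hf rfl (mul_mem (mul_mem (hl ⟨hx, ha⟩) (hl ⟨hy, hb⟩)) (hl ⟨hw, hc⟩))]
    have hd' : y ≠ x ∧ w ≠ x ∧ w ≠ y := ⟨fun h => hd.1 (congrArg π h), fun h => hd.2.1 (congrArg π h),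
      fun h => hd.2.2 (congrArg π h)⟩
    have u1 := K.three_uniform hB ⟨hx, ha⟩ ⟨hy, hb⟩ ⟨hw, hc⟩ hp hq hr hd' hne (ε := 1) (Or.inl rfl)
    rw [mul_one, mul_one] at u1
    simp only [u1, K.three_uniform hB ⟨hx, ha⟩ ⟨hy, hb⟩ ⟨hw, hc⟩ hp hq hr hd' hne (ε := z) (Or.inr rfl)]
  rw [e, K.closure_eq hB, Set.insert_eq, hunion _ _ (Set.disjoint_singleton_left.2 h1), hunion _ _ h2,
    hunion _ _ h3, m1, m2, m3, m4]
  omega

variable (htr : ∀ y ∈ orb π B, ∃ n ∈ Subgroup.normalizer (amb π B : Set G), n * d * n⁻¹ = y)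
include htr

/-- The orbit has 23 members. -/
theorem twenty_three (hother : ∃ y ∈ gp π B, y ≠ z ∧ IsConj d (y : G)) :
    (orb π B).ncard = 23 := by
  classical
  obtain ⟨p, hp, q, hq, r, hr, hne⟩ := K.exists_triple hB
  have hN := K.ncard_eq hB hp hq hr hne
  have hdvd := K.ncard_dvd hB htr
  have hprod : ∏ i : Fin 11, (2 ^ 11 - 2 ^ (i : ℕ)) =
      2047 * 2046 * 2044 * 2040 * 2032 * 2016 * 1984 * 1920 * 1792 * 1536 * 1024 := by
    simp [Fin.prod_univ_succ]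
  rw [hN, hprod] at hdvd
  have u1 : ∀ x ∈ lifts π X B, ((x : G) ∈ orb π B ↔ (p : G) ∈ orb π B) := fun x hx => by
    simpa using K.one_uniform hB hx hp (ε := 1) (Or.inl rfl)
  have u1' : ∀ x ∈ lifts π X B, (((x * z : ↥(Cd d)) : G) ∈ orb π B ↔
      ((p * z : ↥(Cd d)) : G) ∈ orb π B) := fun x hx => K.one_uniform hB hx hp (Or.inr rfl)
  have u2 : ∀ x ∈ lifts π X B, ∀ y ∈ lifts π X B, y ≠ x → (((x * y * z : ↥(Cd d)) : G) ∈ orb π B ↔
      ((p * q * z : ↥(Cd d)) : G) ∈ orb π B) := fun x hx y hy h =>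
    K.two_uniform hB hx hy hp hq h hne.1 (Or.inr rfl)
  have u3 : ∀ x ∈ lifts π X B, ∀ y ∈ lifts π X B, ∀ w ∈ lifts π X B, y ≠ x ∧ w ≠ x ∧ w ≠ y →
      (((x * y * w : ↥(Cd d)) : G) ∈ orb π B ↔ ((p * q * r : ↥(Cd d)) : G) ∈ orb π B) ∧
      (((x * y * w * z : ↥(Cd d)) : G) ∈ orb π B ↔ ((p * q * r * z : ↥(Cd d)) : G) ∈ orb π B) :=
    fun x hx y hy w hw h => ⟨by
      simpa using K.three_uniform hB hx hy hw hp hq hr h hne (ε := 1) (Or.inl rfl),
      K.three_uniform hB hx hy hw hp hq hr h hne (Or.inr rfl)⟩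
  -- the twisted class
  have htl : ∀ x, x ∈ lifts π {x | x * z ∈ X} B ↔ x * z ∈ lifts π X B := fun x => by
    simp only [lifts, Set.mem_setOf_eq, map_mul, K.cover.map_z, mul_one]
  have htl3 : (¬ ((p * q * r : ↥(Cd d)) : G) ∈ orb π B) → (¬ ((p * q * r * z : ↥(Cd d)) : G) ∈ orb π B) →
      ∀ x ∈ lifts π {x | x * z ∈ X} B, ∀ y ∈ lifts π {x | x * z ∈ X} B,
        ∀ w ∈ lifts π {x | x * z ∈ X} B, y ≠ x ∧ w ≠ x ∧ w ≠ y →
        ((x * y * w : ↥(Cd d)) : G) ∉ orb π B ∧ ((x * y * w * z : ↥(Cd d)) : G) ∉ orb π B := by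
    intro hc hc' x hx y hy w hw hd
    have h := u3 _ ((htl x).1 hx) _ ((htl y).1 hy) _ ((htl w).1 hw)
      (by simpa using hd)
    have e : x * z * (y * z) * (w * z) = x * y * w * z := by
      have e1 : x * z * (y * z) = x * y := by
        rw [mul_assoc x z, (K.cover.central (y * z)).eq, K.zz hB]
      rw [e1, ← mul_assoc]
    rw [e, K.zz hB] at h
    exact ⟨fun hh => hc' (h.2.1 hh), fun hh => hc (h.1.1 hh)⟩
  have hc1024 : ((p : G) ∈ orb π B ↔ ((p * z : ↥(Cd d)) : G) ∉ orb π B) →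
      ((p * q * z : ↥(Cd d)) : G) ∈ orb π B →
      (((p * q * r : ↥(Cd d)) : G) ∈ orb π B ↔ ((p * q * r * z : ↥(Cd d)) : G) ∉ orb π B) →
      ∀ u ∈ gp π B, ((u : G) ∈ orb π B ↔ ((u * z : ↥(Cd d)) : G) ∉ orb π B) := by
    intro h1 h2 h3 y hy
    obtain ⟨u, hu, hk⟩ := K.gp_cases hB hy
    suffices key : (u : G) ∈ orb π B ↔ ((u * z : ↥(Cd d)) : G) ∉ orb π B by
      rcases hu with rfl | rfl
      · exact key
      · rw [K.zz hB]
        exact ⟨fun h h' => key.1 h' h, fun h => not_not.1 fun h' => h (key.2 h')⟩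
    rcases hk with rfl | hk | ⟨x, hx, y', hy', hd, rfl⟩ | ⟨x, hx, y', hy', w, hw, hd, rfl⟩
    · rw [one_mul, Subgroup.coe_one]
      exact iff_of_false (K.one_notMem_orb hB) (not_not.2 (K.z_mem_orb hB))
    · rw [u1 _ hk, u1' _ hk]; exact h1
    · exact iff_of_false (K.pair_notMem hB hx hy') (not_not.2 ((u2 x hx y' hy' hd).2 h2))
    · rw [(u3 x hx y' hy' w hw hd).1, (u3 x hx y' hy' w hw hd).2]; exact h3
  obtain ⟨la, a0, a1, a2⟩ := ite_two (P := (p : G) ∈ orb π B) (Q := ((p * z : ↥(Cd d)) : G) ∈ orb π B)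
  obtain ⟨lb, b0, b1⟩ := ite_one (P := ((p * q * z : ↥(Cd d)) : G) ∈ orb π B)
  obtain ⟨lc, c0, c1, -⟩ := ite_two (P := ((p * q * r : ↥(Cd d)) : G) ∈ orb π B)
    (Q := ((p * q * r * z : ↥(Cd d)) : G) ∈ orb π B)
  have h3out : ¬ ((p * q * r : ↥(Cd d)) : G) ∈ orb π B ∧ ¬ ((p * q * r * z : ↥(Cd d)) : G) ∈ orb π B →
      ∀ x ∈ lifts π X B, ∀ y ∈ lifts π X B, ∀ w ∈ lifts π X B, y ≠ x ∧ w ≠ x ∧ w ≠ y →
        ((x * y * w : ↥(Cd d)) : G) ∉ orb π B ∧ ((x * y * w * z : ↥(Cd d)) : G) ∉ orb π B :=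
    fun hc x hx y hy w hw hd => ⟨fun h => hc.1 ((u3 x hx y hy w hw hd).1.1 h),
      fun h => hc.2 ((u3 x hx y hy w hw hd).2.1 h)⟩
  rcases kinds_of_dvd la lb lc hdvd with ⟨ea, eb, ec⟩ | ⟨ea, eb, ec⟩ | ⟨ea, eb, ec⟩ | ⟨ea, eb, ec⟩ |
    ⟨ea, eb, ec⟩ | ⟨ea, eb, ec⟩ <;> rw [ea, eb, ec] at hN
  · obtain ⟨y, hy, hyz, hcy⟩ := hother
    obtain ⟨x, hx⟩ := Set.ncard_eq_one.1 hN
    have h1 : (y : G) ∈ ({x} : Set G) := hx ▸ mem_orb.2 ⟨hy, hcy⟩
    have h2 : (z : G) ∈ ({x} : Set G) := hx ▸ K.z_mem_orb hB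
    exact absurd (Subtype.ext (h1.trans h2.symm)) hyz
  · exact hN
  · exact (K.false45 hB htr (fun x hx => (u1 x hx).2 (a2 ea).1) (fun x hx => (u1' x hx).2 (a2 ea).2)
      (fun x hx y hy e h => b0 eb ((u2 x hx y hy e).1 h)) (h3out (c0 ec))).elim
  · rcases a1 ea with ⟨ha, ha'⟩ | ⟨ha, ha'⟩
    · exact (K.false254 hB htr (fun x hx => (u1 x hx).2 ha) (fun x hx h => ha' ((u1' x hx).1 h))
        (h3out (c0 ec)) hN).elim
    · exact (K.twist.false254 hB htr (fun x hx => by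
          have h := (u1' _ ((htl x).1 hx)).2 ha'
          rwa [K.zz hB] at h)
        (fun x hx h => ha ((u1 _ ((htl x).1 hx)).1 h)) (htl3 (c0 ec).1 (c0 ec).2) hN).elim
  · exact (K.false276 hB htr (fun x hx => (u1 x hx).2 (a2 ea).1) (fun x hx => (u1' x hx).2 (a2 ea).2)
      (fun x hx y hy h => (u2 x hx y hy h).2 (b1 eb)) (h3out (c0 ec))).elim
  · have hxor : ∀ {P Q : Prop}, P ∧ ¬Q ∨ ¬P ∧ Q → (P ↔ ¬Q) := fun h =>
      h.elim (fun h => iff_of_true h.1 h.2) fun h => iff_of_false h.1 (not_not.2 h.2)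
    have hc := hc1024 (hxor (a1 ea)) (b1 eb) (hxor (c1 ec))
    rcases a1 ea with ⟨ha, -⟩ | ⟨-, ha'⟩
    · exact (K.false1024 hB htr (fun x hx => (u1 x hx).2 ha) hc).elim
    · exact (K.twist.false1024 hB htr (fun x hx => by
          have h := (u1' _ ((htl x).1 hx)).2 ha'
          rwa [K.zz hB] at h) hc).elim

end Setting

end Cfsg.Agent.Transpos.DoubleThompson
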