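import Cfsg.Agent.Lib.Transpos.M23Conn
import Cfsg.Agent.Lib.Transpos.M23Pair
import Cfsg.Agent.Lib.Transpos.M23Count
import Cfsg.Agent.Lib.Transpos.M22Count
import Cfsg.Agent.Lib.ZStar.Main
import Cfsg.Agent.Lib.PCore.Basic

/-!
# An embedded group of type M(23) containing the centraliser of a member is everything

`Emb D₀ D t d`: a group of type M(23) mapped into `G` with the member `t` going to `d`, such that the
centraliser of `d` and the members of `D` in it come from it.  By Glauberman's Z*-theorem the centraliser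
of a product of two commuting members comes from it too (`Emb.pair_le`), and a count of triples then
shows that the map is onto (`Emb.surjective`).
-/

set_option autoImplicit false
set_option linter.style.haveILetI false

namespace Cfsg.Agent.Transpos.M23Recog

open Cfsg

universe u v

variable {H : Type u} [Group H] [Finite H] {G : Type v} [Group G] [Finite G]

/-- A map of a group with class `D₀` carrying `t` to `d` and covering the centraliser of `d`. -/
structure Emb (D₀ : Set H) (D : Set G) (t : H) (d : G) where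
  ψ : H →* G
  inj : Function.Injective ψ
  base : t ∈ D₀
  map_t : ψ t = d
  cent : Subgroup.centralizer ({d} : Set G) ≤ ψ.range
  conjD : ∀ (g : G), ∀ x ∈ D, g * x * g⁻¹ ∈ D
  trans : ∀ x ∈ D, ∃ g : G, g * d * g⁻¹ = x
  mem_d : d ∈ D
  near : ∀ x ∈ D, Commute d x → ∃ y ∈ D₀, ψ y = x

omit [Finite H] [Finite G] in
theorem exists_central_word {p v : G} (hp : p * p = 1) (hv : v * v = 1) (n : ℕ) :
    (p * v) ^ n * p = p * ((p * v) ^ n)⁻¹ ∧ (p * v) ^ n * v = v * ((p * v) ^ n)⁻¹ := by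
  have ip : p⁻¹ = p := inv_eq_of_mul_eq_one_right hp
  have iv : v⁻¹ = v := inv_eq_of_mul_eq_one_right hv
  induction n with
  | zero => simp
  | succ n ih =>
    constructor
    · calc (p * v) ^ (n + 1) * p = p * v * ((p * v) ^ n * p) := by rw [pow_succ']; group
        _ = p * v * (p * ((p * v) ^ n)⁻¹) := by rw [ih.1]
        _ = p * ((v * p) * ((p * v) ^ n)⁻¹) := by group
        _ = p * ((p * v)⁻¹ * ((p * v) ^ n)⁻¹) := by rw [mul_inv_rev, ip, iv]
        _ = p * ((p * v) ^ (n + 1))⁻¹ := by rw [← mul_inv_rev, ← pow_succ]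
    · calc (p * v) ^ (n + 1) * v = p * v * ((p * v) ^ n * v) := by rw [pow_succ']; group
        _ = p * (v * v) * ((p * v) ^ n)⁻¹ := by rw [ih.2]; group
        _ = v * ((p * v)⁻¹ * ((p * v) ^ n)⁻¹) := by rw [hv, mul_inv_rev, ip, iv, ← mul_assoc v, ← mul_assoc v v, hv,
            one_mul, mul_one]
        _ = v * ((p * v) ^ (n + 1))⁻¹ := by rw [← mul_inv_rev, ← pow_succ]

omit [Finite H] [Finite G] in
/-- The reflections times powers of the product, up to conjugacy. -/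
theorem isConj_dihedral {p v : G} (hp : p * p = 1) (hv : v * v = 1) (i : ℕ) :
    IsConj p (p * (p * v) ^ (2 * i)) ∧ IsConj v (v * (p * v) ^ (2 * i)) ∧
      IsConj v (p * (p * v) ^ (2 * i + 1)) ∧ IsConj p (v * (p * v) ^ (2 * i + 1)) := by
  obtain ⟨h1, h2⟩ := exists_central_word hp hv i
  set r := (p * v) ^ i with hr
  have e : (p * v) ^ (2 * i) = r * r := by rw [hr, ← pow_add, two_mul]
  have a1 : r⁻¹ * p * r = p * (r * r) := by
    have : r⁻¹ * p = p * r := by
      rw [inv_mul_eq_iff_eq_mul, ← mul_assoc, h1, inv_mul_cancel_right]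
    rw [this, mul_assoc]
  have a2 : r⁻¹ * v * r = v * (r * r) := by
    have : r⁻¹ * v = v * r := by
      rw [inv_mul_eq_iff_eq_mul, ← mul_assoc, h2, inv_mul_cancel_right]
    rw [this, mul_assoc]
  have c1 : IsConj p (p * (p * v) ^ (2 * i)) := isConj_iff.2 ⟨r⁻¹, by rw [e, inv_inv, a1]⟩
  have c2 : IsConj v (v * (p * v) ^ (2 * i)) := isConj_iff.2 ⟨r⁻¹, by rw [e, inv_inv, a2]⟩
  refine ⟨c1, c2, ?_, ?_⟩
  · rw [pow_succ', ← mul_assoc, ← mul_assoc, hp, one_mul]
    exact c2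
  · have hpv : IsConj p (v * (p * v)) := isConj_iff.2 ⟨v, by
      rw [inv_eq_of_mul_eq_one_right hv, mul_assoc]⟩
    refine hpv.trans (isConj_iff.2 ⟨r⁻¹, ?_⟩)
    rw [pow_succ, e, inv_inv]
    have hc : Commute (p * v) r := Commute.self_pow _ i
    calc r⁻¹ * (v * (p * v)) * r = r⁻¹ * v * ((p * v) * r) := by group
      _ = r⁻¹ * v * (r * (p * v)) := by rw [hc.eq]
      _ = (r⁻¹ * v * r) * (p * v) := by group
      _ = _ := by rw [a2]; group

namespace Emb

variable {D₀ : Set H} {D : Set G} {t : H} {d : G} (M : Emb D₀ D t d) (H₀ : M23 D₀)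
include H₀

theorem map_mem {y : H} (hy : y ∈ D₀) : M.ψ y ∈ D := by
  obtain ⟨h, rfl⟩ := H₀.trans t M.base y hy
  rw [map_mul, map_mul, map_inv, M.map_t]
  exact M.conjD _ _ M.mem_d

theorem cent_le {y : H} (hy : y ∈ D₀) {g : G} (hg : Commute g (M.ψ y)) : g ∈ M.ψ.range := by
  obtain ⟨h, rfl⟩ := H₀.trans t M.base y hy
  rw [map_mul, map_mul, map_inv, M.map_t] at hg
  have h1 : (M.ψ h)⁻¹ * g * M.ψ h ∈ M.ψ.range := M.cent (Subgroup.mem_centralizer_singleton_iff.2 (by
    calc (M.ψ h)⁻¹ * g * M.ψ h * d = (M.ψ h)⁻¹ * (g * (M.ψ h * d * (M.ψ h)⁻¹)) * M.ψ h := by group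
      _ = d * ((M.ψ h)⁻¹ * g * M.ψ h) := by rw [hg.eq]; group))
  have := M.ψ.range.mul_mem (M.ψ.range.mul_mem (MonoidHom.mem_range.2 ⟨h, rfl⟩) h1)
    (M.ψ.range.inv_mem (MonoidHom.mem_range.2 ⟨h, rfl⟩))
  simpa [mul_assoc] using this

theorem near' {y : H} (hy : y ∈ D₀) {x : G} (hx : x ∈ D) (hc : Commute (M.ψ y) x) :
    ∃ w ∈ D₀, M.ψ w = x := by
  obtain ⟨h, rfl⟩ := H₀.trans t M.base y hy
  rw [map_mul, map_mul, map_inv, M.map_t] at hc
  have hd : Commute d ((M.ψ h)⁻¹ * x * M.ψ h) := by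
    rw [← commute_conj_iff (M.ψ h)]
    simpa [mul_assoc] using hc
  obtain ⟨w, hw, e⟩ := M.near _ (by simpa using M.conjD (M.ψ h)⁻¹ x hx) hd
  exact ⟨_, H₀.conj_mem h hw, by rw [map_mul, map_mul, map_inv, e]; group⟩

theorem exists_fixed {w : H} (hw : w * w = 1) (hodd : Odd D₀.ncard) : ∃ y ∈ D₀, Commute w y := by
  classical
  haveI : Fintype ↥D₀ := Fintype.ofFinite _
  let f : ↥D₀ → ↥D₀ := fun y => ⟨w * y * w⁻¹, H₀.conj_mem w y.2⟩
  have hf : Function.Involutive f := fun y => Subtype.ext (by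
    show w * (w * (y : H) * w⁻¹) * w⁻¹ = y
    rw [show w * (w * (y : H) * w⁻¹) * w⁻¹ = w * w * y * (w * w)⁻¹ by group, hw]; simp)
  haveI : Fact (Nat.Prime 2) := ⟨Nat.prime_two⟩
  obtain ⟨y, hy⟩ := Equiv.Perm.exists_fixed_point_of_prime (p := 2) (n := 1) (α := ↥D₀)
    (σ := hf.toPerm f) (by
      rw [← Nat.card_eq_fintype_card, Nat.card_coe_set_eq]
      obtain ⟨k, hk⟩ := hodd
      omega) (by
      ext1 y
      rw [pow_one, pow_two, Equiv.Perm.mul_apply]
      exact hf y)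
  refine ⟨y, y.2, ?_⟩
  have e : w * (y : H) * w⁻¹ = y := congrArg Subtype.val hy
  exact mul_inv_eq_iff_eq_mul.1 e

theorem member_in_range (hodd : Odd D₀.ncard) (hD2 : ∀ x ∈ D, x * x = 1) {x : G} (hx : x ∈ D)
    (hr : x ∈ M.ψ.range) : ∃ w ∈ D₀, M.ψ w = x := by
  obtain ⟨h, rfl⟩ := hr
  have h2 : h * h = 1 := M.inj (by rw [map_mul, hD2 _ hx, map_one])
  obtain ⟨y, hy, hc⟩ := exists_fixed H₀ h2 hodd
  exact M.near' H₀ hy hx (hc.symm.map M.ψ)

theorem range_of_conj {y z : H} (hy : y ∈ D₀) (hz : z ∈ D₀) {g : G}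
    (e : g * M.ψ y * g⁻¹ = M.ψ z) : g ∈ M.ψ.range := by
  obtain ⟨k, rfl⟩ := H₀.trans y hy z hz
  rw [map_mul, map_mul, map_inv] at e
  have h1 : (M.ψ k)⁻¹ * g ∈ M.ψ.range := M.cent_le H₀ hy (by
    show (M.ψ k)⁻¹ * g * M.ψ y = M.ψ y * ((M.ψ k)⁻¹ * g)
    calc (M.ψ k)⁻¹ * g * M.ψ y = (M.ψ k)⁻¹ * (g * M.ψ y * g⁻¹) * g := by group
      _ = _ := by rw [e]; group)
  have := M.ψ.range.mul_mem (MonoidHom.mem_range.2 ⟨k, rfl⟩ : M.ψ k ∈ M.ψ.range) h1
  rwa [mul_inv_cancel_left] at this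

omit [Finite G] in
theorem prod_notMem {a b : H} (ha : a ∈ D₀) (hb : b ∈ Dc D₀ a) : a * b ∉ D₀ := by
  intro hp
  have sq := fun {x} (hx : x ∈ D₀) => sq_one H₀.grp.1 hx
  have cab : Commute a b := hb.2.2
  have hpd : a * b ∈ Dc D₀ a := ⟨hp, fun e => ne_one H₀.grp.1 hb.1 (mul_eq_left.mp e),
    (Commute.refl a).mul_right cab⟩
  refine H₀.noTwin₂ a ha b hb (a * b) hpd (fun e => ne_one H₀.grp.1 ha (mul_eq_right.mp e.symm))
    ((cab.symm).mul_right (Commute.refl b)) fun y hy => ?_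
  have cay : Commute y a := hy.2.2.symm
  constructor
  · exact fun h => cay.mul_right h
  · intro h
    have := cay.mul_right h
    rwa [← mul_assoc, sq ha, one_mul] at this

theorem pair_notMem (hodd : Odd D₀.ncard) (hD2 : ∀ x ∈ D, x * x = 1) {a b : H} (ha : a ∈ D₀)
    (hb : b ∈ Dc D₀ a) : M.ψ (a * b) ∉ D := fun h => by
  obtain ⟨w, hw, e⟩ := M.member_in_range H₀ hodd hD2 h ⟨_, rfl⟩
  exact prod_notMem H₀ ha hb (M.inj e ▸ hw)

/-- The centraliser of a product of two commuting members comes from `H`. -/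
theorem pair_le (hodd : Odd D₀.ncard) (hD2 : ∀ x ∈ D, x * x = 1) {a b : H} (ha : a ∈ D₀)
    (hb : b ∈ Dc D₀ a) : Subgroup.centralizer ({M.ψ (a * b)} : Set G) ≤ M.ψ.range := by
  classical
  set L := Subgroup.centralizer ({M.ψ (a * b)} : Set G) with hL
  set P := M.ψ (a * b) with hP
  have sq₀ := fun {x} (hx : x ∈ D₀) => sq_one H₀.grp.1 hx
  have cab : Commute a b := hb.2.2
  have hab2 : a * b * (a * b) = 1 := by rw [cab.symm.mul_mul_mul_comm, sq₀ ha, sq₀ hb.1, one_mul]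
  have hPP : P * P = 1 := by rw [hP, ← map_mul, hab2, map_one]
  have memL : ∀ {g : G}, g ∈ L ↔ Commute g P := fun {g} => Subgroup.mem_centralizer_singleton_iff
  have hA : M.ψ a ∈ L := memL.2 (((Commute.refl a).mul_right cab).map M.ψ)
  have hPL : P ∈ L := memL.2 (Commute.refl P)
  let z : ↥L := ⟨P, hPL⟩
  haveI hN : (Subgroup.zpowers z).Normal := ⟨fun x hx g => by
    obtain ⟨n, rfl⟩ := Subgroup.mem_zpowers_iff.1 hx
    have hc : Commute g z := Subtype.ext (memL.1 g.2).eq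
    rw [(hc.zpow_right n).eq, mul_inv_cancel_right]; exact ⟨n, rfl⟩⟩
  let π : ↥L →* ↥L ⧸ Subgroup.zpowers z := QuotientGroup.mk' _
  have hπ : Function.Surjective π := QuotientGroup.mk'_surjective _
  have hker : ∀ g : ↥L, π g = 1 ↔ (g : G) = 1 ∨ (g : G) = P := by
    intro g
    rw [QuotientGroup.mk'_apply, QuotientGroup.eq_one_iff]
    have hz2 : z ^ 2 = 1 := Subtype.ext (by simp [pow_two, z, hPP])
    constructor
    · rintro ⟨n, rfl⟩
      obtain ⟨k, hk | hk⟩ := Int.even_or_odd' n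
      · left; simp only [hk, zpow_mul, zpow_ofNat, hz2, one_zpow, Subgroup.coe_one]
      · right; simp only [hk, zpow_add, zpow_mul, zpow_ofNat, hz2, one_zpow, one_mul, pow_one]; rfl
    · rintro (h | h)
      · rw [show g = 1 from Subtype.ext h]; exact one_mem _
      · rw [show g = z from Subtype.ext h]; exact Subgroup.mem_zpowers z
  -- members of `H` permuted by an element fixing the product
  have hperm : ∀ {g : G} {h : H}, Commute g P → M.ψ h = g →
      (h * a * h⁻¹ = a ∧ h * b * h⁻¹ = b) ∨ (h * a * h⁻¹ = b ∧ h * b * h⁻¹ = a) := by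
    intro g h hg e
    exact H₀.perm_of_commute_mul ha hb (M.inj (by rw [map_mul M.ψ h, map_mul M.ψ (a * b), e]; exact hg.eq))
  have hAb : M.ψ b = M.ψ a * P := by rw [hP, ← map_mul, ← mul_assoc, sq₀ ha, one_mul]
  -- the image of the first member is isolated
  set A : ↥L ⧸ Subgroup.zpowers z := π ⟨M.ψ a, hA⟩ with hAdef
  have hA1 : A ≠ 1 := by
    rw [hAdef, Ne, hker]
    rintro (h | h)
    · exact ne_one H₀.grp.1 ha (M.inj (h.trans (map_one M.ψ).symm))
    · exact ne_one H₀.grp.1 hb.1 (mul_eq_left.mp (M.inj h).symm)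
  have hA2 : A * A = 1 := by
    rw [hAdef, ← map_mul, hker]
    left
    show M.ψ a * M.ψ a = 1
    rw [← map_mul, sq₀ ha, map_one]
  have fuse : ∀ g : ↥L, Commute (π g * A * (π g)⁻¹) A → π g * A * (π g)⁻¹ = A := by
    intro g hcg
    set A' := (g : G) * M.ψ a * (g : G)⁻¹ with hA'
    have hA'D : A' ∈ D := M.conjD _ _ (M.map_mem H₀ ha)
    have hA'2 : A' * A' = 1 := hD2 _ hA'D
    have hx : (g * ⟨M.ψ a, hA⟩ * g⁻¹ * ⟨M.ψ a, hA⟩ * (g * ⟨M.ψ a, hA⟩ * g⁻¹ * ⟨M.ψ a, hA⟩) : ↥L) ∈ π.ker := by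
      rw [MonoidHom.mem_ker]
      simp only [map_mul, map_inv]
      rw [← hAdef]
      have hc2 : π g * A * (π g)⁻¹ * (π g * A * (π g)⁻¹) = 1 := by
        rw [show π g * A * (π g)⁻¹ * (π g * A * (π g)⁻¹) = π g * (A * A) * (π g)⁻¹ by group, hA2]; group
      calc _ = π g * A * (π g)⁻¹ * (A * (π g * A * (π g)⁻¹)) * A := by group
        _ = (π g * A * (π g)⁻¹ * (π g * A * (π g)⁻¹)) * (A * A) := by rw [← hcg.eq]; group
        _ = 1 := by rw [hc2, hA2, one_mul]
    have hA'P : A' * M.ψ a * (A' * M.ψ a) = 1 ∨ A' * M.ψ a * (A' * M.ψ a) = P := by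
      have := (hker _).1 hx
      simpa [hA', mul_assoc] using this
    have inK : ∃ u ∈ D₀, M.ψ u = A' := by
      rcases hA'P with h | h
      · refine M.near' H₀ ha hA'D ?_
        have e : (A' * M.ψ a)⁻¹ = A' * M.ψ a := inv_eq_of_mul_eq_one_right h
        rw [mul_inv_rev, inv_eq_of_mul_eq_one_right hA'2, inv_eq_of_mul_eq_one_right
          (hD2 _ (M.map_mem H₀ ha))] at e
        exact e
      · have e : A' * M.ψ a * A'⁻¹ = M.ψ b := by
          rw [inv_eq_of_mul_eq_one_right hA'2, hAb, ← (((Commute.refl a).mul_right cab).map M.ψ).symm.eq]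
          rw [← hP, ← h]
          rw [show A' * M.ψ a * (A' * M.ψ a) * M.ψ a = A' * M.ψ a * A' * (M.ψ a * M.ψ a) by group,
            hD2 _ (M.map_mem H₀ ha), mul_one]
        exact M.member_in_range H₀ hodd hD2 hA'D (M.range_of_conj H₀ ha hb.1 e)
    obtain ⟨u, hu, eu⟩ := inK
    obtain ⟨h, eh⟩ := M.range_of_conj H₀ ha hu eu.symm
    have hgP : Commute (g : G) P := memL.1 g.2
    have eA' : A' = M.ψ (h * a * h⁻¹) := by rw [map_mul, map_mul, map_inv, eh]
    rw [hAdef, ← map_inv, ← map_mul, ← map_mul, ← mul_inv_eq_one, ← map_inv, ← map_mul, hker]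
    show A' * (M.ψ a)⁻¹ = 1 ∨ A' * (M.ψ a)⁻¹ = P
    rcases hperm hgP eh with ⟨e1, -⟩ | ⟨e1, -⟩
    · left; rw [eA', e1, mul_inv_cancel]
    · right
      rw [eA', e1, inv_eq_of_mul_eq_one_right (hD2 _ (M.map_mem H₀ ha)), ← map_mul, hP, cab.eq]
  have hiso : IsIsolatedInvolution A := by
    refine ⟨orderOf_eq_prime (by rw [pow_two, hA2]) hA1, fun q hq => ?_⟩
    obtain ⟨g, rfl⟩ := hπ q
    exact fuse g hq.symm
  set O := Cfsg.pPrimeCore 2 (↥L ⧸ Subgroup.zpowers z) with hO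
  have hOodd : (Nat.card O).Coprime 2 := PCore.coprime_card_pPrimeCore
  haveI : O.Normal := PCore.pPrimeCore_normal
  -- what comes from `H` meets the core trivially
  have hcap : ∀ (h : H) (hh : M.ψ h ∈ L), π ⟨M.ψ h, hh⟩ ∈ O → π ⟨M.ψ h, hh⟩ = 1 := by
    intro h hh hO'
    set K := Subgroup.centralizer ({a, b} : Set H) with hK
    have kL : ∀ k : ↥K, M.ψ k ∈ L := fun k => memL.2 ((Commute.mul_right
      (show Commute (k : H) a from (Subgroup.mem_centralizer_iff.1 k.2 a (Or.inl rfl)).symm)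
      (show Commute (k : H) b from (Subgroup.mem_centralizer_iff.1 k.2 b (Or.inr rfl)).symm)).map M.ψ)
    let ι : ↥K →* ↥L := (M.ψ.comp K.subtype).codRestrict L kL
    set Q := O.comap (π.comp ι) with hQ
    obtain ⟨F, iF, iFt, hF, Φ, hΦ, hΦker⟩ := H₀.exists_pair_map ha hb
    have haK : a ∈ K := Subgroup.mem_centralizer_iff.2 fun s hs => by
      rcases hs with rfl | rfl
      exacts [rfl, cab.eq.symm]
    have haO : (⟨a, haK⟩ : ↥K) ∉ Q := fun hm => by
      have h1 : π (ι ⟨a, haK⟩) = A := rfl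
      rw [hQ, Subgroup.mem_comap, MonoidHom.comp_apply, h1] at hm
      refine hA1 ?_
      have h3 := Subgroup.orderOf_dvd_natCard O hm
      have h4 : orderOf A ∣ 2 := orderOf_dvd_of_pow_eq_one (by rw [pow_two, hA2])
      exact orderOf_eq_one_iff.1 (Nat.eq_one_of_dvd_coprimes hOodd h3 h4)
    haveI hsimp : IsSimpleGroup (Cfsg.PSU 6 F 2) :=
      ClassicalSimple.PSU_isSimpleGroup (q := 2) (n := 6) (by rw [hF]; norm_num) (by norm_num) (by norm_num)
    have hbot : Q.map Φ = ⊥ := by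
      haveI : (Q.map Φ).Normal := Subgroup.Normal.map inferInstance Φ hΦ
      refine ((inferInstance : (Q.map Φ).Normal).eq_bot_or_eq_top).resolve_right fun htop => ?_
      -- an element of even order in the core
      obtain ⟨q, hq⟩ := hΦ 1
      haveI : Finite (Cfsg.PSU 6 F 2) := Finite.of_surjective Φ hΦ
      have h2 : 2 ∣ Nat.card (Cfsg.PSU 6 F 2) := by
        rw [card_PSU_six hF]; norm_num
      haveI : Fact (Nat.Prime 2) := ⟨Nat.prime_two⟩
      obtain ⟨x, hx⟩ := exists_prime_orderOf_dvd_card' 2 h2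
      have hxm : x ∈ Q.map Φ := by rw [htop]; trivial
      obtain ⟨k, hk, rfl⟩ := hxm
      have hok : orderOf (π (ι k)) ∣ Nat.card O := Subgroup.orderOf_dvd_natCard O hk
      -- an odd power kills `k` up to the two members
      set n := orderOf (π (ι k))
      have hn : π (ι (k ^ n)) = 1 := by rw [map_pow, map_pow, pow_orderOf_eq_one]
      have hkn : Φ (k ^ n) = 1 := by
        rw [hΦker]
        rcases (hker _).1 hn with h | h
        · rw [show ((k ^ n : ↥K) : H) = 1 from M.inj (h.trans (map_one M.ψ).symm)]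
          exact one_mem _
        · rw [show ((k ^ n : ↥K) : H) = a * b from M.inj h]
          exact mul_mem (Subgroup.subset_closure (Or.inl rfl)) (Subgroup.subset_closure (Or.inr rfl))
      rw [map_pow] at hkn
      have := orderOf_dvd_of_pow_eq_one hkn
      rw [hx] at this
      exact absurd (Nat.eq_one_of_dvd_coprimes hOodd (this.trans hok) dvd_rfl) (by norm_num)
    have inK : ∀ k : ↥K, k ∈ Q → π (ι k) = 1 := by
      intro k hk
      have hk1 : Φ k = 1 := by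
        rw [← Subgroup.mem_bot, ← hbot]; exact Subgroup.mem_map_of_mem Φ hk
      rw [hΦker] at hk1
      have hcl : ∀ x ∈ Subgroup.closure ({a, b} : Set H), x = 1 ∨ x = a ∨ x = b ∨ x = a * b := by
        intro x hx
        induction hx using Subgroup.closure_induction with
        | mem v hv => rcases hv with rfl | rfl <;> simp
        | one => simp
        | mul v w _ _ hv hw =>
          have e1 : a * (a * b) = b := by rw [← mul_assoc, sq₀ ha, one_mul]
          have e2 : b * (a * b) = a := by rw [cab.eq, ← mul_assoc, sq₀ hb.1, one_mul]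
          have e3 : a * b * a = b := by rw [mul_assoc, ← cab.eq, e1]
          have e4 : a * b * b = a := by rw [mul_assoc, sq₀ hb.1, mul_one]
          rcases hv with rfl | rfl | rfl | rfl <;> rcases hw with rfl | rfl | rfl | rfl <;>
            simp [sq₀ ha, sq₀ hb.1, e1, e2, e3, e4, hab2, cab.eq.symm]
        | inv v _ hv =>
          rcases hv with rfl | rfl | rfl | rfl
          · simp
          · simp [inv_eq_of_mul_eq_one_right (sq₀ ha)]
          · simp [inv_eq_of_mul_eq_one_right (sq₀ hb.1)]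
          · right; right; right; exact inv_eq_of_mul_eq_one_right hab2
      rcases hcl _ hk1 with e | e | e | e
      · rw [hker]; left; show M.ψ (k : H) = 1; rw [e, map_one]
      · exact absurd (show k = ⟨a, haK⟩ from Subtype.ext e) (fun h => haO (h ▸ hk))
      · exfalso
        apply haO
        have hk' : π (ι k) ∈ O := hk
        have hAk : π (ι k) = A := by
          rw [hAdef, ← mul_inv_eq_one, ← map_inv, ← map_mul, hker]
          right
          show M.ψ (k : H) * (M.ψ a)⁻¹ = P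
          rw [e, inv_eq_of_mul_eq_one_right (hD2 _ (M.map_mem H₀ ha)), ← map_mul, hP, cab.eq]
        rw [hAk] at hk'
        exact hk'
      · rw [hker]; right; show M.ψ (k : H) = P; rw [e]
    have hc : Commute h (a * b) := M.inj (by rw [map_mul M.ψ h, map_mul M.ψ (a * b)]; exact (memL.1 hh).eq)
    rcases H₀.perm_of_commute_mul ha hb hc with ⟨e1, e2⟩ | ⟨e1, -⟩
    · have hhK : h ∈ K := Subgroup.mem_centralizer_iff.2 fun s hs => by
        rcases hs with rfl | rfl
        exacts [(mul_inv_eq_iff_eq_mul.1 e1).symm, (mul_inv_eq_iff_eq_mul.1 e2).symm]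
      exact inK ⟨h, hhK⟩ hO'
    · exfalso
      set n := orderOf (π ⟨M.ψ h, hh⟩)
      have hodd' : n % 2 = 1 := by
        have h1 : n ∣ Nat.card O := Subgroup.orderOf_dvd_natCard O hO'
        rcases Nat.mod_two_eq_zero_or_one n with e | e
        · exact absurd (Nat.eq_one_of_dvd_coprimes hOodd ((Nat.dvd_of_mod_eq_zero e).trans h1) dvd_rfl)
            (by norm_num)
        · exact e
      have hn : π (⟨M.ψ h, hh⟩ ^ n) = 1 := by rw [map_pow, pow_orderOf_eq_one]
      have hfix : h ^ n * a * (h ^ n)⁻¹ = a := by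
        rcases (hker _).1 hn with e | e
        · rw [show h ^ n = 1 from M.inj (by rw [map_pow, map_one]; simpa using e)]; simp
        · rw [show h ^ n = a * b from M.inj (by rw [map_pow]; exact e)]
          rw [((Commute.refl a).mul_right cab).symm.eq, mul_inv_cancel_right]
      have hsw : ∀ m : ℕ, h ^ (2 * m) * a * (h ^ (2 * m))⁻¹ = a := by
        intro m
        induction m with
        | zero => simp
        | succ m ih =>
          have e2' : h * b * h⁻¹ = a := by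
            rcases H₀.perm_of_commute_mul ha hb hc with ⟨f1, -⟩ | ⟨-, f2⟩
            · exact absurd (f1.symm.trans e1) hb.2.1.symm
            · exact f2
          rw [show 2 * (m + 1) = 1 + 1 + 2 * m by ring, pow_add, pow_add, pow_one]
          calc h * h * h ^ (2 * m) * a * (h * h * h ^ (2 * m))⁻¹
              = h * (h * (h ^ (2 * m) * a * (h ^ (2 * m))⁻¹) * h⁻¹) * h⁻¹ := by group
            _ = a := by rw [ih, e1, e2']
      rw [show n = 1 + 2 * (n / 2) by omega, pow_add, pow_one] at hfix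
      have e3 : h * (h ^ (2 * (n / 2)) * a * (h ^ (2 * (n / 2)))⁻¹) * h⁻¹ = a := by
        conv_rhs => rw [← hfix]
        group
      rw [hsw, e1] at e3
      exact hb.2.1 e3
  -- involutions from members inverting the core
  have fpf : ∀ {y : H} (hy : y ∈ D₀) (hyP : Commute y (a * b)),
      (y = a ∨ (y ≠ a ∧ y ≠ b)) → ∀ o ∈ O,
      π ⟨M.ψ y, memL.2 (hyP.map M.ψ)⟩ * o * (π ⟨M.ψ y, memL.2 (hyP.map M.ψ)⟩)⁻¹ = o⁻¹ := by
    intro y hy hyP hcase
    set Y := π ⟨M.ψ y, memL.2 (hyP.map M.ψ)⟩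
    have hfree : ∀ o ∈ O, Commute Y o → o = 1 := by
      intro o ho hco
      obtain ⟨g, rfl⟩ := hπ o
      set Y' := (g : G) * M.ψ y * (g : G)⁻¹ with hY'
      have e : Y' * (M.ψ y)⁻¹ = 1 ∨ Y' * (M.ψ y)⁻¹ = P := by
        have : π (g * ⟨M.ψ y, memL.2 (hyP.map M.ψ)⟩ * g⁻¹ * (⟨M.ψ y, memL.2 (hyP.map M.ψ)⟩ : ↥L)⁻¹) = 1 := by
          rw [map_mul, map_mul, map_mul, map_inv, map_inv]
          show π g * Y * (π g)⁻¹ * Y⁻¹ = 1
          rw [← hco.eq]; group
        simpa [hY'] using (hker _).1 this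
      have hr : (g : G) ∈ M.ψ.range := by
        rcases e with e | e
        · exact M.cent_le H₀ hy (mul_inv_eq_iff_eq_mul.1 (mul_inv_eq_one.1 e))
        · rcases hcase with rfl | ⟨nya, nyb⟩
          · refine M.range_of_conj H₀ ha hb.1 ?_
            rw [← hY', mul_inv_eq_iff_eq_mul.1 e, hP, ← map_mul, mul_assoc, cab.symm.eq, ← mul_assoc,
              sq₀ ha, one_mul]
          · exfalso
            have hY'2 : Y' = M.ψ (a * b * y) := by rw [map_mul, ← hP]; exact mul_inv_eq_iff_eq_mul.1 e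
            obtain ⟨w, hw, ew⟩ := M.member_in_range H₀ hodd hD2 (M.conjD _ _ (M.map_mem H₀ hy)) ⟨_, hY'2.symm⟩
            have ew' : w = a * b * y := M.inj (ew.trans hY'2)
            have hwy : a * b = w * y := by rw [ew', mul_assoc _ y y, sq₀ hy, mul_one]
            have cwy : Commute w y := by
              rw [ew']; exact hyP.symm.mul_left (Commute.refl y)
            have nwy : w ≠ y := fun h => prod_notMem H₀ ha hb (by
              have e1 : a * b = 1 := by rw [hwy, h, sq₀ hy]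
              exact absurd ((inv_eq_of_mul_eq_one_right e1).symm.trans (inv_eq_of_mul_eq_one_right (sq₀ ha))) hb.2.1)
            rcases mem_of_prod_two H₀.tr H₀.noTwin₂ ha hb.1 hw hy hb.2.1.symm nwy cab cwy hwy with h | h
            · rw [← h] at hwy
              exact nyb (mul_left_cancel hwy).symm
            · exact nya h.symm
      obtain ⟨h, eh⟩ := hr
      have hh : M.ψ h ∈ L := eh ▸ g.2
      have e2 : π ⟨M.ψ h, hh⟩ = π g := congrArg π (Subtype.ext eh)
      rw [← e2] at ho ⊢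
      exact hcap h hh ho
    have hY2 : Y * Y = 1 := by
      rw [← map_mul, hker]; left
      show M.ψ y * M.ψ y = 1
      rw [← map_mul, sq₀ hy, map_one]
    have hYi : Y⁻¹ = Y := inv_eq_of_mul_eq_one_right hY2
    let f : ↥O → ↥O := fun o => ⟨(o : ↥L ⧸ Subgroup.zpowers z)⁻¹ * (Y * o * Y⁻¹),
      mul_mem (inv_mem o.2) (Subgroup.Normal.conj_mem inferInstance _ o.2 _)⟩
    have hf : Function.Injective f := by
      intro p q hpq
      have e := congrArg Subtype.val hpq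
      simp only [f] at e
      have hcc : Commute Y ((q : ↥L ⧸ Subgroup.zpowers z) * (p : ↥L ⧸ Subgroup.zpowers z)⁻¹) := by
        refine mul_inv_eq_iff_eq_mul.1 ?_
        calc Y * ((q : ↥L ⧸ Subgroup.zpowers z) * (p : ↥L ⧸ Subgroup.zpowers z)⁻¹) * Y⁻¹
            = Y * q * Y⁻¹ * (Y * p * Y⁻¹)⁻¹ := by group
          _ = q * ((q : ↥L ⧸ Subgroup.zpowers z)⁻¹ * (Y * q * Y⁻¹)) *
              ((p : ↥L ⧸ Subgroup.zpowers z)⁻¹ * (Y * p * Y⁻¹))⁻¹ * (p : ↥L ⧸ Subgroup.zpowers z)⁻¹ := by group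
          _ = _ := by rw [e]; group
      exact Subtype.ext (mul_inv_eq_one.1 (hfree _ (mul_mem q.2 (inv_mem p.2)) hcc)).symm
    intro o ho
    obtain ⟨x, hx⟩ := (Finite.injective_iff_surjective.1 hf) ⟨o, ho⟩
    have e := congrArg Subtype.val hx
    simp only [f] at e
    rw [← e, hYi]
    calc Y * ((x : ↥L ⧸ Subgroup.zpowers z)⁻¹ * (Y * x * Y)) * Y
        = Y * (x : ↥L ⧸ Subgroup.zpowers z)⁻¹ * Y * x * (Y * Y) := by group
      _ = Y * (x : ↥L ⧸ Subgroup.zpowers z)⁻¹ * Y * x := by rw [hY2, mul_one]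
      _ = _ := by simp only [mul_inv_rev, inv_inv, hYi, mul_assoc]
  -- the core is trivial
  have hO1 : ∀ o ∈ O, o = 1 := by
    intro o ho
    obtain ⟨p, q, r, f₁, f₂, f₃, ⟨hp, hq, hr⟩, ⟨g1, g2, g3⟩, he⟩ := H₀.six_at_pair ha hb
    have hyP : ∀ {y}, y ∈ Dc (Dc D₀ a) b → Commute y (a * b) := fun hy => hy.1.2.2.symm.mul_right hy.2.2.symm
    have act : ∀ {y} (hy : y ∈ Dc (Dc D₀ a) b) (o), o ∈ O →
        π ⟨M.ψ y, memL.2 ((hyP hy).map M.ψ)⟩ * o * (π ⟨M.ψ y, memL.2 ((hyP hy).map M.ψ)⟩)⁻¹ = o⁻¹ :=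
      fun {y} hy o ho => fpf hy.1.1 (hyP hy) (Or.inr ⟨hy.1.2.1, hy.2.1⟩) o ho
    have aA := fpf ha ((Commute.refl a).mul_right cab) (Or.inl rfl) o ho
    have rel : π ⟨M.ψ p, memL.2 ((hyP hp).map M.ψ)⟩ * π ⟨M.ψ q, memL.2 ((hyP hq).map M.ψ)⟩ *
        π ⟨M.ψ r, memL.2 ((hyP hr).map M.ψ)⟩ = π ⟨M.ψ f₁, memL.2 ((hyP g1).map M.ψ)⟩ *
        π ⟨M.ψ f₂, memL.2 ((hyP g2).map M.ψ)⟩ * π ⟨M.ψ f₃, memL.2 ((hyP g3).map M.ψ)⟩ *
        π ⟨M.ψ a, memL.2 (((Commute.refl a).mul_right cab).map M.ψ)⟩ := by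
      simp only [← map_mul]
      congr 1
      exact Subtype.ext (by simp only [Subgroup.coe_mul, ← map_mul, he])
    have three : ∀ {y₁ y₂ y₃} (h₁ : y₁ ∈ Dc (Dc D₀ a) b) (h₂ : y₂ ∈ Dc (Dc D₀ a) b)
        (h₃ : y₃ ∈ Dc (Dc D₀ a) b) (o), o ∈ O →
        (π ⟨M.ψ y₁, memL.2 ((hyP h₁).map M.ψ)⟩ * π ⟨M.ψ y₂, memL.2 ((hyP h₂).map M.ψ)⟩ *
          π ⟨M.ψ y₃, memL.2 ((hyP h₃).map M.ψ)⟩) * o * (π ⟨M.ψ y₁, memL.2 ((hyP h₁).map M.ψ)⟩ *
          π ⟨M.ψ y₂, memL.2 ((hyP h₂).map M.ψ)⟩ * π ⟨M.ψ y₃, memL.2 ((hyP h₃).map M.ψ)⟩)⁻¹ = o⁻¹ := by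
      intro y₁ y₂ y₃ h₁ h₂ h₃ o ho
      have e3 := act h₃ o ho
      have e2 := act h₂ o⁻¹ (inv_mem ho)
      have e1 := act h₁ o ho
      simp only [inv_inv] at e2
      calc _ = π ⟨M.ψ y₁, memL.2 ((hyP h₁).map M.ψ)⟩ * (π ⟨M.ψ y₂, memL.2 ((hyP h₂).map M.ψ)⟩ *
            (π ⟨M.ψ y₃, memL.2 ((hyP h₃).map M.ψ)⟩ * o * (π ⟨M.ψ y₃, memL.2 ((hyP h₃).map M.ψ)⟩)⁻¹) *
            (π ⟨M.ψ y₂, memL.2 ((hyP h₂).map M.ψ)⟩)⁻¹) *
            (π ⟨M.ψ y₁, memL.2 ((hyP h₁).map M.ψ)⟩)⁻¹ := by group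
        _ = o⁻¹ := by rw [e3, e2, e1]
    have l := three hp hq hr o ho
    rw [rel] at l
    set F := π ⟨M.ψ f₁, memL.2 ((hyP g1).map M.ψ)⟩ * π ⟨M.ψ f₂, memL.2 ((hyP g2).map M.ψ)⟩ *
      π ⟨M.ψ f₃, memL.2 ((hyP g3).map M.ψ)⟩
    have r' := three g1 g2 g3 o⁻¹ (inv_mem ho)
    rw [inv_inv] at r'
    have h' : F * o⁻¹ * F⁻¹ = o⁻¹ := by
      conv_rhs => rw [← l]
      rw [show ∀ B, F * B * o * (F * B)⁻¹ = F * (B * o * B⁻¹) * F⁻¹ from fun B => by group, aA]
    have h2 : o * o = 1 := by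
      rw [mul_eq_one_iff_eq_inv]; exact r'.symm.trans h'
    exact orderOf_eq_one_iff.1 (Nat.eq_one_of_dvd_coprimes hOodd (Subgroup.orderOf_dvd_natCard O ho)
      (orderOf_dvd_of_pow_eq_one (by rw [pow_two, h2])))
  intro g hg
  have hz' := ZStar.inZStar hiso (π ⟨g, hg⟩)
  have e := mul_inv_eq_one.1 (hO1 _ hz')
  rw [hAdef, ← map_inv, ← map_mul, ← map_mul, ← mul_inv_eq_one, ← map_inv, ← map_mul, hker] at e
  change g * M.ψ a * g⁻¹ * (M.ψ a)⁻¹ = 1 ∨ g * M.ψ a * g⁻¹ * (M.ψ a)⁻¹ = P at e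
  rcases e with e | e
  · exact M.cent_le H₀ ha (mul_inv_eq_iff_eq_mul.1 (mul_inv_eq_one.1 e))
  · refine M.range_of_conj H₀ ha hb.1 ?_
    rw [mul_inv_eq_iff_eq_mul.1 e, hP, ← map_mul, mul_assoc, cab.symm.eq, ← mul_assoc, sq₀ ha, one_mul]

/-- The map is onto. -/
theorem surjective (hprim : IsPrimitiveUnderConj D₀) : Function.Surjective M.ψ := by
  classical
  have hcard : D₀.ncard = 31671 := H₀.ncard_class hprim
  have hodd : Odd D₀.ncard := by rw [hcard]; exact ⟨15835, by norm_num⟩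
  have sq₀ := fun {x} (hx : x ∈ D₀) => sq_one H₀.grp.1 hx
  have hD2 : ∀ x ∈ D, x * x = 1 := fun x hx => by
    obtain ⟨g, rfl⟩ := M.trans x hx
    rw [show g * d * g⁻¹ * (g * d * g⁻¹) = g * (d * d) * g⁻¹ by group, ← M.map_t, ← map_mul,
      sq₀ M.base, map_one]
    group
  suffices hall : ∀ v ∈ D, v ∈ M.ψ.range by
    intro g
    obtain ⟨w, hw, e⟩ := M.member_in_range H₀ hodd hD2 (M.conjD g d M.mem_d) (hall _ (M.conjD g d M.mem_d))
    exact M.range_of_conj H₀ M.base hw (by rw [M.map_t, e])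
  intro v₀ hv₀
  by_contra hout
  obtain ⟨b, hb⟩ := H₀.dc_nonempty M.base
  set S := {e | e ∈ D₀ ∧ e ≠ t ∧ Commute t e}
  obtain ⟨g, rfl⟩ := M.trans v₀ hv₀
  have hg : g ∉ M.ψ.range := fun h => hout (by
    have h' := mul_mem (mul_mem h (MonoidHom.mem_range.2 ⟨t, rfl⟩ : M.ψ t ∈ M.ψ.range)) (inv_mem h)
    simpa only [M.map_t] using h')
  let σ : H → G := fun y => g * M.ψ y * g⁻¹
  have hσD : ∀ y ∈ D₀, σ y ∈ D := fun y hy => M.conjD _ _ (M.map_mem H₀ hy)
  have hσr : ∀ y ∈ D₀, σ y ∉ M.ψ.range := fun y hy h => by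
    obtain ⟨w, hw, e⟩ := M.member_in_range H₀ hodd hD2 (hσD y hy) h
    exact hg (M.range_of_conj H₀ hy hw e.symm)
  have hp2 : t * b * (t * b) = 1 := by rw [hb.2.2.symm.mul_mul_mul_comm, sq₀ M.base, sq₀ hb.1, one_mul]
  set P := M.ψ (t * b) with hP
  have hP2 : P * P = 1 := by rw [hP, ← map_mul, hp2, map_one]
  -- the triple attached to a member outside
  have key : ∀ y ∈ D₀, ∃ e ∈ S, ∃ u a' b' : H, u ∈ D₀ ∧ a' ∈ D₀ ∧ b' ∈ D₀ ∧ u ≠ a' ∧ u ≠ b' ∧ a' ≠ b' ∧
      Commute u a' ∧ Commute u b' ∧ Commute a' b' ∧ y = u ∧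
      g * M.ψ (u * a' * b') * g⁻¹ = P * M.ψ e := by
    intro y hy
    set v := σ y with hv_def
    have hvD : v ∈ D := hσD y hy
    have hv2 := hD2 v hvD
    have hvr : v ∉ M.ψ.range := hσr y hy
    set n := orderOf (P * v)
    rcases Nat.even_or_odd n with ⟨k, hk⟩ | ⟨i, hi⟩
    swap
    · exfalso
      obtain ⟨-, c2, -, c4⟩ := isConj_dihedral hP2 hv2 i
      rw [← hi, pow_orderOf_eq_one, mul_one] at c4
      obtain ⟨x, hx⟩ := isConj_iff.1 c4.symm
      exact M.pair_notMem H₀ hodd hD2 M.base hb (hP ▸ hx ▸ M.conjD x v hvD)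
    set w := (P * v) ^ k
    have hn0 : 0 < n := orderOf_pos _
    have hw2 : w * w = 1 := by rw [← pow_add, ← hk, pow_orderOf_eq_one]
    have hw1 : w ≠ 1 := fun h => by
      have := Nat.le_of_dvd (by omega) (orderOf_dvd_of_pow_eq_one h)
      omega
    have hwi : w⁻¹ = w := inv_eq_of_mul_eq_one_right hw2
    obtain ⟨cP, cv⟩ := exists_central_word hP2 hv2 k
    rw [hwi] at cP cv
    change w * P = P * w at cP
    change w * v = v * w at cv
    have hwr : w ∈ M.ψ.range := M.pair_le H₀ hodd hD2 M.base hb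
      (Subgroup.mem_centralizer_singleton_iff.2 cP)
    have hwD : w ∉ D := fun h => by
      obtain ⟨u, hu, e⟩ := M.member_in_range H₀ hodd hD2 h hwr
      obtain ⟨w', -, e'⟩ := M.near' H₀ hu hvD (by rw [e]; exact cv)
      exact hvr ⟨w', e'⟩
    obtain ⟨w₀, ew₀⟩ := hwr
    rcases Nat.even_or_odd k with ⟨i, hi⟩ | ⟨i, hi⟩
    · exfalso
      obtain ⟨-, c2, -, -⟩ := isConj_dihedral hP2 hv2 i
      rw [show 2 * i = k by omega] at c2
      obtain ⟨x, hx⟩ := isConj_iff.1 c2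
      have hWD : v * w ∈ D := hx ▸ M.conjD x v hvD
      have hvy : g⁻¹ * v * g = M.ψ y := by rw [hv_def]; show g⁻¹ * (g * M.ψ y * g⁻¹) * g = _; group
      obtain ⟨y', hy', ey'⟩ := M.near' H₀ hy (x := g⁻¹ * (v * w) * g)
        (by simpa using M.conjD g⁻¹ _ hWD) (by
          rw [← hvy]
          show g⁻¹ * v * g * (g⁻¹ * (v * w) * g) = g⁻¹ * (v * w) * g * (g⁻¹ * v * g)
          calc g⁻¹ * v * g * (g⁻¹ * (v * w) * g) = g⁻¹ * (v * (v * w)) * g := by group
            _ = g⁻¹ * (v * (w * v)) * g := by rw [cv]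
            _ = _ := by group)
      have hyy : Commute y y' := M.inj (by
        rw [map_mul, map_mul, ey', ← hvy]
        calc g⁻¹ * v * g * (g⁻¹ * (v * w) * g) = g⁻¹ * (v * (v * w)) * g := by group
          _ = g⁻¹ * (v * (w * v)) * g := by rw [cv]
          _ = _ := by group)
      have ne : y' ≠ y := fun h => hw1 (by
        rw [h, ← hvy] at ey'
        exact mul_eq_left.mp (mul_left_cancel (mul_right_cancel ey')).symm)
      have hw_eq : w = g * M.ψ (y * y') * g⁻¹ := by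
        rw [map_mul, ey', ← hvy]
        calc w = v * v * w := by rw [hv2, one_mul]
          _ = _ := by group
      obtain ⟨u, hu, hcu⟩ := exists_fixed H₀ (w := w₀)
        (M.inj (by rw [map_mul, ew₀, hw2, map_one])) hodd
      have hcw : Commute w (M.ψ u) := by rw [← ew₀]; exact hcu.map M.ψ
      have hu' : g⁻¹ * M.ψ u * g ∈ M.ψ.range := by
        refine M.pair_le H₀ hodd hD2 hy ⟨hy', ne, hyy⟩ (Subgroup.mem_centralizer_singleton_iff.2 ?_)
        have e := hcw.eq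
        rw [hw_eq] at e
        calc g⁻¹ * M.ψ u * g * M.ψ (y * y') = g⁻¹ * (M.ψ u * (g * M.ψ (y * y') * g⁻¹)) * g := by group
          _ = g⁻¹ * (g * M.ψ (y * y') * g⁻¹ * M.ψ u) * g := by rw [e]
          _ = _ := by group
      obtain ⟨u', hu'', eu'⟩ := M.member_in_range H₀ hodd hD2
        (by simpa using M.conjD g⁻¹ _ (M.map_mem H₀ hu)) hu'
      exact hg (M.range_of_conj H₀ hu'' hu (by rw [eu']; group))
    obtain ⟨-, -, c3, c4⟩ := isConj_dihedral hP2 hv2 i
    rw [← hi] at c3 c4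
    obtain ⟨x, hx⟩ := isConj_iff.1 c3
    have hED : P * w ∈ D := hx ▸ M.conjD x v hvD
    have hPw : Commute P w := cP.symm
    obtain ⟨e, he, ee⟩ := M.member_in_range H₀ hodd hD2 hED
      (mul_mem ⟨_, rfl⟩ ⟨w₀, ew₀⟩)
    have hwe : w = P * M.ψ e := by rw [ee, ← mul_assoc, hP2, one_mul]
    have hec : Commute (t * b) e := M.inj (by
      rw [map_mul M.ψ (t * b), map_mul M.ψ e, ← hP, ee]
      exact ((Commute.refl P).mul_right hPw).eq)
    have het : e ≠ t := fun h => hwD (by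
      rw [hwe, h, hP, ← map_mul, mul_assoc, hb.2.2.symm.eq, ← mul_assoc, sq₀ M.base, one_mul]
      exact M.map_mem H₀ hb.1)
    have hect : Commute t e := by
      rcases H₀.perm_of_commute_mul M.base hb hec.symm with ⟨f1, -⟩ | ⟨f1, -⟩
      · exact (mul_inv_eq_iff_eq_mul.1 f1 : e * t = t * e).symm
      · by_contra hnc
        have hb3 := braid H₀.grp.1 he M.base (fun h => hnc h.symm)
        rw [inv_eq H₀.grp.1 he] at f1
        have hbt : Commute t (t * e * t) := by rw [← hb3, f1]; exact hb.2.2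
        apply hnc
        have := hbt.eq
        rw [← mul_assoc, ← mul_assoc, sq₀ M.base, one_mul, mul_assoc (t * e) t t, sq₀ M.base,
          mul_one] at this
        exact this.symm
    obtain ⟨x', hx'⟩ := isConj_iff.1 c4
    have hvx : Commute (x'⁻¹ * v * x') P := by
      rw [← commute_conj_iff x']
      rw [show x' * (x'⁻¹ * v * x') * x'⁻¹ = v by group, hx']
      exact (Commute.refl v).mul_right cv.symm
    obtain ⟨u, hu, eu⟩ := M.member_in_range H₀ hodd hD2 (by simpa using M.conjD x'⁻¹ v hvD)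
      (M.pair_le H₀ hodd hD2 M.base hb (Subgroup.mem_centralizer_singleton_iff.2 hvx))
    have hvu : v = x' * M.ψ u * x'⁻¹ := by rw [eu]; group
    have hcu : Commute u (t * b) := M.inj (by rw [map_mul M.ψ u, map_mul M.ψ (t * b), eu]; exact hvx.eq)
    have hwu : w = x' * M.ψ (u * t * b) * x'⁻¹ := by
      calc w = v * (v * w) := by rw [← mul_assoc, hv2, one_mul]
        _ = x' * M.ψ u * x'⁻¹ * (x' * P * x'⁻¹) := by rw [← hvu, hx']
        _ = _ := by rw [mul_assoc u, map_mul M.ψ u, hP]; group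
    have hut : u ≠ t := fun h => hwD (by
      rw [hwu, h, sq₀ M.base, one_mul]; exact M.conjD _ _ (M.map_mem H₀ hb.1))
    have hub : u ≠ b := fun h => hwD (by
      rw [hwu, h, hb.2.2.symm.eq, mul_assoc t b b, sq₀ hb.1, mul_one]
      exact M.conjD _ _ (M.map_mem H₀ M.base))
    have hucc : Commute u t ∧ Commute u b := by
      rcases H₀.perm_of_commute_mul M.base hb hcu with ⟨f1, f2⟩ | ⟨f1, -⟩
      · exact ⟨mul_inv_eq_iff_eq_mul.1 f1, mul_inv_eq_iff_eq_mul.1 f2⟩
      · exfalso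
        by_cases hct : Commute u t
        · rw [hct.eq, mul_inv_cancel_right] at f1
          exact hb.2.1 f1.symm
        · have hb3 := braid H₀.grp.1 hu M.base hct
          rw [inv_eq H₀.grp.1 hu] at f1
          have hbt : Commute t (t * u * t) := by rw [← hb3, f1]; exact hb.2.2
          apply hct
          have := hbt.eq
          rw [← mul_assoc, ← mul_assoc, sq₀ M.base, one_mul, mul_assoc (t * u) t t, sq₀ M.base,
            mul_one] at this
          exact this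
    obtain ⟨h₀, eh₀⟩ : g⁻¹ * x' ∈ M.ψ.range := M.range_of_conj H₀ hu hy (by
      calc g⁻¹ * x' * M.ψ u * (g⁻¹ * x')⁻¹ = g⁻¹ * (x' * M.ψ u * x'⁻¹) * g := by group
        _ = _ := by rw [← hvu, hv_def]; show g⁻¹ * (g * M.ψ y * g⁻¹) * g = _; group)
    have hyu : y = h₀ * u * h₀⁻¹ := M.inj (by
      rw [map_mul, map_mul, map_inv, eh₀]
      calc M.ψ y = g⁻¹ * v * g := by rw [hv_def]; show _ = g⁻¹ * (g * M.ψ y * g⁻¹) * g; group
        _ = _ := by rw [hvu]; group)
    have hne : ∀ {p q : H}, p ≠ q → h₀ * p * h₀⁻¹ ≠ h₀ * q * h₀⁻¹ := fun hpq h =>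
      hpq (mul_left_cancel (mul_right_cancel h))
    refine ⟨e, ⟨he, het, hect⟩, _, h₀ * t * h₀⁻¹, h₀ * b * h₀⁻¹, H₀.conj_mem h₀ hu, H₀.conj_mem h₀ M.base,
      H₀.conj_mem h₀ hb.1, hne hut, hne hub, hne hb.2.1.symm, (commute_conj_iff h₀).2 hucc.1,
      (commute_conj_iff h₀).2 hucc.2, (commute_conj_iff h₀).2 hb.2.2, hyu, ?_⟩
    rw [← hwe, hwu, show h₀ * u * h₀⁻¹ * (h₀ * t * h₀⁻¹) * (h₀ * b * h₀⁻¹) = h₀ * (u * t * b) * h₀⁻¹ by group]
    rw [map_mul M.ψ (h₀ * (u * t * b)), map_mul M.ψ h₀, map_inv, eh₀]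
    group
  choose E hE U A' B' hU hA' hB' n1 n2 n3 c1 c2 c3 hyU heq using key
  -- at most three members for each value
  haveI : Fintype ↥D₀ := Fintype.ofFinite _
  let f : ↥D₀ → H := fun y => E y y.2
  have hfib : ∀ e : H, (Finset.univ.filter fun y => f y = e).card ≤ 3 := by
    intro e
    by_cases hne : (Finset.univ.filter fun y => f y = e).Nonempty
    · obtain ⟨y, hy⟩ := hne
      rw [Finset.mem_filter] at hy
      refine (Finset.card_le_card_of_injOn (fun z : ↥D₀ => (z : H)) (t := {U y y.2, A' y y.2, B' y y.2})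
        (fun z hz => ?_) (fun _ _ _ _ h => Subtype.val_injective h)).trans Finset.card_le_three
      simp only [Finset.coe_filter, Finset.mem_univ, true_and, Set.mem_setOf_eq] at hz
      have e1 : U z z.2 * A' z z.2 * B' z z.2 = U y y.2 * A' y y.2 * B' y y.2 := M.inj (by
        have h1 := heq z z.2
        have h2 := heq y y.2
        rw [show E z z.2 = E y y.2 from hz.trans hy.2.symm, ← h2] at h1
        exact mul_left_cancel (mul_right_cancel h1))
      simp only [Finset.mem_coe, Finset.mem_insert, Finset.mem_singleton]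
      rw [show (z : H) = U z z.2 from hyU z z.2]
      exact mem_of_prod_three H₀.tr H₀.noTwin₂ H₀.noTwin₃ (hU z z.2) (hA' z z.2) (hB' z z.2) (hU y y.2)
        (hA' y y.2) (hB' y y.2) (n1 z z.2) (n2 z z.2) (n3 z z.2) (c1 z z.2) (c2 z z.2) (c3 z z.2)
        (n1 y y.2) (n2 y y.2) (n3 y y.2) (c1 y y.2) (c2 y y.2) (c3 y y.2) e1
    · rw [Finset.not_nonempty_iff_eq_empty.1 hne, Finset.card_empty]; omega
  have hSd : S = Dc D₀ t := rfl
  have h1 := Finset.card_le_mul_card_image (s := (Finset.univ : Finset ↥D₀)) (f := f) 3 fun e _ => hfib e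
  have h2 : (Finset.univ.image f).card ≤ (Dc D₀ t).ncard := by
    rw [← Set.ncard_coe_finset]
    refine Set.ncard_le_ncard (fun e he => ?_) (Set.toFinite _)
    simp only [Finset.coe_image, Set.mem_image, Finset.coe_univ, Set.mem_univ, true_and] at he
    obtain ⟨y, rfl⟩ := he
    exact hE y y.2
  rw [H₀.ncard_dc M.base] at h2
  rw [Finset.card_univ, ← Nat.card_eq_fintype_card, Nat.card_coe_set_eq, hcard] at h1
  omega

end Emb

end Cfsg.Agent.Transpos.M23Recog
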