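import Cfsg.Agent.Lib.Transpos.M23RecogHom
import Cfsg.Agent.Lib.Transpos.M23RecogOnto
import Cfsg.Agent.Lib.Transpos.M22DoubleTwentyThree
import Cfsg.Agent.Lib.Transpos.M22Present
import Cfsg.Agent.Lib.Presented.Fi23Lifts
import Cfsg.Agent.Lib.Presented.Fi23Type

/-!
# Recognition of Fi23 from the centraliser of a member

In the setting of a double cover of a group of type M(22) as the centraliser of `d`, the conjugates of `d`
in the centraliser are `d` and one class of lifts; hence charts exist at every conjugate of `d` and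
`exists_iso` gives an isomorphism from `Fi23` carrying its transpositions onto the conjugates of `d`.
-/

set_option autoImplicit false
set_option maxRecDepth 20000
set_option linter.style.haveILetI false

namespace Cfsg.Agent.Transpos.M23Recog

open Cfsg Cfsg.Spor Cfsg.Agent.Presented DoubleThompson Thompson DoubleThompson.Setting

variable {G Gb : Type*} [Group G] [Group Gb] [Finite G] [Finite Gb] {d : G}
variable {π : ↥(Cd d) →* Gb} {z : ↥(Cd d)} {E : Set Gb} {X : Set ↥(Cd d)}

/-- With 23 members in the orbit exactly the lifts in one class are conjugates of `d`. -/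
theorem exists_class (K : Setting π z E X) {B : Set Gb} (hB : IsBase E B)
    (h23 : (orb π B).ncard = 23) :
    ∃ X₁, Setting π z E X₁ ∧ (∀ x ∈ X₁, IsConj d (x : G)) ∧
      ∀ y ∈ gp π B, IsConj d (y : G) → y = z ∨ y ∈ X₁ := by
  classical
  obtain ⟨X₁, K₁, p, hp, hpo⟩ : ∃ X₁, Setting π z E X₁ ∧ ∃ p, p ∈ lifts π X₁ B ∧ (p : G) ∈ orb π B := by
    obtain ⟨p, hp, q, hq, r, hr, hne⟩ := K.exists_triple hB
    have hN := K.ncard_eq hB hp hq hr hne
    rw [h23] at hN
    by_cases h1 : (p : G) ∈ orb π B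
    · exact ⟨X, K, p, hp, h1⟩
    by_cases h2 : ((p * z : ↥(Cd d)) : G) ∈ orb π B
    · refine ⟨_, K.twist, p * z, ⟨?_, ?_⟩, h2⟩
      · show p * z * z ∈ X
        rw [K.zz hB]; exact hp.1
      · rw [map_mul, K.cover.map_z, mul_one]; exact hp.2
    · exfalso
      rw [if_neg h1, if_neg h2] at hN
      split_ifs at hN <;> omega
  obtain ⟨p', hp', q, hq, r, hr, hne⟩ := K₁.exists_triple hB
  have hN := K₁.ncard_eq hB hp' hq hr hne
  rw [h23] at hN
  have u1 : ∀ x ∈ lifts π X₁ B, ((x : G) ∈ orb π B ↔ (p' : G) ∈ orb π B) := fun x hx => by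
    simpa using K₁.one_uniform hB hx hp' (ε := 1) (Or.inl rfl)
  have hp'o : (p' : G) ∈ orb π B := (u1 p hp).1 hpo
  rw [if_pos hp'o] at hN
  have n1 : ((p' * z : ↥(Cd d)) : G) ∉ orb π B := fun h => by
    rw [if_pos h] at hN; omega
  rw [if_neg n1] at hN
  have n2 : ((p' * q * z : ↥(Cd d)) : G) ∉ orb π B := fun h => by
    rw [if_pos h] at hN; omega
  rw [if_neg n2] at hN
  have n3 : ((p' * q * r : ↥(Cd d)) : G) ∉ orb π B := fun h => by
    rw [if_pos h] at hN; omega
  rw [if_neg n3] at hN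
  have n4 : ((p' * q * r * z : ↥(Cd d)) : G) ∉ orb π B := fun h => by
    rw [if_pos h] at hN; omega
  refine ⟨X₁, K₁, fun x hx => ?_, fun y hy hyd => ?_⟩
  · have hxE := K₁.cover.X_mem x hx
    obtain ⟨g, hg⟩ := K₁.prim.1 (π p) (hB.1 hp.2) (π x) hxE
    obtain ⟨c, rfl⟩ := K₁.cover.surj g
    have e : c * p * c⁻¹ = x := K₁.cover.X_inj _ (K₁.cover.X_conj c p hp.1) _ hx
      (by rw [map_mul, map_mul, map_inv, hg])
    exact hpo.2.trans (isConj_iff.2 ⟨(c : G), by rw [← e]; simp⟩)
  · have hyo : (y : G) ∈ orb π B := mem_orb.2 ⟨hy, hyd⟩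
    obtain ⟨u, hu, hk⟩ := K₁.gp_cases hB hy
    rcases hk with rfl | hk | ⟨x, hx, w, hw, hd, rfl⟩ | ⟨x, hx, w, hw, v, hv, hd, rfl⟩
    · rcases hu with rfl | rfl
      · rw [Subgroup.coe_one] at hyo
        exact absurd hyo (K₁.one_notMem_orb hB)
      · exact Or.inl (one_mul z)
    · rcases hu with rfl | rfl
      · exact Or.inr hk.1
      · exact absurd ((K₁.one_uniform hB hk hp' (ε := z) (Or.inr rfl)).1 hyo) n1
    · exfalso
      rcases hu with rfl | rfl
      · exact K₁.pair_notMem hB hx hw hyo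
      · exact n2 ((K₁.two_uniform hB hx hw hp' hq hd hne.1 (Or.inr rfl)).1 hyo)
    · exfalso
      rcases hu with rfl | rfl
      · have h := (K₁.three_uniform hB hx hw hv hp' hq hr hd hne (ε := 1) (Or.inl rfl)).1
        rw [mul_one, mul_one] at h
        exact n3 (h hyo)
      · exact n4 ((K₁.three_uniform hB hx hw hv hp' hq hr hd hne (ε := z) (Or.inr rfl)).1 hyo)

/-- Every conjugate of `d` commuting with it can be moved into a given base group. -/
theorem exists_conj_gp (K : Setting π z E X) {B : Set Gb} (hB : IsBase E B) {x : ↥(Cd d)}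
    (hx : x * x = 1) : ∃ c : ↥(Cd d), c * x * c⁻¹ ∈ gp π B := by
  obtain ⟨-, -, hfull⟩ := m22_of_primitive K.grp K.prim K.type22
  obtain ⟨l, -, -, hlD, hlc, hl⟩ := hfull.short (π x) (by rw [← map_mul, hx, map_one])
  obtain ⟨B', hB', hlB'⟩ := exists_base_above K.grp K.prim K.type22 (T := {s | s ∈ l}) hlD hlc
  obtain ⟨k, -, hk⟩ := exists_conj_fix K.grp K.prim K.type22 hB' hB (T := ∅)
    (Set.empty_subset _) (Set.empty_subset _)
  obtain ⟨c, rfl⟩ := K.cover.surj k
  refine ⟨c, ?_⟩
  rw [mem_gp, map_mul, map_mul, map_inv, ← hk, ← hl]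
  have : MulAut.conj (π c) l.prod ∈ (Subgroup.closure B').map (MulAut.conj (π c)).toMonoidHom :=
    Subgroup.mem_map_of_mem _ (Subgroup.list_prod_mem _ fun s hs => Subgroup.subset_closure (hlB' hs))
  rw [MonoidHom.map_closure] at this
  exact this

/-- Recognition of `Fi23`. -/
theorem exists_iso (K : Setting π z E X)
    (hnwc : ∃ g : G, g * d * g⁻¹ ∈ Cd d ∧ g * d * g⁻¹ ≠ d) :
    ∃ e : Fi23 ≃* G, e '' conjugatesOf Fi23Transp.t = conjugatesOf d ∧
      IsOfTypeM22 Fi22 (conjugatesOf (FiIndex.gen 0)) := by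
  classical
  obtain ⟨S⟩ := (inferInstance : Nonempty (Sylow 2 ↥(Cd d)))
  obtain ⟨B, hB, hBS, huniq⟩ := K.sylow S
  have htr : ∀ y ∈ orb π B, ∃ n ∈ Subgroup.normalizer (amb π B : Set G), n * d * n⁻¹ = y :=
    fun y hy => K.trans S hB huniq hy.1 hy.2
  have h23 := K.twenty_three hB htr (K.exists_other hB hnwc)
  obtain ⟨X₁, K₁, hX₁, hmemB⟩ := exists_class K hB h23
  -- the conjugates of `d` in the centraliser
  have hmem : ∀ y : ↥(Cd d), IsConj d (y : G) ↔ y = z ∨ y ∈ X₁ := by
    refine fun y => ⟨fun hy => ?_, ?_⟩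
    · have hdd : d * d = 1 := by rw [← K.z_val, ← Subgroup.coe_mul, K.cover.sq, Subgroup.coe_one]
      have hyy : y * y = 1 := Subtype.ext (by
        obtain ⟨g, hg⟩ := isConj_iff.1 hy
        show (y : G) * y = 1
        rw [← hg, show g * d * g⁻¹ * (g * d * g⁻¹) = g * (d * d) * g⁻¹ by group, hdd]
        group)
      obtain ⟨c, hc⟩ := exists_conj_gp K hB hyy
      have hcd : IsConj d ((c * y * c⁻¹ : ↥(Cd d)) : G) :=
        hy.trans (isConj_iff.2 ⟨(c : G), by simp⟩)
      have hy' : y = c⁻¹ * (c * y * c⁻¹) * c⁻¹⁻¹ := by group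
      rcases hmemB _ hc hcd with h | h
      · left
        rw [hy', h, mul_assoc, (K.cover.central _).eq, inv_inv, inv_mul_cancel_left]
      · right
        rw [hy']
        exact K₁.cover.X_conj _ _ h
    · rintro (rfl | h)
      · rw [K.z_val]
      · exact hX₁ y h
  -- the isomorphism with `Fi22` and with the double cover
  obtain ⟨e₂₂, he₂₂⟩ := exists_fi22_iso K.grp K.prim K.type22
  have h22 : IsOfTypeM22 Fi22 (conjugatesOf (FiIndex.gen 0)) := by
    have h := TypeTransfer.m22 e₂₂.symm K.type22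
    rwa [← he₂₂, ← Set.image_comp, show ⇑e₂₂.symm ∘ ⇑e₂₂ = id from funext e₂₂.symm_apply_apply,
      Set.image_id] at h
  obtain ⟨p, hp, -⟩ := K₁.exists_triple hB
  let π' : ↥(Cd d) →* Fi22 := e₂₂.symm.toMonoidHom.comp π
  have hπ' : Function.Surjective π' := e₂₂.symm.surjective.comp K.cover.surj
  have hker : ∀ x, π' x = 1 ↔ x = 1 ∨ x = z := fun x => by
    show e₂₂.symm (π x) = 1 ↔ _
    rw [MulEquiv.map_eq_one_iff]
    exact ⟨K.cover.ker x, by rintro (rfl | rfl); exacts [map_one π, K.cover.map_z]⟩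
  have hap : IsConj (FiIndex.gen 0) (π' p) := by
    have hm : π p ∈ e₂₂ '' conjugatesOf (FiIndex.gen 0) := by rw [he₂₂]; exact hB.1 hp.2
    obtain ⟨w, hw, hwe⟩ := hm
    show IsConj (FiIndex.gen 0) (e₂₂.symm (π p))
    rw [← hwe, MulEquiv.symm_apply_apply]
    exact hw
  obtain ⟨Ψ, hΨz, hΨ0⟩ :=
    Fi23Lifts.exists_cover_iso π' hπ' K.cover.ne hker K.cover.central K.perfect hap
  have h0 : ((Fi23Lifts.sI 0 : Fi23Index.hSub) : Fi23) = Fi23Index.gen 0 := by
    show ((Fi23Cover.sH 0 : Fi23Index.hSub) : Fi23) = _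
    exact Fi23Cover.coe_sH (by decide)
  let c : Chart (conjugatesOf d) d :=
    { f := (Cd d).subtype.comp Ψ.toMonoidHom
      inj := Subtype.val_injective.comp Ψ.injective
      range_eq := by
        rw [MonoidHom.range_comp, MonoidHom.range_eq_top.2 Ψ.surjective, ← MonoidHom.range_eq_map,
          Subgroup.range_subtype]
      map_z := by
        show ((Ψ Fi23Cover.z : ↥(Cd d)) : G) = d
        rw [hΨz, K.z_val]
      mem := fun y => by
        show IsConj d ((Ψ y : ↥(Cd d)) : G) ↔ _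
        rw [hmem]
        constructor
        · rintro (h | h)
          · rw [← hΨz] at h
            rw [Ψ.injective h, coe_zc]
            exact mem_conjugatesOf_self
          · obtain ⟨g, hg⟩ := K₁.prim.1 _ (hB.1 hp.2) _ (K₁.cover.X_mem _ h)
            obtain ⟨a, rfl⟩ := K₁.cover.surj g
            have e : a * p * a⁻¹ = Ψ y := K₁.cover.X_inj _ (K₁.cover.X_conj a p hp.1) _ h
              (by rw [map_mul, map_mul, map_inv, hg])
            obtain ⟨b, hb⟩ := isConj_iff.1 hΨ0
            obtain ⟨a', rfl⟩ := Ψ.surjective a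
            obtain ⟨b', rfl⟩ := Ψ.surjective b
            rw [← hb, ← map_inv, ← map_mul, ← map_inv, ← map_mul, ← map_mul, ← map_mul] at e
            rw [← Ψ.injective e]
            simp only [Subgroup.coe_mul, Subgroup.coe_inv, h0]
            exact conj_mem_class _ (conj_mem_class _ (Fi23Pts.gen_mem_class (by norm_num)))
        · intro hy
          by_cases hyt : (y : Fi23) = Fi23Transp.t
          · left
            rw [show y = Fi23Cover.z from Subtype.ext (hyt.trans coe_zc.symm), hΨz]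
          have hct : Commute Fi23Transp.t (y : Fi23) := by
            have := Subgroup.mem_centralizer_singleton_iff.1
              (by rw [Fi23Transp.centralizer_eq]; exact y.2 : (y : Fi23) ∈ _)
            exact this.symm
          obtain ⟨h, hh, e⟩ := Fi23Pts.exists_conj_gen0 hy hyt hct
          right
          obtain ⟨b, hb⟩ := isConj_iff.1 hΨ0.symm
          have ey : Fi23Lifts.sI 0 = (⟨h, hh⟩ : Fi23Index.hSub)⁻¹ * y * (⟨h, hh⟩ : Fi23Index.hSub) := by
            apply Subtype.ext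
            simp only [Subgroup.coe_mul, Subgroup.coe_inv, h0, ← e]
            group
          have ey' : y = (⟨h, hh⟩ : Fi23Index.hSub) * Fi23Lifts.sI 0 * (⟨h, hh⟩ : Fi23Index.hSub)⁻¹ := by
            rw [ey]; group
          rw [ey', map_mul, map_mul, map_inv, ← hb]
          exact K₁.cover.X_conj _ _ (K₁.cover.X_conj _ _ hp.1) }
  have hconj : ∀ (g x : G), g * x * g⁻¹ ∈ conjugatesOf d ↔ x ∈ conjugatesOf d := fun g x =>
    ⟨fun h => (h : IsConj d _).trans (isConj_iff.2 ⟨g⁻¹, by group⟩),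
      fun h => (h : IsConj d _).trans (isConj_iff.2 ⟨g, rfl⟩)⟩
  have hch : ∀ x ∈ conjugatesOf d, Nonempty (Chart (conjugatesOf d) x) := fun x hx => by
    obtain ⟨g, rfl⟩ := isConj_iff.1 (hx : IsConj d x)
    exact ⟨c.conj g (hconj g)⟩
  have hsq : ∀ x ∈ conjugatesOf d, x * x = 1 := fun x hx => by
    obtain ⟨g, rfl⟩ := isConj_iff.1 (hx : IsConj d x)
    rw [show g * d * g⁻¹ * (g * d * g⁻¹) = g * (d * d) * g⁻¹ by group, ← K.z_val, ← Subgroup.coe_mul,
      K.cover.sq, Subgroup.coe_one]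
    group
  obtain ⟨ψ, hψ, hsub, -⟩ := exists_hom hsq c hch
  haveI := Fi23Order.card_le.1
  have hψt : ψ Fi23Transp.t = d := by rw [← coe_zc, hsub, c.map_z]
  let M : Emb (conjugatesOf Fi23Transp.t) (conjugatesOf d) Fi23Transp.t d :=
    { ψ := ψ
      inj := hψ
      base := mem_conjugatesOf_self
      map_t := hψt
      cent := by
        rw [← c.range_eq]
        rintro _ ⟨y, rfl⟩
        exact ⟨y, hsub y⟩
      conjD := fun g x hx => (hconj g x).2 hx
      trans := fun x hx => isConj_iff.1 hx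
      mem_d := mem_conjugatesOf_self
      near := fun x hx hc => by
        obtain ⟨y, hy, hym⟩ := c.exists_member hx hc
        exact ⟨y, hym, (hsub y).trans hy⟩ }
  have H₀ : M23 (conjugatesOf Fi23Transp.t) :=
    M23.of_group (three_group_of_class Fi23Transp.threeTransp) (Fi23Type.type23_of_type22 h22)
  have hsurj := M.surjective H₀ Fi23Type.primitive
  let e : Fi23 ≃* G := MulEquiv.ofBijective ψ ⟨hψ, hsurj⟩
  refine ⟨e, ?_, h22⟩
  rw [TypeTransfer.image_conjugatesOf]
  exact congrArg conjugatesOf hψt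

end Cfsg.Agent.Transpos.M23Recog
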