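import Cfsg.Agent.S5453
import Cfsg.Agent.Lib.Transpos.M23RecogMain

/-!
# Recognition of Fi23 from a quasisimple transposition centraliser

`exists_fi23_iso`: an involution whose centraliser is a quasisimple double cover of a group of type M(22)
with a member centraliser as prescribed, and which is not weakly closed there, comes from an isomorphism
with the presented Fi23 taking its transposition class onto the conjugates of the involution.
-/

set_option autoImplicit false

namespace Cfsg.Agent.Transpos.M23Recog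

open Cfsg Cfsg.Agent.Presented

/-- The isomorphism with Fi23. -/
theorem exists_fi23_iso {G : Type*} [Group G] [Finite G] (d : G) (hd : orderOf d = 2) (hq : Cfsg.IsQuasisimple (Subgroup.centralizer ({d} : Set G))) [((Subgroup.zpowers d).subgroupOf (Subgroup.centralizer ({d} : Set G))).Normal] (htype : ∃ E : Set ((Subgroup.centralizer ({d} : Set G)) ⧸ (Subgroup.zpowers d).subgroupOf (Subgroup.centralizer ({d} : Set G))), Cfsg.IsThreeTranspositionClass E ∧ Cfsg.IsOfTypeM22 _ E) (hinvol : ∃ d' : (Subgroup.centralizer ({d} : Set G)) ⧸ (Subgroup.zpowers d).subgroupOf (Subgroup.centralizer ({d} : Set G)), orderOf d' = 2 ∧ Cfsg.IsQuasisimple (Subgroup.centralizer ({d'} : Set _)) ∧ (∃ (K : Type) (_ : Field K) (_ : Fintype K), Fintype.card K = 4 ∧ ∃ _ : ((Subgroup.zpowers d').subgroupOf (Subgroup.centralizer ({d'} : Set _))).Normal, Nonempty ((Subgroup.centralizer ({d'} : Set _)) ⧸ (Subgroup.zpowers d').subgroupOf (Subgroup.centralizer ({d'} : Set _)) ≃* Cfsg.PSU 6 K 2)) ∧ ∃ g, g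 * d' * g⁻¹ ∈ Subgroup.centralizer ({d'} : Set _) ∧ g * d' * g⁻¹ ≠ d') (hnwc : ∃ g : G, g * d * g⁻¹ ∈ Subgroup.centralizer ({d} : Set G) ∧ g * d * g⁻¹ ≠ d) :
    ∃ e : Cfsg.Spor.Fi23 ≃* G, e '' conjugatesOf Fi23Transp.t = conjugatesOf d ∧
      Cfsg.IsOfTypeM22 Cfsg.Spor.Fi22 (conjugatesOf (FiIndex.gen 0)) := by
  classical
  have h53 := Cfsg.Agent.S5453.result d hd hq htype hinvol hnwc
  let Z := (Subgroup.zpowers d).subgroupOf (DoubleThompson.Cd d)
  obtain ⟨E, hE, hE22⟩ := htype
  obtain ⟨d', hd', hq', ⟨K, iK, iKf, hK, hn', hiso⟩, -⟩ := hinvol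
  have hd2 : d * d = 1 := by
    have := pow_orderOf_eq_one d; rwa [hd, pow_two] at this
  have hdC : d ∈ DoubleThompson.Cd d := Subgroup.mem_centralizer_singleton_iff.2 rfl
  let z : ↥(DoubleThompson.Cd d) := ⟨d, hdC⟩
  have hzc : ∀ x : ↥(DoubleThompson.Cd d), Commute z x := fun x => Subtype.ext
    (Subgroup.mem_centralizer_singleton_iff.1 x.2).symm
  have hz : z * z = 1 := Subtype.ext hd2
  let π : ↥(DoubleThompson.Cd d) →* ↥(DoubleThompson.Cd d) ⧸ Z := QuotientGroup.mk' Z
  have hπ : Function.Surjective π := QuotientGroup.mk'_surjective Z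
  have hπz : π z = 1 :=
    (QuotientGroup.eq_one_iff z).2 (Subgroup.mem_subgroupOf.2 (Subgroup.mem_zpowers d))
  have hker : ∀ x : ↥(DoubleThompson.Cd d), π x = 1 → x = 1 ∨ x = z := fun x hx => by
    obtain ⟨n, hn⟩ := Subgroup.mem_subgroupOf.1 ((QuotientGroup.eq_one_iff x).1 hx)
    obtain ⟨k, hk⟩ := Int.even_or_odd' n
    have hd2' : d ^ (2 : ℤ) = 1 := by rw [zpow_two]; exact hd2
    rcases hk with rfl | rfl
    · exact Or.inl (Subtype.ext (by rw [← hn]; simp [zpow_mul, hd2']))
    · exact Or.inr (Subtype.ext (by rw [← hn]; simp [zpow_add, zpow_mul, hd2', z]))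
  have hcentral : ∀ x : ↥(DoubleThompson.Cd d), π x = 1 → (∀ y, Commute x y) ∧ x * x = 1 := fun x hx => by
    rcases hker x hx with rfl | rfl
    exacts [⟨fun y => Commute.one_left y, one_mul 1⟩, ⟨hzc, hz⟩]
  have hcen : Subgroup.center ↥(DoubleThompson.Cd d) = Z := by
    refine le_antisymm (fun x hx => (QuotientGroup.eq_one_iff x).1 ?_) fun x hx =>
      Subgroup.mem_center_iff.2 fun y => ((hcentral x ((QuotientGroup.eq_one_iff x).2 hx)).1 y).eq.symm
    have : π x ∈ Subgroup.center (↥(DoubleThompson.Cd d) ⧸ Z) := Subgroup.mem_center_iff.2 fun q => by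
      obtain ⟨y, rfl⟩ := hπ q
      rw [← map_mul, ← map_mul, Subgroup.mem_center_iff.1 hx y]
    rwa [hE22.1, Subgroup.mem_bot] at this
  haveI : IsSimpleGroup (↥(DoubleThompson.Cd d) ⧸ Z) := by
    haveI := hq.2
    exact MulEquiv.isSimpleGroup (QuotientGroup.quotientMulEquivOfEq hcen).symm
  haveI : Nonempty E := ⟨⟨hE.2.1.choose, hE.2.1.choose_spec.1⟩⟩
  have H := M22.of_type (three_group_of_class hE) hE22 (conn_of_simple hE hE22)
  have hfull := H.full (d := d') ⟨hd', hq', hn', K, iK, iKf, hK, hiso⟩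
  -- one class of lifts
  have hsq : ∀ x : ↥(DoubleThompson.Cd d), π x ∈ E → x * x = 1 := fun x hx =>
    CoverLift.lift_sq hcentral H hfull hπ hx
  have hcomm : ∀ x y : ↥(DoubleThompson.Cd d), π x ∈ E → Commute (π y) (π x) → Commute y x := fun x y hx hy =>
    CoverLift.lift_commute hcentral hπ (hfull.perfect _ hx) hy
  obtain ⟨a₀, ha₀⟩ := ‹Nonempty E›
  obtain ⟨x₀, rfl⟩ := hπ a₀
  let X : Set ↥(DoubleThompson.Cd d) := {x | IsConj x₀ x}
  have hXm : ∀ x ∈ X, π x ∈ E := fun x hx => by
    obtain ⟨c, rfl⟩ := isConj_iff.1 (hx : IsConj x₀ x)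
    rw [map_mul, map_mul, map_inv]
    exact H.conj_mem (π c) ha₀
  have hinj : ∀ x ∈ X, ∀ y ∈ X, π x = π y → x = y := fun x hx y hy e => by
    obtain ⟨c, rfl⟩ := isConj_iff.1 ((hx : IsConj x₀ x).symm.trans (hy : IsConj x₀ y))
    have h : Commute c x := hcomm x c (hXm x hx) (mul_inv_eq_iff_eq_mul.1 (by
      rw [← map_inv, ← map_mul, ← map_mul, ← e]))
    rw [h.eq, mul_inv_cancel_right]
  have cov : CoverSplit.Cover π z E X :=
    { surj := hπ
      ne := fun h => by
        have h1 : d = 1 := congrArg Subtype.val h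
        rw [h1, orderOf_one] at hd
        norm_num at hd
      sq := hz
      central := hzc
      ker := hker
      map_z := hπz
      X_conj := fun c x hx => (hx : IsConj x₀ x).trans (isConj_iff.2 ⟨c, rfl⟩)
      X_mem := hXm
      X_lift := fun a ha => by
        obtain ⟨q, rfl⟩ := H.trans _ ha₀ a ha
        obtain ⟨c, rfl⟩ := hπ q
        exact ⟨c * x₀ * c⁻¹, isConj_iff.2 ⟨c, rfl⟩, by rw [map_mul, map_mul, map_inv]⟩
      X_inj := hinj }
  have St : DoubleThompson.Setting π z E X :=
    { grp := three_group_of_class hE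
      prim := H.primitive
      type22 := hE22
      cover := cov
      z_val := rfl
      commute := hcomm
      sq := hsq
      not_square := h53.2
      perfect := hq.1.commutator_eq_top }
  exact exists_iso St hnwc

end Cfsg.Agent.Transpos.M23Recog
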