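import Cfsg.Agent.Lib.Transpos.M22Quasi

/-!
# The 3-transpositions of type M(22) form one class

A product of two or three commuting members has a conjugate with product of order at least four
(`M22.bad_two`, `M22.bad_three`).
-/

set_option autoImplicit false

namespace Cfsg.Agent.Transpos

open Cfsg Cfsg.Agent.ClassicalSimple

variable {G : Type*} [Group G] {D : Set G}

/-- For a path `p - r - q` the product `p q r` has order 4; times a commuting involution, neither
square nor cube is trivial. -/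
theorem path_order (hE : Tr D) {p q r s : G} (hp : p ∈ D) (hq : q ∈ D) (hr : r ∈ D) (hs : s ∈ D)
    (hpq : p ≠ q) (cpq : Commute p q) (hpr : ¬ Commute p r) (hqr : ¬ Commute q r)
    (csp : Commute s p) (csq : Commute s q) (csr : Commute s r) :
    (p * q * r * s) ^ 2 ≠ 1 ∧ (p * q * r * s) ^ 3 ≠ 1 := by
  have h2 := sq_one hE.set hp
  have k2 := sq_one hE.set hq
  have r2 := sq_one hE.set hr
  have s2 := sq_one hE.set hs
  have bp := braid hE.set hp hr hpr
  have bq := braid hE.set hq hr hqr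
  have cX : Commute (p * q * r) s := ((csp.mul_right csq).mul_right csr).symm
  have hsq : (p * q * r) ^ 2 = p * q * (r * (p * q) * r) := by
    rw [pow_two]; simp only [mul_assoc]
  have hne : (p * q * r) ^ 2 ≠ 1 := fun h => by
    rw [hsq] at h
    have h1 : r * (p * q) * r = p * q := by
      rw [eq_inv_of_mul_eq_one_right h, mul_inv_rev, inv_eq hE.set hp, inv_eq hE.set hq, cpq.eq]
    exact hpr (commute_both hE.set hp hq hr hpq cpq (commute_of_conj hE.set hr h1)).1.symm
  have h4 : (p * q * r) ^ 4 = 1 := by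
    have e1 : p * q * (r * p * r) * (q * p) = r * q * r := by
      rw [← bp, ← bq]
      calc p * q * (p * r * p) * (q * p) = (p * q) * p * r * (p * (q * p)) := by simp only [mul_assoc]
        _ = q * r * q := by
          rw [← cpq.eq, mul_mul_cancel hE.set hp, cpq.eq, mul_assoc q p p, h2, mul_one]
    have e2 : p * q * (r * q * r) * (q * p) = r * p * r := by
      rw [← bp, ← bq]
      calc p * q * (q * r * q) * (q * p) = p * (q * q) * r * ((q * q) * p) := by simp only [mul_assoc]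
        _ = p * r * p := by rw [k2, mul_one, one_mul]
    have hA : r * (p * q) * r = (r * p * r) * (r * q * r) := by
      simp only [mul_assoc, mul_mul_cancel hE.set hr]
    have cA : Commute (r * p * r) (r * q * r) := (Fischer.commute_invol_conj r2).2 cpq
    have hqp : q * p * (p * q) = 1 := by
      rw [mul_assoc, mul_mul_cancel hE.set hp, k2]
    have hc : Commute (p * q) (r * (p * q) * r) := by
      have h : p * q * (r * (p * q) * r) * (q * p) = r * (p * q) * r := by
        calc p * q * (r * (p * q) * r) * (q * p)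
            = p * q * ((r * p * r) * ((q * p) * (p * q)) * (r * q * r)) * (q * p) := by
              rw [hqp, mul_one, hA]
          _ = (p * q * (r * p * r) * (q * p)) * (p * q * (r * q * r) * (q * p)) := by
              simp only [mul_assoc]
          _ = r * (p * q) * r := by rw [e1, e2, hA, cA.eq]
      show _ = _
      calc p * q * (r * (p * q) * r)
          = p * q * (r * (p * q) * r) * ((q * p) * (p * q)) := by rw [hqp, mul_one]
        _ = r * (p * q) * r * (p * q) := by rw [← mul_assoc, h]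
    have hpq2 : (p * q) ^ 2 = 1 := by rw [cpq.mul_pow, pow_two, pow_two, h2, k2, one_mul]
    have hA2 : (r * (p * q) * r) ^ 2 = 1 := by
      rw [hA, cA.mul_pow, pow_two, pow_two, conj_sq r2 h2, conj_sq r2 k2, one_mul]
    rw [show (4 : ℕ) = 2 * 2 from rfl, pow_mul, hsq, hc.mul_pow, hpq2, hA2, one_mul]
  refine ⟨fun h => hne ?_, fun h => hne ?_⟩
  · rwa [cX.mul_pow, pow_two s, s2, mul_one] at h
  · rw [cX.mul_pow, show s ^ 3 = s by rw [pow_succ, pow_two, s2, one_mul]] at h
    have h6 : (p * q * r) ^ 6 = 1 := by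
      rw [show (6 : ℕ) = 3 * 2 from rfl, pow_mul, eq_inv_of_mul_eq_one_left h, inv_pow, pow_two, s2,
        inv_one]
    rwa [show (6 : ℕ) = 4 + 2 from rfl, pow_add, h4, one_mul] at h6
where
  conj_sq {r x : G} (hr : r * r = 1) (hx : x * x = 1) : r * x * r * (r * x * r) = 1 := by
    rw [show r * x * r * (r * x * r) = r * x * (r * r) * x * r by simp only [mul_assoc], hr, mul_one,
      mul_assoc r x x, hx, mul_one, hr]

namespace M22

variable (H : M22 D)
include H

/-- Two commuting members have a conjugate pair completing a path. -/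
theorem exists_path {p q c : G} (hc : c ∈ D) (hp : p ∈ Dc D c) (hq : q ∈ Dc D c) (hpq : p ≠ q)
    (cpq : Commute p q) : ∃ r s g : G, r ∈ Dc D c ∧ s ∈ Dc D c ∧ ¬ Commute p r ∧ ¬ Commute q r ∧
      Commute s p ∧ Commute s q ∧ Commute s r ∧
      g * p * g⁻¹ = s ∧ g * q * g⁻¹ = r ∧ g * c * g⁻¹ = c := by
  obtain ⟨M⟩ := (H.model c hc).2
  obtain ⟨u, hu⟩ := M.exists_vec H hc hp
  obtain ⟨w, hw⟩ := M.exists_vec H hc hq
  have huw : M.h u w = 0 := (M.comm_iff H hc hu hw).1 cpq
  have hwu := M.c.form.comm_zero huw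
  have hwm : ∀ m : M.F, w ≠ m • u := Model.ne_of_ne M H hc hu hw hpq
  obtain ⟨x, hx, hux, hwx⟩ := unitary_exists_nonorth M.c.form hu.ne_zero hw.ne_zero hu.iso hw.iso
  have hxu : M.h x u ≠ 0 := fun h => hux (M.c.form.comm_zero h)
  have hxw : M.h x w ≠ 0 := fun h => hwx (M.c.form.comm_zero h)
  obtain ⟨r, hr⟩ := M.exists_mem H hc hx fun e => hux (by rw [e, map_zero])
  set l := -((M.h x w)⁻¹ * M.h x u)
  have hl : l ≠ 0 := neg_ne_zero.2 (mul_ne_zero (inv_ne_zero hxw) hxu)
  set v := u + l • w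
  have hv : M.h v v = 0 := by simp [v, hu.iso, hw.iso, huw, hwu]
  have hind : ∀ m n : M.F, m • u + n • w = 0 → m = 0 := fun m n e => by
    by_cases hn : n = 0
    · rw [hn, zero_smul, add_zero] at e
      exact (smul_eq_zero.1 e).resolve_right hu.ne_zero
    · exact absurd (show w = (-(n⁻¹ * m)) • u by
        rw [← inv_smul_smul₀ hn w, eq_neg_of_add_eq_zero_right e, smul_neg, smul_smul, neg_smul])
        (hwm _)
  have hv0 : v ≠ 0 := fun e => one_ne_zero (hind 1 l (by rw [one_smul]; exact e))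
  obtain ⟨s, hs⟩ := M.exists_mem H hc hv hv0
  obtain ⟨z, hz, huz, hwz, hzm⟩ := U6.exists_third M.c hu.iso hw.iso huw
  obtain ⟨g₁, g₁u, g₁w⟩ := U6.exists_move M.c hu.iso hz huz huw (M.c.form.comm_zero hwz) hzm
    fun m n e => by
      by_cases hn : n = 0
      · exact one_ne_zero (hind 1 (-m) (by rw [e, hn]; module))
      · refine hzm (-(n⁻¹ * m)) n⁻¹ ?_
        rw [e]; rw [smul_add, smul_smul, smul_smul, inv_mul_cancel₀ hn, one_smul]; module
  have hzv : M.h z v = 0 := by simp [v, M.c.form.comm_zero huz, M.c.form.comm_zero hwz]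
  obtain ⟨g₂, g₂z, g₂w⟩ := U6.exists_move M.c hz hv hzv (M.c.form.comm_zero hwz)
    (by simp [v, huw, hw.iso])
    (fun m n e => by
      by_cases hn : n = 0
      · exact one_ne_zero (hind 1 (l - m) (by
          rw [hn, zero_smul, add_zero] at e
          rw [← sub_eq_zero.2 e]; simp only [v]; module))
      · refine hzm (n⁻¹ * (l - m)) n⁻¹ ?_
        rw [← inv_smul_smul₀ hn z, eq_sub_of_add_eq' e.symm]
        simp only [v]; module)
    (fun m n e => hzm (m + n * l) n (by rw [e]; simp only [v]; module))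
  obtain ⟨y, hy⟩ := M.surj (QuotientGroup.mk (g₂ * g₁))
  have hyc : (y : G) * c * (y : G)⁻¹ = c := by
    have hle : Subgroup.closure (Dc D c) ≤ Subgroup.centralizer ({c} : Set G) :=
      (Subgroup.closure_le _).2 fun x hx => Subgroup.mem_centralizer_singleton_iff.2 hx.2.2.eq.symm
    rw [Subgroup.mem_centralizer_singleton_iff.1 (hle y.2), mul_inv_cancel_right]
  have hconj : ∀ {t : G} {a : Fin 6 → M.F}, M.IsPt t a →
      M.IsPt ((y : G) * t * (y : G)⁻¹) ((g₂ * g₁) • a) := by
    rintro t a ⟨ht, ha, ha0, e⟩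
    refine ⟨Model.conj_mem M H hc y ht, by rw [U6.isom M.c, ha], fun h0 => ha0 ?_, ?_⟩
    · rw [← inv_smul_smul (g₂ * g₁) a, h0]
      exact (((g₂ * g₁)⁻¹ : SUH M.h) : UH M.h).1.map_zero
    · have h1 := U6.tv_conj M.c (g₂ * g₁) ha
      generalize g₂ * g₁ = k at hy h1 ⊢
      refine Eq.trans ?_ (congrArg (QuotientGroup.mk' (Subgroup.center (SUH M.h))) h1)
      rw [map_mul, map_mul, map_inv, show QuotientGroup.mk' _ k = M.ψ y from hy.symm]
      change _ = M.ψ y * U6.pt M.c a ha * (M.ψ y)⁻¹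
      rw [← e, ← map_inv, ← map_mul, ← map_mul]
      rfl
  have hyp : (y : G) * p * (y : G)⁻¹ = s :=
    (Model.eq_of_smul M H hc (hconj hu) hs (m := 1) (by rw [one_smul, mul_smul, g₁u, g₂z]))
  have hyq : (y : G) * q * (y : G)⁻¹ = q :=
    (Model.eq_of_smul M H hc (hconj hw) hw (m := 1) (by rw [one_smul, mul_smul, g₁w, g₂w]))
  have hqr : ¬ Commute q r := fun h => hwx ((M.comm_iff H hc hw hr).1 h)
  have csq : Commute s q := (M.comm_iff H hc hs hw).2 (by simp [v, huw, hw.iso])
  have csr : Commute s r := (M.comm_iff H hc hs hr).2 (M.c.form.comm_zero (by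
    simp only [v, l, map_add, map_smul, smul_eq_mul]
    rw [neg_mul, mul_comm (M.h x w)⁻¹, mul_assoc, inv_mul_cancel₀ hxw, mul_one, add_neg_cancel]))
  have csp : Commute s p := (M.comm_iff H hc hs hu).2 (by simp [v, hu.iso, hwu])
  refine ⟨r, s, q * r * y, hr.mem, hs.mem, fun h => hux ((M.comm_iff H hc hu hr).1 h), hqr, csp, csq,
    csr, ?_, ?_, ?_⟩
  · rw [show q * r * (y : G) * p * (q * r * (y : G))⁻¹ = q * r * ((y : G) * p * (y : G)⁻¹) * (q * r)⁻¹ by
      group, hyp, mul_inv_eq_iff_eq_mul]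
    exact (csq.mul_right csr).symm.eq
  · rw [show q * r * (y : G) * q * (q * r * (y : G))⁻¹ = q * r * ((y : G) * q * (y : G)⁻¹) * (q * r)⁻¹ by
      group, hyq, mul_inv_rev, inv_eq H.grp.1 hq.1, inv_eq H.grp.1 hr.mem.1,
      show q * r * q * (r * q) = q * r * q * r * q by simp only [mul_assoc],
      braid H.grp.1 hq.1 hr.mem.1 hqr, mul_assoc (r * q) r r, sq_one H.grp.1 hr.mem.1, mul_one,
      mul_assoc, sq_one H.grp.1 hq.1, mul_one]
  · rw [show q * r * (y : G) * c * (q * r * (y : G))⁻¹ = q * r * ((y : G) * c * (y : G)⁻¹) * (q * r)⁻¹ by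
      group, hyc, mul_inv_eq_iff_eq_mul]
    exact (hq.2.2.mul_right hr.mem.2.2).symm.eq

/-- A product of two commuting members is no 3-transposition. -/
theorem bad_two {p q : G} (hp : p ∈ D) (hq : q ∈ Dc D p) :
    ∃ g : G, (p * q * (g * (p * q) * g⁻¹)) ^ 2 ≠ 1 ∧ (p * q * (g * (p * q) * g⁻¹)) ^ 3 ≠ 1 := by
  obtain ⟨c, hc⟩ := (H.line p hp).1 q hq
  obtain ⟨r, s, g, hr, hs, npr, nqr, csp, csq, csr, e1, e2, -⟩ := H.exists_path hc.1.1
    (mem_dc_symm hp hc.1) (mem_dc_symm hq.1 ⟨hc.1.1, hc.2.1, hc.2.2⟩) hq.2.1.symm hq.2.2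
  refine ⟨g, ?_⟩
  rw [show g * (p * q) * g⁻¹ = (g * p * g⁻¹) * (g * q * g⁻¹) by group, e1, e2, csr.eq, ← mul_assoc]
  exact path_order H.tr hp hq.1 hr.1 hs.1 hq.2.1.symm hq.2.2 npr nqr csp csq csr

/-- A product of three commuting members is no 3-transposition. -/
theorem bad_three {p q c : G} (hc : c ∈ D) (hp : p ∈ Dc D c) (hq : q ∈ Dc D c) (hpq : p ≠ q)
    (cpq : Commute p q) :
    ∃ g : G, (p * q * c * (g * (p * q * c) * g⁻¹)) ^ 2 ≠ 1 ∧
      (p * q * c * (g * (p * q * c) * g⁻¹)) ^ 3 ≠ 1 := by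
  obtain ⟨r, s, g, hr, hs, npr, nqr, csp, csq, csr, e1, e2, e3⟩ := H.exists_path hc hp hq hpq cpq
  refine ⟨g, ?_⟩
  rw [show g * (p * q * c) * g⁻¹ = (g * p * g⁻¹) * (g * q * g⁻¹) * (g * c * g⁻¹) by group, e1, e2, e3,
    csr.eq, show p * q * c * (r * s * c) = p * q * r * s by
      rw [mul_assoc (p * q), ← mul_assoc c, (hr.2.2.mul_right hs.2.2).eq, mul_assoc (r * s),
        sq_one H.grp.1 hc, mul_one, ← mul_assoc]]
  exact path_order H.tr hp.1 hq.1 hr.1 hs.1 hpq cpq npr nqr csp csq csr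

/-- The class of 3-transpositions is unique. -/
theorem unique_class [Finite G] [Nonempty D] (hfull : M22.Full D) {D' : Set G}
    (hD' : IsThreeTranspositionClass D') : D' = D := by
  have hT := Fischer.TClass.of hD'
  obtain ⟨e, he⟩ := hT.nonempty
  have key : ∀ g : G, (e * (g * e * g⁻¹)) ^ 2 = 1 ∨ (e * (g * e * g⁻¹)) ^ 3 = 1 := fun g =>
    hT.ord e he _ (hT.conj g e he)
  obtain ⟨l, hnd, hlen, hlD, hlc, hlp⟩ := hfull.short e (hT.sq e he)
  have heD : e ∈ D := by
    match l, hlen with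
    | [], _ => exact absurd hlp.symm (hT.ne_one e he)
    | [p], _ => simp at hlp hlD; exact hlp ▸ hlD
    | [p, q], _ =>
      exfalso
      simp at hnd hlD hlp
      obtain ⟨g, h1, h2⟩ := H.bad_two hlD.1 (q := q)
        ⟨hlD.2, Ne.symm hnd, hlc p (by simp) q (by simp)⟩
      rw [hlp] at h1 h2
      exact (key g).elim h1 h2
    | [p, q, c], _ =>
      exfalso
      simp at hnd hlD hlp
      obtain ⟨g, h1, h2⟩ := H.bad_three hlD.2.2 (p := p) (q := q)
        ⟨hlD.1, hnd.1.2, hlc c (by simp) p (by simp)⟩ ⟨hlD.2.1, hnd.2, hlc c (by simp) q (by simp)⟩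
        hnd.1.1 (hlc p (by simp) q (by simp))
      rw [mul_assoc p q c, hlp] at h1 h2
      exact (key g).elim h1 h2
  refine Set.ext fun x => ⟨fun hx => ?_, fun hx => ?_⟩
  · obtain ⟨g, rfl⟩ := hT.trans e he x hx
    exact H.conj_mem g heD
  · obtain ⟨g, rfl⟩ := H.trans e heD x hx
    exact hT.conj g e he

end M22

end Cfsg.Agent.Transpos
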