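import Cfsg.Agent.Lib.Transpos.UnitaryCover
import Cfsg.Agent.Lib.SUGen.Transfer

/-!
# Semilinear isometries of the six dimensional unitary space over four elements

`U6.four_dvd_fixed`, `U6.four_dvd_fixed_off`: fixed isotropic vectors of a semilinear involution
come in multiples of four.  `U6.not_sq_tv`: the square of a semilinear isometry fixing `A` does
not act as the transvection at `A`.
-/

set_option autoImplicit false

namespace Cfsg.Agent.Transpos.U6

open Cfsg Cfsg.Agent.ClassicalSimple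

variable {F V : Type*} [Field F] [AddCommGroup V] [Module F V]
  {σ : F →+* F} {h : V →ₛₗ[σ] V →ₗ[F] F}

/-- A semilinear isometry. -/
structure Semi (h : V →ₛₗ[σ] V →ₗ[F] F) (τ : F → F) (Ψ : V → V) : Prop where
  add : ∀ x y, Ψ (x + y) = Ψ x + Ψ y
  smul : ∀ (a : F) x, Ψ (a • x) = τ a • Ψ x
  form : ∀ x y, h (Ψ x) (Ψ y) = τ (h x y)

variable (c : Ctx σ h)
include c

theorem sigma_sq (x : F) : σ x = x * x := by
  by_cases hx : x = 0
  · simp [hx]
  exact mul_right_cancel₀ hx ((c.norm x hx).trans (c.cube x hx).symm)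

theorem univ {o : F} (ho : o * o + o + 1 = 0) (x : F) : x = 0 ∨ x = 1 ∨ x = o ∨ x = o * o := by
  by_cases hx : x = 0
  · exact Or.inl hx
  have h3 := c.cube x hx
  have h0 : (x - 1) * ((x - o) * (x - o * o)) = 0 := by
    linear_combination h3 + (-x ^ 2 + o * x - (o - 1)) * ho
  rcases mul_eq_zero.1 h0 with h | h
  · exact Or.inr (Or.inl (sub_eq_zero.1 h))
  rcases mul_eq_zero.1 h with h | h
  · exact Or.inr (Or.inr (Or.inl (sub_eq_zero.1 h)))
  · exact Or.inr (Or.inr (Or.inr (sub_eq_zero.1 h)))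

theorem finite : Finite F := by
  classical
  obtain ⟨o, -, ho, -⟩ := c.exists_omega
  refine Finite.of_surjective ![0, 1, o, o * o] fun x => ?_
  rcases univ c ho x with rfl | rfl | rfl | rfl
  exacts [⟨0, rfl⟩, ⟨1, rfl⟩, ⟨2, rfl⟩, ⟨3, rfl⟩]

theorem card_eq [Fintype F] : Fintype.card F = 2 ^ 2 := by
  classical
  obtain ⟨o, ho0, ho, -⟩ := c.exists_omega
  have ho1 : o ≠ 1 := fun e => one_ne_zero (α := F) (by subst e; linear_combination ho - c.two)
  have hoo1 : o * o ≠ 1 := fun e => ho1 (by linear_combination c.cube o ho0 - o * e)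
  have hoo : o * o ≠ o := fun e => ho1 (mul_left_cancel₀ ho0 (by rw [mul_one]; exact e))
  have e : (Finset.univ : Finset F) = {0, 1, o, o * o} := by
    ext x; simpa using univ c ho x
  rw [← Finset.card_univ, e, Finset.card_insert_of_notMem, Finset.card_insert_of_notMem,
    Finset.card_insert_of_notMem, Finset.card_singleton]
  · norm_num
  · simpa using hoo.symm
  · simpa using And.intro ho1.symm hoo1.symm
  · simpa using And.intro ho0.symm ho0

/-- The automorphisms of the field. -/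
theorem aut_eq (τ : F ≃+* F) : (∀ x, τ x = x) ∨ ∀ x, τ x = σ x := by
  obtain ⟨o, ho0, ho, hso, hso2⟩ := c.exists_omega
  rcases univ c ho (τ o) with h | h | h | h
  · exact absurd ((map_eq_zero _).1 h) ho0
  · rw [← map_one τ] at h
    have e := τ.injective h
    subst e
    exact absurd (by linear_combination ho - c.two) (one_ne_zero (α := F))
  · refine Or.inl fun x => ?_
    rcases univ c ho x with rfl | rfl | rfl | rfl <;> simp [h]
  · refine Or.inr fun x => ?_
    rcases univ c ho x with rfl | rfl | rfl | rfl <;> simp [h, hso]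

theorem tr_eq (x : F) : x + σ x = 0 ∨ x + σ x = 1 := by
  by_cases h0 : x + σ x = 0
  · exact Or.inl h0
  · exact Or.inr (c.eq_one (by rw [map_add, c.form.invol, add_comm]) h0)

/-- Orthonormal coordinates. -/
theorem exists_coords :
    ∃ L : V ≃ₗ[F] (Fin 6 → F), ∀ x y, h x y = ∑ i, σ (L x i) * L y i := by
  have := c.fd
  have := finite c
  have := Fintype.ofFinite F
  have hK := card_eq c
  have hσ : σ = Forms.qEnd hK := RingHom.ext fun x => by
    rw [Forms.qEnd_apply, sigma_sq c, pow_two]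
  subst hσ
  obtain ⟨L, hL⟩ := SUGen.exists_isometry hK c.dim c.form
  refine ⟨L, fun x y => ?_⟩
  rw [← hL, Forms.hermB_apply]
  simp only [Forms.qEnd_apply, hermForm]
  exact Finset.sum_congr rfl fun i _ => mul_comm _ _

omit c in
theorem Semi.map_zero {τ : F → F} {Ψ : V → V} (hΨ : Semi h τ Ψ) : Ψ 0 = 0 := by
  have := hΨ.add 0 0
  rw [add_zero] at this
  exact left_eq_add.1 this

omit c in
theorem Semi.sum {τ : F → F} {Ψ : V → V} (hΨ : Semi h τ Ψ) (x y : V) (a : F) :
    Ψ (x + a • y) = Ψ x + τ a • Ψ y := by rw [hΨ.add, hΨ.smul]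

section fixed

variable [Finite F] [FiniteDimensional F V] {Ψ : V → V} (hΨ : Semi h σ Ψ) (h2 : ∀ x, Ψ (Ψ x) = x)
include hΨ h2

theorem fixed_card : Nat.card {v : V // Ψ v = v} = 64 := by
  have := Module.finite_of_finite F (M := V)
  obtain ⟨o, ho0, ho, hso, hso2⟩ := c.exists_omega
  have hV : Nat.card V = 4 ^ 6 := by
    have := Fintype.ofFinite F
    rw [Module.natCard_eq_pow_finrank (K := F), c.dim, Nat.card_eq_fintype_card, card_eq c]
    norm_num
  have hfix : ∀ x, Ψ (x + Ψ x) = x + Ψ x := fun x => by rw [hΨ.add, h2, add_comm]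
  let f : {v : V // Ψ v = v} × {v : V // Ψ v = v} → V := fun p => p.1.1 + o • p.2.1
  have hf : Function.Bijective f := by
    refine ⟨fun p q e => ?_, fun x => ?_⟩
    · have e' := congrArg Ψ e
      simp only [f, hΨ.sum, p.1.2, p.2.2, q.1.2, q.2.2, hso] at e' e
      have h1 : (o * o - o) • p.2.1 = (o * o - o) • q.2.1 := by
        rw [sub_smul, sub_smul, sub_eq_sub_iff_add_eq_add]
        linear_combination (norm := module) e' - e
      have hne : o * o - o ≠ 0 := fun e0 => one_ne_zero (α := F) (by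
        linear_combination ho - e0 - o * c.two)
      have h2' : p.2.1 = q.2.1 := smul_right_injective V hne h1
      rw [h2', add_left_inj] at e
      exact Prod.ext (Subtype.ext e) (Subtype.ext h2')
    · refine ⟨⟨⟨x + o • (x + Ψ x), ?_⟩, ⟨x + Ψ x, hfix x⟩⟩, ?_⟩
      · rw [hΨ.sum, hfix, hso]
        have k : (o * o) • (x + Ψ x) = o • (x + Ψ x) + (x + Ψ x) := by
          rw [show o * o = o + 1 by linear_combination ho - (o + 1) * c.two, add_smul, one_smul]
        rw [k, show Ψ x + (o • (x + Ψ x) + (x + Ψ x)) = x + o • (x + Ψ x) + (Ψ x + Ψ x) by abel,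
          c.addV, add_zero]
      · simp only [f, add_assoc, c.addV, add_zero]
  have e := Nat.card_eq_of_bijective f hf
  rw [Nat.card_prod, hV] at e
  exact Nat.mul_self_inj.1 (e.trans (by norm_num))

/-- The fixed vectors, as a group. -/
theorem fixed_groups (A : V) (hA : Ψ A = A) : ∃ S S' : AddSubgroup V,
    (∀ v, v ∈ S ↔ Ψ v = v ∧ h v v = 0) ∧ (∀ v, v ∈ S' ↔ (Ψ v = v ∧ h v v = 0) ∧ h A v = 0) ∧
      4 ∣ Nat.card S ∧ 4 ∣ Nat.card S' := by
  classical
  have := Module.finite_of_finite F (M := V)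
  let W : AddSubgroup V :=
    { carrier := {v | Ψ v = v}
      add_mem' := fun {x y} hx hy => show Ψ (x + y) = x + y by rw [hΨ.add, hx, hy]
      zero_mem' := hΨ.map_zero
      neg_mem' := fun {x} hx => by
        show Ψ (-x) = -x
        rw [← neg_one_smul F x, hΨ.smul, hx, map_neg, map_one] }
  have hW : Nat.card W = 64 := fixed_card c hΨ h2
  have hreal : ∀ x ∈ W, ∀ y ∈ W, σ (h x y) = h x y := fun x hx y hy => by
    rw [← hΨ.form, hx, hy]
  -- a homomorphism to `{0, 1}` has a large kernel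
  have half : ∀ (K : AddSubgroup V) (q : ↥K →+ F), (∀ x, q x = 0 ∨ q x = 1) →
      Nat.card q.ker = Nat.card K ∨ 2 * Nat.card q.ker = Nat.card K := by
    intro K q hq
    have h2 : Nat.card q.range ≤ 2 := by
      calc Nat.card q.range ≤ Nat.card ↥({0, 1} : Set F) := Nat.card_mono (Set.toFinite _) (by
            rintro _ ⟨x, rfl⟩; exact hq x)
        _ ≤ 2 := by rw [Nat.card_coe_set_eq]; exact (Set.ncard_insert_le _ _).trans (by simp)
    have e := AddSubgroup.card_mul_index q.ker
    rw [AddSubgroup.index_ker] at e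
    have h0 : 0 < Nat.card q.range := Nat.card_pos
    interval_cases Nat.card q.range <;> omega
  let q : ↥W →+ F := AddMonoidHom.mk' (fun v => h v.1 v.1) fun x y => by
    simp only [AddSubgroup.coe_add, map_add, LinearMap.add_apply]
    have e : h x.1 y.1 + h y.1 x.1 = 0 := by
      rw [c.form.swap x.1 y.1, hreal _ x.2 _ y.2, c.addF]
    linear_combination e
  have hq : ∀ x, q x = 0 ∨ q x = 1 := fun x => by
    by_cases h0 : q x = 0
    · exact Or.inl h0
    · exact Or.inr (c.eq_one (c.form.σ_self _) h0)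
  let S : AddSubgroup V := q.ker.map W.subtype
  have hS : ∀ v, v ∈ S ↔ Ψ v = v ∧ h v v = 0 := fun v =>
    ⟨fun ⟨x, hx, e⟩ => e ▸ ⟨x.2, hx⟩, fun hv => ⟨⟨v, hv.1⟩, hv.2, rfl⟩⟩
  let l : ↥S →+ F := AddMonoidHom.mk' (fun v => h A v.1) fun x y => by simp
  have hl : ∀ x, l x = 0 ∨ l x = 1 := fun x => by
    by_cases h0 : l x = 0
    · exact Or.inl h0
    · refine Or.inr (c.eq_one ?_ h0)
      exact hreal A hA x.1 ((hS _).1 x.2).1
  let S' : AddSubgroup V := l.ker.map S.subtype
  have hS' : ∀ v, v ∈ S' ↔ (Ψ v = v ∧ h v v = 0) ∧ h A v = 0 := fun v =>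
    ⟨fun ⟨x, hx, e⟩ => e ▸ ⟨(hS _).1 x.2, hx⟩, fun hv => ⟨⟨v, (hS v).2 hv.1⟩, hv.2, rfl⟩⟩
  have cS : Nat.card S = Nat.card q.ker :=
    AddSubgroup.card_map_of_injective W.subtype_injective
  have cS' : Nat.card S' = Nat.card l.ker :=
    AddSubgroup.card_map_of_injective S.subtype_injective
  refine ⟨S, S', hS, hS', ?_, ?_⟩
  · rcases half W q hq with e | e <;> omega
  · rcases half W q hq with e | e <;> rcases half S l hl with e' | e' <;> omega

/-- The fixed isotropic vectors. -/
theorem four_dvd_fixed : 4 ∣ {v : V | Ψ v = v ∧ h v v = 0}.ncard := by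
  obtain ⟨S, -, hS, -, h4, -⟩ := fixed_groups c hΨ h2 0 hΨ.map_zero
  rwa [show {v : V | Ψ v = v ∧ h v v = 0} = (S : Set V) from (Set.ext hS).symm,
    ← Nat.card_coe_set_eq]

/-- The fixed isotropic vectors off the perp of a fixed one. -/
theorem four_dvd_fixed_off {A : V} (hA : Ψ A = A) :
    4 ∣ {v : V | (Ψ v = v ∧ h v v = 0) ∧ h A v ≠ 0}.ncard := by
  have := Module.finite_of_finite F (M := V)
  obtain ⟨S, S', hS, hS', h4, h4'⟩ := fixed_groups c hΨ h2 A hA
  rw [show {v : V | (Ψ v = v ∧ h v v = 0) ∧ h A v ≠ 0} = (S : Set V) \ (S' : Set V) by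
    ext v
    simp only [Set.mem_ofPred_eq, Set.mem_sdiff, SetLike.mem_coe, hS, hS']
    tauto, Set.ncard_sdiff (fun v hv => (hS v).2 ((hS' v).1 hv).1) (Set.toFinite _),
    ← Nat.card_coe_set_eq, ← Nat.card_coe_set_eq]
  exact Nat.dvd_sub h4 h4'

end fixed

/-- The square of a semilinear isometry fixing `A` is not the transvection at `A`. -/
theorem not_sq_tv [FiniteDimensional F V] {Ψ : V → V} (hΨ : Semi h σ Ψ) {A : V} (hA : h A A = 0)
    (hA0 : A ≠ 0) (hΨA : Ψ A = A)
    (hsq : ∀ v, h v v = 0 → v ≠ 0 → ∃ l : F, Ψ (Ψ v) = l • (v + h A v • A)) : False := by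
  obtain ⟨f, hf, hAf⟩ := exists_isotropic_partner c.form hA hA0
  have hAf0 : h A f ≠ 0 := by simp [hAf]
  have hf0 : f ≠ 0 := fun e => hAf0 (by rw [e, map_zero])
  obtain ⟨l, hl⟩ := hsq f hf hf0
  have hl1 : l = 1 := by
    have e := hΨ.form A (Ψ f)
    rw [hΨA, hl, map_smul, map_add, map_smul, hA, smul_zero, add_zero, smul_eq_mul] at e
    have e2 := hΨ.form A f
    rw [hΨA, hAf, map_one] at e2
    rw [hAf, e2, map_one, mul_one] at e
    exact e
  rw [hl1, one_smul, hAf, one_smul] at hl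
  obtain ⟨y, hy⟩ : ∃ y, Ψ f = f + y := ⟨Ψ f - f, (add_sub_cancel _ _).symm⟩
  have hAy : h A y = 0 := by
    have e2 := hΨ.form A f
    rw [hΨA, hy, map_add, hAf, map_one] at e2
    linear_combination e2
  have hΨy : Ψ y = A + y := by
    rw [hy, hΨ.add, hy, add_assoc] at hl
    have e := add_left_cancel hl
    rw [← e, add_comm y, add_assoc, c.addV, add_zero]
  have e := hΨ.form y f
  rw [hΨy, hy] at e
  simp only [map_add, LinearMap.add_apply, hAf, hAy] at e
  have e3 : h (f + y) (f + y) = 0 := by rw [← hy, hΨ.form, hf, map_zero]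
  simp only [map_add, LinearMap.add_apply, hf] at e3
  rw [c.form.swap f y, c.form.invol] at e
  have e4 := c.form.swap f y
  refine one_ne_zero (α := F) ?_
  linear_combination e - e3 + e4 + (h f y) * c.two

end Cfsg.Agent.Transpos.U6
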