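import Cfsg.Agent.Lib.Transpos.M22Cent
import Cfsg.Agent.Lib.Transpos.M22Class
import Cfsg.Agent.Lib.Transpos.UnitarySemi

/-!
# At most twice as many automorphisms as elements in type M(22)

An automorphism preserves the class; after an inner one it fixes a member, where it is linear or
induces the field automorphism, and two of the latter kind compose to a linear one.
-/

set_option autoImplicit false
set_option linter.style.haveILetI false

namespace Cfsg.Agent.Transpos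

open Cfsg Cfsg.Agent.ClassicalSimple

variable {G : Type*} [Group G] [Finite G] {D : Set G}

namespace M22

variable (H : M22 D) [Nonempty D]
include H

/-- Every automorphism preserves the class. -/
theorem preserves_auto (φ : G ≃* G) : Preserves D φ := by
  obtain ⟨⟨d, hd⟩⟩ := ‹Nonempty D›
  have hclass : IsThreeTranspositionClass (φ '' D) := by
    refine ⟨⟨?_, ?_⟩, ⟨φ d, ⟨d, hd, rfl⟩, Set.ext fun x => ⟨?_, ?_⟩⟩, ?_⟩
    · rintro _ ⟨e, he, rfl⟩
      exact (φ.orderOf_eq e).trans (H.grp.1.1 e he)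
    · rintro _ ⟨e, he, rfl⟩ _ ⟨f, hf, rfl⟩
      exact (H.grp.1.2 e he f hf).imp (fun h => by rw [← map_mul, ← map_pow, h, map_one])
        fun h => by rw [← map_mul, ← map_pow, h, map_one]
    · rintro ⟨e, he, rfl⟩
      obtain ⟨g, rfl⟩ := H.trans d hd e he
      exact isConj_iff.2 ⟨φ g, by simp⟩
    · intro hx
      obtain ⟨g, rfl⟩ := isConj_iff.1 (hx : IsConj (φ d) x)
      exact ⟨φ.symm g * d * (φ.symm g)⁻¹, H.grp.2.1 _ _ hd, by simp⟩
    · have h := MonoidHom.map_closure φ.toMonoidHom D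
      rw [H.grp.2.2, Subgroup.map_top_of_surjective φ.toMonoidHom φ.surjective] at h
      exact h.symm
  have e := H.unique_class H.full' hclass
  intro x
  conv_lhs => rw [← e]
  exact φ.injective.mem_set_image

/-- There are at most twice as many automorphisms as elements. -/
theorem card_mulAut_le : Finite (MulAut G) ∧ Nat.card (MulAut G) ≤ 2 * Nat.card G := by
  classical
  obtain ⟨⟨a, ha⟩⟩ := ‹Nonempty D›
  obtain ⟨M⟩ := (H.model a ha).2
  have hdec : ∀ φ : MulAut G, φ a = a → (∃ y : G, φ = MulAut.conj y) ∨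
      ∃ Ψ : (Fin 6 → M.F) → (Fin 6 → M.F), U6.Semi M.h M.σ Ψ ∧ M.Acts φ Ψ := by
    intro φ hfa
    have hp := H.preserves_auto φ
    obtain ⟨Ψ, τ, hΨ, hact⟩ := M.exists_semi H ha hp hfa
    rcases U6.aut_eq M.c τ with hid | hσ
    · obtain ⟨y, -, e⟩ := H.inner_of_linear ha M hp hfa (Ψ := Ψ)
        ⟨hΨ.add, fun m v => by rw [hΨ.smul, hid, id], fun v w => by rw [hΨ.form, hid, id]⟩ hact
      exact Or.inl ⟨y, MulEquiv.ext e⟩
    · exact Or.inr ⟨Ψ, ⟨hΨ.add, fun m v => by rw [hΨ.smul, hσ], fun v w => by rw [hΨ.form, hσ]⟩, hact⟩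
  obtain ⟨φ₀, hφ₀⟩ : ∃ φ₀ : MulAut G, ∀ φ : MulAut G, φ a = a →
      (∃ y : G, φ = MulAut.conj y) ∨ ∃ y : G, φ = MulAut.conj y * φ₀ := by
    by_cases h : ∀ φ : MulAut G, φ a = a → ∃ y : G, φ = MulAut.conj y
    · exact ⟨1, fun φ hφ => Or.inl (h φ hφ)⟩
    push Not at h
    obtain ⟨φ₀, hfa₀, hno⟩ := h
    obtain ⟨Ψ₀, hΨ₀, hact₀⟩ := (hdec φ₀ hfa₀).resolve_left fun ⟨y, hy⟩ => hno y hy
    refine ⟨φ₀⁻¹, fun φ hfa => ?_⟩
    rcases hdec φ hfa with hy | ⟨Ψ, hΨ, hact⟩
    · exact Or.inl hy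
    · right
      have hfa' : (φ * φ₀) a = a := by rw [MulAut.mul_apply, hfa₀, hfa]
      have hss : ∀ x, M.σ (M.σ x) = x := M.c.form.invol
      have hlin : U6.Semi M.h id fun u => Ψ (Ψ₀ u) :=
        ⟨fun x y => by rw [hΨ₀.add, hΨ.add], fun m x => by rw [hΨ₀.smul, hΨ.smul, hss, id],
          fun x y => by rw [hΨ.form, hΨ₀.form, hss, id]⟩
      obtain ⟨y, -, e⟩ := H.inner_of_linear ha M (H.preserves_auto (φ * φ₀)) hfa' hlin (hact.comp hact₀)
      have e2 : φ * φ₀ = MulAut.conj y := MulEquiv.ext e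
      exact ⟨y, by rw [← e2, mul_inv_cancel_right]⟩
  let f : G × Bool → MulAut G := fun p => MulAut.conj p.1 * cond p.2 φ₀ 1
  have hs : Function.Surjective f := by
    intro φ
    obtain ⟨g, hg⟩ := H.trans _ ((H.preserves_auto φ a).2 ha) a ha
    rcases hφ₀ (MulAut.conj g * φ) hg with ⟨y, hy⟩ | ⟨y, hy⟩
    · refine ⟨(g⁻¹ * y, false), ?_⟩
      show MulAut.conj (g⁻¹ * y) * 1 = φ
      rw [mul_one, map_mul, ← hy, ← mul_assoc, ← map_mul, inv_mul_cancel, map_one, one_mul]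
    · refine ⟨(g⁻¹ * y, true), ?_⟩
      show MulAut.conj (g⁻¹ * y) * φ₀ = φ
      rw [map_mul, mul_assoc, ← hy, ← mul_assoc, ← map_mul, inv_mul_cancel, map_one, one_mul]
  refine ⟨Finite.of_surjective f hs, ?_⟩
  have h1 := Nat.card_le_card_of_surjective f hs
  rw [Nat.card_prod, Nat.card_eq_fintype_card (α := Bool), Fintype.card_bool] at h1
  omega

end M22

end Cfsg.Agent.Transpos
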