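import Cfsg.Agent.Lib.Transpos.Lift

/-!
# Factors of products of two or three commuting transpositions

`mem_of_prod_two`, `mem_of_prod_three`: the product determines the factors, given that the members
commuting with one, resp. two, commuting members have no twins.
-/

set_option autoImplicit false

namespace Cfsg.Agent.Transpos

variable {G : Type*} [Group G] {E : Set G}

/-- Two distinct commuting members: the product determines the first factor. -/
theorem mem_of_prod_two (hE : Tr E) (h2 : ∀ a ∈ E, NoTwin (Dc E a)) {a b a' b' : G} (ha : a ∈ E)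
    (hb : b ∈ E) (ha' : a' ∈ E) (hb' : b' ∈ E) (hab : a ≠ b) (hab' : a' ≠ b') (c : Commute a b)
    (c' : Commute a' b') (he : a * b = a' * b') : a = a' ∨ a = b' := by
  by_contra hcon
  obtain ⟨h1, h1'⟩ := not_or.mp hcon
  have hba : b ≠ a' := fun e => h1' (mul_right_cancel ((show a * a' = b' * a' by
    rw [← c'.eq, ← he, e])))
  have hbb : b ≠ b' := fun e => h1 (mul_right_cancel (e ▸ he))
  have hca' : Commute a' (a * b) := by rw [he]; exact (Commute.refl a').mul_right c'
  obtain ⟨k1, k2⟩ := commute_both hE.set ha hb ha' hab c hca'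
  obtain ⟨l1, l2⟩ := commute_both hE.set ha hb hb' hab c (by
    rw [he]; exact c'.symm.mul_right (Commute.refl b'))
  have heq : b * b' = a * a' := by
    calc b * b' = a * (a * b) * b' := by rw [mul_mul_cancel hE.set ha]
      _ = a * a' := by rw [he, mul_assoc, mul_assoc, sq_one hE.set hb', mul_one]
  refine h2 a ha b ⟨hb, hab.symm, c⟩ a' ⟨ha', fun e => h1 e.symm, k1.symm⟩ hba k2.symm fun x hx => ⟨fun hxb => ?_, fun hxa' => ?_⟩
  · refine (commute_both hE.set ha' hb' hx.1 hab' c' ?_).1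
    rw [← he]; exact hx.2.2.symm.mul_right hxb
  · refine (commute_both hE.set hb hb' hx.1 hbb l2.symm ?_).1
    rw [heq]; exact hx.2.2.symm.mul_right hxa'

/-- Six distinct members: no equality of products of commuting triples. -/
theorem not_prod_three_distinct (hE : Tr E) (h3 : ∀ a ∈ E, ∀ b ∈ Dc E a, NoTwin (Dc (Dc E a) b))
    {a b c a' b' c' : G} (ha : a ∈ E) (hb : b ∈ E) (hc : c ∈ E) (ha' : a' ∈ E) (hb' : b' ∈ E)
    (hc' : c' ∈ E) (nab : a ≠ b) (nac : a ≠ c) (nbc : b ≠ c) (cab : Commute a b) (cac : Commute a c)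
    (cbc : Commute b c) (nab' : a' ≠ b') (nac' : a' ≠ c') (nbc' : b' ≠ c') (cab' : Commute a' b')
    (cac' : Commute a' c') (cbc' : Commute b' c') (he : a * b * c = a' * b' * c') (n1 : a ≠ a')
    (n2 : b ≠ a') (n3 : c ≠ a') (n4 : c ≠ b') (n5 : c ≠ c') : False := by
  have hcom : ∀ e ∈ E, Commute e (a' * b' * c') → Commute e a ∧ Commute e b ∧ Commute e c :=
    fun e hee h => commute_three hE.set ha hb hc hee nab nac nbc cab cac cbc (he ▸ h)
  obtain ⟨ka, kb, kc⟩ := hcom a' ha' (((Commute.refl a').mul_right cab').mul_right cac')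
  obtain ⟨-, -, kb'⟩ := hcom b' hb' ((cab'.symm.mul_right (Commute.refl b')).mul_right cbc')
  obtain ⟨-, -, kc'⟩ := hcom c' hc' ((cac'.symm.mul_right cbc'.symm).mul_right (Commute.refl c'))
  have heq : c * b' * c' = a' * a * b := by
    calc c * b' * c' = c * (b' * c') := mul_assoc _ _ _
      _ = b' * c' * c := (kb'.symm.mul_right kc'.symm).eq
      _ = a' * (a' * b' * c') * c := by
        rw [mul_assoc a' b' c', mul_mul_cancel hE.set ha']
      _ = a' * a * b := by
        rw [← he, mul_assoc, mul_assoc (a * b), sq_one hE.set hc, mul_one, mul_assoc]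
  have hbm : b ∈ Dc E a := ⟨hb, nab.symm, cab⟩
  refine h3 a ha b hbm c ⟨⟨hc, nac.symm, cac⟩, nbc.symm, cbc⟩ a'
    ⟨⟨ha', n1.symm, ka.symm⟩, n2.symm, kb.symm⟩ n3 kc.symm fun x hx => ⟨fun hxc => ?_, fun hxa' => ?_⟩
  · refine (commute_three hE.set ha' hb' hc' hx.1.1 nab' nac' nbc' cab' cac' cbc' ?_).1
    rw [← he]; exact (hx.1.2.2.symm.mul_right hx.2.2.symm).mul_right hxc
  · refine (commute_three hE.set hc hb' hc' hx.1.1 n4 n5 nbc' kb'.symm kc'.symm cbc' ?_).1
    rw [heq]; exact (hxa'.mul_right hx.1.2.2.symm).mul_right hx.2.2.symm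

/-- Three distinct commuting members: the product determines the first factor. -/
theorem mem_of_prod_three (hE : Tr E) (h2 : ∀ a ∈ E, NoTwin (Dc E a))
    (h3 : ∀ a ∈ E, ∀ b ∈ Dc E a, NoTwin (Dc (Dc E a) b))
    {a b c a' b' c' : G} (ha : a ∈ E) (hb : b ∈ E) (hc : c ∈ E) (ha' : a' ∈ E) (hb' : b' ∈ E)
    (hc' : c' ∈ E) (nab : a ≠ b) (nac : a ≠ c) (nbc : b ≠ c) (cab : Commute a b) (cac : Commute a c)
    (cbc : Commute b c) (nab' : a' ≠ b') (nac' : a' ≠ c') (nbc' : b' ≠ c') (cab' : Commute a' b')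
    (cac' : Commute a' c') (cbc' : Commute b' c') (he : a * b * c = a' * b' * c') :
    a = a' ∨ a = b' ∨ a = c' := by
  by_contra hcon
  simp only [not_or] at hcon
  obtain ⟨n1, n1', n1''⟩ := hcon
  have two : ∀ {u v p q : G}, u ∈ E → v ∈ E → p ∈ E → q ∈ E → u ≠ v → p ≠ q → Commute u v →
      Commute p q → u * v = p * q → u = p ∨ u = q := fun hu hv hp hq => mem_of_prod_two hE h2 hu hv hp hq
  have eb : a * b * c = b * (a * c) := by rw [cab.eq, mul_assoc]
  have ec : a * b * c = c * (a * b) := (cac.symm.mul_right cbc.symm).eq.symm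
  have e1 : a' * b' * c' = a' * (b' * c') := mul_assoc _ _ _
  have e2 : a' * b' * c' = b' * (a' * c') := by rw [cab'.eq, mul_assoc]
  have e3 : a' * b' * c' = c' * (a' * b') := (cac'.symm.mul_right cbc'.symm).eq.symm
  -- the second factor is none of the others
  have m1 : b ≠ a' := fun e => (two ha hc hb' hc' nac nbc' cac cbc'
    (mul_left_cancel (e ▸ (eb.symm.trans (he.trans e1))))).elim n1' n1''
  have m2 : b ≠ b' := fun e => (two ha hc ha' hc' nac nac' cac cac'
    (mul_left_cancel (e ▸ (eb.symm.trans (he.trans e2))))).elim n1 n1''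
  have m3 : b ≠ c' := fun e => (two ha hc ha' hb' nac nab' cac cab'
    (mul_left_cancel (e ▸ (eb.symm.trans (he.trans e3))))).elim n1 n1'
  have k1 : c ≠ a' := fun e => (two ha hb hb' hc' nab nbc' cab cbc'
    (mul_left_cancel (e ▸ (ec.symm.trans (he.trans e1))))).elim n1' n1''
  have k2 : c ≠ b' := fun e => (two ha hb ha' hc' nab nac' cab cac'
    (mul_left_cancel (e ▸ (ec.symm.trans (he.trans e2))))).elim n1 n1''
  have k3 : c ≠ c' := fun e => (two ha hb ha' hb' nab nab' cab cab'
    (mul_left_cancel (e ▸ (ec.symm.trans (he.trans e3))))).elim n1 n1'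
  exact not_prod_three_distinct hE h3 ha hb hc ha' hb' hc' nab nac nbc cab cac cbc nab' nac' nbc'
    cab' cac' cbc' he n1 m1 k1 k2 k3

end Cfsg.Agent.Transpos
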