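import Cfsg.Agent.Lib.Transpos.M22PairPoints

/-!
# The normaliser of the product of two non-commuting members in type M(22)

`closure_common`: the common members of `a`, `d` generate the joint centraliser, a projective reflection
group.  `inverts_eq`: only `a`, `d`, `a d a` invert `a d`.  Otherwise the sixteen conjugates of such a
member by products of four commuting common members would have pairwise disjoint sets of common
members, all among the 1680 members commuting with none of `a`, `d`, `a d a`.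
-/

set_option autoImplicit false
set_option linter.style.haveILetI false

namespace Cfsg.Agent.Transpos

open Cfsg Cfsg.Agent.ClassicalSimple

variable {G : Type*} [Group G] [Finite G] {D : Set G}
variable (hD : IsThreeTranspositionGroup D) (hprim : IsPrimitiveUnderConj D) (h22 : IsOfTypeM22 G D)
include hD hprim h22

/-- The joint centraliser is generated by the common members and is a projective reflection group. -/
theorem closure_common {a d : G} (ha : a ∈ D) (hd : d ∈ D) (hnc : ¬ Commute a d) :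
    Subgroup.closure (Dc D a ∩ Dc D d) = Subgroup.centralizer ({a, d} : Set G) ∧
      Subgroup.center ↥(Subgroup.closure (Dc D a ∩ Dc D d)) = ⊥ ∧
      ∃ c : ZMod 3, c ≠ 0 ∧
        IsProjReflectionGroupModThree ↥(Subgroup.closure (Dc D a ∩ Dc D d)) 6 1 c := by
  obtain ⟨_, H, hfull⟩ := m22_of_primitive hD hprim h22
  obtain ⟨-, a₀, ha₀, d₀, hd₀, hnc₀, -, c₃, hc₃, hL⟩ := id h22
  obtain ⟨g, hg⟩ := hprim.1 a₀ ha₀ a ha
  have hge : ¬ Commute a (g * d₀ * g⁻¹) := by
    rw [← hg]; exact fun h => hnc₀ ((commute_conj_iff g).1 h)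
  obtain ⟨k, hka, hkc⟩ := exists_conj_off hD hprim h22 ha (H.conj_mem g hd₀) hge hd hnc
  have e1 : k * g * a₀ * (k * g)⁻¹ = a := by
    rw [show k * g * a₀ * (k * g)⁻¹ = k * (g * a₀ * g⁻¹) * k⁻¹ by group, hg, hka]
  have e2 : k * g * d₀ * (k * g)⁻¹ = d := by
    rw [show k * g * d₀ * (k * g)⁻¹ = k * (g * d₀ * g⁻¹) * k⁻¹ by group, hkc]
  have hcA : Carries (k * g) (Dc D a₀) (Dc D a) := e1 ▸ (stab_of_normal hD (k * g)).carries.dc a₀
  have hcD : Carries (k * g) (Dc D d₀) (Dc D d) := e2 ▸ (stab_of_normal hD (k * g)).carries.dc d₀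
  have himg : (MulAut.conj (k * g)).toMonoidHom '' (Dc D a₀ ∩ Dc D d₀) = Dc D a ∩ Dc D d := by
    refine Set.Subset.antisymm ?_ fun y hy =>
      ⟨(k * g)⁻¹ * y * (k * g), ⟨hcA.2 y hy.1, hcD.2 y hy.2⟩, ?_⟩
    · rintro _ ⟨x, hx, rfl⟩
      exact ⟨hcA.1 x hx.1, hcD.1 x hx.2⟩
    · show k * g * ((k * g)⁻¹ * y * (k * g)) * (k * g)⁻¹ = y
      group
  set K := Subgroup.closure (Dc D a ∩ Dc D d) with hK
  let f : ↥(Subgroup.closure (Dc D a₀ ∩ Dc D d₀)) ≃* ↥K :=
    ((MulAut.conj (k * g)).subgroupMap (Subgroup.closure (Dc D a₀ ∩ Dc D d₀))).trans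
      (MulEquiv.subgroupCongr ((MonoidHom.map_closure _ _).trans (congrArg Subgroup.closure himg)))
  let fq := centerQuotientCongr f
  obtain ⟨Q, hQ, hd1, ⟨e⟩⟩ := hL
  have hL' : IsProjReflectionGroupModThree (↥K ⧸ Subgroup.center ↥K) 6 1 c₃ :=
    ⟨Q, hQ, hd1, ⟨fq.symm.trans e⟩⟩
  have hdvd : 6531840 ∣ Nat.card (↥K ⧸ Subgroup.center ↥K) := six_dvd_card_refl hc₃ hL'
  have hle : K ≤ Subgroup.centralizer ({a} : Set G) ⊓ Subgroup.centralizer ({d} : Set G) :=
    (Subgroup.closure_le _).2 fun x hx =>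
      ⟨Subgroup.mem_centralizer_singleton_iff.2 hx.1.2.2.eq.symm,
        Subgroup.mem_centralizer_singleton_iff.2 hx.2.2.2.eq.symm⟩
  have hJ := (pair_data hD hprim h22 ha hd hnc).2.2
  have h1 := Subgroup.card_eq_card_quotient_mul_card_subgroup (Subgroup.center ↥K)
  have h2 := Subgroup.card_le_of_le hle
  rw [hJ] at h2
  obtain ⟨m, hm⟩ := hdvd
  rw [hm] at h1
  have hz : 0 < Nat.card ↥(Subgroup.center ↥K) := Nat.card_pos
  have hKpos : 0 < Nat.card ↥K := Nat.card_pos
  have hmz : m * Nat.card ↥(Subgroup.center ↥K) = 1 := by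
    rcases Nat.eq_zero_or_pos (m * Nat.card ↥(Subgroup.center ↥K)) with h | h
    · rw [h1, mul_assoc, h] at hKpos; simp at hKpos
    · rw [mul_assoc] at h1; omega
  have hzc : Subgroup.center ↥K = ⊥ := Subgroup.card_eq_one.1 (Nat.eq_one_of_mul_eq_one_left hmz)
  have heq : K = Subgroup.centralizer ({a} : Set G) ⊓ Subgroup.centralizer ({d} : Set G) :=
    Subgroup.eq_of_le_of_card_ge hle (by rw [hJ, h1, mul_assoc, hmz, mul_one])
  refine ⟨heq.trans ?_, hzc, c₃, hc₃, Q, hQ, hd1,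
    ⟨(QuotientGroup.quotientBot.symm.trans (QuotientGroup.quotientMulEquivOfEq hzc.symm)).trans
      (fq.symm.trans e)⟩⟩
  ext x
  simp only [Subgroup.mem_inf, Subgroup.mem_centralizer_iff, Set.mem_insert_iff,
    Set.mem_singleton_iff, forall_eq_or_imp, forall_eq]

/-- There are four pairwise commuting common members, completed by two twins. -/
theorem exists_six {a d : G} (ha : a ∈ D) (hd : d ∈ D) (hnc : ¬ Commute a d) :
    ∃ p q r f₁ f₂ f₃ : G, p ∈ Dc D a ∩ Dc D d ∧ q ∈ Dc D a ∩ Dc D d ∧ r ∈ Dc D a ∩ Dc D d ∧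
      q ∈ Dc D p ∧ r ∈ Dc (Dc D p) q ∧
      (Twin D p q r f₁ ∧ Twin D p q r f₂ ∧ Twin D p q r f₃) ∧ (f₁ ≠ f₂ ∧ f₁ ≠ f₃ ∧ f₂ ≠ f₃) ∧
      f₁ * f₂ * f₃ = p * q * r ∧
      f₁ ∈ Dc D a ∩ Dc D d ∧ f₂ ∈ Dc D a ∩ Dc D d ∧ f₃ ∈ Dc D a ∩ Dc D d := by
  obtain ⟨_, H, -⟩ := m22_of_primitive hD hprim h22
  obtain ⟨p, hp⟩ : (Dc D a ∩ Dc D d).Nonempty := Set.nonempty_of_ncard_ne_zero (by
    rw [(pair_data hD hprim h22 ha hd hnc).1]; norm_num)
  obtain ⟨q, hq, hqp⟩ := H.exists_adj ha hd hnc hp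
  obtain ⟨r, -, ⟨hr, hrp, hrq⟩, -, -⟩ := H.exists_line_common ha hd hnc hp hq hqp
  obtain ⟨f₁, f₂, f₃, ⟨t1, t2, t3⟩, hdist, -, hprod⟩ := H.triple hp.1.1 (b := q) (c := r) hqp
    ⟨hrp, hrq.2.1, hrq.2.2⟩
  have hS : ∀ {f}, Twin D p q r f → f ∈ Dc D a ∩ Dc D d := by
    intro f hf
    have hS1 : ∀ {v w : G}, v ∈ D → p ∈ Dc D v → q ∈ Dc D v → r ∈ Dc D v → w ∈ D → ¬ Commute v w →
        q ∈ Dc D w → p ∈ Dc D w → r ∈ Dc D w → f ∈ Dc D v := by
      intro v w hv pv qv rv _ hvw qw pw rw'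
      have hmem : v ∈ Dc (Dc D p) q := ⟨mem_dc_symm hv pv, qv.2.1.symm, qv.2.2.symm⟩
      have hc : Commute f v := ((hf.2.2.2 v hmem).1 rv.2.2).symm
      have hmem' : w ∈ Dc (Dc D p) q := ⟨mem_dc_symm ‹w ∈ D› pw, qw.2.1.symm, qw.2.2.symm⟩
      have hc' : Commute f w := ((hf.2.2.2 w hmem').1 rw'.2.2).symm
      exact ⟨hf.1.1.1, fun e => hvw (e ▸ hc'), hc.symm⟩
    exact ⟨hS1 ha hp.1 hq.1 hr.1 hd hnc hq.2 hp.2 hr.2,
      hS1 hd hp.2 hq.2 hr.2 ha (fun k => hnc k.symm) hq.1 hp.1 hr.1⟩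
  exact ⟨p, q, r, f₁, f₂, f₃, hp, hq, hr, hqp, ⟨hrp, hrq.2.1, hrq.2.2⟩, ⟨t1, t2, t3⟩, hdist, hprod,
    hS t1, hS t2, hS t3⟩

/-- The members commuting with none of `a`, `d`, `a d a`. -/
theorem ncard_none {a d : G} (ha : a ∈ D) (hd : d ∈ D) (hnc : ¬ Commute a d) :
    {z | z ∈ D ∧ ¬ Commute a z ∧ ¬ Commute d z ∧ ¬ Commute (a * d * a) z}.ncard = 1680 := by
  classical
  obtain ⟨_, H, -⟩ := m22_of_primitive hD hprim h22
  have hT := hD.1
  have aa := sq_one hT ha
  have hd' : a * d * a ∈ D := H.tr.conj a ha d hd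
  have hnc' : ¬ Commute a (a * d * a) := fun h => hnc (by
    have := h.eq
    rw [show a * (a * d * a) = a * a * (d * a) by group, aa, one_mul,
      show a * d * a * a = a * d * (a * a) by group, aa, mul_one] at this
    exact this.symm)
  -- the members not commuting with `a` but commuting with a second one
  have cnt : ∀ c ∈ D, ¬ Commute a c → {z | z ∈ D ∧ ¬ Commute a z ∧ Commute c z}.ncard = 568 := by
    intro c hc hac
    have h1 : {z | z ∈ D ∧ ¬ Commute a z ∧ Commute c z} = insert c (Dc D c \ (Dc D a ∩ Dc D c)) := by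
      ext z
      constructor
      · intro hz
        by_cases e : z = c
        · exact Or.inl e
        · exact Or.inr ⟨⟨hz.1, e, hz.2.2⟩, fun h => hz.2.1 h.1.2.2⟩
      · rintro (rfl | ⟨hz, hz'⟩)
        · exact ⟨hc, hac, Commute.refl z⟩
        · exact ⟨hz.1, fun h => hz' ⟨⟨hz.1, fun e => hac (e ▸ hz.2.2).symm, h⟩, hz⟩, hz.2.2⟩
    rw [h1, Set.ncard_insert_of_notMem fun h => h.1.2.1 rfl,
      Set.ncard_sdiff Set.inter_subset_right, H.ncard_dc hc, (pair_data hD hprim h22 ha hc hac).1]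
  set O := {z | z ∈ D ∧ ¬ Commute a z} with hO
  set A := {z | z ∈ D ∧ ¬ Commute a z ∧ Commute d z} with hA
  set B := {z | z ∈ D ∧ ¬ Commute a z ∧ Commute (a * d * a) z} with hB
  have hdis : Disjoint A B := Set.disjoint_left.2 fun z hz hz' => hz.2.1 (by
    -- `a = d (a d a) d`
    have e : d * (a * d * a) * d = a := by
      rw [← braid_of_pow_three aa (sq_one hT hd) (mul_pow_three hD ha hd hnc),
        show d * (d * a * d) * d = d * d * a * (d * d) by group, sq_one hT hd, one_mul, mul_one]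
    rw [← e]
    exact (hz.2.2.mul_left hz'.2.2).mul_left hz.2.2)
  have hsplit : {z | z ∈ D ∧ ¬ Commute a z ∧ ¬ Commute d z ∧ ¬ Commute (a * d * a) z} = O \ (A ∪ B) := by
    ext z
    simp only [hO, hA, hB, Set.mem_ofPred_eq, Set.mem_sdiff, Set.mem_union]
    tauto
  rw [hsplit, Set.ncard_sdiff (show A ∪ B ⊆ O from Set.union_subset (fun z hz => ⟨hz.1, hz.2.1⟩) fun z hz => ⟨hz.1, hz.2.1⟩),
    Set.ncard_union_eq hdis, cnt d hd hnc, cnt _ hd' hnc', (pair_data hD hprim h22 ha hd hnc).2.1]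

/-- Only `a`, `d`, `a d a` invert `a d`. -/
theorem inverts_eq {a d y : G} (ha : a ∈ D) (hd : d ∈ D) (hnc : ¬ Commute a d) (hy : y ∈ D)
    (hinv : y * (a * d) * y = d * a) : y = a ∨ y = d ∨ y = a * d * a := by
  classical
  obtain ⟨_, H, -⟩ := m22_of_primitive hD hprim h22
  by_contra hne
  simp only [not_or] at hne
  obtain ⟨n1, n2, n3⟩ := hne
  have hT := hD.1
  have aa := sq_one hT ha
  have dd := sq_one hT hd
  have yy := sq_one hT hy
  set x := a * d with hx
  have x3 : x ^ 3 = 1 := mul_pow_three hD ha hd hnc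
  have xinv : x⁻¹ = d * a := by rw [hx, mul_inv_rev, inv_eq hT ha, inv_eq hT hd]
  have hyx : y * x * y = x⁻¹ := by rw [xinv]; exact hinv
  have hd' : a * d * a ∈ D := H.tr.conj a ha d hd
  -- no common member commutes with `y`
  have k1 : ∀ b ∈ Dc D a ∩ Dc D d, ¬ Commute b y := by
    intro b hb hby
    by_cases e : y = b
    · subst e
      have h1 : Commute y x := hb.1.2.2.symm.mul_right hb.2.2.2.symm
      rw [h1.eq, mul_assoc, yy, mul_one] at hyx
      have h2 : x * x = 1 := by nth_rewrite 2 [hyx]; exact mul_inv_cancel x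
      rw [pow_succ, pow_two, h2, one_mul] at x3
      exact hnc (by rw [Commute, SemiconjBy, ← hx, x3, ← inv_inj, inv_one, mul_inv_rev,
        inv_eq hT ha, inv_eq hT hd, ← hx, x3])
    · rcases H.inverts_mem hb.1.1 (mem_dc_symm ha hb.1) (mem_dc_symm hd hb.2) ⟨hy, e, hby⟩ hnc hinv with
        h | h | h
      exacts [n1 h, n2 h, n3 h]
  -- nor does a product of two or three commuting ones
  have hmvd : ∀ b ∈ Dc D a ∩ Dc D d, ¬ Commute b (y * b * y) := by
    intro b hb h
    have h3 := braid_of_pow_three (sq_one hT hb.1.1) yy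
      (mul_pow_three hD hb.1.1 hy (k1 b hb))
    refine k1 b hb ?_
    have h' := h.eq
    rw [h3] at h'
    rw [show b * (b * y * b) = b * b * (y * b) by group, sq_one hT hb.1.1, one_mul,
      show b * y * b * b = b * y * (b * b) by group, sq_one hT hb.1.1, mul_one] at h'
    exact h'.symm
  have conjy : ∀ {u v : G}, Commute u v → Commute (y * u * y) (y * v * y) := fun {u v} h => by
    have := (Commute.conj_iff y).2 h
    rwa [inv_eq hT hy] at this
  have ne_conj : ∀ {u v : G}, u ≠ v → y * u * y ≠ y * v * y := fun h e =>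
    h (mul_left_cancel (mul_right_cancel e))
  have memy : ∀ {u : G}, u ∈ D → y * u * y ∈ D := fun hu => H.tr.conj y hy _ hu
  have k2 : ∀ u ∈ Dc D a ∩ Dc D d, ∀ v ∈ Dc D a ∩ Dc D d, u ≠ v → Commute u v →
      ¬ Commute (u * v) y := by
    intro u hu v hv huv cuv hc
    have e : u * v = (y * u * y) * (y * v * y) := by
      rw [show (y * u * y) * (y * v * y) = y * (u * (y * y) * v) * y by group, yy, mul_one,
        hc.symm.eq, mul_assoc (u * v), yy, mul_one]
    rcases mem_of_prod_two H.tr H.noTwin₂ hu.1.1 hv.1.1 (memy hu.1.1) (memy hv.1.1) huv (ne_conj huv)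
      cuv (conjy cuv) e with h | h
    · exact hmvd u hu (by rw [← h])
    · have h' : y * u * y = v := by
        rw [h, show y * (y * v * y) * y = y * y * v * (y * y) by group, yy, one_mul, mul_one]
      exact hmvd u hu (h' ▸ cuv)
  have k3 : ∀ u ∈ Dc D a ∩ Dc D d, ∀ v ∈ Dc D a ∩ Dc D d, ∀ w ∈ Dc D a ∩ Dc D d,
      u ≠ v → u ≠ w → v ≠ w → Commute u v → Commute u w → Commute v w → ¬ Commute (u * v * w) y := by
    intro u hu v hv w hw nuv nuw nvw cuv cuw cvw hc
    have e : u * v * w = (y * u * y) * (y * v * y) * (y * w * y) := by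
      rw [show (y * u * y) * (y * v * y) * (y * w * y) = y * (u * (y * y) * v * (y * y) * w) * y by group,
        yy, mul_one, mul_one, hc.symm.eq, mul_assoc (u * v * w), yy, mul_one]
    rcases mem_or_twin H.tr H.noTwin₂ (memy hu.1.1) (memy hv.1.1) (memy hw.1.1) hu.1.1 hv.1.1 hw.1.1
      (ne_conj nuv) (ne_conj nuw) (ne_conj nvw) (conjy cuv) (conjy cuw) (conjy cvw) nuv nuw nvw cuv
      cuw cvw e.symm with (h | h | h) | h
    · exact hmvd u hu (by rw [h])
    · exact hmvd u hu (h ▸ cuv)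
    · exact hmvd u hu (h ▸ cuw)
    · -- `u` is a twin of the conjugate triple
      exact hmvd u hu (h.1.1.2.2).symm
  obtain ⟨p, q, r, f₁, f₂, f₃, hp, hq, hr, hqp, hrpq, ⟨t1, t2, t3⟩, ⟨d12, d13, d23⟩, hprod,
    hf1, hf2, hf3⟩ := exists_six hD hprim h22 ha hd hnc
  have cpq : Commute p q := hqp.2.2
  have cpr : Commute p r := hrpq.1.2.2
  have cqr : Commute q r := hrpq.2.2
  have cpf : Commute p f₁ := t1.1.1.2.2
  have cqf : Commute q f₁ := t1.1.2.2
  have crf : Commute r f₁ := t1.2.2.1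
  have pp := sq_one hT hp.1.1
  have qq := sq_one hT hq.1.1
  have rr := sq_one hT hr.1.1
  have ff := sq_one hT hf1.1.1
  let P : Bool → G → G := fun i g => cond i g 1
  let E : Bool × Bool × Bool × Bool → G := fun i => P i.1 p * P i.2.1 q * (P i.2.2.1 r * P i.2.2.2 f₁)
  have Pc : ∀ {g g' : G}, Commute g g' → ∀ i j, Commute (P i g) (P j g') := fun {g g'} h i j => by
    cases i <;> cases j <;> first | exact Commute.one_left _ | exact Commute.one_right _ | exact h
  have Pmul : ∀ {g : G}, g * g = 1 → ∀ i j, P i g * P j g = P (i ^^ j) g := fun {g} h i j => by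
    cases i <;> cases j <;> simp [P, h]
  have Emul : ∀ i j : Bool × Bool × Bool × Bool,
      E i * E j = E (i.1 ^^ j.1, i.2.1 ^^ j.2.1, i.2.2.1 ^^ j.2.2.1, i.2.2.2 ^^ j.2.2.2) := by
    intro i j
    show P i.1 p * P i.2.1 q * (P i.2.2.1 r * P i.2.2.2 f₁) *
      (P j.1 p * P j.2.1 q * (P j.2.2.1 r * P j.2.2.2 f₁)) = _
    rw [(((Pc cpr.symm _ _).mul_right (Pc cqr.symm _ _)).mul_left
        ((Pc cpf.symm _ _).mul_right (Pc cqf.symm _ _))).mul_mul_mul_comm,
      (Pc cpq.symm _ _).mul_mul_mul_comm, (Pc crf.symm _ _).mul_mul_mul_comm,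
      Pmul pp, Pmul qq, Pmul rr, Pmul ff]
  have hfix : ∀ i, Commute (E i) y → i = (false, false, false, false) := by
    rintro ⟨i1, i2, i3, i4⟩ h
    have e4 : p * q * (r * f₁) = f₂ * f₃ := by
      rw [show p * q * (r * f₁) = p * q * r * f₁ by group, ← hprod]
      have c1 : Commute f₁ f₂ := M22.twin_commute t1 t2
      have c2 : Commute f₁ f₃ := M22.twin_commute t1 t3
      rw [mul_assoc f₁, mul_assoc f₁, ← (c1.mul_right c2).eq, ← mul_assoc, ff, one_mul]
    cases i1 <;> cases i2 <;> cases i3 <;> cases i4 <;>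
      simp only [E, P, cond_true, cond_false, one_mul, mul_one, ← mul_assoc] at h ⊢ <;>
      first
        | rfl
        | exact absurd h (k1 _ hp)
        | exact absurd h (k1 _ hq)
        | exact absurd h (k1 _ hr)
        | exact absurd h (k1 _ hf1)
        | exact absurd h (k2 _ hp _ hq hqp.2.1.symm cpq)
        | exact absurd h (k2 _ hp _ hr hrpq.1.2.1.symm cpr)
        | exact absurd h (k2 _ hp _ hf1 t1.1.1.2.1.symm cpf)
        | exact absurd h (k2 _ hq _ hr hrpq.2.1.symm cqr)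
        | exact absurd h (k2 _ hq _ hf1 t1.1.2.1.symm cqf)
        | exact absurd h (k2 _ hr _ hf1 t1.2.1.symm crf)
        | exact absurd h (k3 _ hp _ hq _ hr hqp.2.1.symm hrpq.1.2.1.symm hrpq.2.1.symm cpq cpr cqr)
        | exact absurd h (k3 _ hp _ hq _ hf1 hqp.2.1.symm t1.1.1.2.1.symm t1.1.2.1.symm cpq cpf cqf)
        | exact absurd h (k3 _ hp _ hr _ hf1 hrpq.1.2.1.symm t1.1.1.2.1.symm t1.2.1.symm cpr cpf crf)
        | exact absurd h (k3 _ hq _ hr _ hf1 hrpq.2.1.symm t1.1.2.1.symm t1.2.1.symm cqr cqf crf)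
        | exact absurd (e4 ▸ (by simpa only [← mul_assoc] using h) : Commute (f₂ * f₃) y)
            (k2 _ hf2 _ hf3 d23 (M22.twin_commute t2 t3))
  have Eone : E (false, false, false, false) = 1 := by simp [E, P]
  have Einv : ∀ i, (E i)⁻¹ = E i := fun i => inv_eq_of_mul_eq_one_right (by
    rw [Emul, Bool.xor_self, Bool.xor_self, Bool.xor_self, Bool.xor_self, Eone])
  have Ex : ∀ i, Commute (E i) x := by
    intro i
    have h : ∀ {g}, g ∈ Dc D a ∩ Dc D d → ∀ j, Commute (P j g) x := fun {g} hg j => by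
      cases j
      · exact Commute.one_left _
      · exact hg.1.2.2.symm.mul_right hg.2.2.2.symm
    exact ((h hp _).mul_left (h hq _)).mul_left ((h hr _).mul_left (h hf1 _))
  have Ea : ∀ i, Commute (E i) a ∧ Commute (E i) d := by
    intro i
    have h : ∀ {g}, g ∈ Dc D a ∩ Dc D d → ∀ j, Commute (P j g) a ∧ Commute (P j g) d :=
      fun {g} hg j => by
        cases j
        · exact ⟨Commute.one_left _, Commute.one_left _⟩
        · exact ⟨hg.1.2.2.symm, hg.2.2.2.symm⟩
    exact ⟨((h hp _).1.mul_left (h hq _).1).mul_left ((h hr _).1.mul_left (h hf1 _).1),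
      ((h hp _).2.mul_left (h hq _).2).mul_left ((h hr _).2.mul_left (h hf1 _).2)⟩
  -- the sixteen images and their sets
  let Y : Bool × Bool × Bool × Bool → G := fun i => E i * y * (E i)⁻¹
  have hY : ∀ i, Y i ∈ D ∧ Y i * x * Y i = x⁻¹ ∧ Y i ≠ a ∧ Y i ≠ d ∧ Y i ≠ a * d * a := by
    intro i
    refine ⟨H.conj_mem _ hy, ?_, ?_, ?_, ?_⟩
    · calc Y i * x * Y i = E i * (y * ((E i)⁻¹ * x * E i) * y) * (E i)⁻¹ := by simp only [Y]; group
        _ = E i * (y * x * y) * (E i)⁻¹ := by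
            rw [((Ex i).inv_left).eq, inv_mul_cancel_right]
        _ = x⁻¹ := by rw [hyx, (Ex i).inv_right.eq, mul_inv_cancel_right]
    all_goals intro e
    · exact n1 (mul_left_cancel (mul_right_cancel (e.trans (by
        rw [(Ea i).1.eq, mul_inv_cancel_right]))))
    · exact n2 (mul_left_cancel (mul_right_cancel (e.trans (by
        rw [(Ea i).2.eq, mul_inv_cancel_right]))))
    · exact n3 (mul_left_cancel (mul_right_cancel (e.trans (by
        rw [(((Ea i).1.mul_right (Ea i).2).mul_right (Ea i).1).eq, mul_inv_cancel_right]))))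
  have x2 : x * x = x⁻¹ := eq_inv_of_mul_eq_one_left (by rw [← x3, pow_succ, pow_two])
  have hZ : ∀ i, Y i * x ∈ D ∧ ¬ Commute (Y i) (Y i * x) := by
    intro i
    obtain ⟨hYD, hYx, -⟩ := hY i
    have Y2 := sq_one hT hYD
    have e : x * Y i * x⁻¹ = Y i * x := by
      calc x * Y i * x⁻¹ = x * Y i * (Y i * x * Y i) := by rw [hYx]
        _ = x * x * Y i := by rw [show x * Y i * (Y i * x * Y i) = x * (Y i * Y i) * x * Y i by group, Y2, mul_one]
        _ = Y i * x * Y i * Y i := by rw [x2, hYx]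
        _ = Y i * x := by rw [mul_assoc, Y2, mul_one]
    refine ⟨e ▸ H.conj_mem x hYD, fun h => ?_⟩
    have h' := h.eq
    rw [← mul_assoc, Y2, one_mul, hYx] at h'
    have h2 : x * x = 1 := by nth_rewrite 2 [h']; exact mul_inv_cancel x
    rw [pow_succ, pow_two, h2, one_mul] at x3
    exact hnc (by rw [Commute, SemiconjBy, ← hx, x3, ← inv_inj, inv_one, mul_inv_rev,
      inv_eq hT ha, inv_eq hT hd, ← hx, x3])
  let S : Bool × Bool × Bool × Bool → Set G := fun i => Dc D (Y i) ∩ Dc D (Y i * x)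
  have hSx : ∀ i, ∀ b ∈ S i, Commute b x := fun i b hb => by
    have := hb.1.2.2.symm.mul_right hb.2.2.2.symm
    rwa [← mul_assoc, sq_one hT (hY i).1, one_mul] at this
  have hSU : ∀ i, S i ⊆ {z | z ∈ D ∧ ¬ Commute a z ∧ ¬ Commute d z ∧ ¬ Commute (a * d * a) z} := by
    intro i b hb
    have cbx := hSx i b hb
    have cad : Commute b a → False := by
      intro cba
      have cbd : Commute b d := by
        have := cba.mul_right cbx
        rwa [hx, ← mul_assoc, aa, one_mul] at this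
      have hbS : b ∈ Dc D a ∩ Dc D d :=
        ⟨⟨hb.1.1, fun e => hnc (e ▸ cbd), cba.symm⟩, ⟨hb.1.1, fun e => hnc ((e ▸ cba).symm), cbd.symm⟩⟩
      rcases H.inverts_mem hb.1.1 (mem_dc_symm ha hbS.1) (mem_dc_symm hd hbS.2)
        (mem_dc_symm (hY i).1 hb.1) hnc (by rw [← hx, ← xinv]; exact (hY i).2.1) with h | h | h
      exacts [(hY i).2.2.1 h, (hY i).2.2.2.1 h, (hY i).2.2.2.2 h]
    refine ⟨hb.1.1, fun h => cad h.symm, fun h => cad ?_, fun h => cad ?_⟩
    · have e : x * d = a := by rw [hx, mul_assoc, dd, mul_one]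
      have := cbx.mul_right h.symm
      rwa [e] at this
    · have e : x⁻¹ * (a * d * a) = a := by
        rw [xinv]
        calc d * a * (a * d * a) = d * (a * a) * d * a := by group
          _ = a := by rw [aa, mul_one, dd, one_mul]
      have := cbx.inv_right.mul_right h.symm
      rwa [e] at this
  have hdisj : ∀ i j, i ≠ j → Disjoint (S i) (S j) := by
    intro i j hij
    refine Set.disjoint_left.2 fun b hbi hbj => hij ?_
    have Y2 := sq_one hT (hY i).1
    have hinvj : Y j * (Y i * (Y i * x)) * Y j = Y i * x * Y i := by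
      rw [← mul_assoc (Y i), Y2, one_mul, (hY j).2.1, (hY i).2.1]
    obtain ⟨s, hs, hjs⟩ : ∃ s, (s = 1 ∨ s = x ∨ s = x⁻¹) ∧ Y j = Y i * s := by
      rcases H.inverts_mem hbi.1.1 (mem_dc_symm (hY i).1 hbi.1) (mem_dc_symm (hZ i).1 hbi.2)
        (mem_dc_symm (hY j).1 hbj.1) (hZ i).2 hinvj with h | h | h
      · exact ⟨1, Or.inl rfl, by rw [mul_one]; exact h⟩
      · exact ⟨x, Or.inr (Or.inl rfl), h⟩
      · refine ⟨x⁻¹, Or.inr (Or.inr rfl), h.trans ?_⟩
        rw [← mul_assoc (Y i), Y2, one_mul]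
        calc x * Y i = Y i * Y i * x * Y i := by rw [Y2, one_mul]
          _ = Y i * x⁻¹ := by rw [← (hY i).2.1]; group
    have hsx : Commute s x := by
      rcases hs with rfl | rfl | rfl
      exacts [Commute.one_left x, Commute.refl x, (Commute.refl x).inv_left]
    have hse : ∀ k, Commute (E k) s := fun k => by
      rcases hs with rfl | rfl | rfl
      exacts [Commute.one_right _, Ex k, (Ex k).inv_right]
    set k := (j.1 ^^ i.1, j.2.1 ^^ i.2.1, j.2.2.1 ^^ i.2.2.1, j.2.2.2 ^^ i.2.2.2) with hk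
    have hEk : E k = E i * E j := by
      rw [hk, Emul, Bool.xor_comm j.1, Bool.xor_comm j.2.1, Bool.xor_comm j.2.2.1, Bool.xor_comm j.2.2.2]
    have e1 : E k * y * (E k)⁻¹ = y * s := by
      have h' : E i * Y j * (E i)⁻¹ = E i * (Y i * s) * (E i)⁻¹ := by rw [hjs]
      have h2 : E i * E i = 1 := by nth_rewrite 2 [← Einv i]; exact mul_inv_cancel (E i)
      rw [hEk, mul_inv_rev]
      calc E i * E j * y * ((E j)⁻¹ * (E i)⁻¹) = E i * Y j * (E i)⁻¹ := by simp only [Y]; group
        _ = E i * E i * y * ((E i)⁻¹ * (s * (E i)⁻¹)) := by rw [h']; simp only [Y]; group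
        _ = y * s := by
          rw [h2, one_mul, ← ((hse i).inv_left).eq, ← mul_assoc, ← mul_assoc, mul_assoc y,
            ← mul_inv_rev, h2, inv_one, mul_one]
    have e2 : y = y * s * s := by
      calc y = E k * (E k * y * (E k)⁻¹) * (E k)⁻¹ := by
            rw [Einv, show E k * (E k * y * E k) * E k = E k * E k * y * (E k * E k) by group,
              show E k * E k = 1 by nth_rewrite 2 [← Einv k]; exact mul_inv_cancel (E k),
              one_mul, mul_one]
        _ = E k * y * (s * (E k)⁻¹) := by rw [e1]; group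
        _ = E k * y * (E k)⁻¹ * s := by rw [← ((hse k).inv_left).eq]; group
        _ = y * s * s := by rw [e1]
    have hs1 : s = 1 := by
      have hss : s * s = 1 := mul_left_cancel (a := y) (by rw [mul_one, ← mul_assoc]; exact e2.symm)
      rcases hs with rfl | rfl | rfl
      · rfl
      · rw [pow_succ, pow_two, hss, one_mul] at x3; exact x3
      · rw [← mul_inv_rev, inv_eq_one] at hss
        rw [pow_succ, pow_two, hss, one_mul] at x3
        rw [x3, inv_one]
    rw [hs1, mul_one] at e1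
    have hk0 := hfix k (mul_inv_eq_iff_eq_mul.1 e1)
    rw [hk] at hk0
    simp only [Prod.mk.injEq] at hk0
    obtain ⟨q1, q2, q3, q4⟩ := hk0
    have hb' : ∀ u v : Bool, (v ^^ u) = false → u = v := by decide
    exact Prod.ext (hb' _ _ q1) (Prod.ext (hb' _ _ q2) (Prod.ext (hb' _ _ q3) (hb' _ _ q4)))
  have hcount : ((⋃ i, S i) : Set G).ncard = 16 * 126 := by
    rw [← Nat.card_coe_set_eq, Nat.card_congr (Set.unionEqSigmaOfDisjoint hdisj), Nat.card_sigma,
      Finset.sum_congr rfl (g := fun _ => 126) fun i _ => ?_, Finset.sum_const, Finset.card_univ]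
    · rfl
    · rw [Nat.card_coe_set_eq]
      exact (pair_data hD hprim h22 (hY i).1 (hZ i).1 (hZ i).2).1
  have := Set.ncard_le_ncard (Set.iUnion_subset hSU) (Set.toFinite _)
  rw [hcount, ncard_none hD hprim h22 ha hd hnc] at this
  norm_num at this

end Cfsg.Agent.Transpos
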