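import Cfsg.Agent.Lib.Transpos.Linked

/-!
# Moving `Good` and `NoTwin` between a set of 3-transpositions and its image modulo the centre

`qimg S` is the image of `S` in `⟨S⟩ / Z(⟨S⟩)`. For `E = S \ {1}`:
* `tr_qimg`, `closure_qimg`: the image is again such a set and generates;
* `good_lift`: `Good` lifts;
* `noTwin_lift`: `NoTwin` of the commuting sets lifts;
* `good_step`: `Good` ascends from `Dc E d` when it does not split over the members commuting with a neighbour;
* `active_Dc`: no member of `Dc E d` is isolated there, for transitive twin-free `E`.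
-/

set_option autoImplicit false

namespace Cfsg.Agent.Transpos

variable {G : Type*} [Group G] {E S : Set G}

/-- Every member is active. -/
def AllActive (E : Set G) : Prop := ∀ x ∈ E, Active E x

/-- Two commuting members never commute with the same members. -/
def NoTwin (E : Set G) : Prop := ∀ e ∈ E, ∀ f ∈ E, e ≠ f → Commute e f → ¬ Same E e f

/-- The image of `S` in the group it generates modulo the centre. -/
abbrev qimg (S : Set G) :
    Set (↥(Subgroup.closure S) ⧸ Subgroup.center ↥(Subgroup.closure S)) :=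
  (QuotientGroup.mk : ↥(Subgroup.closure S) → _) '' {x : ↥(Subgroup.closure S) | (x : G) ∈ S}

/-- The map onto the quotient by the centre. -/
abbrev qpi (S : Set G) : ↥(Subgroup.closure S) →*
    ↥(Subgroup.closure S) ⧸ Subgroup.center ↥(Subgroup.closure S) :=
  QuotientGroup.mk' (Subgroup.center ↥(Subgroup.closure S))

theorem NoTwin.of_thin (h : Thin E) (ha : AllActive E) : NoTwin E :=
  fun e he f hf hne hc hs => h e he f hf hne hc hs (ha e he)

theorem NoTwin.thin (h : NoTwin E) : Thin E :=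
  fun e he f hf hne hc hs => absurd hs (h e he f hf hne hc)

theorem Trans.of_conn (hE : Tr E) (hc : Conn E) (ha : AllActive E) : Trans E := fun x hx y hy => by
  obtain ⟨g, hg, hgx⟩ := (hc x y (ha x hx) (ha y hy)).exists_conj hE
  exact ⟨g, hgx, hE.stab_closure hg⟩

theorem allActive_of_center (hE : Tr E) (hgen : Subgroup.closure E = ⊤)
    (hc : Subgroup.center G = ⊥) : AllActive E := fun x hx => by
  by_contra h
  refine ne_one hE.set hx ?_
  have hx' : x ∈ Subgroup.center G := Subgroup.mem_center_iff.mpr fun g =>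
    (central_of_not_active hx h (by rw [hgen]; trivial : g ∈ Subgroup.closure E)).eq
  rwa [hc, Subgroup.mem_bot] at hx'

theorem Dc_subset (d : G) : Dc E d ⊆ E := fun _ h => h.1

theorem Dc_diff_one (S : Set G) (d : G) : Dc (S \ {1}) d = Dc S d \ {1} := by
  ext y; simp only [Dc, Set.mem_setOf_eq, Set.mem_diff]; tauto

theorem Tr.of_subset (hE : Tr E) {F : Set G} (hF : F ⊆ E)
    (h : ∀ x ∈ F, ∀ y ∈ F, x * y * x ∈ F) : Tr F :=
  ⟨⟨fun x hx => hE.set.1 x (hF hx), fun x hx y hy => hE.set.2 x (hF hx) y (hF hy)⟩, h⟩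

theorem Tr.dc (hE : Tr E) {d : G} (hd : d ∈ E) : Tr (Dc E d) := by
  refine hE.of_subset (Dc_subset d) fun x hx y hy => ⟨hE.conj x hx.1 y hy.1, fun h => ?_, ?_⟩
  · apply hy.2.1
    have h1 := conj_involutive hE.set hx.1 y
    rw [h, conj_of_commute hE.set hx.1 hx.2.2.symm] at h1
    exact h1.symm
  · exact (hx.2.2.mul_right hy.2.2).mul_right hx.2.2

theorem NoTwin.dc_conj {g d d' : G} (hg : Stab E g) (hgd : g * d * g⁻¹ = d')
    (h : NoTwin (Dc E d)) : NoTwin (Dc E d') := by
  have hpull : ∀ y ∈ Dc E d', g⁻¹ * y * g ∈ Dc E d := fun y hy => by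
    refine ⟨(hg y hy.1).2, fun h => hy.2.1 ?_, ?_⟩
    · rw [← hgd, ← h]; group
    · refine (commute_conj_iff g).mp ?_
      rw [hgd, show g * (g⁻¹ * y * g) * g⁻¹ = y by group]
      exact hy.2.2
  intro e he f hf hne hc hs
  refine h _ (hpull e he) _ (hpull f hf) (fun h => hne ?_) ?_ ?_
  · exact mul_left_cancel (mul_right_cancel h)
  · refine (commute_conj_iff g).mp ?_
    rwa [show g * (g⁻¹ * e * g) * g⁻¹ = e by group, show g * (g⁻¹ * f * g) * g⁻¹ = f by group]
  · intro x hx
    have hx' : g * x * g⁻¹ ∈ Dc E d' := by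
      refine ⟨(hg x hx.1).1, fun h => hx.2.1 ?_, ?_⟩
      · rw [← hgd] at h; exact mul_left_cancel (mul_right_cancel h)
      · rw [← hgd]; exact (commute_conj_iff g).mpr hx.2.2
    rw [← commute_conj_iff g (a := x) (b := g⁻¹ * e * g),
      ← commute_conj_iff g (a := x) (b := g⁻¹ * f * g),
      show g * (g⁻¹ * e * g) * g⁻¹ = e by group, show g * (g⁻¹ * f * g) * g⁻¹ = f by group]
    exact hs _ hx'

section lift

variable (hS : Tr (S \ {1}))

theorem closure_diff_one (S : Set G) : Subgroup.closure (S \ {1}) = Subgroup.closure S :=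
  le_antisymm (Subgroup.closure_mono Set.diff_subset) <| (Subgroup.closure_le _).mpr fun x hx => by
    by_cases h : x = 1
    · rw [h]; exact one_mem _
    · exact Subgroup.subset_closure ⟨hx, h⟩

theorem closure_qimg (S : Set G) : Subgroup.closure (qimg S) = ⊤ := by
  have h : (Subgroup.closure {x : ↥(Subgroup.closure S) | (x : G) ∈ S}).map (qpi S) = ⊤ := by
    rw [show Subgroup.closure {x : ↥(Subgroup.closure S) | (x : G) ∈ S} = ⊤ from
        Subgroup.closure_closure_coe_preimage, ← MonoidHom.range_eq_map,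
      MonoidHom.range_eq_top.mpr (QuotientGroup.mk'_surjective _)]
  rw [MonoidHom.map_closure] at h
  exact h

theorem pi_eq_one {x : ↥(Subgroup.closure S)} (h : (qpi S) x = 1) (g : ↥(Subgroup.closure S)) :
    Commute (g : G) (x : G) := by
  have hx := (QuotientGroup.eq_one_iff x).mp h
  exact congrArg Subtype.val (Subgroup.mem_center_iff.mp hx g)

include hS in
theorem commute_pi_iff {x y : ↥(Subgroup.closure S)} (hx : (x : G) ∈ S \ {1})
    (hy : (y : G) ∈ S \ {1}) : Commute ((qpi S) x) ((qpi S) y) ↔ Commute (x : G) (y : G) := by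
  constructor
  · intro h
    by_contra hne
    have h1 : (qpi S) ((x * y) * (x * y)) = 1 := by
      have ex : (qpi S) x * (qpi S) x = 1 := by
        rw [← map_mul, show x * x = 1 from Subtype.ext (sq_one hS.set hx), map_one]
      have ey : (qpi S) y * (qpi S) y = 1 := by
        rw [← map_mul, show y * y = 1 from Subtype.ext (sq_one hS.set hy), map_one]
      rw [map_mul, map_mul, h.symm.mul_mul_mul_comm, ex, ey, one_mul]
    have h3 : (x * y) * ((x * y) * (x * y)) = 1 := by
      refine Subtype.ext ?_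
      have := pow_three_of_not_commute hS.set hx hy hne
      rw [pow_succ', pow_succ', pow_one] at this
      exact this
    have h4 : (qpi S) (x * y) = 1 := by
      have := congrArg (qpi S) h3
      rwa [map_mul, h1, mul_one, map_one] at this
    have h5 : Commute (x : G) ((x : G) * y) := pi_eq_one h4 x
    apply hne
    have h6 : (x : G) * ((x : G) * y) = (x : G) * ((y : G) * x) := h5.eq.trans (mul_assoc _ _ _)
    exact mul_left_cancel h6
  · intro h
    exact (show Commute x y from Subtype.ext h).map (qpi S)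

theorem pi_ne_one {x : ↥(Subgroup.closure S)} (hx : Active (S \ {1}) (x : G)) : (qpi S) x ≠ 1 := by
  intro h
  obtain ⟨_, y, hy, hxy⟩ := hx
  exact hxy (pi_eq_one h ⟨y, Subgroup.subset_closure hy.1⟩).symm

theorem active_of_pi_ne_one {x : ↥(Subgroup.closure S)} (hx : (x : G) ∈ S \ {1}) (h : (qpi S) x ≠ 1) :
    Active (S \ {1}) (x : G) := by
  by_contra hna
  refine h ((QuotientGroup.eq_one_iff x).mpr (Subgroup.mem_center_iff.mpr fun g => Subtype.ext ?_))
  have hg : (g : G) ∈ Subgroup.closure (S \ {1}) := by rw [closure_diff_one]; exact g.2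
  exact (central_of_not_active hx hna hg).eq

theorem exists_rep {β : ↥(Subgroup.closure S) ⧸ Subgroup.center ↥(Subgroup.closure S)}
    (hβ : β ∈ qimg S \ {1}) :
    ∃ x : ↥(Subgroup.closure S), Active (S \ {1}) (x : G) ∧ (qpi S) x = β := by
  obtain ⟨⟨x, hx, rfl⟩, h1⟩ := hβ
  refine ⟨x, active_of_pi_ne_one ⟨hx, fun h => h1 ?_⟩ (fun h => h1 h), rfl⟩
  rw [Set.mem_singleton_iff] at h ⊢
  rw [show x = 1 from Subtype.ext h]
  rfl

theorem mem_qimg {x : ↥(Subgroup.closure S)} (hx : Active (S \ {1}) (x : G)) :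
    (qpi S) x ∈ qimg S \ {1} :=
  ⟨⟨x, hx.1.1, rfl⟩, pi_ne_one hx⟩

include hS in
theorem tr_qimg : Tr (qimg S \ {1}) := by
  refine ⟨⟨fun β hβ => ?_, fun β hβ γ hγ => ?_⟩, fun β hβ γ hγ => ?_⟩
  · obtain ⟨x, hx, rfl⟩ := exists_rep hβ
    refine orderOf_eq_prime ?_ hβ.2
    rw [← map_pow, show x ^ 2 = 1 from Subtype.ext (by rw [pow_two]; exact sq_one hS.set hx.1), map_one]
  · obtain ⟨x, hx, rfl⟩ := exists_rep hβ
    obtain ⟨y, hy, rfl⟩ := exists_rep hγ
    rw [← map_mul, ← map_pow, ← map_pow]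
    rcases hS.set.2 _ hx.1 _ hy.1 with h | h
    · left; rw [show (x * y) ^ 2 = 1 from Subtype.ext h, map_one]
    · right; rw [show (x * y) ^ 3 = 1 from Subtype.ext h, map_one]
  · obtain ⟨x, hx, rfl⟩ := exists_rep hβ
    obtain ⟨y, hy, rfl⟩ := exists_rep hγ
    rw [← map_mul, ← map_mul]
    refine mem_qimg ?_
    have h := Active.conj (stab_of_mem hS hx.1) hy
    rw [hS.inv hx.1] at h
    exact h

include hS in
theorem pi_inj {x y : ↥(Subgroup.closure S)} (hx : Active (S \ {1}) (x : G))
    (hy : Active (S \ {1}) (y : G)) (h : (qpi S) x = (qpi S) y) : (x : G) = (y : G) := by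
  have hc : Commute (x : G) (y : G) := (commute_pi_iff hS hx.1 hy.1).mp (by rw [h])
  by_contra hne
  obtain ⟨hxE, w, hw, hxw⟩ := hx
  have h1 : (qpi S) (x * y) = 1 := by
    rw [map_mul, ← h, ← map_mul, show x * x = 1 from Subtype.ext (sq_one hS.set hxE), map_one]
  have h2 : Commute w ((x : G) * y) := pi_eq_one h1 ⟨w, Subgroup.subset_closure hw.1⟩
  exact hxw (commute_both hS.set hxE hy.1 hw hne hc h2).1.symm

include hS in
theorem linked_lift {β γ : ↥(Subgroup.closure S) ⧸ Subgroup.center ↥(Subgroup.closure S)}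
    (h : Linked (qimg S \ {1}) β γ) {x y : ↥(Subgroup.closure S)}
    (hx : Active (S \ {1}) (x : G)) (hy : Active (S \ {1}) (y : G)) (hβ : (qpi S) x = β) (hγ : (qpi S) y = γ) :
    Linked (S \ {1}) (x : G) (y : G) := by
  induction h generalizing y with
  | refl => rw [pi_inj hS hx hy (hβ.trans hγ.symm)]; exact .refl
  | @tail μ ν _ hs ih =>
    obtain ⟨m, hm, hmμ⟩ := exists_rep hs.1
    refine (ih hm hmμ).tail ⟨hm.1, hy.1, fun hc => hs.2.2 ?_⟩
    rw [← hmμ, ← hγ]
    exact (commute_pi_iff hS hm.1 hy.1).mpr hc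

include hS in
theorem good_lift (h : Good (qimg S \ {1})) : Good (S \ {1}) := by
  have hact : ∀ x : ↥(Subgroup.closure S), Active (S \ {1}) (x : G) →
      Active (qimg S \ {1}) ((qpi S) x) := fun x hx => by
    refine ⟨mem_qimg hx, ?_⟩
    obtain ⟨hxE, w, hw, hxw⟩ := hx
    let w' : ↥(Subgroup.closure S) := ⟨w, Subgroup.subset_closure hw.1⟩
    exact ⟨(qpi S) w', mem_qimg (x := w') ⟨hw, _, hxE, fun hc => hxw hc.symm⟩,
      fun hc => hxw ((commute_pi_iff hS hxE (y := w') hw).mp hc)⟩
  refine ⟨fun x y hx hy => ?_, fun e he f hf hne hc hs hae => ?_⟩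
  · let x' : ↥(Subgroup.closure S) := ⟨x, Subgroup.subset_closure hx.1.1⟩
    let y' : ↥(Subgroup.closure S) := ⟨y, Subgroup.subset_closure hy.1.1⟩
    exact linked_lift hS (x := x') (y := y') (h.1 _ _ (hact x' hx) (hact y' hy)) hx hy rfl rfl
  · have haf : Active (S \ {1}) f := by
      obtain ⟨_, w, hw, hew⟩ := hae
      exact ⟨hf, w, hw, fun hc => hew ((hs w hw).mpr hc.symm).symm⟩
    let e' : ↥(Subgroup.closure S) := ⟨e, Subgroup.subset_closure he.1⟩
    let f' : ↥(Subgroup.closure S) := ⟨f, Subgroup.subset_closure hf.1⟩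
    refine h.2 ((qpi S) e') (mem_qimg (x := e') hae) ((qpi S) f') (mem_qimg (x := f') haf)
      (fun h => hne (pi_inj hS (x := e') (y := f') hae haf h))
      ((commute_pi_iff hS (x := e') (y := f') he hf).mpr hc) ?_ (hact e' hae)
    intro μ hμ
    obtain ⟨w, hw, rfl⟩ := exists_rep hμ
    rw [commute_pi_iff hS hw.1 (y := e') he, commute_pi_iff hS hw.1 (y := f') hf]
    exact hs _ hw.1

include hS in
theorem noTwin_lift (ha : AllActive (S \ {1})) (h : ∀ β ∈ qimg S \ {1}, NoTwin (Dc (qimg S \ {1}) β))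
    {b : G} (hb : b ∈ S \ {1}) : NoTwin (Dc (S \ {1}) b) := by
  let b' : ↥(Subgroup.closure S) := ⟨b, Subgroup.subset_closure hb.1⟩
  have hb' := h ((qpi S) b') (mem_qimg (x := b') (ha b hb))
  have hmem : ∀ x : ↥(Subgroup.closure S), (x : G) ∈ Dc (S \ {1}) b →
      (qpi S) x ∈ Dc (qimg S \ {1}) ((qpi S) b') := fun x hx =>
    ⟨mem_qimg (ha _ hx.1), fun h => hx.2.1 (pi_inj hS (ha _ hx.1) (y := b') (ha b hb) h),
      (commute_pi_iff hS (x := b') hb hx.1).mpr hx.2.2⟩
  intro e he f hf hne hc hs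
  let e' : ↥(Subgroup.closure S) := ⟨e, Subgroup.subset_closure he.1.1⟩
  let f' : ↥(Subgroup.closure S) := ⟨f, Subgroup.subset_closure hf.1.1⟩
  refine hb' ((qpi S) e') (hmem e' he) ((qpi S) f') (hmem f' hf)
    (fun h => hne (pi_inj hS (x := e') (y := f') (ha e he.1) (ha f hf.1) h))
    ((commute_pi_iff hS (x := e') (y := f') he.1 hf.1).mpr hc) ?_
  intro μ hμ
  obtain ⟨w, hw, rfl⟩ := exists_rep hμ.1
  have hwmem : (w : G) ∈ Dc (S \ {1}) b := by
    refine ⟨hw.1, fun h => hμ.2.1 ?_, (commute_pi_iff hS (x := b') hb hw.1).mp hμ.2.2⟩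
    rw [show w = b' from Subtype.ext h]
  rw [commute_pi_iff hS hw.1 (y := e') he.1, commute_pi_iff hS hw.1 (y := f') hf.1]
  exact hs _ hwmem

end lift

/-- `Good` ascends from `Dc E d` if that set does not split over the members commuting with `c`. -/
theorem good_step (hE : Tr E) (ha : AllActive E) {d c : G} (hd : d ∈ E) (hc : c ∈ E)
    (hdc : ¬ Commute d c) (hg : Good (Dc E d)) (hne : ∃ x, Active (Dc E d) x)
    (hns : ¬ Subgroup.closure (Dc E d) ≤ Subgroup.closure (Dc E d ∩ Dc E c) ⊔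
      (Subgroup.center ↥(Subgroup.closure (Dc E d))).map (Subgroup.closure (Dc E d)).subtype) :
    Good E := by
  have key : ∀ e ∈ E, Linked E d e := by
    intro e he
    by_contra hle
    have hed : ∀ y ∈ E, ¬ Linked E d y → Commute d y := fun y hy hly => by
      by_contra hdy
      exact hly (Relation.ReflTransGen.single ⟨hd, hy, hdy⟩)
    have hem : e ∈ Dc E d := ⟨he, fun h => hle (h ▸ Relation.ReflTransGen.refl), hed e he hle⟩
    have heact : Active (Dc E d) e := by
      obtain ⟨_, y, hy, hey⟩ := ha e he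
      have hly : ¬ Linked E d y := fun h =>
        hle (h.tail ⟨hy, he, fun hc => hey hc.symm⟩)
      exact ⟨hem, y, ⟨hy, fun h => hey (by rw [h]; exact hem.2.2.symm), hed y hy hly⟩, hey⟩
    apply hns
    rw [Subgroup.closure_le]
    intro a haS
    by_cases hla : Linked E d a
    · refine Subgroup.mem_sup_right ⟨⟨a, Subgroup.subset_closure haS⟩, ?_, rfl⟩
      have hna : ¬ Active (Dc E d) a := fun h =>
        hle (Relation.ReflTransGen.trans hla ((hg.1 a e h heact).mono (Dc_subset d)))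
      exact Subgroup.mem_center_iff.mpr fun g => Subtype.ext (central_of_not_active haS hna g.2).eq
    · refine Subgroup.mem_sup_left (Subgroup.subset_closure ⟨haS, haS.1, fun h => hla ?_, ?_⟩)
      · rw [h]; exact Relation.ReflTransGen.single ⟨hd, hc, hdc⟩
      · by_contra hca
        exact hla ((Relation.ReflTransGen.single ⟨hd, hc, hdc⟩ : Linked E d c).tail
          ⟨hc, haS.1, hca⟩)
  have hconn : Conn E := fun x y hx hy => (key x hx.1).symm.trans (key y hy.1)
  exact ⟨hconn, thin_of_trans (Trans.of_conn hE hconn ha) hd hg.2 hne⟩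

theorem active_Dc [Finite G] (ht : Trans E) (hn : NoTwin E) {d e : G} (hd : d ∈ E)
    (he : e ∈ Dc E d) : Active (Dc E d) e := by
  by_contra hna
  let C : G → Set G := fun x => {w | w ∈ E ∧ Commute x w}
  have hsub : C d ⊆ C e := by
    rintro w ⟨hw, hdw⟩
    refine ⟨hw, ?_⟩
    by_cases hwd : w = d
    · rw [hwd]; exact he.2.2.symm
    · by_contra hew
      exact hna ⟨he, w, ⟨hw, hwd, hdw⟩, hew⟩
  obtain ⟨g, hg, hst⟩ := ht e he.1 d hd
  have hle : (C e).ncard ≤ (C d).ncard := by
    refine Set.ncard_le_ncard_of_injOn (fun w => g * w * g⁻¹) ?_ ?_ (Set.toFinite _)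
    · rintro w ⟨hw, hew⟩
      exact ⟨(hst w hw).1, hg ▸ (commute_conj_iff g).mpr hew⟩
    · exact fun a _ b _ h => mul_left_cancel (mul_right_cancel h)
  have heq : C d = C e := Set.eq_of_subset_of_ncard_le hsub hle (Set.toFinite _)
  refine hn d hd e he.1 he.2.1.symm he.2.2 fun x hx => ?_
  have := Set.ext_iff.mp heq x
  constructor
  · intro h; exact (this.mp ⟨hx, h.symm⟩).2.symm
  · intro h; exact (this.mpr ⟨hx, h.symm⟩).2.symm

end Cfsg.Agent.Transpos
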