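import Cfsg.Prelude.Def_FischerSpaces
import Cfsg.Agent.Lib.Transpos.Lift
import Cfsg.Agent.Lib.Forms.HermCenter
import Cfsg.Agent.Lib.ClassicalSimple.UnitaryMatrix

/-!
# Groups of type M(22), M(23), M(24): connectedness and absence of twins

`m22_level`, `m23_level`: the non-identity members form a `Good` set with all members active and no
twins among the members commuting with one of them. `Sec`: what follows for a group of type M(23) or
M(24) with transitive `D` (`sec_of_type`): for `a ∈ D` the members commuting with `a` are connected,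
all active, twin free, and so are the members commuting with two commuting `a`, `b`.
-/

set_option autoImplicit false

namespace Cfsg.Agent.Transpos

open Cfsg

variable {G : Type*} [Group G]

section maps

variable {A B : Set G} {g : G}

/-- Conjugation by `g` carries `A` onto `B`. -/
def Carries (g : G) (A B : Set G) : Prop :=
  (∀ x ∈ A, g * x * g⁻¹ ∈ B) ∧ ∀ y ∈ B, g⁻¹ * y * g ∈ A

theorem Stab.carries {E : Set G} (h : Stab E g) : Carries g E E :=
  ⟨fun x hx => (h x hx).1, fun y hy => (h y hy).2⟩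

theorem Carries.dc (h : Carries g A B) (d : G) : Carries g (Dc A d) (Dc B (g * d * g⁻¹)) := by
  constructor
  · exact fun x hx => ⟨h.1 x hx.1, fun e => hx.2.1 (mul_left_cancel (mul_right_cancel e)),
      (commute_conj_iff g).mpr hx.2.2⟩
  · intro y hy
    refine ⟨h.2 y hy.1, fun e => hy.2.1 ?_, (commute_conj_iff g).mp ?_⟩
    · rw [← e]; group
    · rw [show g * (g⁻¹ * y * g) * g⁻¹ = y by group]; exact hy.2.2

theorem Carries.noTwin (h : Carries g A B) (hA : NoTwin A) : NoTwin B := by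
  intro e he f hf hne hc hs
  have ee : g * (g⁻¹ * e * g) * g⁻¹ = e := by group
  have ef : g * (g⁻¹ * f * g) * g⁻¹ = f := by group
  refine hA _ (h.2 e he) _ (h.2 f hf) (fun H => hne (mul_left_cancel (mul_right_cancel H))) ?_ ?_
  · refine (commute_conj_iff g).mp ?_
    rwa [ee, ef]
  · intro x hx
    rw [← commute_conj_iff g (a := x) (b := g⁻¹ * e * g),
      ← commute_conj_iff g (a := x) (b := g⁻¹ * f * g), ee, ef]
    exact hs _ (h.1 x hx)

theorem Carries.conn (h : Carries g A B) (hA : Conn A) : Conn B := by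
  intro x y hx hy
  have act : ∀ z, Active B z → Active A (g⁻¹ * z * g) := by
    rintro z ⟨hz, w, hw, hzw⟩
    refine ⟨h.2 z hz, _, h.2 w hw, fun hc => hzw ?_⟩
    have := (commute_conj_iff g).mpr hc
    rwa [show g * (g⁻¹ * z * g) * g⁻¹ = z by group, show g * (g⁻¹ * w * g) * g⁻¹ = w by group] at this
  have key : ∀ u v, Linked A u v → Linked B (g * u * g⁻¹) (g * v * g⁻¹) := fun u v huv => by
    induction huv with
    | refl => exact .refl
    | tail _ hs ih =>
      exact ih.tail ⟨h.1 _ hs.1, h.1 _ hs.2.1, fun hc => hs.2.2 ((commute_conj_iff g).mp hc)⟩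
  have := key _ _ (hA _ _ (act x hx) (act y hy))
  rwa [show g * (g⁻¹ * x * g) * g⁻¹ = x by group, show g * (g⁻¹ * y * g) * g⁻¹ = y by group] at this

end maps

theorem card_quotient_eq_of_split {L H : Subgroup G} (hLH : L ≤ H)
    (h : H ≤ L ⊔ (Subgroup.center ↥H).map H.subtype) :
    Nat.card (↥H ⧸ Subgroup.center ↥H) = Nat.card (↥L ⧸ Subgroup.center ↥L) := by
  have htop : L.subgroupOf H ⊔ Subgroup.center ↥H = ⊤ := by
    refine Subgroup.map_injective H.subtype_injective (le_antisymm (Subgroup.map_mono le_top) ?_)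
    rw [Subgroup.map_sup, Subgroup.map_subgroupOf_eq_of_le hLH, ← MonoidHom.range_eq_map,
      Subgroup.range_subtype]
    exact h
  let f : ↥L →* ↥H ⧸ Subgroup.center ↥H :=
    (QuotientGroup.mk' (Subgroup.center ↥H)).comp (Subgroup.inclusion hLH)
  have hf : Function.Surjective f := by
    intro q
    obtain ⟨x, rfl⟩ := QuotientGroup.mk'_surjective (Subgroup.center ↥H) q
    obtain ⟨l, hl, z, hz, hlz⟩ := Subgroup.mem_sup_of_normal_right.mp
      (htop ▸ Subgroup.mem_top x : x ∈ L.subgroupOf H ⊔ Subgroup.center ↥H)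
    refine ⟨⟨(l : G), hl⟩, ?_⟩
    rw [← hlz, map_mul]
    show QuotientGroup.mk' _ l = QuotientGroup.mk' _ l * QuotientGroup.mk' _ z
    rw [show QuotientGroup.mk' (Subgroup.center ↥H) z = 1 from (QuotientGroup.eq_one_iff z).mpr hz,
      mul_one]
  have hker : f.ker = Subgroup.center ↥L := by
    ext l
    constructor
    · intro hl
      have hl' := (QuotientGroup.eq_one_iff _).mp hl
      exact Subgroup.mem_center_iff.mpr fun k => Subtype.ext
        (congrArg (fun t : ↥H => (t : G)) (Subgroup.mem_center_iff.mp hl' (Subgroup.inclusion hLH k)) :)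
    · intro hl
      refine (QuotientGroup.eq_one_iff _).mpr ?_
      have hle : L.subgroupOf H ⊔ Subgroup.center ↥H ≤
          Subgroup.centralizer ({Subgroup.inclusion hLH l} : Set ↥H) := by
        refine sup_le (fun k hk => ?_) (fun k hk => ?_)
        · exact Subgroup.mem_centralizer_singleton_iff.mpr (Subtype.ext
            (congrArg (fun t : ↥L => (t : G)) (Subgroup.mem_center_iff.mp hl ⟨k, hk⟩) :))
        · exact Subgroup.mem_centralizer_singleton_iff.mpr
            (Subgroup.mem_center_iff.mp hk _).symm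
      rw [htop] at hle
      exact Subgroup.mem_center_iff.mpr fun k =>
        Subgroup.mem_centralizer_singleton_iff.mp (hle (Subgroup.mem_top k))
  rw [← hker]
  exact (Nat.card_congr (QuotientGroup.quotientKerEquivOfSurjective f hf).toEquiv).symm

theorem exists_active_of_card {E : Set G}
    (h : Nat.card (↥(Subgroup.closure E) ⧸ Subgroup.center ↥(Subgroup.closure E)) ≠ 1) :
    ∃ x, Active E x := by
  by_contra hne
  simp only [not_exists] at hne
  apply h
  have hle : Subgroup.closure E ≤ Subgroup.centralizer (Subgroup.closure E : Set G) := by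
    rw [Subgroup.closure_le]
    intro x hx
    exact Subgroup.mem_centralizer_iff.mpr fun g hg => (central_of_not_active hx (hne x) hg).eq
  have htop : Subgroup.center ↥(Subgroup.closure E) = ⊤ := eq_top_iff.mpr fun x _ =>
    Subgroup.mem_center_iff.mpr fun g =>
      Subtype.ext (Subgroup.mem_centralizer_iff.mp (hle x.2) _ g.2)
  exact (Subgroup.index_eq_one.mpr htop)

theorem not_dvd_card_refl {X : Type*} [Group X] {n : ℕ} (hn : n = 6 ∨ n = 7) {μ c₃ : ZMod 3}
    (h : IsProjReflectionGroupModThree X n μ c₃) : ¬ 2 ^ 15 ∣ Nat.card X := by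
  obtain ⟨Q, -, -, ⟨e⟩⟩ := h
  intro hdvd
  rw [Nat.card_congr e.toEquiv] at hdvd
  have h1 := hdvd.trans (((Subgroup.card_quotient_dvd_card _).trans
    (Subgroup.card_subgroup_dvd_card _)).trans (Subgroup.card_subgroup_dvd_card _))
  haveI : Fact (Nat.Prime 3) := ⟨Nat.prime_three⟩
  rw [Matrix.card_GL_field, ZMod.card, Fin.prod_univ_eq_prod_range (fun i => 3 ^ n - 3 ^ i) n] at h1
  rcases hn with rfl | rfl <;> norm_num [Finset.prod_range_succ] at h1

theorem dc_inter_diff_one (S : Set G) (d c : G) :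
    Dc (S \ {1}) d ∩ Dc (S \ {1}) c = (Dc S d ∩ Dc S c) \ {1} := by
  ext y; simp only [Dc_diff_one, Set.mem_inter_iff, Set.mem_diff]; tauto

theorem ne_one_of_not_commute {d c : G} (h : ¬ Commute d c) : d ≠ 1 ∧ c ≠ 1 :=
  ⟨fun e => h (e ▸ Commute.one_left c), fun e => h (e ▸ Commute.one_right d)⟩

theorem good_of_card {D : Set G} (hE : Tr (D \ {1})) (ha : AllActive (D \ {1})) {d c : G}
    (hd : d ∈ D) (hc : c ∈ D) (hdc : ¬ Commute d c) (hg : Good (Dc (D \ {1}) d))
    (hcard : 2 ^ 15 ∣ Nat.card (↥(Subgroup.closure (Dc D d)) ⧸ Subgroup.center ↥(Subgroup.closure (Dc D d))))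
    {n : ℕ} (hn : n = 6 ∨ n = 7) {μ c₃ : ZMod 3}
    (hL : IsProjReflectionGroupModThree (↥(Subgroup.closure (Dc D d ∩ Dc D c)) ⧸
      Subgroup.center ↥(Subgroup.closure (Dc D d ∩ Dc D c))) n μ c₃) :
    Good (D \ {1}) ∧ ∃ x, Active (Dc (D \ {1}) d) x := by
  obtain ⟨hd1, hc1⟩ := ne_one_of_not_commute hdc
  rw [← closure_diff_one (Dc D d), ← Dc_diff_one] at hcard
  rw [← closure_diff_one (Dc D d ∩ Dc D c), ← dc_inter_diff_one] at hL
  have hne : ∃ x, Active (Dc (D \ {1}) d) x := by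
    refine exists_active_of_card fun h1 => ?_
    rw [h1] at hcard
    norm_num at hcard
  refine ⟨good_step hE ha ⟨hd, hd1⟩ ⟨hc, hc1⟩ hdc hg hne fun hsplit => not_dvd_card_refl hn hL ?_, hne⟩
  rwa [← card_quotient_eq_of_split (Subgroup.closure_mono Set.inter_subset_left) hsplit]

theorem dvd_card_PSU6 {F : Type*} [Field F] [Fintype F] (hF : Fintype.card F = 4) :
    2 ^ 15 ∣ Nat.card (PSU 6 F 2) := by
  have hF' : Fintype.card F = 2 ^ 2 := by rw [hF]; norm_num
  have h := Forms.card_PSU_mul hF' (n := 6) (by norm_num)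
  rw [Forms.card_GU hF'] at h
  norm_num [Finset.prod_range_succ, Nat.even_iff] at h ⊢
  omega

theorem card_closure_dvd (S : Set G) :
    Nat.card (↥(Subgroup.closure S) ⧸ Subgroup.center ↥(Subgroup.closure S)) ∣ Nat.card G :=
  (Subgroup.card_quotient_dvd_card _).trans (Subgroup.card_subgroup_dvd_card _)

theorem tr_dc {D : Set G} (hE : Tr (D \ {1})) {d : G} (hd : d ∈ D \ {1}) : Tr (Dc D d \ {1}) := by
  rw [← Dc_diff_one]; exact hE.dc hd

theorem m22_level [Finite G] {D : Set G} (hE : Tr (D \ {1})) (hgen : Subgroup.closure D = ⊤)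
    (h : IsOfTypeM22 G D) :
    (D \ {1}).Nonempty ∧ Good (D \ {1}) ∧ AllActive (D \ {1}) ∧
      (∀ β ∈ D \ {1}, NoTwin (Dc (D \ {1}) β)) ∧ 2 ^ 15 ∣ Nat.card G := by
  obtain ⟨hZ, d, hd, c, hc, hdc, ⟨F, iF, iFt, hF, ⟨e⟩⟩, c₃, -, hL⟩ := h
  have hd1 : d ∈ D \ {1} := ⟨hd, (ne_one_of_not_commute hdc).1⟩
  have ha : AllActive (D \ {1}) := allActive_of_center hE (by rw [closure_diff_one, hgen]) hZ
  have hU : IsSimpleGroup (PSU 6 F 2) :=
    ClassicalSimple.PSU_isSimpleGroup (q := 2) (by rw [hF]; norm_num) (by norm_num) (by norm_num)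
  have hcard : 2 ^ 15 ∣ Nat.card (↥(Subgroup.closure (Dc D d)) ⧸ Subgroup.center ↥(Subgroup.closure (Dc D d))) := by
    have h1 := dvd_card_PSU6 (F := F) hF
    rw [← Nat.card_congr e.toEquiv] at h1
    exact h1
  have hg : Good (Dc (D \ {1}) d) := by
    refine good_of_simple (hE.dc hd1) ?_
    rw [Dc_diff_one, closure_diff_one]
    exact MulEquiv.isSimpleGroup e
  obtain ⟨hgood, hne⟩ := good_of_card hE ha hd hc hdc hg hcard (Or.inl rfl) hL
  have ht := Trans.of_conn hE hgood.1 ha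
  have hn := NoTwin.of_thin hgood.2 ha
  have hnd : NoTwin (Dc (D \ {1}) d) :=
    NoTwin.of_thin hg.2 fun x hx => active_Dc ht hn hd1 hx
  refine ⟨⟨d, hd1⟩, hgood, ha, fun β hβ => ?_, hcard.trans (card_closure_dvd _)⟩
  obtain ⟨g, hg', hst⟩ := ht d hd1 β hβ
  exact hg' ▸ ((hst.carries).dc d).noTwin hnd

/-- The statements about members commuting with one or two members. -/
def Sec (E : Set G) : Prop :=
  ∀ a ∈ E, Conn (Dc E a) ∧ AllActive (Dc E a) ∧ NoTwin (Dc E a) ∧
    ∀ b ∈ Dc E a, NoTwin (Dc (Dc E a) b)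

theorem sec_of_dc [Finite G] {D : Set G} (hE : Tr (D \ {1})) (ht : Trans (D \ {1}))
    (hn : NoTwin (D \ {1})) {d : G} (hd : d ∈ D \ {1}) (hg : Good (Dc (D \ {1}) d))
    (hI : ∀ β ∈ qimg (Dc D d) \ {1}, NoTwin (Dc (qimg (Dc D d) \ {1}) β)) :
    Sec (D \ {1}) := by
  intro a ha
  have hact : ∀ a ∈ D \ {1}, AllActive (Dc (D \ {1}) a) := fun a ha x hx => active_Dc ht hn ha hx
  obtain ⟨g, hga, hst⟩ := ht d hd a ha
  have hcar : Carries g (Dc (D \ {1}) d) (Dc (D \ {1}) a) := hga ▸ hst.carries.dc d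
  refine ⟨hcar.conn hg.1, hact a ha, hcar.noTwin (NoTwin.of_thin hg.2 (hact d hd)), fun b hb => ?_⟩
  have hb' := hcar.2 b hb
  have hn' : NoTwin (Dc (Dc (D \ {1}) d) (g⁻¹ * b * g)) := by
    have hA := hact d hd
    rw [Dc_diff_one D d] at hA hb' ⊢
    exact noTwin_lift (tr_dc hE hd) hA hI hb'
  have := (hcar.dc (g⁻¹ * b * g)).noTwin hn'
  rwa [show g * (g⁻¹ * b * g) * g⁻¹ = b by group] at this

theorem m23_level [Finite G] {D : Set G} (hE : Tr (D \ {1})) (hgen : Subgroup.closure D = ⊤)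
    (h : IsOfTypeM23 G D) :
    (D \ {1}).Nonempty ∧ Good (D \ {1}) ∧ AllActive (D \ {1}) ∧ Sec (D \ {1}) := by
  obtain ⟨hZ, d, hd, c, hc, hdc, h22, c₃, -, hL⟩ := h
  have hd1 : d ∈ D \ {1} := ⟨hd, (ne_one_of_not_commute hdc).1⟩
  have ha : AllActive (D \ {1}) := allActive_of_center hE (by rw [closure_diff_one, hgen]) hZ
  have hS : Tr (Dc D d \ {1}) := tr_dc hE hd1
  obtain ⟨-, hgI, -, hI, hcard⟩ :=
    m22_level (tr_qimg hS) (closure_qimg (Dc D d)) h22
  have hg : Good (Dc (D \ {1}) d) := by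
    rw [Dc_diff_one]; exact good_lift hS hgI
  obtain ⟨hgood, -⟩ := good_of_card hE ha hd hc hdc hg hcard (Or.inr rfl) hL
  exact ⟨⟨d, hd1⟩, hgood, ha,
    sec_of_dc hE (Trans.of_conn hE hgood.1 ha) (NoTwin.of_thin hgood.2 ha) hd1 hg hI⟩

theorem tr_of_group {D : Set G} (hD : IsThreeTranspositionGroup D) : Tr D :=
  ⟨hD.1, fun x hx y hy => by
    have := hD.2.1 x y hy
    rwa [inv_eq hD.1 hx] at this⟩

theorem sec_of_type [Finite G] {D : Set G} (hD : IsThreeTranspositionGroup D)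
    (htrans : ∀ a ∈ D, ∀ b ∈ D, ∃ g : G, g * a * g⁻¹ = b)
    (h : IsOfTypeM23 G D ∨ IsOfTypeM24 G D) : Sec D := by
  have hE := tr_of_group hD
  have hD1 : D \ {1} = D := Set.diff_singleton_eq_self fun h => ne_one hD.1 h rfl
  rcases h with h | h
  · rw [← hD1] at hE ⊢
    exact (m23_level hE hD.2.2 h).2.2.2
  · obtain ⟨hZ, d, hd, c, hc, hdc, h23, -⟩ := h
    have ha : AllActive D := allActive_of_center hE hD.2.2 hZ
    rw [← hD1] at hE ⊢
    have hd1 : d ∈ D \ {1} := ⟨hd, (ne_one_of_not_commute hdc).1⟩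
    have hS : Tr (Dc D d \ {1}) := tr_dc hE hd1
    obtain ⟨⟨β, hβ⟩, hgI, -, hIsec⟩ :=
      m23_level (tr_qimg hS) (closure_qimg (Dc D d)) h23
    have hg : Good (Dc (D \ {1}) d) := by
      rw [Dc_diff_one]; exact good_lift hS hgI
    have hne : ∃ x, Active (Dc (D \ {1}) d) x := by
      obtain ⟨x, hx, -⟩ := exists_rep hβ
      exact ⟨x, by rw [Dc_diff_one]; exact hx⟩
    have ht : Trans (D \ {1}) := by
      rw [hD1]
      exact fun x hx y hy => by
        obtain ⟨g, hg⟩ := htrans x hx y hy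
        exact ⟨g, hg, fun w hw => ⟨hD.2.1 g w hw, by simpa using hD.2.1 g⁻¹ w hw⟩⟩
    have hn : NoTwin (D \ {1}) := by
      rw [hD1] at ht hg hne hd1 ⊢
      exact NoTwin.of_thin (thin_of_trans ht hd hg.2 hne) ha
    exact sec_of_dc hE ht hn hd1 hg fun β hβ => (hIsec β hβ).2.2.1

end Cfsg.Agent.Transpos
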