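import Cfsg.Agent.Lib.Transpos.M22PairNormalizer

/-!
# Non-commuting members with few inverters

When only `a`, `d`, `a d a` invert `a d`, the normaliser of `⟨a d⟩` is `⟨a, d⟩ C(a, d)` and the members
centralising `a d` are the common members.
-/

set_option autoImplicit false

namespace Cfsg.Agent.Transpos

open Cfsg Equiv

variable {G : Type*} [Group G] [Finite G] {D : Set G}
variable (hD : IsThreeTranspositionGroup D) {a d : G} (ha : a ∈ D) (hd : d ∈ D) (hnc : ¬ Commute a d)
  (hinv₀ : ∀ y ∈ D, y * (a * d) * y = d * a → y = a ∨ y = d ∨ y = a * d * a)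
include hD ha hd hnc hinv₀

/-- The normaliser of the subgroup generated by the product. -/
theorem pair_sup_eq_normalizer :
    Subgroup.closure ({a, d} : Set G) ⊔ Subgroup.centralizer ({a, d} : Set G) =
      Subgroup.normalizer ((Subgroup.zpowers (a * d) : Subgroup G) : Set G) := by
  have hT := tr_of_group hD
  have xinv : (a * d)⁻¹ = d * a := by rw [mul_inv_rev, inv_eq hD.1 ha, inv_eq hD.1 hd]
  have hmem : ∀ g : G, g * (a * d) * g⁻¹ = a * d ∨ g * (a * d) * g⁻¹ = (a * d)⁻¹ →
      g ∈ Subgroup.normalizer ((Subgroup.zpowers (a * d) : Subgroup G) : Set G) := fun g hg => by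
    rw [Subgroup.mem_normalizer_iff_map_conj_eq, MonoidHom.map_zpowers]
    rcases hg with e | e
    · exact congrArg Subgroup.zpowers e
    · exact (congrArg Subgroup.zpowers e).trans (Subgroup.zpowers_inv (g := a * d))
  refine le_antisymm (sup_le ((Subgroup.closure_le _).2 ?_) fun g hg => hmem g (Or.inl ?_)) fun g hg => ?_
  · rintro y (rfl | rfl) <;> refine hmem _ (Or.inr ?_) <;> rw [xinv, inv_eq hD.1 ‹_›]
    exacts [(inverts_pair hD ha hd).1, (inverts_pair hD ha hd).2]
  · obtain ⟨c1, c2⟩ := mem_centralizer_pair.1 hg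
    rw [(c1.mul_right c2).eq, mul_inv_cancel_right]
  · obtain ⟨k, hk⟩ : ∃ k : ℤ, (a * d) ^ k = g * (a * d) * g⁻¹ := Subgroup.mem_zpowers_iff.1
      ((Subgroup.mem_normalizer_iff.1 hg (a * d)).1 (Subgroup.mem_zpowers _))
    have x3 : (a * d) ^ 3 = 1 := mul_pow_three hD ha hd hnc
    have hne : a * d ≠ 1 := fun e => hnc (by
      rw [mul_eq_one_iff_eq_inv.1 e]; exact (Commute.refl d).inv_left)
    have hk' : g * (a * d) * g⁻¹ = a * d ∨ g * (a * d) * g⁻¹ = (a * d)⁻¹ := by
      rw [← hk, zpow_eq_zpow_emod' k x3]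
      have h0 : k % (3 : ℕ) = 0 ∨ k % (3 : ℕ) = 1 ∨ k % (3 : ℕ) = 2 := by omega
      rcases h0 with h | h | h <;> rw [h]
      · exfalso
        refine hne ?_
        rw [zpow_eq_zpow_emod' k x3, h, zpow_zero] at hk
        simpa using hk.symm
      · exact Or.inl (zpow_one _)
      · right
        rw [show (2 : ℤ) = (2 : ℕ) from rfl, zpow_natCast, pow_two]
        exact eq_inv_of_mul_eq_one_left (by rw [← x3, pow_succ, pow_two])
    have hinv : ∀ y : G, y ∈ D → y * (a * d) * y = d * a →
        g * y * g⁻¹ * (a * d) * (g * y * g⁻¹) = d * a := by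
      intro y hy e
      have e' : g * y * g⁻¹ * (g * (a * d) * g⁻¹) * (g * y * g⁻¹) = (g * (a * d) * g⁻¹)⁻¹ := by
        rw [show g * y * g⁻¹ * (g * (a * d) * g⁻¹) * (g * y * g⁻¹) = g * (y * (a * d) * y) * g⁻¹ by group,
          e, ← xinv]
        group
      rcases hk' with h | h <;> rw [h] at e'
      · rwa [xinv] at e'
      · have e2 := congrArg (fun z => z⁻¹) e'
        simp only [mul_inv_rev (g * y * g⁻¹ * (a * d)⁻¹), mul_inv_rev (g * y * g⁻¹) (a * d)⁻¹,
          inv_eq hD.1 (hD.2.1 g _ hy), inv_inv] at e2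
        rw [← xinv, ← e2]
        group
    obtain ⟨hi1, hi2⟩ := inverts_pair hD ha hd
    have h1 := hinv₀ _ (hD.2.1 g _ ha) (hinv a ha hi1)
    have h2 := hinv₀ _ (hD.2.1 g _ hd) (hinv d hd hi2)
    have hne' : g * a * g⁻¹ ≠ g * d * g⁻¹ := fun e =>
      hnc (mul_left_cancel (mul_right_cancel e) ▸ Commute.refl a)
    obtain ⟨ψ, -, e1, e2, hr⟩ := exists_s3Hom hD ha hd hnc
    have e3 : ψ (swap 0 1 * swap 1 2 * swap 0 1) = a * d * a := by rw [map_mul, map_mul, e1, e2]
    let w : Fin 3 → Perm (Fin 3) := ![swap 0 1, swap 1 2, swap 0 1 * swap 1 2 * swap 0 1]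
    have conv : ∀ {y}, y = a ∨ y = d ∨ y = a * d * a → ∃ i, ψ (w i) = y := by
      rintro y (rfl | rfl | rfl)
      exacts [⟨0, e1⟩, ⟨1, e2⟩, ⟨2, e3⟩]
    obtain ⟨i₁, hσ₁⟩ := conv h1
    obtain ⟨i₂, hσ₂⟩ := conv h2
    have key : ∀ i j : Fin 3, i ≠ j →
        ∃ τ : Perm (Fin 3), τ * swap 0 1 * τ⁻¹ = w i ∧ τ * swap 1 2 * τ⁻¹ = w j := by decide
    obtain ⟨τ, t1, t2⟩ := key i₁ i₂ fun e => hne' (by rw [← hσ₁, ← hσ₂, e])
    rw [← t1, map_mul, map_mul, e1, map_inv] at hσ₁
    rw [← t2, map_mul, map_mul, e2, map_inv] at hσ₂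
    have fix : ∀ {y}, ψ τ * y * (ψ τ)⁻¹ = g * y * g⁻¹ → Commute ((ψ τ)⁻¹ * g) y := fun {y} e => by
      show (ψ τ)⁻¹ * g * y = y * ((ψ τ)⁻¹ * g)
      rw [show y * ((ψ τ)⁻¹ * g) = (ψ τ)⁻¹ * (ψ τ * y * (ψ τ)⁻¹) * g by group, e]
      group
    rw [show g = ψ τ * ((ψ τ)⁻¹ * g) by group]
    exact Subgroup.mul_mem_sup (hr ▸ ⟨τ, rfl⟩) (mem_centralizer_pair.2 ⟨fix hσ₁, fix hσ₂⟩)

/-- The members centralising `a d`. -/
theorem pair_common_eq :
    D ∩ (Subgroup.centralizer ((Subgroup.zpowers (a * d) : Subgroup G) : Set G) : Set G) =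
      Dc D a ∩ Dc D d := by
  have hT := tr_of_group hD
  ext z
  have hcz : z ∈ Subgroup.centralizer ((Subgroup.zpowers (a * d) : Subgroup G) : Set G) ↔
      Commute z (a * d) := by
    rw [Subgroup.zpowers_eq_closure, Subgroup.centralizer_closure, Subgroup.mem_centralizer_singleton_iff]
    rfl
  rw [Set.mem_inter_iff, SetLike.mem_coe, hcz]
  constructor
  · rintro ⟨hz, hc⟩
    have zz := sq_one hD.1 hz
    have ca : Commute z a := by
      have e : z * a * z * (a * d) * (z * a * z) = d * a := by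
        have e0 : z * (a * d) * z = a * d := by rw [hc.eq, mul_assoc, zz, mul_one]
        have e1 : z * (d * a) * z = d * a := by
          have := congrArg (fun w => w⁻¹) e0
          simp only [mul_inv_rev, inv_eq hD.1 hz, inv_eq hD.1 ha, inv_eq hD.1 hd] at this
          rwa [← mul_assoc] at this
        rw [show z * a * z * (a * d) * (z * a * z) = z * a * (z * (a * d) * z) * a * z by group, e0,
          show z * a * (a * d) * a * z = z * (a * (a * d) * a) * z by group, (inverts_pair hD ha hd).1,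
          e1]
      rcases hinv₀ _ (hT.conj z hz a ha) e with h | h | h
      · show z * a = a * z
        conv_rhs => rw [← h]
        rw [mul_assoc (z * a), zz, mul_one]
      · -- `z a z = d` gives `z d z = a`, so `z` inverts `a d`
        exfalso
        have e0 : z * (a * d) * z = d * a := by
          rw [← h, show z * (a * (z * a * z)) * z = z * a * z * a * (z * z) by group, zz, mul_one]
        rw [hc.eq, mul_assoc, zz, mul_one] at e0
        exact hnc e0
      · -- `z a z = a d a`: then `z` is `d`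
        exfalso
        by_cases hc' : Commute z a
        · refine hnc ?_
          rw [hc'.eq, mul_assoc, zz, mul_one] at h
          have e0 : a * d = 1 := mul_right_cancel (h.symm.trans (one_mul a).symm)
          rw [mul_eq_one_iff_eq_inv.1 e0]
          exact (Commute.refl d).inv_left
        · rw [← braid_of_pow_three zz (sq_one hD.1 ha) (mul_pow_three hD hz ha hc')] at h
          obtain rfl : z = d := mul_left_cancel (mul_right_cancel h)
          have := hc.mul_right (Commute.refl z)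
          rw [mul_assoc, zz, mul_one] at this
          exact hc' this
    have cd : Commute z d := by
      have := ca.mul_right hc
      rwa [← mul_assoc, sq_one hD.1 ha, one_mul] at this
    exact ⟨⟨hz, fun e => hnc (e ▸ cd), ca.symm⟩, hz, fun e => hnc (e ▸ ca).symm, cd.symm⟩
  · exact fun h => ⟨h.1.1, h.1.2.2.symm.mul_right h.2.2.2.symm⟩

end Cfsg.Agent.Transpos
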