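import Cfsg.Agent.Lib.Transpos.M24Chart
import Cfsg.Agent.Lib.Transpos.PairGeneric
import Cfsg.Agent.Lib.Transpos.M23Count

/-!
# The members centralising or inverting a product of order three

`common_of_commute`: a member centralising `a d` commutes with `a` and `d`, as an inverting member
not commuting with it would make `a d` an involution.  `InvertsEq D`: only `a`, `d`, `a d a` invert
`a d`; this passes from covers at the members to the class, hence from type M(22) to types M(23) and
M(24).  `sup_eq_normalizer_of`: then `N(⟨a d⟩) = ⟨a, d⟩ C(a, d)`.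
-/

set_option autoImplicit false
set_option linter.style.haveILetI false

namespace Cfsg.Agent.Transpos

open Cfsg Cfsg.Agent.ClassicalSimple

universe u

variable {G : Type u} [Group G] {D : Set G}

/-- Of two non-commuting members, only the three involutions of their group invert their product. -/
def InvertsEq (D : Set G) : Prop :=
  ∀ ⦃a d y : G⦄, a ∈ D → d ∈ D → y ∈ D → ¬ Commute a d → y * (a * d) * y = d * a →
    y = a ∨ y = d ∨ y = a * d * a

section

variable (hD : IsThreeTranspositionGroup D)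
include hD

/-- A member centralising `a d` commutes with every member inverting it. -/
theorem commute_of_inverts {a d b v : G} (ha : a ∈ D) (hd : d ∈ D) (hnc : ¬ Commute a d)
    (hb : b ∈ D) (hv : v ∈ D) (hvX : Commute v (a * d)) (hinv : b * (a * d) * b = d * a) :
    Commute b v := by
  by_contra hbv
  have vv := sq_one hD.1 hv
  have bb := sq_one hD.1 hb
  have xinv : (a * d)⁻¹ = d * a := by rw [mul_inv_rev, inv_eq hD.1 ha, inv_eq hD.1 hd]
  have e1 : v * (a * d) * v = a * d := by rw [hvX.eq, mul_assoc, vv, mul_one]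
  have e2 : v * (d * a) * v = d * a := by
    rw [← xinv, hvX.inv_right.eq, mul_assoc, vv, mul_one]
  have e3 : b * (d * a) * b = a * d := by
    rw [← hinv, show b * (b * (a * d) * b) * b = b * b * (a * d) * (b * b) by group, bb, one_mul,
      mul_one]
  -- `v b v = b v b` both inverts and centralises the product
  have k1 : v * b * v * (a * d) * (v * b * v) = d * a := by
    rw [show v * b * v * (a * d) * (v * b * v) = v * (b * (v * (a * d) * v) * b) * v by group, e1,
      hinv, e2]
  have k2 : b * v * b * (a * d) * (b * v * b) = a * d := by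
    rw [show b * v * b * (a * d) * (b * v * b) = b * (v * (b * (a * d) * b) * v) * b by group, hinv,
      e2, e3]
  rw [← braid_of_pow_three vv bb (mul_pow_three hD hv hb fun h => hbv h.symm)] at k1
  exact hnc (k2.symm.trans k1)

/-- A member centralising `a d` commutes with `a` and `d`. -/
theorem common_of_commute {a d v : G} (ha : a ∈ D) (hd : d ∈ D) (hnc : ¬ Commute a d) (hv : v ∈ D)
    (hvX : Commute v (a * d)) : v ∈ Dc D a ∩ Dc D d := by
  have ca : Commute a v := commute_of_inverts hD ha hd hnc ha hv hvX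
    (by rw [← mul_assoc a a d, sq_one hD.1 ha, one_mul])
  have cd : Commute d v := commute_of_inverts hD ha hd hnc hd hv hvX
    (by rw [mul_assoc d (a * d) d, mul_assoc a d d, sq_one hD.1 hd, mul_one])
  exact ⟨⟨hv, fun e => hnc (e ▸ cd).symm, ca⟩, hv, fun e => hnc (e ▸ ca), cd⟩

/-- The members centralising the group of `a d`. -/
theorem common_eq_centralizer {a d : G} (ha : a ∈ D) (hd : d ∈ D) (hnc : ¬ Commute a d) :
    D ∩ (Subgroup.centralizer ((Subgroup.zpowers (a * d) : Subgroup G) : Set G) : Set G) =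
      Dc D a ∩ Dc D d := by
  ext z
  rw [Set.mem_inter_iff, SetLike.mem_coe, Subgroup.zpowers_eq_closure, Subgroup.centralizer_closure,
    Subgroup.mem_centralizer_singleton_iff]
  exact ⟨fun h => common_of_commute hD ha hd hnc h.1 h.2,
    fun h => ⟨h.1.1, (h.1.2.2.symm.mul_right h.2.2.2.symm).eq⟩⟩

/-- `N(⟨a d⟩) = ⟨a, d⟩ C(a, d)` when only `a`, `d`, `a d a` invert `a d`. -/
theorem sup_eq_normalizer_of [Finite G] (hI : InvertsEq D) {a d : G} (ha : a ∈ D) (hd : d ∈ D)
    (hnc : ¬ Commute a d) :
    Subgroup.closure ({a, d} : Set G) ⊔ Subgroup.centralizer ({a, d} : Set G) =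
      Subgroup.normalizer ((Subgroup.zpowers (a * d) : Subgroup G) : Set G) :=
  pair_sup_eq_normalizer hD ha hd hnc fun _ hy e => hI ha hd hy hnc e

/-- `InvertsEq` passes from covers at the members to the class. -/
theorem invertsEq_of_covers
    (hcommon : ∀ a ∈ D, ∀ d ∈ D, ¬ Commute a d → (Dc D a ∩ Dc D d).Nonempty)
    (hC : ∀ v ∈ D, ∃ C : Cover.{u} (Dc D v), InvertsEq C.E) : InvertsEq D := by
  intro a d y ha hd hy hnc hinv
  obtain ⟨v, hva, hvd⟩ := hcommon a ha d hd hnc
  have hv := hva.1
  have hvX : Commute v (a * d) := hva.2.2.symm.mul_right hvd.2.2.symm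
  have hyv : Commute y v := commute_of_inverts hD ha hd hnc hy hv hvX hinv
  have hyne : y ≠ v := by
    rintro rfl
    rw [hvX.eq, mul_assoc, sq_one hD.1 hy, mul_one] at hinv
    exact hnc hinv
  have hy' : y ∈ Dc D v := ⟨hy, hyne, hyv.symm⟩
  have ha' : a ∈ Dc D v := mem_dc_symm ha hva
  have hd' : d ∈ Dc D v := mem_dc_symm hd hvd
  obtain ⟨C, hI⟩ := hC v hv
  have had : a * d * a ∈ Dc D v := C.tr.conj a ha' d hd'
  have hadE : C.img had = C.img ha' * C.img hd' * C.img ha' := by
    show C.π _ = C.π _ * C.π _ * C.π _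
    rw [← map_mul, ← map_mul]
    rfl
  have himg : C.img hy' * (C.img ha' * C.img hd') * C.img hy' = C.img hd' * C.img ha' := by
    show C.π _ * (C.π _ * C.π _) * C.π _ = C.π _ * C.π _
    rw [← map_mul, ← map_mul, ← map_mul, ← map_mul]
    exact congrArg C.π (Subtype.ext hinv)
  rcases hI (C.img_mem ha') (C.img_mem hd') (C.img_mem hy')
    (fun h => hnc ((C.comm_iff ha' hd').1 h)) himg with e | e | e
  · exact Or.inl (C.inj hy' ha' e)
  · exact Or.inr (Or.inl (C.inj hy' hd' e))
  · exact Or.inr (Or.inr (C.inj hy' had (e.trans hadE.symm)))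

end

variable [Finite G]

namespace M23

variable (H : M23 D)
include H

/-- Groups with the M(23) data are primitive. -/
theorem primitive : IsPrimitiveUnderConj D := by
  classical
  obtain ⟨-, d, hd, -⟩ := id H.type
  obtain ⟨b, hb⟩ := H.dc_nonempty hd
  have hord := H.grp
  have hT : Fischer.TClass D := ⟨Fischer.TSet.ofSet hord.1 hord.2.1, H.trans, hord.2.2, d, hd⟩
  have hclass : IsThreeTranspositionClass D := ⟨hord.1, ⟨d, hd, Set.ext fun x => ⟨fun hx => by
      obtain ⟨g, hg⟩ := H.trans d hd x hx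
      exact isConj_iff.2 ⟨g, hg⟩, fun hx => by
      obtain ⟨g, rfl⟩ := isConj_iff.1 (hx : IsConj d x)
      exact hord.2.1 g d hd⟩⟩, hord.2.2⟩
  -- members are determined by their commuting sets
  have hperp : ∀ p ∈ D, ∀ q ∈ D, Dc D p = Dc D q → p = q := fun p hp q hq e => by
    by_contra hne
    by_cases hpq : Commute p q
    · exact ((e ▸ ⟨hq, Ne.symm hne, hpq⟩ : q ∈ Dc D q)).2.1 rfl
    · obtain ⟨y, hy, hyq⟩ := H.exists_not_commute hp hq hpq
      rw [e] at hy
      exact hyq hy.2.2.symm
  have hsame : ∀ p ∈ D, ∀ q ∈ D, Fischer.sameComm D p = Fischer.sameComm D q → p = q :=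
    fun p hp q hq e => by
    by_contra hne
    have hiff := Fischer.sameComm_eq_iff.1 e
    have hpq : q ∈ Dc D p := ⟨hq, Ne.symm hne, (hiff q hq).2 (Commute.refl q)⟩
    have hsub : Dc D p \ {q} ⊆ Dc D p ∩ Dc D q := fun x hx =>
      ⟨hx.1, hx.1.1, hx.2, (hiff x hx.1.1).1 hx.1.2.2⟩
    have h1 := Set.ncard_le_ncard hsub (Set.toFinite _)
    rw [Set.ncard_sdiff_singleton_of_mem hpq, H.ncard_dc hp, H.ncard_dc_dc hp hpq] at h1
    omega
  have hcore : ∀ (r : ℕ) [Fact r.Prime], (∀ x ∈ D, d * x ∈ pCore r G → d = x) → pCore r G = ⊥ := by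
    intro r _ h
    rw [eq_bot_iff, ← H.center]
    haveI : (pCore r G).Normal := PCore.pCore_normal
    refine Fischer.le_center_of_commute hT hd fun g hg => ?_
    have hmem : d * (g * d * g⁻¹) ∈ pCore r G := by
      rw [show d * (g * d * g⁻¹) = (d * g * d⁻¹) * g⁻¹ by rw [hT.toTSet.inv_eq hd]; group]
      exact mul_mem ((inferInstance : (pCore r G).Normal).conj_mem g hg d) (inv_mem hg)
    exact (mul_inv_eq_iff_eq_mul.1 (h _ (hord.2.1 g d hd) hmem).symm).symm
  have : Fact (Nat.Prime 2) := ⟨Nat.prime_two⟩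
  have : Fact (Nat.Prime 3) := ⟨Nat.prime_three⟩
  refine (S5361.result hclass H.center ⟨d, hd, b, hb.1, hb.2.1.symm, hb.2.2⟩).2.2 ⟨?_, ?_, ?_⟩
  · exact hcore 2 fun x hx h =>
      (hsame _ hx _ hd (Fischer.sameComm_eq_of_mul_mem hT.toTSet hd hx h)).symm
  · exact hcore 3 fun x hx h => hperp _ hd _ hx (Fischer.perp_eq_of_mul_mem hT.toTSet hd hx h)
  · refine Fischer.connected_of_block hT hd
      (Set.Subset.antisymm (Fischer.block_subset hd) fun v hv => ?_)
    exact H.conn d hd v hv

/-- Two non-commuting members have a common commuting member. -/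
theorem common_nonempty {a d : G} (ha : a ∈ D) (hd : d ∈ D) (hnc : ¬ Commute a d) :
    (Dc D a ∩ Dc D d).Nonempty :=
  Set.nonempty_of_ncard_ne_zero (by
    rw [(H.pair_data H.primitive ha hd hnc).1]; norm_num)

/-- Only `a`, `d`, `a d a` invert `a d` in type M(23). -/
theorem invertsEq : InvertsEq D :=
  invertsEq_of_covers H.grp (fun _ ha _ hd hnc => H.common_nonempty ha hd hnc) fun v hv => by
    obtain ⟨C, hp, h22⟩ := H.chart22 hv
    exact ⟨C.toCover H hv, fun a d y ha hd hy hnc hinv =>
      inverts_eq C.m22.grp hp h22 ha hd hnc hy hinv⟩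

end M23

end Cfsg.Agent.Transpos
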