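import Cfsg.Prelude.Def_SporadicB
import Cfsg.Agent.Lib.Transpos.Basic

/-!
# Non-commuting components and members with the same commuting set

For a set `E` of 3-transpositions closed under conjugation by its members:
* `Good E`: the members that do not commute with everything form one component of the
  non-commuting graph (`Conn`), and no two commuting such members have the same commuting set (`Thin`).
* `good_of_simple`: `Good E` when `⟨E⟩` modulo its centre is simple.
* `thin_of_trans`: `Thin` ascends from the members commuting with one member, given transitivity.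
* `exists_common_neighbour`, `exists_swap`: commuting linked members are interchanged.
-/

set_option autoImplicit false

namespace Cfsg.Agent.Transpos

variable {G : Type*} [Group G] {E : Set G}

/-- 3-transpositions closed under conjugation by themselves. -/
structure Tr (E : Set G) : Prop where
  set : IsThreeTranspositionSet E
  conj : ∀ x ∈ E, ∀ y ∈ E, x * y * x ∈ E

/-- The members other than `d` commuting with `d`. -/
def Dc (E : Set G) (d : G) : Set G := {y | y ∈ E ∧ y ≠ d ∧ Commute d y}

/-- `x` is a member not commuting with some member. -/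
def Active (E : Set G) (x : G) : Prop := x ∈ E ∧ ∃ y ∈ E, ¬ Commute x y

/-- `e` and `f` commute with the same members. -/
def Same (E : Set G) (e f : G) : Prop := ∀ x ∈ E, (Commute x e ↔ Commute x f)

/-- One step in the non-commuting graph. -/
def Step (E : Set G) (x y : G) : Prop := x ∈ E ∧ y ∈ E ∧ ¬ Commute x y

/-- Linked in the non-commuting graph. -/
def Linked (E : Set G) : G → G → Prop := Relation.ReflTransGen (Step E)

/-- The active members form one component. -/
def Conn (E : Set G) : Prop := ∀ x y, Active E x → Active E y → Linked E x y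

/-- Commuting active members are determined by their commuting sets. -/
def Thin (E : Set G) : Prop :=
  ∀ e ∈ E, ∀ f ∈ E, e ≠ f → Commute e f → Same E e f → ¬ Active E e

/-- `Conn` and `Thin`. -/
def Good (E : Set G) : Prop := Conn E ∧ Thin E

/-- `g` maps `E` to itself in both directions. -/
def Stab (E : Set G) (g : G) : Prop := ∀ w ∈ E, g * w * g⁻¹ ∈ E ∧ g⁻¹ * w * g ∈ E

/-- Any two members are conjugate by an element stabilising `E`. -/
def Trans (E : Set G) : Prop := ∀ x ∈ E, ∀ y ∈ E, ∃ g : G, g * x * g⁻¹ = y ∧ Stab E g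

theorem Tr.inv (hE : Tr E) {x : G} (hx : x ∈ E) : x⁻¹ = x := inv_eq hE.set hx

theorem Tr.conj' (hE : Tr E) {x y : G} (hx : x ∈ E) (hy : y ∈ E) : x * y * x⁻¹ ∈ E := by
  rw [hE.inv hx]; exact hE.conj x hx y hy

theorem Stab.mul {g h : G} (hg : Stab E g) (hh : Stab E h) : Stab E (g * h) := fun w hw => by
  constructor
  · rw [show g * h * w * (g * h)⁻¹ = g * (h * w * h⁻¹) * g⁻¹ by group]; exact (hg _ (hh w hw).1).1
  · rw [show (g * h)⁻¹ * w * (g * h) = h⁻¹ * (g⁻¹ * w * g) * h by group]; exact (hh _ (hg w hw).2).2

theorem Stab.inv {g : G} (hg : Stab E g) : Stab E g⁻¹ := fun w hw =>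
  ⟨by rw [inv_inv]; exact (hg w hw).2, by rw [inv_inv]; exact (hg w hw).1⟩

theorem Tr.stab_closure (hE : Tr E) {g : G} (hg : g ∈ Subgroup.closure E) : Stab E g := by
  induction hg using Subgroup.closure_induction with
  | mem x hx =>
    intro w hw
    refine ⟨hE.conj' hx hw, ?_⟩
    rw [hE.inv hx]; exact hE.conj x hx w hw
  | one => intro w hw; simp [hw]
  | mul a b _ _ ha hb => exact ha.mul hb
  | inv a _ ha => exact ha.inv

theorem commute_conj_iff (g : G) {a b : G} :
    Commute (g * a * g⁻¹) (g * b * g⁻¹) ↔ Commute a b := by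
  constructor
  · intro h
    have := h.map (MulAut.conj g⁻¹).toMonoidHom
    simpa [mul_assoc] using this
  · intro h; exact h.map (MulAut.conj g).toMonoidHom

theorem Same.symm {e f : G} (h : Same E e f) : Same E f e := fun x hx => (h x hx).symm

theorem Same.trans {e f k : G} (h : Same E e f) (h' : Same E f k) : Same E e k :=
  fun x hx => (h x hx).trans (h' x hx)

theorem Same.conj {g e f : G} (hg : Stab E g) (h : Same E e f) :
    Same E (g * e * g⁻¹) (g * f * g⁻¹) := by
  intro x hx
  have hx' := (hg x hx).2
  rw [show x = g * (g⁻¹ * x * g) * g⁻¹ by group, commute_conj_iff, commute_conj_iff]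
  exact h _ hx'

theorem Active.conj {g x : G} (hg : Stab E g) (h : Active E x) : Active E (g * x * g⁻¹) := by
  obtain ⟨hx, y, hy, hxy⟩ := h
  exact ⟨(hg x hx).1, _, (hg y hy).1, fun hc => hxy ((commute_conj_iff g).mp hc)⟩

theorem Linked.symm {x y : G} (h : Linked E x y) : Linked E y x := by
  induction h with
  | refl => exact .refl
  | tail _ hs ih => exact .head ⟨hs.2.1, hs.1, fun hc => hs.2.2 hc.symm⟩ ih

theorem Linked.mem {x y : G} (h : Linked E x y) (hx : x ∈ E) : y ∈ E := by
  induction h with
  | refl => exact hx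
  | tail _ hs _ => exact hs.2.1

theorem Linked.mono {F : Set G} (hEF : E ⊆ F) {x y : G} (h : Linked E x y) : Linked F x y :=
  Relation.ReflTransGen.mono (fun _ _ hs => ⟨hEF hs.1, hEF hs.2.1, hs.2.2⟩) _ _ h

theorem Linked.exists_conj (hE : Tr E) {x y : G} (h : Linked E x y) :
    ∃ g ∈ Subgroup.closure E, g * x * g⁻¹ = y := by
  induction h with
  | refl => exact ⟨1, one_mem _, by simp⟩
  | @tail b c _ hs ih =>
    obtain ⟨g, hg, hgx⟩ := ih
    refine ⟨b * c * g, mul_mem (mul_mem (Subgroup.subset_closure hs.1) (Subgroup.subset_closure hs.2.1)) hg, ?_⟩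
    have e := braid hE.set hs.1 hs.2.1 hs.2.2
    calc b * c * g * x * (b * c * g)⁻¹ = b * c * (g * x * g⁻¹) * c⁻¹ * b⁻¹ := by group
      _ = b * (c * b * c) * b := by rw [hgx, hE.inv hs.1, hE.inv hs.2.1]; group
      _ = (b * b) * c * (b * b) := by rw [← e]; group
      _ = c := by rw [sq_one hE.set hs.1, one_mul, mul_one]

theorem Tr.step_conj (hE : Tr E) {y s : G} (hy : y ∈ E) (hs : s ∈ E) :
    Linked E s (y * s * y) := by
  by_cases hc : Commute y s
  · rw [conj_of_commute hE.set hy hc]; exact .refl
  · have h1 : Step E s y := ⟨hs, hy, fun h => hc h.symm⟩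
    have h2 : Step E y (y * s * y) := by
      refine ⟨hy, hE.conj y hy s hs, fun h => hc ?_⟩
      have e : y * s * y = y * s * y⁻¹ := by rw [hE.inv hy]
      rw [e] at h
      refine (commute_conj_iff y).mp ?_
      rw [mul_inv_cancel_right]
      exact h
    exact (Relation.ReflTransGen.single h1).tail h2

theorem exists_common_neighbour (hE : Tr E) {a b : G} (h : Linked E a b) (hab : Commute a b)
    (hne : a ≠ b) : ∃ x ∈ E, ¬ Commute a x ∧ ¬ Commute x b := by
  suffices key : a = b ∨ ¬ Commute a b ∨ ∃ x ∈ E, ¬ Commute a x ∧ ¬ Commute x b from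
    (key.resolve_left hne).resolve_left (fun h => h hab)
  clear hab hne
  induction h with
  | refl => exact Or.inl rfl
  | @tail m c _ hs ih =>
    by_cases hac : Commute a c
    swap; · exact Or.inr (Or.inl hac)
    rcases ih with rfl | ham | ⟨x, hx, hax, hxm⟩
    · exact absurd hac hs.2.2
    · exact Or.inr (Or.inr ⟨m, hs.1, ham, hs.2.2⟩)
    · by_cases ham : Commute a m
      swap; · exact Or.inr (Or.inr ⟨m, hs.1, ham, hs.2.2⟩)
      by_cases hxc : Commute x c
      swap; · exact Or.inr (Or.inr ⟨x, hx, hax, hxc⟩)
      -- path `a - x - m - c`: conjugate `x` by `m`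
      refine Or.inr (Or.inr ⟨m * x * m, hE.conj m hs.1 x hx, fun h => hax ?_, fun h => hs.2.2 ?_⟩)
      · refine (commute_conj_iff m).mp ?_
        rw [show m * a * m⁻¹ = a by rw [← ham.eq, mul_inv_cancel_right], hE.inv hs.1]
        exact h
      · have e : m * x * m = x * m * x⁻¹ := by
          rw [hE.inv hx]; exact braid hE.set hs.1 hx (fun h => hxm h.symm)
        refine (commute_conj_iff x).mp ?_
        rw [show x * c * x⁻¹ = c by rw [hxc.eq, mul_inv_cancel_right], ← e]
        exact h

/-- An element of `⟨a, b, x⟩` interchanging commuting `a`, `b` with common neighbour `x`. -/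
theorem exists_swap (hE : Tr E) {a b x : G} (ha : a ∈ E) (hb : b ∈ E) (hx : x ∈ E)
    (hab : Commute a b) (hax : ¬ Commute a x) (hxb : ¬ Commute x b) :
    (x * a * b * x) * a * (x * a * b * x)⁻¹ = b ∧ (x * a * b * x) * b * (x * a * b * x)⁻¹ = a := by
  have key : ∀ a b : G, a ∈ E → b ∈ E → Commute a b → ¬ Commute a x → ¬ Commute x b →
      (x * a * b * x) * a * (x * a * b * x)⁻¹ = b := by
    intro a b ha hb hab hax hxb
    have e1 := braid hE.set ha hx hax
    have e2 := braid hE.set hx hb hxb
    have hh := hab.eq
    calc (x * a * b * x) * a * (x * a * b * x)⁻¹ = (x * a * b * x) * a * (x * b * a * x) := by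
          rw [mul_inv_rev, mul_inv_rev, mul_inv_rev, hE.inv ha, hE.inv hb, hE.inv hx]; group
      _ = x * (a * b) * (x * a * x) * (b * a) * x := by group
      _ = x * (a * b) * (a * x * a) * (b * a) * x := by rw [e1]
      _ = x * ((a * (b * a)) * x * (a * (b * a))) * x := by group
      _ = x * (b * x * b) * x := by
          rw [show a * (b * a) = b by
            rw [← hh, ← mul_assoc, sq_one hE.set ha, one_mul]]
      _ = (x * x) * b * (x * x) := by rw [← e2]; group
      _ = b := by rw [sq_one hE.set hx, one_mul, mul_one]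
  refine ⟨key a b ha hb hab hax hxb, ?_⟩
  have h2 := key b a hb ha hab.symm (fun h => hxb h.symm) (fun h => hax h.symm)
  rwa [show x * b * a * x = x * a * b * x by rw [mul_assoc x b a, hab.symm.eq, ← mul_assoc]] at h2

theorem stab_of_mem (hE : Tr E) {x : G} (hx : x ∈ E) : Stab E x :=
  hE.stab_closure (Subgroup.subset_closure hx)

theorem central_of_not_active {x : G} (hx : x ∈ E) (h : ¬ Active E x) {g : G}
    (hg : g ∈ Subgroup.closure E) : Commute g x := by
  have hle : Subgroup.closure E ≤ Subgroup.centralizer ({x} : Set G) := by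
    rw [Subgroup.closure_le]
    intro y hy
    refine Subgroup.mem_centralizer_singleton_iff.mpr ?_
    by_contra hne
    exact h ⟨hx, y, hy, fun hc => hne hc.eq.symm⟩
  exact Subgroup.mem_centralizer_singleton_iff.mp (hle hg)

theorem good_of_simple (hE : Tr E)
    (hU : IsSimpleGroup (↥(Subgroup.closure E) ⧸ Subgroup.center ↥(Subgroup.closure E))) :
    Good E := by
  set H := Subgroup.closure E
  have dich : ∀ N : Subgroup ↥H, N.Normal → N ≤ Subgroup.center ↥H ∨ N ⊔ Subgroup.center ↥H = ⊤ := by
    intro N hN
    rcases (hN.map _ (QuotientGroup.mk'_surjective (Subgroup.center ↥H))).eq_bot_or_eq_top with h | h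
    · left; rwa [Subgroup.map_eq_bot_iff, QuotientGroup.ker_mk'] at h
    · right
      have := congrArg (Subgroup.comap (QuotientGroup.mk' (Subgroup.center ↥H))) h
      rwa [Subgroup.comap_map_eq, QuotientGroup.ker_mk', Subgroup.comap_top] at this
  have hcen : ∀ n ∈ Subgroup.center ↥H, ∀ x ∈ E, (n : G) * x * (n : G)⁻¹ = x := by
    intro n hn x hx
    have := congrArg Subtype.val (Subgroup.mem_center_iff.mp hn ⟨x, Subgroup.subset_closure hx⟩)
    simp only [Subgroup.coe_mul] at this
    rw [← this, mul_inv_cancel_right]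
  constructor
  · intro x y hx hy
    by_contra hxy
    let S : Set G := {s | Linked E x s}
    have hSE : S ⊆ E := fun s hs => hs.mem hx.1
    have hconjS : ∀ g ∈ H, ∀ s ∈ S, g * s * g⁻¹ ∈ S ∧ g⁻¹ * s * g ∈ S := by
      intro g hg
      induction hg using Subgroup.closure_induction with
      | mem z hz =>
        intro s hs
        have h1 : z * s * z ∈ S := Relation.ReflTransGen.trans hs (hE.step_conj hz (hSE hs))
        rw [hE.inv hz]; exact ⟨h1, h1⟩
      | one => intro s hs; simp [hs]
      | mul a b _ _ ha hb =>
        intro s hs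
        constructor
        · rw [show a * b * s * (a * b)⁻¹ = a * (b * s * b⁻¹) * a⁻¹ by group]
          exact (ha _ (hb s hs).1).1
        · rw [show (a * b)⁻¹ * s * (a * b) = b⁻¹ * (a⁻¹ * s * a) * b by group]
          exact (hb _ (ha s hs).2).2
      | inv a _ ha => intro s hs; rw [inv_inv]; exact ⟨(ha s hs).2, (ha s hs).1⟩
    let P : Subgroup ↥H := (Subgroup.closure S).subgroupOf H
    have hP : P.Normal := ⟨fun p hp g => by
      have hle : Subgroup.closure S ≤ (Subgroup.closure S).comap (MulAut.conj (g : G)).toMonoidHom := by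
        rw [Subgroup.closure_le]
        exact fun s hs => Subgroup.subset_closure (hconjS g g.2 s hs).1
      exact hle hp⟩
    rcases dich P hP with h | h
    · obtain ⟨w, hw, hxw⟩ := hx.2
      have hxP : (⟨x, Subgroup.subset_closure hx.1⟩ : ↥H) ∈ P :=
        Subgroup.subset_closure (Relation.ReflTransGen.refl : Linked E x x)
      exact hxw (congrArg Subtype.val
        (Subgroup.mem_center_iff.mp (h hxP) ⟨w, Subgroup.subset_closure hw⟩)).symm
    · -- `y` commutes with the component, hence is central
      have hyS : ∀ s ∈ S, Commute y s := fun s hs => by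
        by_contra hne
        exact hxy (Relation.ReflTransGen.tail hs ⟨hSE hs, hy.1, fun hc => hne hc.symm⟩)
      let yH : ↥H := ⟨y, Subgroup.subset_closure hy.1⟩
      have hle : P ⊔ Subgroup.center ↥H ≤ Subgroup.centralizer ({yH} : Set ↥H) := by
        refine sup_le (fun p hp => ?_) (fun p hp => ?_)
        · refine Subgroup.mem_centralizer_singleton_iff.mpr (Subtype.ext ?_)
          have hcl : Subgroup.closure S ≤ Subgroup.centralizer ({y} : Set G) := by
            rw [Subgroup.closure_le]
            exact fun s hs => Subgroup.mem_centralizer_singleton_iff.mpr (hyS s hs).eq.symm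
          exact Subgroup.mem_centralizer_singleton_iff.mp (hcl hp)
        · exact Subgroup.mem_centralizer_singleton_iff.mpr (Subgroup.mem_center_iff.mp hp yH).symm
      rw [h] at hle
      obtain ⟨w, hw, hyw⟩ := hy.2
      exact hyw (congrArg Subtype.val (Subgroup.mem_centralizer_singleton_iff.mp
        (hle (Subgroup.mem_top (⟨w, Subgroup.subset_closure hw⟩ : ↥H))))).symm
  · intro e he f hf hef hcomm hsame hact
    let Rl : G → G → Prop := fun a b => Same E a b ∧ Commute a b
    have rtrans : ∀ a b c, c ∈ E → Rl a b → Rl b c → Rl a c := fun a b c hc h h' =>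
      ⟨h.1.trans h'.1, ((h.1 c hc).mpr h'.2.symm).symm⟩
    have rconj : ∀ g a b, Stab E g → Rl a b → Rl (g * a * g⁻¹) (g * b * g⁻¹) := fun g a b hg h =>
      ⟨h.1.conj hg, (commute_conj_iff g).mpr h.2⟩
    let M : Subgroup ↥H :=
      { carrier := {h | ∀ x ∈ E, Rl ((h : G) * x * (h : G)⁻¹) x}
        one_mem' := fun x _ => by simp [Rl, Same]
        mul_mem' := fun {a b} ha hb x hx => by
          have := rtrans _ _ _ hx (rconj (a : G) _ _ (hE.stab_closure a.2) (hb x hx)) (ha x hx)
          simpa [mul_assoc] using this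
        inv_mem' := fun {a} ha x hx => by
          have hx' := (hE.stab_closure a.2 x hx).2
          have := ha _ hx'
          rw [show (a : G) * ((a : G)⁻¹ * x * a) * (a : G)⁻¹ = x by group] at this
          simpa using (⟨this.1.symm, this.2.symm⟩ : Rl _ _) }
    have hM : M.Normal := ⟨fun m hm k x hx => by
      have := rconj (k : G) _ _ (hE.stab_closure k.2) (hm _ (hE.stab_closure k.2 x hx).2)
      rw [show (k : G) * ((k : G)⁻¹ * x * k) * (k : G)⁻¹ = x by group] at this
      simpa [mul_assoc] using this⟩
    let ef : ↥H := ⟨e * f, mul_mem (Subgroup.subset_closure he) (Subgroup.subset_closure hf)⟩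
    have hefM : ef ∈ M := by
      intro x hx
      show Rl (e * f * x * (e * f)⁻¹) x
      rw [mul_inv_rev, hE.inv he, hE.inv hf]
      by_cases hxe : Commute x e
      · have hxf : Commute x f := (hsame x hx).mp hxe
        have : e * f * x * (f * e) = x := by
          rw [show e * f * x * (f * e) = e * (f * x * f) * e by group,
            conj_of_commute hE.set hf hxf.symm, conj_of_commute hE.set he hxe.symm]
        rw [this]; simp [Rl, Same]
      · have hxf : ¬ Commute x f := fun h => hxe ((hsame x hx).mpr h)
        have h1 := rconj x _ _ (stab_of_mem hE hx) ⟨hsame.symm, hcomm.symm⟩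
        rw [hE.inv hx, ← braid hE.set hf hx (fun h => hxf h.symm),
          ← braid hE.set he hx (fun h => hxe h.symm)] at h1
        have h2 := rconj e _ _ (stab_of_mem hE he) h1
        rw [hE.inv he] at h2
        simpa [mul_assoc, mul_mul_cancel hE.set he, sq_one hE.set he] using h2
    rcases dich M hM with h | h
    · obtain ⟨x, hx, hex⟩ := hact.2
      have hfix := hcen ef (h hefM) x hx
      exact hex (commute_both hE.set he hf hx hef hcomm
        (mul_inv_eq_iff_eq_mul.mp hfix : Commute (e * f) x).symm).1.symm
    · obtain ⟨y, hy, hey⟩ := hact.2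
      have hmem : (⟨e * y, mul_mem (Subgroup.subset_closure he) (Subgroup.subset_closure hy)⟩ : ↥H) ∈
          M ⊔ Subgroup.center ↥H := h ▸ Subgroup.mem_top _
      obtain ⟨m, hm, n, hn, hmn⟩ := Subgroup.mem_sup_of_normal_right.mp hmem
      have h1 : Rl (e * y * e * (e * y)⁻¹) e := by
        have hr := hm e he
        have e2 := congrArg Subtype.val hmn
        simp only [Subgroup.coe_mul] at e2
        rw [← e2, show (m : G) * n * e * ((m : G) * n)⁻¹ = m * ((n : G) * e * (n : G)⁻¹) * (m : G)⁻¹ by
          group, hcen n hn e he]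
        exact hr
      have e3 : e * y * e * (e * y)⁻¹ = y := by
        rw [braid hE.set he hy hey, mul_inv_rev, hE.inv he, hE.inv hy,
          show y * e * y * (y * e) = y * (e * (y * y) * e) by group, sq_one hE.set hy, mul_one,
          sq_one hE.set he, mul_one]
      rw [e3] at h1
      exact hey h1.2.symm

/-- A commuting pair with the same commuting sets cannot occur in a transitive set over a good one. -/
theorem thin_of_trans (htrans : Trans E) {d : G} (hdE : d ∈ E) (hd : Thin (Dc E d))
    (hne : ∃ x, Active (Dc E d) x) : Thin E := by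
  intro e he f hf hef hc hs hact
  obtain ⟨x, hx⟩ := hne
  obtain ⟨g, hg, hst⟩ := htrans e he x hx.1.1
  set x' := g * f * g⁻¹ with hx'
  have hsame : Same E x x' := hg ▸ hs.conj hst
  have hcomm : Commute x x' := hg ▸ (commute_conj_iff g).mpr hc
  have hne' : x ≠ x' := by
    rw [← hg, hx']; intro h; exact hef (mul_left_cancel (mul_right_cancel h))
  obtain ⟨y, hy, hxy⟩ := hx.2
  have hx'd : x' ≠ d := by
    intro h
    have h2 : Commute y x' := by rw [h]; exact hy.2.2.symm
    exact hxy ((hsame y hy.1).mpr h2).symm
  have hmem : x' ∈ Dc E d := by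
    refine ⟨(hst f hf).1, hx'd, ?_⟩
    exact (hsame d hdE).mp hx.1.2.2
  exact hd x hx.1 x' hmem hne' hcomm (fun w hw => hsame w hw.1) hx

end Cfsg.Agent.Transpos
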