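import Cfsg.Agent.Lib.Transpos.M22AutPair

/-!
# Inputs for the centraliser in the automorphism group of a product of two members in type M(22)

An automorphism exchanging the pair and trivial modulo the twin products changes a product of twins
by `p q` at most (`M22.twist_twinProd`); an element of odd order inverted by `q` and commuting with
its conjugates under the twin products is trivial (`M22.inverted_trivial`).
-/

set_option autoImplicit false
set_option linter.style.haveILetI false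
set_option maxHeartbeats 1000000

namespace Cfsg.Agent.Transpos

open Cfsg Cfsg.Agent.ClassicalSimple

/-- The automorphism group of a non-abelian simple group has no normal 2-subgroup but the trivial one. -/
theorem mulAut_normal_two_bot {S : Type*} [Group S] [Finite S] (hS : IsSimpleGroup S)
    (hc : Subgroup.center S = ⊥) (hn : ¬ IsPGroup 2 S) {N : Subgroup (MulAut S)} [N.Normal]
    (hN : IsPGroup 2 ↥N) : N = ⊥ := by
  have hinj : Function.Injective (MulAut.conj : S →* MulAut S) := (injective_iff_map_eq_one _).2 fun s hs =>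
    Subgroup.mem_bot.1 (hc ▸ Subgroup.mem_center_iff.2 fun g =>
      (mul_inv_eq_iff_eq_mul.1 (congrArg (fun e : MulAut S => e g) hs)).symm)
  rcases (inferInstance : (N.comap (MulAut.conj : S →* MulAut S)).Normal).eq_bot_or_eq_top with h | h
  · refine (Subgroup.eq_bot_iff_forall N).2 fun φ hφ => MulEquiv.ext fun s => ?_
    have h1 : φ * MulAut.conj s * φ⁻¹ * (MulAut.conj s)⁻¹ ∈ N := by
      rw [show φ * MulAut.conj s * φ⁻¹ * (MulAut.conj s)⁻¹ = φ * (MulAut.conj s * φ⁻¹ * (MulAut.conj s)⁻¹)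
        by simp only [mul_assoc]]
      exact N.mul_mem hφ (Subgroup.Normal.conj_mem inferInstance _ (N.inv_mem hφ) _)
    have h2 : MulAut.conj (φ s * s⁻¹) = φ * MulAut.conj s * φ⁻¹ * (MulAut.conj s)⁻¹ := by
      rw [map_mul, map_inv]
      congr 1
      refine MulEquiv.ext fun x => ?_
      show φ s * x * (φ s)⁻¹ = φ (s * φ.symm x * s⁻¹)
      rw [map_mul, map_mul, map_inv, φ.apply_symm_apply]
    have h3 : φ s * s⁻¹ ∈ N.comap (MulAut.conj : S →* MulAut S) := by
      rw [Subgroup.mem_comap, h2]; exact h1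
    rw [h, Subgroup.mem_bot, mul_inv_eq_one] at h3
    exact h3
  · exfalso
    refine hn ?_
    have hle : ∀ s, MulAut.conj s ∈ N := fun s => Subgroup.mem_comap.1 (h ▸ Subgroup.mem_top s)
    exact hN.of_injective ((MulAut.conj : S →* MulAut S).codRestrict N hle)
      (fun x y e => hinj (congrArg Subtype.val e))

/-- Every automorphism of the automorphism group of a non-abelian simple group is inner. -/
theorem mulAut_auto_inner {S : Type*} [Group S] [Finite S] (hS : IsSimpleGroup S)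
    (hc : Subgroup.center S = ⊥) (α : MulAut (MulAut S)) : ∃ t, MulAut.conj t = α := by
  set ι : S →* MulAut S := MulAut.conj with hι
  have hinj : Function.Injective ι := (injective_iff_map_eq_one _).2 fun s hs =>
    Subgroup.mem_bot.1 (hc ▸ Subgroup.mem_center_iff.2 fun g =>
      (mul_inv_eq_iff_eq_mul.1 (congrArg (fun e : MulAut S => e g) hs)).symm)
  have hnat : ∀ (t : MulAut S) s, t * ι s * t⁻¹ = ι (t s) := fun t s => MulEquiv.ext fun x => by
    show t (s * t.symm x * s⁻¹) = t s * x * (t s)⁻¹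
    rw [map_mul, map_mul, map_inv, t.apply_symm_apply]
  have hIn : ι.range.Normal := ⟨by
    rintro _ ⟨s, rfl⟩ t
    exact ⟨t s, (hnat t s).symm⟩⟩
  set f : S →* MulAut S := α.toMonoidHom.comp ι with hf
  have hfn : f.range.Normal := by
    rw [MonoidHom.range_comp]
    exact hIn.map _ α.surjective
  have hmem : ∀ s, ∃ s', ι s' = f s := by
    rcases (hfn.comap ι).eq_bot_or_eq_top with h | h
    · exfalso
      have hcomm : ∀ s r, Commute (f s) (ι r) := fun s r => by
        have h1 : f s * ι r * (f s)⁻¹ * (ι r)⁻¹ ∈ f.range := by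
          rw [show f s * ι r * (f s)⁻¹ * (ι r)⁻¹ = f s * (ι r * (f s)⁻¹ * (ι r)⁻¹) by simp only [mul_assoc]]
          exact f.range.mul_mem ⟨s, rfl⟩ (hfn.conj_mem _ (f.range.inv_mem ⟨s, rfl⟩) _)
        have h2 : ι ((f s) r * r⁻¹) = f s * ι r * (f s)⁻¹ * (ι r)⁻¹ := by rw [map_mul, map_inv, hnat]
        have h3 : (f s) r * r⁻¹ ∈ f.range.comap ι := by rw [Subgroup.mem_comap, h2]; exact h1
        rw [h, Subgroup.mem_bot] at h3
        rw [h3, map_one] at h2
        exact mul_inv_eq_iff_eq_mul.1 (mul_inv_eq_one.1 h2.symm)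
      obtain ⟨s, hs⟩ : ∃ s : S, s ≠ 1 := exists_ne 1
      refine hs (hinj (α.injective ?_))
      rw [map_one, map_one]
      refine MulEquiv.ext fun r => hinj ?_
      show ι (f s r) = ι r
      rw [← hnat, (hcomm s r).eq, mul_inv_cancel_right]
    · intro s
      have hle : ι.range ≤ f.range := by
        rintro _ ⟨r, rfl⟩
        exact Subgroup.mem_comap.1 (h ▸ Subgroup.mem_top r)
      have heq : ι.range = f.range := by
        refine Subgroup.eq_of_le_of_card_ge hle ?_
        rw [← Nat.card_congr (MonoidHom.ofInjective hinj).toEquiv]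
        exact Nat.card_le_card_of_surjective _ f.rangeRestrict_surjective
      exact MonoidHom.mem_range.1 (heq ▸ ⟨s, rfl⟩)
  choose β hβ using hmem
  have hfi : Function.Injective f := α.injective.comp hinj
  let βh : S →* S := MonoidHom.mk' β fun x y => hinj (by rw [hβ, map_mul f, map_mul ι, hβ, hβ])
  have hβi : Function.Injective βh := fun x y e => hfi (by rw [← hβ, ← hβ]; exact congrArg ι e)
  let b : MulAut S := MulEquiv.ofBijective βh ⟨hβi, Finite.surjective_of_injective hβi⟩
  refine ⟨b, MulEquiv.ext fun t => ?_⟩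
  show b * t * b⁻¹ = α t
  rw [mul_inv_eq_iff_eq_mul]
  refine MulEquiv.ext fun s => hinj ?_
  show ι (β (t s)) = ι ((α t) (β s))
  rw [← hnat, hβ, hβ, hf]
  show α (ι (t s)) = α t * α (ι s) * (α t)⁻¹
  rw [← map_inv, ← map_mul, ← map_mul, hnat]

variable {G : Type*} [Group G] {D : Set G}

namespace M22

variable [Finite G] (H : M22 D) {p q : G} (hp : p ∈ D) (hq : q ∈ Dc D p)
include H hp hq

omit [Finite G] in
/-- Each element of the group of twin products shifts every class. -/
theorem pf_shift (M : Model D p) {U : Fin 6 → M.F} (hU : M.IsPt q U) {x : G} (hx : x ∈ PF D p q) :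
    ∀ W, M.Out U W → ∃ t : M.F, ∀ (n : M.F) z, M.IsPt z (W + n • U) →
      M.IsPt (x * z * x⁻¹) (W + (n + t) • U) := by
  intro W hW
  induction hx using Subgroup.closure_induction with
  | mem u hu =>
    rcases hu with ⟨y, z, hy, ht, rfl⟩ | hu
    · obtain ⟨V, m, hV, -, h1, h2⟩ := M.twin_labels H hp hU ht hy
      exact ⟨_, fun n w hw => M.shift_pair H hp hU hV.1 hV.2.1 hW.1 h1 h2 hw⟩
    · refine ⟨0, fun n w hw => ?_⟩
      rw [add_zero, pair_fix hp hq M hU (u := u) (by rcases hu with rfl | rfl <;> simp)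
        (M.mem_of_out H hp hU hw (hW.add M hU n))]
      exact hw
  | one => exact ⟨0, fun n w hw => by simpa using hw⟩
  | mul u v _ _ h1 h2 =>
    obtain ⟨s, hs⟩ := h1
    obtain ⟨t, ht⟩ := h2
    refine ⟨t + s, fun n w hw => ?_⟩
    rw [← add_assoc, show u * v * w * (u * v)⁻¹ = u * (v * w * v⁻¹) * u⁻¹ by group]
    exact hs _ _ (ht n w hw)
  | inv u _ h1 =>
    obtain ⟨s, hs⟩ := h1
    refine ⟨s, fun n w hw => ?_⟩
    obtain ⟨y, hy, -⟩ := M.pt_of_out H hp hU (hW.add M hU (n + s))
    have := hs _ y hy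
    rw [add_assoc, M.c.addF, add_zero] at this
    rw [M.eq_of_smul H hp hw this (one_smul _ _).symm, show u⁻¹ * (u * y * u⁻¹) * u⁻¹⁻¹ = y by group]
    exact hy

/-- An automorphism permuting the pair, trivial modulo the twin products and squaring into them, changes a
product of twins by `p q` at most. -/
theorem twist_twinProd {φ : MulAut G} (he : (φ p = p ∧ φ q = q) ∨ (φ p = q ∧ φ q = p))
    (hst : ∀ y ∈ Dc (Dc D p) q, y * φ y ∈ PF D p q)
    (hsq : ∃ f ∈ PF D p q, ∀ g, φ (φ g) = f * g * f⁻¹) {x : G} (hx : x ∈ TwinProd D p q) :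
    φ x = x ∨ φ x = p * q * x := by
  classical
  obtain ⟨M⟩ := (H.model p hp).2
  obtain ⟨U, hU⟩ := M.exists_vec H hp hq
  haveI : Fintype M.F := Fintype.ofFinite M.F
  obtain ⟨A⟩ := U6.exists_adapt M.c hU.iso hU.ne_zero
  have hstable : ∀ V, M.Out U V → ∀ (m : M.F) y, M.IsPt y (V + m • U) →
      ∃ n : M.F, M.IsPt (φ y) (V + n • U) := by
    intro V hV m y hy
    have hyL := M.mem_of_out H hp hU hy (hV.add M hU m)
    have hzL : φ y ∈ Dc (Dc D p) q := by
      have h : φ y ∈ Dc (Dc D (φ p)) (φ q) ↔ y ∈ Dc (Dc D p) q :=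
        and_congr (H.preserves φ).mem_dc (and_congr φ.injective.ne_iff Preserves.commute)
      rcases he with ⟨e1, e2⟩ | ⟨e1, e2⟩ <;> rw [e1, e2] at h
      · exact h.2 hyL
      · exact dc_dc_symm (h.2 hyL)
    have e := pf_ker H hp hq M hU A (k := ⟨y, mem_J_of_dc hyL⟩ * ⟨φ y, mem_J_of_dc hzL⟩) (hst y hyL)
    rw [map_mul] at e
    have e2 : toPSU H hp M hU A ⟨y, mem_J_of_dc hyL⟩ * toPSU H hp M hU A ⟨y, mem_J_of_dc hyL⟩ = 1 := by
      rw [← map_mul, ← map_one (toPSU H hp M hU A)]
      exact congrArg _ (Subtype.ext (sq_one H.grp.1 hyL.1.1))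
    obtain ⟨Z, hZ⟩ := M.exists_vec H hp hzL.1
    obtain ⟨r, s, e'⟩ := line_of_toPSU_eq H hp M hU A hyL hzL hy hZ (mul_left_cancel (e2.trans e.symm))
    have hr : r ≠ 0 := fun h => (M.out_of_mem H hp hU hZ hzL).2.2 s (by rw [e', h, zero_smul, zero_add])
    refine ⟨m + r⁻¹ * s, ?_⟩
    have := hZ.smul (inv_ne_zero hr)
    rwa [e', smul_add, inv_smul_smul₀ hr, smul_smul, add_assoc, ← add_smul] at this
  obtain ⟨y, z, hy, ht, rfl⟩ := hx
  obtain ⟨V, δ, hV, hδ, h1, h2⟩ := M.twin_labels H hp hU ht hy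
  obtain ⟨μ, ν, haff⟩ := M.stable_linear H hp hU hstable hV
  obtain ⟨f, hf, hφφ⟩ := hsq
  obtain ⟨t, hft⟩ := pf_shift H hp hq M hU hf V hV
  have hμ : μ = 1 := by
    have key : ∀ m : M.F, μ * (μ * m + ν) + ν = m + t := fun m => by
      obtain ⟨w, hw, -⟩ := M.pt_of_out H hp hU (hV.add M hU m)
      have a1 := haff _ _ (haff m w hw)
      rw [hφφ w] at a1
      exact M.coef_unique H hp hU hV a1 (hft m w hw)
    have hμμ : μ * μ = 1 := by linear_combination key 1 - key 0
    exact mul_self_eq_one_iff.1 hμμ |>.elim id fun h => h.trans (by linear_combination -M.c.two)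
  subst hμ
  have w1 := haff _ _ h1
  have w2 := haff _ _ h2
  rw [one_mul] at w1 w2
  rw [map_mul]
  rcases M.shifted_pair H hp hU hV hδ.symm h1 h2 w1 w2 with ⟨-, e⟩ | e
  exacts [Or.inl e, Or.inr e]

/-- An element of odd order inverted by `q`, commuting with its conjugates under the twin products, is
trivial. -/
theorem inverted_trivial {c : G} (hcp : Commute c p) (hinv : q * c * q⁻¹ = c⁻¹) (hodd : Odd (orderOf c))
    (hcomm : ∀ f ∈ PF D p q, Commute c (f * c * f⁻¹)) : c = 1 := by
  classical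
  have hqD : q ∈ D := hq.1
  have hqi : q⁻¹ = q := inv_eq H.grp.1 hqD
  set q' := c * q * c⁻¹ with hq'
  have hq'2 : q' = c * c * q := by
    rw [hq', ← hinv, hqi, ← mul_assoc, ← mul_assoc, mul_assoc c q q, sq_one H.grp.1 hqD, mul_one]
  have hqc : q * c = c⁻¹ * q := mul_inv_eq_iff_eq_mul.1 hinv
  by_cases hqq : Commute q q'
  · -- then `c ^ 4 = 1`
    have h1 : q * (c * c) = c * c * q := mul_right_cancel (b := q) (by
      have := hqq.eq
      rw [hq'2, ← mul_assoc] at this
      exact this)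
    have h2 : q * (c * c) = c⁻¹ * c⁻¹ * q := by
      rw [← mul_assoc, hqc, mul_assoc, hqc, ← mul_assoc]
    have h4 : c ^ 4 = 1 := by
      have e := mul_right_cancel (h1.symm.trans h2)
      calc c ^ 4 = c * c * (c * c) := by simp only [pow_succ, pow_zero, one_mul, mul_assoc]
        _ = c * c * (c⁻¹ * c⁻¹) := by rw [← e]
        _ = 1 := by group
    obtain ⟨k, hk⟩ := hodd
    have hd := orderOf_dvd_of_pow_eq_one h4
    have : orderOf c = 1 := by
      have hle := Nat.le_of_dvd (by norm_num) hd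
      interval_cases orderOf c <;> omega
    exact orderOf_eq_one_iff.1 this
  exfalso
  obtain ⟨M⟩ := (H.model p hp).2
  obtain ⟨U, hU⟩ := M.exists_vec H hp hq
  have hq'mem : q' ∈ Dc D p := by
    have := ((stab_of_normal H.grp c).carries.dc p).1 q hq
    rwa [show c * p * c⁻¹ = p by rw [hcp.eq, mul_inv_cancel_right]] at this
  obtain ⟨W, hW⟩ := M.exists_vec H hp hq'mem
  have hUW : M.h U W ≠ 0 := fun h => hqq ((M.comm_iff H hp hU hW).2 h)
  have hWU : M.h W U ≠ 0 := fun h => hUW (M.c.form.comm_zero h)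
  have := M.c.fd
  obtain ⟨V, hV0, hVV, hVP⟩ := U6.exists_iso_perp M.c ![U, W, U, U]
  have hUV : M.h U V = 0 := hVP 0
  have hWV : M.h W V = 0 := hVP 1
  have hVW : M.h V W = 0 := M.c.form.comm_zero hWV
  have hVo : M.Out U V := ⟨hUV, hVV, fun m e => hV0 (by
    rw [e, map_smul, smul_eq_mul] at hWV
    rw [e, (mul_eq_zero.1 hWV).resolve_right hWU, zero_smul])⟩
  obtain ⟨y, hy, hyL⟩ := M.pt_of_out H hp hU (hVo.add M hU 0)
  obtain ⟨z, hz, -⟩ := M.pt_of_out H hp hU (hVo.add M hU 1)
  set f := q * (y * z) with hf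
  have hfP : f ∈ PF D p q := mul_mem (Subgroup.subset_closure (Or.inr (Or.inr rfl)))
    (Subgroup.subset_closure (Or.inl ⟨y, z, hyL, M.label_twin H hp hU hVo hy hz zero_ne_one, rfl⟩))
  set r := M.h U W with hr
  have hf' : M.IsPt (f * q' * f⁻¹) (W + r • V) := by
    have a1 := M.acts_tv H hp hz q' W hW
    beta_reduce at a1
    have a2 := M.acts_tv H hp hy _ _ a1
    beta_reduce at a2
    have a3 := M.acts_tv H hp hU _ _ a2
    beta_reduce at a3
    rw [show f * q' * f⁻¹ = q * (y * (z * q' * z⁻¹) * y⁻¹) * q⁻¹ by rw [hf]; group]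
    convert a3 using 1
    simp only [one_smul, zero_smul, add_zero, map_add, map_smul, LinearMap.add_apply, smul_eq_mul,
      hVV, hUV, hU.iso, hVW, M.c.form.comm_zero hUV, mul_zero, zero_add, add_zero, zero_smul, ← hr]
    rw [smul_add]
    rw [show W + (r • V + r • U) + r • U = W + r • V + (r • U + r • U) by abel, M.c.addV, add_zero]
  have hcomm2 : Commute q' (f * q' * f⁻¹) :=
    (M.comm_iff H hp hW hf').2 (by simp [hW.iso, hWV])
  have hne : q' ≠ f * q' * f⁻¹ := fun e => by
    obtain ⟨m, hm⟩ := M.smul_of_eq hW hf' e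
    have e' := congrArg (M.h U) hm
    simp only [map_add, map_smul, smul_eq_mul, hUV, mul_zero, add_zero] at e'
    rw [← hr] at e'
    have hm1 : m = 1 := by
      have : r * (m - 1) = 0 := by linear_combination -e'
      exact sub_eq_zero.1 ((mul_eq_zero.1 this).resolve_left hUW)
    rw [hm1, one_smul, add_eq_left] at hm
    exact smul_ne_zero hUW hV0 hm
  refine hne ?_
  obtain ⟨-, hfq⟩ := pf_commute hq hfP
  set c1 := f * c * f⁻¹ with hc1
  have hinv1 : q * c1 * q⁻¹ = c1⁻¹ := by
    rw [hc1, show q * (f * c * f⁻¹) * q⁻¹ = (q * f) * c * (q * f)⁻¹ by group, hfq.eq,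
      show f * q * c * (f * q)⁻¹ = f * (q * c * q⁻¹) * f⁻¹ by group, hinv]
    group
  have hfq' : f * q' * f⁻¹ = c1 * c1 * q := by
    rw [hq'2, show f * (c * c * q) * f⁻¹ = c1 * c1 * (f * q * f⁻¹) by rw [hc1]; group, ← hfq.eq,
      mul_inv_cancel_right]
  have hprod : q' * (f * q' * f⁻¹) = c * c * (c1⁻¹ * c1⁻¹) := by
    rw [hfq', hq'2, show c * c * q * (c1 * c1 * q) = c * c * ((q * c1 * q⁻¹) * (q * c1 * q⁻¹) * (q * q)) by
      group, hinv1, sq_one H.grp.1 hqD, mul_one]
  set u := c * c * (c1⁻¹ * c1⁻¹) with hu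
  have hu2 : u * u = 1 := by
    rw [← hprod, show q' * (f * q' * f⁻¹) * (q' * (f * q' * f⁻¹)) =
      q' * ((f * q' * f⁻¹) * q') * (f * q' * f⁻¹) by group, hcomm2.symm.eq]
    have hq'D : q' * q' = 1 := sq_one H.grp.1 hq'mem.1
    rw [← mul_assoc q', hq'D, one_mul, show f * q' * f⁻¹ * (f * q' * f⁻¹) = f * (q' * q') * f⁻¹ by group,
      hq'D, mul_one, mul_inv_cancel]
  have hun : u ^ orderOf c = 1 := by
    have hcc : Commute (c * c) (c1⁻¹ * c1⁻¹) :=
      ((hcomm f hfP).inv_right.mul_right (hcomm f hfP).inv_right).mul_left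
        ((hcomm f hfP).inv_right.mul_right (hcomm f hfP).inv_right)
    have hc1n : c1 ^ orderOf c = 1 := by
      rw [hc1, conj_pow, pow_orderOf_eq_one, mul_one, mul_inv_cancel]
    rw [hu, hcc.mul_pow, (Commute.refl c).mul_pow, pow_orderOf_eq_one, one_mul, one_mul,
      (Commute.refl c1⁻¹).mul_pow, inv_pow, hc1n, inv_one, one_mul]
  obtain ⟨k, hk⟩ := hodd
  rw [hk, pow_succ, pow_mul, pow_two, hu2, one_pow, one_mul] at hun
  have hq'D : q' * q' = 1 := sq_one H.grp.1 hq'mem.1
  exact mul_left_cancel (hq'D.trans (hprod.trans hun).symm)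

end M22

end Cfsg.Agent.Transpos
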