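import Cfsg.Agent.Lib.Transpos.M22AutCentralizer
import Cfsg.Agent.Lib.PGroup.SymplecticType
import Cfsg.Agent.Lib.Balance.CharP
import Cfsg.Agent.Lib.PCore.Basic
import Cfsg.Prelude.Def_MonsterType
import Mathlib.GroupTheory.FixedPointFree

/-!
# The centraliser in the automorphism group of the product of two members in type M(22)

If some automorphism is not inner, this centraliser is `2^(1+10).Aut U₄(2)`: the automorphisms
trivial on `C(p q) / PF` form a large extraspecial group, the generalized Fitting subgroup.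
-/

set_option autoImplicit false
set_option linter.style.haveILetI false
set_option maxHeartbeats 4000000

namespace Cfsg.Agent.Transpos

open Cfsg Cfsg.Agent.ClassicalSimple
open scoped commutatorElement

variable {G : Type*} [Group G] {D : Set G}

namespace M22

/-- The centraliser in the automorphism group of a product of two commuting members. -/
theorem aut_pair_centralizer [Finite G] (hD : IsThreeTranspositionGroup D) (hprim : IsPrimitiveUnderConj D)
    (h22 : IsOfTypeM22 G D) (hout : ∃ φ : MulAut G, φ ∉ (MulAut.conj : G →* MulAut G).range) {p q : G}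
    (hp : p ∈ D) (hq : q ∈ Dc D p) (j : MulAut G) (hj : j = MulAut.conj (p * q)) (Q : Subgroup (MulAut G))
    (hQ : Q = (generalizedFittingSubgroup ↥(Subgroup.centralizer ({j} : Set (MulAut G)))).map
      (Subgroup.centralizer ({j} : Set (MulAut G))).subtype) :
    IsLargeExtraspecial Q ∧ Nat.card Q = 2 ^ 11 ∧ Q ≤ Subgroup.centralizer ({j} : Set (MulAut G)) ∧
      ∃ (_ : (Q.subgroupOf (Subgroup.centralizer ({j} : Set (MulAut G)))).Normal) (F : Type) (_ : Field F)
        (_ : Fintype F), Fintype.card F = 4 ∧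
        Nonempty (↥(Subgroup.centralizer ({j} : Set (MulAut G))) ⧸
          Q.subgroupOf (Subgroup.centralizer ({j} : Set (MulAut G))) ≃* MulAut (Cfsg.PSU 4 F 2)) := by
  classical
  haveI : Fact (Nat.Prime 2) := ⟨Nat.prime_two⟩
  haveI : Finite (MulAut G) := Finite.of_injective (fun e => ⇑e) DFunLike.coe_injective
  obtain ⟨-, H, -⟩ := m22_of_primitive hD hprim h22
  obtain ⟨M⟩ := (H.model p hp).2
  haveI : Fintype M.F := Fintype.ofFinite M.F
  obtain ⟨U, hU⟩ := M.exists_vec H hp hq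
  obtain ⟨A⟩ := U6.exists_adapt M.c hU.iso hU.ne_zero
  have hpq : Commute p q := hq.2.2
  set C := Subgroup.centralizer ({p * q} : Set G) with hC
  obtain ⟨hJC, -, -, E, -, hEC, -, hEcard, -, hEn, F, iF, iFt, hF, ⟨e⟩⟩ :=
    pair_structure hD hprim h22 hp hq C _ hC rfl
  set S := Cfsg.PSU 4 F 2 with hSdef
  have hF' : Fintype.card F = 2 ^ 2 := by rw [hF]; norm_num
  have hS : IsSimpleGroup S := ClassicalSimple.PSU_isSimpleGroup hF' (by norm_num) (by norm_num)
  have hScard : Nat.card S = 25920 := U6.card_psu (U6.ctx_of_card hF')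
  haveI : Finite S := Nat.finite_of_card_ne_zero (by rw [hScard]; norm_num)
  haveI : Finite (MulAut S) := Finite.of_injective (fun e => ⇑e) DFunLike.coe_injective
  have hSn : ¬ IsPGroup 2 S := fun h => by
    obtain ⟨n, hn⟩ := IsPGroup.iff_card.1 h
    have : 5 ∣ 2 ^ n := ⟨5184, by rw [← hn, hScard]⟩
    have := Nat.Prime.dvd_of_dvd_pow (by norm_num) this
    norm_num at this
  have hSc : Subgroup.center S = ⊥ :=
    (Subgroup.center S).normal_of_characteristic.eq_bot_or_eq_top.resolve_right fun h => by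
      letI : CommGroup S := { (inferInstance : Group S) with
        mul_comm := fun x y => Subgroup.mem_center_iff.1 (h ▸ Subgroup.mem_top y : y ∈ Subgroup.center S) x }
      have := IsSimpleGroup.prime_card (α := S)
      rw [hScard] at this
      norm_num at this
  set f : ↥C →* MulAut S := e.toMonoidHom.comp (QuotientGroup.mk' (E.subgroupOf C)) with hf
  have hfs : Function.Surjective f := e.surjective.comp (QuotientGroup.mk'_surjective _)
  have hfker : f.ker = E.subgroupOf C := by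
    ext x
    rw [MonoidHom.mem_ker, hf]
    simp
  have hinjG : Function.Injective (MulAut.conj : G →* MulAut G) := (injective_iff_map_eq_one _).2 fun s hs =>
    Subgroup.mem_bot.1 (H.center ▸ Subgroup.mem_center_iff.2 fun g =>
      (mul_inv_eq_iff_eq_mul.1 (congrArg (fun e : MulAut G => e g) hs)).symm)
  have hnat : ∀ (φ : MulAut G) g, φ * MulAut.conj g * φ⁻¹ = MulAut.conj (φ g) := fun φ g =>
    MulEquiv.ext fun x => by
      show φ (g * φ.symm x * g⁻¹) = φ g * x * (φ g)⁻¹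
      rw [map_mul, map_mul, map_inv, φ.apply_symm_apply]
  -- the twin products form the kernel
  have hpermC : ∀ c ∈ C, Commute c (p * q) := fun c hc =>
    (Subgroup.mem_centralizer_singleton_iff.1 hc : c * (p * q) = (p * q) * c)
  have hperm : ∀ φ : MulAut G, φ (p * q) = p * q → (φ p = p ∧ φ q = q) ∨ (φ p = q ∧ φ q = p) := by
    intro φ he
    rw [map_mul] at he
    rcases mem_of_prod_two H.tr H.noTwin₂ ((H.preserves φ p).2 hp) ((H.preserves φ q).2 hq.1) hp hq.1
      (φ.injective.ne hq.2.1.symm) hq.2.1.symm (hpq.map φ) hpq he with h | h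
    · rw [h] at he
      exact Or.inl ⟨h, mul_left_cancel he⟩
    · rw [h] at he
      exact Or.inr ⟨h, mul_left_cancel (he.trans hpq.eq)⟩
  have hPC : PF D p q ≤ C := (pf_le_J hq).trans hJC
  haveI hPn : ((PF D p q).subgroupOf C).Normal := ⟨fun x hx g => by
    rw [Subgroup.mem_subgroupOf] at hx ⊢
    exact pf_map hq (preserves_conj H.grp (g : G))
      (hperm (MulAut.conj (g : G)) (mul_inv_eq_iff_eq_mul.2 (hpermC g g.2).eq)) hx⟩
  have hPker : (PF D p q).subgroupOf C = f.ker := by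
    haveI : (((PF D p q).subgroupOf C).map f).Normal := hPn.map f hfs
    have hbot : ((PF D p q).subgroupOf C).map f = ⊥ := mulAut_normal_two_bot hS hSc hSn
      (((pf_two H hp hq).of_equiv (Subgroup.subgroupOfEquivOfLe hPC).symm).map f)
    refine Subgroup.eq_of_le_of_card_ge ((Subgroup.map_eq_bot_iff _).1 hbot) ?_
    rw [hfker, Nat.card_congr (Subgroup.subgroupOfEquivOfLe hEC).toEquiv, hEcard,
      Nat.card_congr (Subgroup.subgroupOfEquivOfLe hPC).toEquiv]
    exact (pf_card H hp hq M hU A).1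
  have hPcard : Nat.card ↥(PF D p q) = 1024 := by
    rw [← Nat.card_congr (Subgroup.subgroupOfEquivOfLe hPC).toEquiv, hPker, hfker,
      Nat.card_congr (Subgroup.subgroupOfEquivOfLe hEC).toEquiv, hEcard]
    norm_num
  have hf1 : ∀ {x : G} (hx : x ∈ C), f ⟨x, hx⟩ = 1 ↔ x ∈ PF D p q := fun {x} hx => by
    rw [← MonoidHom.mem_ker, ← hPker, Subgroup.mem_subgroupOf]
  -- the centraliser in the automorphism group
  set C' := Subgroup.centralizer ({j} : Set (MulAut G)) with hC'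
  have hC'mem : ∀ φ : MulAut G, φ ∈ C' ↔ φ (p * q) = p * q := fun φ => by
    rw [hC', Subgroup.mem_centralizer_singleton_iff, hj]
    refine ⟨fun h => hinjG ?_, fun h => ?_⟩
    · rw [← hnat, h, mul_inv_cancel_right]
    · conv_rhs => rw [← h, ← hnat, inv_mul_cancel_right]
  have hrC : ∀ (φ : ↥C') (x : ↥C), (φ : MulAut G) x ∈ C := fun φ x => by
    refine Subgroup.mem_centralizer_singleton_iff.2 ?_
    have h := ((hpermC x x.2).map (φ : MulAut G))
    rw [(hC'mem _).1 φ.2] at h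
    exact h.eq
  let res : ↥C' → ↥C →* ↥C := fun φ => MonoidHom.mk' (fun x => ⟨(φ : MulAut G) x, hrC φ x⟩)
    fun x y => Subtype.ext (map_mul (φ : MulAut G) (x : G) y)
  have hwd : ∀ (φ : ↥C') k l, f k = f l → f (res φ k) = f (res φ l) := fun φ k l h => by
    have h1 : k⁻¹ * l ∈ f.ker := by rw [MonoidHom.mem_ker, map_mul, map_inv, h, inv_mul_cancel]
    rw [← hPker, Subgroup.mem_subgroupOf] at h1
    have h2 : res φ (k⁻¹ * l) ∈ f.ker := by
      rw [← hPker, Subgroup.mem_subgroupOf]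
      exact pf_map hq (H.preserves _) (hperm _ ((hC'mem _).1 φ.2)) h1
    rw [MonoidHom.mem_ker, map_mul, map_mul, map_inv, map_inv, inv_mul_eq_one] at h2
    exact h2
  let lift := Function.surjInv hfs
  have hlift : ∀ t, f (lift t) = t := Function.surjInv_eq hfs
  let act : ↥C' → MulAut S → MulAut S := fun φ t => f (res φ (lift t))
  have hact : ∀ φ k, act φ (f k) = f (res φ k) := fun φ k => hwd φ _ _ (hlift _)
  have resmul : ∀ (φ ψ : ↥C') x, res (φ * ψ) x = res φ (res ψ x) := fun φ ψ x => Subtype.ext rfl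
  have resone : ∀ x, res 1 x = x := fun x => Subtype.ext rfl
  have actinv : ∀ φ t, act φ (act φ⁻¹ t) = t := fun φ t => by
    show act φ (f (res φ⁻¹ (lift t))) = t
    rw [hact, ← resmul, mul_inv_cancel, resone, hlift]
  let Ψ : ↥C' →* MulAut (MulAut S) := MonoidHom.mk' (fun φ =>
    { toFun := act φ
      invFun := act φ⁻¹
      left_inv := fun t => by simpa using actinv φ⁻¹ t
      right_inv := actinv φ
      map_mul' := fun x y => by
        obtain ⟨k, rfl⟩ := hfs x
        obtain ⟨l, rfl⟩ := hfs y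
        rw [← map_mul, hact, hact, hact, map_mul, map_mul] }) fun φ ψ => MulEquiv.ext fun x => by
      obtain ⟨k, rfl⟩ := hfs x
      show act (φ * ψ) (f k) = act φ (act ψ (f k))
      rw [hact (φ * ψ) k, hact ψ k, hact φ, resmul]
  have hT : Function.Injective (MulAut.conj : MulAut S →* MulAut (MulAut S)) := by
    refine (injective_iff_map_eq_one _).2 fun t ht => MulEquiv.ext fun s => ?_
    have h1 : t * MulAut.conj s * t⁻¹ = MulAut.conj s := congrArg (fun a : MulAut (MulAut S) => a (MulAut.conj s)) ht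
    have h2 : MulAut.conj (t s) = MulAut.conj s := by
      refine Eq.trans (MulEquiv.ext fun x => ?_) h1
      show t s * x * (t s)⁻¹ = t (s * t.symm x * s⁻¹)
      rw [map_mul, map_mul, map_inv, t.apply_symm_apply]
    have h3 : MulAut.conj ((t s)⁻¹ * s) = (1 : MulAut S) := by rw [map_mul, map_inv, h2, inv_mul_cancel]
    have h4 : (t s)⁻¹ * s ∈ Subgroup.center S := Subgroup.mem_center_iff.2 fun g =>
      (mul_inv_eq_iff_eq_mul.1 (congrArg (fun a : MulAut S => a g) h3)).symm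
    rw [hSc, Subgroup.mem_bot, inv_mul_eq_one] at h4
    exact h4
  let cT : MulAut S ≃* MulAut (MulAut S) :=
    MulEquiv.ofBijective MulAut.conj ⟨hT, mulAut_auto_inner hS hSc⟩
  let Θ : ↥C' →* MulAut S := cT.symm.toMonoidHom.comp Ψ
  have hCC' : ∀ {c : G}, c ∈ C → MulAut.conj c ∈ C' := fun {c} hc =>
    (hC'mem _).2 (mul_inv_eq_iff_eq_mul.2 (hpermC c hc).eq)
  have hΘc : ∀ {c : G} (hc : c ∈ C), Θ ⟨MulAut.conj c, hCC' hc⟩ = f ⟨c, hc⟩ := fun {c} hc => by
    refine cT.symm_apply_eq.2 (MulEquiv.ext fun t => ?_)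
    obtain ⟨k, rfl⟩ := hfs t
    show act _ (f k) = f ⟨c, hc⟩ * f k * (f ⟨c, hc⟩)⁻¹
    rw [hact, ← map_inv, ← map_mul, ← map_mul]
    exact congrArg f (Subtype.ext rfl)
  have hΘs : Function.Surjective Θ := fun t => by
    obtain ⟨⟨c, hc⟩, rfl⟩ := hfs t
    exact ⟨_, hΘc hc⟩
  have hΘ1 : ∀ φ : ↥C', Θ φ = 1 → ∀ {y : G}, y ∈ Dc (Dc D p) q → y * (φ : MulAut G) y ∈ PF D p q := by
    intro φ h y hy
    have hyC : y ∈ C := hJC (mem_J_of_dc hy)
    have h1 : Ψ φ = 1 := by
      have h' : cT.symm (Ψ φ) = 1 := h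
      rwa [MulEquiv.map_eq_one_iff] at h'
    have h2 : f (res φ ⟨y, hyC⟩) = f ⟨y, hyC⟩ := by
      rw [← hact]
      exact congrArg (fun a : MulAut (MulAut S) => a (f ⟨y, hyC⟩)) h1
    refine (hf1 (C.mul_mem hyC (hrC φ ⟨y, hyC⟩))).1 ?_
    rw [show (⟨y * (φ : MulAut G) y, _⟩ : ↥C) = ⟨y, hyC⟩ * res φ ⟨y, hyC⟩ from rfl, map_mul, h2,
      ← map_mul, ← map_one f]
    exact congrArg f (Subtype.ext (sq_one H.grp.1 hy.1.1))
  set Q0 := Θ.ker with hQ0
  -- inner elements of the kernel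
  have hQin : ∀ φ : ↥C', φ ∈ Q0 → (φ : MulAut G) p = p → (φ : MulAut G) q = q →
      ∃ k ∈ PF D p q, MulAut.conj k = (φ : MulAut G) := by
    intro φ h h1 h2
    obtain ⟨c, hc⟩ := inner_of_stable H hp hq M hU A h1 h2 fun y hy => hΘ1 φ h hy
    have hcC : c ∈ C := by
      have := (hC'mem _).1 φ.2
      rw [← hc] at this
      exact Subgroup.mem_centralizer_singleton_iff.2 (mul_inv_eq_iff_eq_mul.1 this)
    refine ⟨c, (hf1 hcC).1 ?_, hc⟩
    rw [← hΘc hcC, show (⟨MulAut.conj c, hCC' hcC⟩ : ↥C') = φ from Subtype.ext hc]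
    exact h
  have hPin : ∀ {k : G}, k ∈ PF D p q → ∃ h : MulAut.conj k ∈ C', (⟨_, h⟩ : ↥C') ∈ Q0 := fun {k} hk =>
    ⟨hCC' (hPC hk), (hΘc (hPC hk)).trans ((hf1 (hPC hk)).2 hk)⟩
  -- an outer element
  obtain ⟨τ, hτQ, hτout⟩ : ∃ τ : ↥C', τ ∈ Q0 ∧ (τ : MulAut G) ∉ (MulAut.conj : G →* MulAut G).range := by
    obtain ⟨φ₀, hφ₀⟩ := hout
    obtain ⟨g, g1, g2⟩ := H.conj_pair ((H.preserves φ₀ p).2 hp) ((H.preserves φ₀).mem_dc.2 hq) hp hq
    have h1 : MulAut.conj g * φ₀ ∈ C' := (hC'mem _).2 (by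
      show g * φ₀ (p * q) * g⁻¹ = p * q
      rw [map_mul]
      calc g * (φ₀ p * φ₀ q) * g⁻¹ = g * φ₀ p * g⁻¹ * (g * φ₀ q * g⁻¹) := by group
        _ = p * q := by rw [g1, g2])
    obtain ⟨⟨c, hc⟩, hcΘ⟩ := hfs (Θ ⟨_, h1⟩)
    refine ⟨⟨MulAut.conj c, hCC' hc⟩⁻¹ * ⟨_, h1⟩, ?_, fun h => hφ₀ ?_⟩
    · rw [hQ0, MonoidHom.mem_ker, map_mul, map_inv, hΘc hc, hcΘ, inv_mul_cancel]
    · rw [Subgroup.coe_mul, Subgroup.coe_inv, Subgroup.mul_mem_cancel_left _ (inv_mem (⟨c, rfl⟩ : MulAut.conj c ∈ (MulAut.conj : G →* MulAut G).range)),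
        Subgroup.mul_mem_cancel_left _ (⟨g, rfl⟩ : MulAut.conj g ∈ (MulAut.conj : G →* MulAut G).range)] at h
      exact h
  have hsw : ∀ φ : ↥C', φ ∈ Q0 → (φ : MulAut G) ∉ (MulAut.conj : G →* MulAut G).range →
      (φ : MulAut G) p = q ∧ (φ : MulAut G) q = p := fun φ h hno =>
    (hperm _ ((hC'mem _).1 φ.2)).resolve_left fun ⟨h1, h2⟩ =>
      hno (let ⟨k, _, hk⟩ := hQin φ h h1 h2; ⟨k, hk⟩)
  obtain ⟨τp, τq⟩ := hsw τ hτQ hτout
  have hinner : ∀ φ : ↥C', φ ∈ Q0 → ((∃ k ∈ PF D p q, MulAut.conj k = (φ : MulAut G)) ∨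
      ∃ k ∈ PF D p q, (φ : MulAut G) = (τ : MulAut G) * MulAut.conj k) := by
    intro φ h
    rcases hperm _ ((hC'mem _).1 φ.2) with ⟨h1, h2⟩ | ⟨h1, h2⟩
    · exact Or.inl (hQin φ h h1 h2)
    · obtain ⟨k, hk, e⟩ := hQin (τ⁻¹ * φ) (mul_mem (inv_mem hτQ) h)
        (show ((τ : MulAut G)).symm ((φ : MulAut G) p) = p by rw [h1, ← τp, MulEquiv.symm_apply_apply])
        (show ((τ : MulAut G)).symm ((φ : MulAut G) q) = q by rw [h2, ← τq, MulEquiv.symm_apply_apply])
      exact Or.inr ⟨k, hk, by rw [e, Subgroup.coe_mul, Subgroup.coe_inv, mul_inv_cancel_left]⟩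
  obtain ⟨fτ, hfτ, hττ⟩ := hQin (τ * τ) (mul_mem hτQ hτQ)
    (show (τ : MulAut G) ((τ : MulAut G) p) = p by rw [τp, τq])
    (show (τ : MulAut G) ((τ : MulAut G) q) = q by rw [τq, τp])
  have hτpq : (τ : MulAut G) (p * q) = p * q := (hC'mem _).1 τ.2
  have htwist : ∀ x ∈ TwinProd D p q, (τ : MulAut G) x = x ∨ (τ : MulAut G) x = p * q * x := fun x hx =>
    twist_twinProd H hp hq (Or.inr ⟨τp, τq⟩) (fun y hy => hΘ1 τ hτQ hy)
      ⟨fτ, hfτ, fun g => (congrArg (fun a : MulAut G => a g) hττ).symm⟩ hx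
  have hab1 : (p * q) * (p * q) = 1 := by
    rw [show p * q * (p * q) = p * (q * p) * q by group, ← hpq.eq, ← mul_assoc p, sq_one H.grp.1 hp,
      one_mul, sq_one H.grp.1 hq.1]
  have hcenP : ∀ x ∈ PF D p q, (∀ g ∈ TwinProd D p q, Commute x g) → (τ : MulAut G) x = x →
      x = 1 ∨ x = p * q := by
    intro x hx h1 h2
    rcases (pf_card H hp hq M hU A).2 hPcard.le x hx h1 with e | e | e | e
    · exact Or.inl e
    · subst e; exact absurd (τp.symm.trans h2) hq.2.1
    · subst e; exact absurd (τq.symm.trans h2) hq.2.1.symm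
    · exact Or.inr e
  have hτf : MulAut.conj fτ = 1 ∨ MulAut.conj fτ = j := by
    have h1 : ∀ g ∈ TwinProd D p q, Commute fτ g := fun g hg => by
      have h2 : MulAut.conj fτ g = g := by
        rw [hττ]
        show (τ : MulAut G) ((τ : MulAut G) g) = g
        rcases htwist g hg with e | e
        · rw [e, e]
        · rw [e, map_mul, hτpq, e, ← mul_assoc, hab1, one_mul]
      exact mul_inv_eq_iff_eq_mul.1 h2
    have h2 : (τ : MulAut G) fτ = fτ := hinjG (by
      rw [← hnat, hττ, Subgroup.coe_mul, mul_assoc, mul_assoc, mul_inv_cancel, mul_one])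
    rcases hcenP fτ hfτ h1 h2 with e | e <;> rw [e]
    exacts [Or.inl (map_one _), Or.inr hj.symm]
  -- the subgroup
  set Q1 := Q0.map C'.subtype with hQ1
  have hQ1mem : ∀ {x : MulAut G}, x ∈ Q1 ↔ ∃ h : x ∈ C', (⟨x, h⟩ : ↥C') ∈ Q0 := fun {x} =>
    ⟨fun ⟨y, hy, e⟩ => e ▸ ⟨y.2, hy⟩, fun ⟨h, hy⟩ => ⟨_, hy, rfl⟩⟩
  set gens : Set (MulAut G) := MulAut.conj '' (TwinProd D p q ∪ {p, q}) ∪ {(τ : MulAut G)} with hgens
  have hQgen : Q1 ≤ Subgroup.closure gens := by
    have hle : (PF D p q).map (MulAut.conj : G →* MulAut G) ≤ Subgroup.closure gens := by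
      rw [PF, MonoidHom.map_closure]
      exact Subgroup.closure_mono Set.subset_union_left
    intro x hx
    obtain ⟨h, hy⟩ := hQ1mem.1 hx
    rcases hinner _ hy with ⟨k, hk, e⟩ | ⟨k, hk, e⟩
    · exact (show x = MulAut.conj k from e.symm) ▸ hle ⟨k, hk, rfl⟩
    · exact (show x = (τ : MulAut G) * MulAut.conj k from e) ▸
        mul_mem (Subgroup.subset_closure (Or.inr rfl)) (hle ⟨k, hk, rfl⟩)
  set Z := Subgroup.zpowers j with hZ
  have hjQ : j ∈ Q1 := hQ1mem.2 (hj ▸ hPin (mul_mem (Subgroup.subset_closure (Or.inr (Or.inl rfl)))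
    (Subgroup.subset_closure (Or.inr (Or.inr rfl)))))
  have hjC : ∀ z ∈ Z, ∀ x ∈ C', Commute z x := fun z hz x hx => by
    obtain ⟨k, rfl⟩ := Subgroup.mem_zpowers_iff.1 hz
    exact (show Commute j x from (Subgroup.mem_centralizer_singleton_iff.1 hx).symm).zpow_left k
  have hconjZ : ∀ z ∈ Subgroup.zpowers (p * q), MulAut.conj z ∈ Z := fun z hz => by
    obtain ⟨k, rfl⟩ := Subgroup.mem_zpowers_iff.1 hz
    rw [map_zpow, hZ, hj]
    exact Subgroup.zpow_mem _ (Subgroup.mem_zpowers _) k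
  have hτgen : ∀ x ∈ TwinProd D p q ∪ {p, q}, MulAut.conj ((τ : MulAut G) x * x⁻¹) ∈ Z := by
    intro x hx
    rcases hx with hx | rfl | rfl
    · rcases htwist x hx with e | e
      · rw [e, mul_inv_cancel, map_one]; exact one_mem _
      · rw [e, mul_inv_cancel_right]; exact hconjZ _ (Subgroup.mem_zpowers _)
    · rw [τp, inv_eq H.grp.1 hp, ← hpq.eq]; exact hconjZ _ (Subgroup.mem_zpowers _)
    · rw [τq, inv_eq H.grp.1 hq.1]; exact hconjZ _ (Subgroup.mem_zpowers _)
  have hgC : ∀ x ∈ gens, x ∈ C' := by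
    rintro x (⟨g, hg, rfl⟩ | rfl)
    · exact hCC' (hPC (Subgroup.subset_closure hg))
    · exact τ.2
  obtain ⟨hcom, hsqs⟩ : (∀ x ∈ Q1, ∀ y ∈ Q1, x * y * x⁻¹ * y⁻¹ ∈ Z) ∧ ∀ x ∈ Q1, x ^ 2 ∈ Z := by
    have h := closure_mod gens Z (fun z hz x hx => hjC z hz x (hgC x hx)) ?_ ?_
    · exact ⟨fun x hx y hy => h.1 x (hQgen hx) y (hQgen hy), fun x hx => h.2 x (hQgen hx)⟩
    · rintro _ (⟨x, hx, rfl⟩ | rfl) _ (⟨y, hy, rfl⟩ | rfl)
      · rw [← map_inv, ← map_inv, ← map_mul, ← map_mul, ← map_mul]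
        exact hconjZ _ ((pf_mod H hp hq).1 x (Subgroup.subset_closure hx) y (Subgroup.subset_closure hy))
      · have h1 := inv_mem (hτgen x hx)
        rwa [← map_inv, mul_inv_rev, inv_inv, map_mul, map_inv, ← hnat,
          show MulAut.conj x * ((τ : MulAut G) * MulAut.conj x * (τ : MulAut G)⁻¹)⁻¹ =
            MulAut.conj x * (τ : MulAut G) * (MulAut.conj x)⁻¹ * (τ : MulAut G)⁻¹ by group] at h1
      · have h1 := hτgen y hy
        rwa [map_mul, map_inv, ← hnat] at h1
      · rw [mul_inv_cancel_right, mul_inv_cancel]; exact one_mem _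
    · rintro _ (⟨x, hx, rfl⟩ | rfl)
      · rw [← map_pow]; exact hconjZ _ ((pf_mod H hp hq).2 x (Subgroup.subset_closure hx))
      · rw [pow_two, show (τ : MulAut G) * (τ : MulAut G) = MulAut.conj fτ from hττ.symm]
        rcases hτf with e | e <;> rw [e]
        exacts [one_mem _, Subgroup.mem_zpowers j]
  -- its order
  set I := (PF D p q).map (MulAut.conj : G →* MulAut G) with hI
  have hIQ : I ≤ Q1 := by
    rintro _ ⟨k, hk, rfl⟩
    exact hQ1mem.2 (hPin hk)
  have hcard : Nat.card ↥Q1 = 2 ^ 11 := by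
    have hidx : (I.subgroupOf Q1).index = 2 := by
      refine Subgroup.index_eq_two_iff_exists_notMem_and'.2
        ⟨⟨(τ : MulAut G), hQ1mem.2 ⟨τ.2, hτQ⟩⟩, fun h => hτout ?_, fun x => ?_⟩
      · obtain ⟨k, -, e⟩ := Subgroup.mem_subgroupOf.1 h
        exact ⟨k, e⟩
      · obtain ⟨h, hy⟩ := hQ1mem.1 x.2
        rcases hinner _ hy with ⟨k, hk, e⟩ | ⟨k, hk, e⟩
        · exact Or.inr ⟨k, hk, e⟩
        · refine Or.inl (Subgroup.mem_subgroupOf.2 ?_)
          show (τ : MulAut G) * (x : MulAut G) ∈ I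
          rw [show (x : MulAut G) = (τ : MulAut G) * MulAut.conj k from e, ← mul_assoc,
            show (τ : MulAut G) * (τ : MulAut G) = MulAut.conj fτ from hττ.symm, ← map_mul]
          exact ⟨_, mul_mem hfτ hk, rfl⟩
    rw [← Subgroup.index_mul_card (I.subgroupOf Q1), hidx,
      Nat.card_congr (Subgroup.subgroupOfEquivOfLe hIQ).toEquiv, hI,
      Subgroup.card_map_of_injective hinjG, hPcard]
    norm_num
  -- what centralises it
  have hcentQ : ∀ x : MulAut G, (∀ y ∈ Q1, Commute x y) → x ∈ Z := by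
    intro x hx
    have hk : ∀ {k : G}, k ∈ PF D p q → x k = k := fun {k} hk => hinjG (by
      rw [← hnat, (hx _ (hIQ ⟨k, hk, rfl⟩)).eq, mul_inv_cancel_right])
    have xp : x p = p := hk (Subgroup.subset_closure (Or.inr (Or.inl rfl)))
    have xq : x q = q := hk (Subgroup.subset_closure (Or.inr (Or.inr rfl)))
    have hfix : ∀ y ∈ Dc (Dc D p) q, x y = y := by
      intro y hy
      obtain ⟨f₁, f₂, f₃, ⟨t1, t2, -⟩, ⟨d12, -, -⟩, -, -⟩ := H.triple hp hq hy
      have key : ∀ {f}, Twin D p q y f → x y = y ∨ x y = f := fun {f} ht => by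
        have h := hk (Subgroup.subset_closure (Or.inl ⟨y, f, hy, ht, rfl⟩))
        rw [map_mul] at h
        exact mem_of_prod_two H.tr H.noTwin₂ ((H.preserves x y).2 hy.1.1) ((H.preserves x f).2 ht.1.1.1)
          hy.1.1 ht.1.1.1 (x.injective.ne (Ne.symm ht.2.1)) (Ne.symm ht.2.1) (ht.2.2.1.map x) ht.2.2.1 h
      rcases key t1 with h | h
      · exact h
      rcases key t2 with h' | h'
      · exact h'
      exact absurd (h.symm.trans h') d12
    obtain ⟨c, rfl⟩ := inner_of_stable H hp hq M hU A xp xq fun y hy => by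
      rw [hfix y hy, sq_one H.grp.1 hy.1.1]; exact one_mem _
    have hcV := pair_of_fix_common H hp hq M hU A
      (mem_J.2 ⟨mul_inv_eq_iff_eq_mul.1 xp, mul_inv_eq_iff_eq_mul.1 xq⟩)
      fun y hy => mul_inv_eq_iff_eq_mul.1 (hfix y hy)
    have hcP : c ∈ PF D p q := (Subgroup.closure_mono Set.subset_union_right) hcV
    have hcτ : (τ : MulAut G) c = c := hinjG (by
      rw [← hnat, ← (hx _ (hQ1mem.2 ⟨τ.2, hτQ⟩)).eq, mul_inv_cancel_right])
    rcases hcenP c hcP (fun g hg => mul_inv_eq_iff_eq_mul.1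
      (show MulAut.conj c g = g from hk (Subgroup.subset_closure (Or.inl hg)))) hcτ with e | e
    · rw [e, map_one]; exact one_mem _
    · rw [e, ← hj]; exact Subgroup.mem_zpowers j
  have hj2 : orderOf j = 2 := by
    refine orderOf_eq_prime ?_ fun e => ?_
    · rw [hj, ← map_pow, pow_two, hab1, map_one]
    · rw [hj, ← map_one (MulAut.conj : G →* MulAut G)] at e
      exact hq.2.1 (mul_left_cancel (a := p) ((hinjG e).trans (sq_one H.grp.1 hp).symm))
  have hZcard : Nat.card ↥Z = 2 := by rw [hZ, Nat.card_zpowers, hj2]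
  have hQ1C : Q1 ≤ C' := fun x hx => (hQ1mem.1 hx).1
  have hZQ : Z ≤ Q1 := Subgroup.zpowers_le.2 hjQ
  have hcenter : Subgroup.center ↥Q1 = Z.subgroupOf Q1 := by
    ext x
    refine ⟨fun h => Subgroup.mem_subgroupOf.2 (hcentQ x fun y hy =>
      (congrArg Subtype.val (Subgroup.mem_center_iff.1 h ⟨y, hy⟩)).symm), fun h => ?_⟩
    exact Subgroup.mem_center_iff.2 fun y => Subtype.ext
      (hjC _ (Subgroup.mem_subgroupOf.1 h) _ (hQ1C y.2)).eq.symm
  have hQ1two : IsPGroup 2 ↥Q1 := IsPGroup.of_card hcard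
  have hzcen : (Subgroup.center ↥Q1).map Q1.subtype = Z := by
    rw [hcenter, Subgroup.subgroupOf_map_subtype, inf_eq_left.2 hZQ]
  have hextra : IsExtraspecial 2 ↥Q1 := by
    refine PGroup.isExtraspecial_of hQ1two ?_ ?_ ?_ ?_
    · rw [hcenter, Nat.card_congr (Subgroup.subgroupOfEquivOfLe hZQ).toEquiv, hZcard]
    · intro h
      have h1 : Nat.card ↥(Subgroup.center ↥Q1) = Nat.card ↥Q1 := by rw [h, Subgroup.card_top]
      rw [hcenter, Nat.card_congr (Subgroup.subgroupOfEquivOfLe hZQ).toEquiv, hZcard, hcard] at h1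
      norm_num at h1
    · intro a b
      rw [hcenter, Subgroup.mem_subgroupOf]
      exact hcom a a.2 b b.2
    · intro a
      rw [hcenter, Subgroup.mem_subgroupOf, SubmonoidClass.coe_pow]
      exact hsqs a a.2
  -- the generalized Fitting subgroup
  have hQ0two : IsPGroup 2 ↥Q0 :=
    hQ1two.of_equiv (Subgroup.equivMapOfInjective Q0 C'.subtype Subtype.val_injective).symm
  have hcore : pCore 2 ↥C' = Q0 := by
    refine le_antisymm ?_ (PCore.le_pCore hQ0two)
    haveI : ((pCore 2 ↥C').map Θ).Normal := Subgroup.Normal.map PCore.pCore_normal Θ hΘs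
    exact (Subgroup.map_eq_bot_iff _).1 (mulAut_normal_two_bot hS hSc hSn (PCore.isPGroup_pCore.map Θ))
  have hgF : generalizedFittingSubgroup ↥C' = Q0 := by
    refine (Balance.generalizedFitting_eq_pCore (p := 2) ?_).trans hcore
    rw [hcore]
    intro x hx
    have h1 : (x : MulAut G) ∈ Z := hcentQ x fun y hy => by
      obtain ⟨h, hy'⟩ := hQ1mem.1 hy
      exact (congrArg Subtype.val (Subgroup.mem_centralizer_iff.1 hx ⟨y, h⟩ hy')).symm
    obtain ⟨h, hy⟩ := hQ1mem.1 (hZQ h1)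
    exact hy
  have hQeq : Q = Q1 := by rw [hQ, hgF]
  subst hQeq
  have hQsub : Q1.subgroupOf C' = Q0 := by
    rw [hQ1, Subgroup.subgroupOf, Subgroup.comap_map_eq_self_of_injective Subtype.val_injective]
  refine ⟨⟨hextra, ?_, ?_, ?_⟩, hcard, hQ1C, ?_⟩
  · refine le_antisymm (fun x hx => hzcen.symm ▸ hcentQ x fun y hy =>
      (Subgroup.mem_centralizer_iff.1 hx y hy).symm) ?_
    rw [hzcen]
    exact fun z hz => Subgroup.mem_centralizer_iff.2 fun y hy => (hjC z hz y (hQ1C hy)).eq.symm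
  · rw [hzcen]
    intro x hx
    have hxC : x ∈ C' := Subgroup.mem_centralizer_singleton_iff.2
      (Subgroup.mem_centralizer_iff.1 hx j (Subgroup.mem_zpowers j)).symm
    haveI : Q0.Normal := MonoidHom.normal_ker Θ
    rw [Subgroup.mem_normalizer_iff]
    intro y
    constructor
    · intro hy
      obtain ⟨h, hy'⟩ := hQ1mem.1 hy
      exact hQ1mem.2 ⟨mul_mem (mul_mem hxC h) (inv_mem hxC),
        Subgroup.Normal.conj_mem inferInstance _ hy' ⟨x, hxC⟩⟩
    · intro hy
      obtain ⟨h, hy'⟩ := hQ1mem.1 hy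
      have e : x⁻¹ * (x * y * x⁻¹) * x = y := by group
      refine e ▸ hQ1mem.2 ⟨mul_mem (mul_mem (inv_mem hxC) h) hxC, ?_⟩
      exact Subgroup.Normal.conj_mem' (inferInstance : Q0.Normal) _ hy' ⟨x, hxC⟩
  · -- subgroups of odd order normalised
    intro K hK hQK
    have hodd : ∀ k ∈ K, Odd (orderOf k) := fun k hk => Odd.of_dvd_nat hK (Subgroup.orderOf_dvd_natCard K hk)
    have hn : ∀ {y}, y ∈ Q1 → ∀ {k}, k ∈ K → y * k * y⁻¹ ∈ K := fun {y} hy {k} hk =>
      ((Subgroup.mem_normalizer_iff.1 (hQK hy)) k).1 hk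
    have hfixj : ∀ k ∈ K, Commute j k → k = 1 := by
      intro k hk hjk
      have hkC : k ∈ C' := Subgroup.mem_centralizer_singleton_iff.2 hjk.symm.eq
      haveI : Q0.Normal := MonoidHom.normal_ker Θ
      have hbot : ∀ z, z ∈ K → z ∈ Q1 → z = 1 := fun z hz hzQ => by
        obtain ⟨n, hn⟩ := (IsPGroup.iff_orderOf.1 hQ1two) ⟨z, hzQ⟩
        rw [← Subgroup.orderOf_coe] at hn
        have h := hodd z hz
        rw [show orderOf z = 2 ^ n from hn] at h
        rcases n with _ | n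
        · exact orderOf_eq_one_iff.1 hn
        · rw [pow_succ] at h
          exact absurd h (by simp [parity_simps])
      refine hbot k hk (hZQ (hcentQ k fun y hy => ?_))
      obtain ⟨h, hy'⟩ := hQ1mem.1 hy
      have h1 : k * y * k⁻¹ * y⁻¹ ∈ K := by
        rw [show k * y * k⁻¹ * y⁻¹ = k * (y * k⁻¹ * y⁻¹) by group]
        exact mul_mem hk (hn hy (inv_mem hk))
      have h2 : k * y * k⁻¹ ∈ Q1 :=
        hQ1mem.2 ⟨mul_mem (mul_mem hkC h) (inv_mem hkC), Subgroup.Normal.conj_mem inferInstance _ hy' ⟨k, hkC⟩⟩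
      have h3 := hbot _ h1 (mul_mem h2 (inv_mem hy))
      exact mul_inv_eq_iff_eq_mul.1 (mul_inv_eq_one.1 h3)
    have hjj : j * j = 1 := by rw [← pow_two, ← hj2]; exact pow_orderOf_eq_one j
    have hji : j⁻¹ = j := inv_eq_of_mul_eq_one_left hjj
    let α : ↥K →* ↥K := MonoidHom.mk' (fun k => ⟨j * k * j⁻¹, hn hjQ k.2⟩) fun x y => Subtype.ext (by
      show j * ((x : MulAut G) * y) * j⁻¹ = j * x * j⁻¹ * (j * y * j⁻¹)
      group)
    have hα : MonoidHom.FixedPointFree α := fun k hk =>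
      Subtype.ext (hfixj k k.2 (mul_inv_eq_iff_eq_mul.1 (congrArg Subtype.val hk)))
    have hα2 : Function.Involutive α := fun k => Subtype.ext (by
      show j * (j * k * j⁻¹) * j⁻¹ = k
      rw [show j * (j * (k : MulAut G) * j⁻¹) * j⁻¹ = (j * j) * k * (j * j)⁻¹ by group, hjj]
      group)
    have hinv : ∀ k ∈ K, j * k * j⁻¹ = k⁻¹ := fun k hk =>
      congrArg Subtype.val (congrFun (hα.coe_eq_inv_of_involutive hα2) ⟨k, hk⟩)
    have hab : ∀ k ∈ K, ∀ l ∈ K, Commute k l := fun k hk l hl =>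
      congrArg Subtype.val (hα.commute_all_of_involutive hα2 ⟨k, hk⟩ ⟨l, hl⟩)
    -- elements fixed by a conjugation
    have hfixp : ∀ {p' q' : G}, p' ∈ D → q' ∈ Dc D p' → j = MulAut.conj p' * MulAut.conj q' →
        (∀ f ∈ PF D p' q', MulAut.conj f ∈ Q1) → ∀ k ∈ K, Commute k (MulAut.conj p') → k = 1 := by
      intro p' q' hp' hq' hj' hPQ k hk hkp
      have hkp' : k p' = p' := hinjG (by rw [← hnat, hkp.eq, mul_inv_cancel_right])
      obtain ⟨M'⟩ := (H.model p' hp').2
      obtain ⟨Φ, σ', hΦ, hacts⟩ := M'.exists_semi H hp' (H.preserves k) hkp'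
      obtain ⟨c, rfl⟩ : k ∈ (MulAut.conj : G →* MulAut G).range := by
        have h2 : k * k ∈ (MulAut.conj : G →* MulAut G).range :=
          H.mem_range_of_linear hp' (show k (k p') = p' by rw [hkp', hkp']) M'
            (Ψ := fun u => Φ (Φ u)) (τ := σ'.trans σ')
            ⟨fun x y => by rw [hΦ.add, hΦ.add], fun m x => by rw [hΦ.smul, hΦ.smul]; rfl,
              fun x y => by rw [hΦ.form, hΦ.form]; rfl⟩ (hacts.comp hacts) fun x => by
            show σ' (σ' x) = x
            rcases U6.aut_eq M'.c σ' with h | h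
            · rw [h, h]
            · rw [h, h, M'.c.form.invol]
        obtain ⟨n, hn'⟩ := hodd k hk
        have e : k = (k * k) ^ (n + 1) := by
          rw [← pow_two, ← pow_mul, show 2 * (n + 1) = orderOf k + 1 by omega, pow_succ,
            pow_orderOf_eq_one, one_mul]
        rw [e]
        exact Subgroup.pow_mem _ h2 _
      have hcp : Commute c p' := mul_inv_eq_iff_eq_mul.1 hkp'
      have hcq : q' * c * q'⁻¹ = c⁻¹ := hinjG (by
        rw [map_mul, map_mul, map_inv, map_inv]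
        have h1 := hinv _ hk
        rw [hj'] at h1
        rw [show MulAut.conj p' * MulAut.conj q' = MulAut.conj q' * MulAut.conj p' from
          (hq'.2.2.map (MulAut.conj : G →* MulAut G)).eq] at h1
        rw [mul_inv_rev, show MulAut.conj q' * MulAut.conj p' * MulAut.conj c *
          ((MulAut.conj p')⁻¹ * (MulAut.conj q')⁻¹) = MulAut.conj q' *
            (MulAut.conj p' * MulAut.conj c * (MulAut.conj p')⁻¹) * (MulAut.conj q')⁻¹ by group] at h1
        rwa [hkp.symm.eq, mul_inv_cancel_right] at h1)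
      rw [inverted_trivial H hp' hq' hcp hcq (orderOf_injective _ hinjG c ▸ hodd _ hk) fun f hf => ?_, map_one]
      have h3 := hab _ hk _ (hn (hPQ f hf) hk)
      rw [← map_inv, ← map_mul, ← map_mul] at h3
      exact hinjG (by simpa only [map_mul] using h3.eq)
    refine (Subgroup.eq_bot_iff_forall K).2 fun k hk => ?_
    have hswap : PF D q p = PF D p q := by rw [PF, PF, twinProd_swap, Set.pair_comm]
    set P' := MulAut.conj p with hP'
    set R' := MulAut.conj q with hR'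
    have hjPR : j = P' * R' := by rw [hj, map_mul]
    have hP2 : P' * P' = 1 := by rw [hP', ← map_mul, sq_one H.grp.1 hp, map_one]
    have hR2 : R' * R' = 1 := by rw [hR', ← map_mul, sq_one H.grp.1 hq.1, map_one]
    have hPR : Commute P' R' := hpq.map (MulAut.conj : G →* MulAut G)
    have hPQ1 : P' ∈ Q1 := hQ1mem.2 (hPin (Subgroup.subset_closure (Or.inr (Or.inl rfl))))
    have hp1 : ∀ x ∈ K, Commute x P' → x = 1 :=
      hfixp hp hq hjPR fun f hf => hQ1mem.2 (hPin hf)
    have hq1 : ∀ x ∈ K, Commute x R' → x = 1 :=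
      hfixp hq.1 (mem_dc_symm hp hq) (hjPR.trans hPR.eq) fun f hf => hQ1mem.2 (hPin (hswap ▸ hf))
    set l := P' * k * P'⁻¹ with hl
    have hlK : l ∈ K := hn hPQ1 hk
    have hkl := hab k hk l hlK
    have hPi : P'⁻¹ = P' := inv_eq_of_mul_eq_one_left hP2
    have hPl : P' * l * P'⁻¹ = k := by
      rw [hl, show P' * (P' * k * P'⁻¹) * P'⁻¹ = (P' * P') * k * (P' * P')⁻¹ by group, hP2]; group
    have e1 : k * l = 1 := hp1 _ (mul_mem hk hlK) (by
      have : P' * (k * l) * P'⁻¹ = k * l := by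
        rw [show P' * (k * l) * P'⁻¹ = P' * k * P'⁻¹ * (P' * l * P'⁻¹) by group, ← hl, hPl, hkl.eq]
      exact (mul_inv_eq_iff_eq_mul.1 this).symm)
    have e2 : k * l⁻¹ = 1 := hq1 _ (mul_mem hk (inv_mem hlK)) (by
      have : R' * (k * l⁻¹) * R'⁻¹ = k * l⁻¹ := by
        have hR : ∀ x ∈ K, R' * x * R'⁻¹ = (P' * x * P'⁻¹)⁻¹ := fun x hx => by
          rw [← hinv _ (hn hPQ1 hx), hjPR,
            show P' * R' * (P' * x * P'⁻¹) * (P' * R')⁻¹ = (P' * R' * P') * x * (P' * R' * P')⁻¹ by group,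
            show P' * R' * P' = R' by rw [hPR.eq, mul_assoc, hP2, mul_one]]
        rw [show R' * (k * l⁻¹) * R'⁻¹ = R' * k * R'⁻¹ * (R' * l * R'⁻¹)⁻¹ by group, hR k hk, hR l hlK,
          hPl, ← hl, inv_inv]
        exact (hkl.symm.inv_left).eq
      exact (mul_inv_eq_iff_eq_mul.1 this).symm)
    have hkk : k * k = 1 := by
      calc k * k = k * l * (k * l⁻¹) := by
            rw [show k * l * (k * l⁻¹) = k * (l * k) * l⁻¹ by group, ← hkl.eq]; group
        _ = 1 := by rw [e1, e2, one_mul]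
    obtain ⟨n, hn'⟩ := hodd k hk
    have h1 : k ^ (2 * n + 1) = 1 := hn' ▸ pow_orderOf_eq_one k
    rwa [pow_succ, pow_mul, pow_two, hkk, one_pow, one_mul] at h1
  · haveI hn : (Q1.subgroupOf C').Normal := hQsub.symm ▸ MonoidHom.normal_ker Θ
    refine ⟨hn, F, iF, iFt, hF, ⟨?_⟩⟩
    exact (QuotientGroup.quotientMulEquivOfEq hQsub).trans (QuotientGroup.quotientKerEquivOfSurjective Θ hΘs)

end M22

end Cfsg.Agent.Transpos
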