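import Cfsg.Agent.Lib.Transpos.UnitaryMove
import Cfsg.Agent.Lib.Transpos.UnitarySemi
import Cfsg.Agent.Lib.ClassicalSimple.UnitaryMatrix
import Cfsg.Agent.Lib.AutPSU.Main

/-!
# The stabiliser of a point of the six dimensional hermitian space over four elements

In coordinates `L` with `L U = (1,1,0,0,0,0)` the stabiliser `U6.stab` of the point `U` acts on the
last four coordinates by unitary matrices, so maps onto `PSU₄(2)` (`U6.blk_surjective`); the elements
acting as scalars on the perp of `U` are scalars or scalar multiples of the transvection at `U`.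
-/

set_option autoImplicit false
set_option linter.style.haveILetI false

namespace Cfsg.Agent.Transpos.U6

open Cfsg Cfsg.Agent.ClassicalSimple Matrix

variable {F : Type} [Field F] {σ : F →+* F}
  {h : (Fin 6 → F) →ₛₗ[σ] (Fin 6 → F) →ₗ[F] F}

/-- Coordinates adapted to the point `U`. -/
structure Adapt (c : U6.Ctx σ h) (U : Fin 6 → F) where
  /-- The coordinates. -/
  L : (Fin 6 → F) ≃ₗ[F] (Fin 6 → F)
  form : ∀ x y, h x y = ∑ i, σ (L x i) * L y i
  apply_U : L U = ![1, 1, 0, 0, 0, 0]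

theorem exists_adapt (c : U6.Ctx σ h) {U : Fin 6 → F} (hU : h U U = 0) (hU0 : U ≠ 0) :
    Nonempty (Adapt c U) := by
  obtain ⟨L, hL⟩ := exists_coords c
  set U₀ := L.symm ![1, 1, 0, 0, 0, 0] with hU₀
  have h0 : h U₀ U₀ = 0 := by simp [hL, hU₀, Fin.sum_univ_six, c.two]
  have hne : U₀ ≠ 0 := fun e => by
    have := congrArg (fun x => L x 0) e
    simp [hU₀] at this
  have h3 : 3 ≤ Module.finrank F (Fin 6 → F) := by rw [c.dim]; norm_num
  have := finite c
  have := Fintype.ofFinite F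
  obtain ⟨g, -, hg⟩ := uRoot_trans c.form h3 hU0 hne hU h0
  refine ⟨⟨((g : (Fin 6 → F) ≃ₗ[F] (Fin 6 → F))).trans L, fun x y => ?_, ?_⟩⟩
  · rw [← uh_smul_smul g x y, hL]; rfl
  · show L (g • U) = _
    rw [hg, hU₀, L.apply_symm_apply]

variable {c : U6.Ctx σ h} {U : Fin 6 → F} (A : Adapt c U)

/-- The last four coordinates. -/
noncomputable def Adapt.proj : (Fin 6 → F) →ₗ[F] (Fin 4 → F) :=
  (LinearMap.funLeft F F (Fin.natAdd 2 : Fin 4 → Fin 6)).comp A.L.toLinearMap

/-- Padding with two zeros. -/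
def pad (F : Type) [Field F] : (Fin 4 → F) →ₗ[F] (Fin 6 → F) where
  toFun v := ![0, 0, v 0, v 1, v 2, v 3]
  map_add' v w := by funext i; fin_cases i <;> simp
  map_smul' m v := by funext i; fin_cases i <;> simp

/-- The vectors with the first two coordinates zero. -/
noncomputable def Adapt.incl : (Fin 4 → F) →ₗ[F] (Fin 6 → F) :=
  A.L.symm.toLinearMap.comp (pad F)

/-- A partner of `U`. -/
noncomputable def Adapt.partner (o : F) : Fin 6 → F := A.L.symm ![o, o * o, 0, 0, 0, 0]

namespace Adapt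

theorem proj_apply (x : Fin 6 → F) (j : Fin 4) : A.proj x j = A.L x (Fin.natAdd 2 j) := rfl

theorem L_incl (v : Fin 4 → F) : A.L (A.incl v) = ![0, 0, v 0, v 1, v 2, v 3] :=
  A.L.apply_symm_apply (pad F v)

theorem proj_incl (v : Fin 4 → F) : A.proj (A.incl v) = v := by
  funext j
  rw [proj_apply, L_incl]
  fin_cases j <;> rfl

theorem proj_U : A.proj U = 0 := by
  funext j
  rw [proj_apply, A.apply_U]
  fin_cases j <;> rfl

theorem h_U (x : Fin 6 → F) : h U x = A.L x 0 + A.L x 1 := by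
  simp [A.form, A.apply_U, Fin.sum_univ_six]

theorem U_incl (v : Fin 4 → F) : h U (A.incl v) = 0 := by simp [A.h_U, A.L_incl]

theorem first_eq {x : Fin 6 → F} (hx : h U x = 0) : A.L x 0 = A.L x 1 := by
  rw [A.h_U] at hx
  linear_combination hx - A.L x 1 * c.two

theorem decomp {x : Fin 6 → F} (hx : h U x = 0) : x = A.L x 0 • U + A.incl (A.proj x) := by
  have e := A.first_eq hx
  apply A.L.injective
  funext i
  rw [map_add, map_smul, A.apply_U, L_incl]
  fin_cases i <;> simp [proj_apply, e]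

theorem h_proj {x y : Fin 6 → F} (hx : h U x = 0) (hy : h U y = 0) :
    h x y = ∑ j, σ (A.proj x j) * A.proj y j := by
  rw [A.form, Fin.sum_univ_six, Fin.sum_univ_four]
  simp only [proj_apply, ← A.first_eq hx, ← A.first_eq hy]
  show _ = σ (A.L x 2) * A.L y 2 + σ (A.L x 3) * A.L y 3 + σ (A.L x 4) * A.L y 4 +
    σ (A.L x 5) * A.L y 5
  linear_combination (σ (A.L x 0) * A.L y 0) * c.two

theorem U_partner {o : F} (ho : o * o + o + 1 = 0) : h U (A.partner o) = 1 := by
  simp [A.h_U, partner]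
  linear_combination ho - c.two

end Adapt

/-- The stabiliser of the point `U`. -/
def stab (h : (Fin 6 → F) →ₛₗ[σ] (Fin 6 → F) →ₗ[F] F) (U : Fin 6 → F) : Subgroup (SUH h) where
  carrier := {g | ∃ a : F, a ≠ 0 ∧ g • U = a • U}
  mul_mem' := by
    rintro g k ⟨a, ha, ea⟩ ⟨b, hb, eb⟩
    refine ⟨b * a, mul_ne_zero hb ha, ?_⟩
    rw [mul_smul, eb, show g • (b • U) = b • g • U from
      ((g : UH h) : (Fin 6 → F) ≃ₗ[F] (Fin 6 → F)).map_smul b U, ea, smul_smul]
  one_mem' := ⟨1, one_ne_zero, by rw [one_smul, one_smul]⟩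
  inv_mem' := by
    rintro g ⟨a, ha, ea⟩
    refine ⟨a⁻¹, inv_ne_zero ha, ?_⟩
    rw [inv_smul_eq_iff, show g • (a⁻¹ • U) = a⁻¹ • g • U from
      ((g : UH h) : (Fin 6 → F) ≃ₗ[F] (Fin 6 → F)).map_smul _ U, ea, inv_smul_smul₀ ha]

theorem perp_of_stab {g : SUH h} (hg : g ∈ stab h U) {x : Fin 6 → F} (hx : h U x = 0) :
    h U (g • x) = 0 := by
  obtain ⟨a, ha, ea⟩ := hg
  have e := uh_smul_smul (g : UH h) U x
  change h (g • U) (g • x) = h U x at e
  simp only [ea, hx, map_smulₛₗ, LinearMap.smul_apply, smul_eq_mul] at e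
  exact (mul_eq_zero.1 e).resolve_left ((map_ne_zero σ).2 ha)

/-- The action on the last four coordinates. -/
noncomputable def Adapt.act (g : SUH h) : (Fin 4 → F) →ₗ[F] (Fin 4 → F) :=
  A.proj.comp ((((g : UH h) : (Fin 6 → F) ≃ₗ[F] (Fin 6 → F)) : (Fin 6 → F) →ₗ[F] (Fin 6 → F)).comp A.incl)

namespace Adapt

theorem act_apply (g : SUH h) (v : Fin 4 → F) : A.act g v = A.proj (g • A.incl v) := rfl

theorem proj_smul {g : SUH h} (hg : g ∈ stab h U) {x : Fin 6 → F} (hx : h U x = 0) :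
    A.proj (g • x) = A.act g (A.proj x) := by
  obtain ⟨a, ha, ea⟩ := hg
  conv_lhs => rw [A.decomp hx, smul_add, show g • (A.L x 0 • U) = A.L x 0 • g • U from
    ((g : UH h) : (Fin 6 → F) ≃ₗ[F] (Fin 6 → F)).map_smul _ U, ea, map_add, map_smul, map_smul,
    proj_U, smul_zero, smul_zero, zero_add]
  rfl

theorem act_mul {g k : SUH h} (hg : g ∈ stab h U) (hk : k ∈ stab h U) (v : Fin 4 → F) :
    A.act (g * k) v = A.act g (A.act k v) := by
  rw [act_apply, mul_smul, A.proj_smul hg (perp_of_stab hk (A.U_incl v))]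
  rfl

theorem act_form {g : SUH h} (hg : g ∈ stab h U) (v w : Fin 4 → F) :
    ∑ j, σ (A.act g v j) * A.act g w j = ∑ j, σ (v j) * w j := by
  rw [act_apply, act_apply, ← A.h_proj (perp_of_stab hg (A.U_incl v)) (perp_of_stab hg (A.U_incl w))]
  refine (uh_smul_smul (g : UH h) _ _).trans ?_
  rw [A.h_proj (A.U_incl v) (A.U_incl w), proj_incl, proj_incl]

end Adapt

/-- The block as a unitary matrix. -/
noncomputable def Adapt.mat (g : SUH h) : Matrix (Fin 4) (Fin 4) F := LinearMap.toMatrix' (A.act g)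

namespace Adapt

theorem mat_mulVec (g : SUH h) (v : Fin 4 → F) : A.mat g *ᵥ v = A.act g v :=
  LinearMap.toMatrix'_mulVec _ _

theorem mat_mul {g k : SUH h} (hg : g ∈ stab h U) (hk : k ∈ stab h U) :
    A.mat (g * k) = A.mat g * A.mat k := by
  refine Matrix.toLin'.injective (LinearMap.ext fun v => ?_)
  rw [Matrix.toLin'_apply, Matrix.toLin'_apply, ← Matrix.mulVec_mulVec, mat_mulVec, mat_mulVec,
    mat_mulVec, A.act_mul hg hk]

theorem mat_one : A.mat 1 = 1 := by
  refine Matrix.toLin'.injective (LinearMap.ext fun v => ?_)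
  rw [Matrix.toLin'_apply, Matrix.toLin'_apply, mat_mulVec, Matrix.one_mulVec, act_apply, one_smul,
    proj_incl]

theorem det_ne_zero {g : SUH h} (hg : g ∈ stab h U) : (A.mat g).det ≠ 0 := fun e => by
  have := congrArg Matrix.det (A.mat_mul (inv_mem hg) hg)
  rw [inv_mul_cancel, mat_one, Matrix.det_one, Matrix.det_mul, e, mul_zero] at this
  exact one_ne_zero this

/-- The block scaled to determinant one. -/
noncomputable def mat₁ (g : SUH h) : Matrix (Fin 4) (Fin 4) F :=
  (A.mat g).det⁻¹ • A.mat g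

theorem det_mat₁ {g : SUH h} (hg : g ∈ stab h U) : (A.mat₁ g).det = 1 := by
  have h0 := A.det_ne_zero hg
  rw [mat₁, Matrix.det_smul, Fintype.card_fin,
    show (A.mat g).det⁻¹ ^ 4 = (A.mat g).det⁻¹ * (A.mat g).det⁻¹ * (A.mat g).det⁻¹ * (A.mat g).det⁻¹ by ring,
    c.cube _ (inv_ne_zero h0), one_mul, inv_mul_cancel₀ h0]

theorem mat₁_mem {g : SUH h} (hg : g ∈ stab h U) :
    (⟨A.mat₁ g, A.det_mat₁ hg⟩ : Matrix.SpecialLinearGroup (Fin 4) F) ∈ Cfsg.SU 4 F 2 := by
  intro u v
  have key : ∀ x y : Fin 4 → F, hermForm 4 F 2 x y = ∑ j, σ (y j) * x j := fun x y =>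
    Finset.sum_congr rfl fun i _ => by rw [U6.sigma_sq c]; ring
  show hermForm 4 F 2 (A.mat₁ g *ᵥ u) (A.mat₁ g *ᵥ v) = _
  rw [key, key]
  conv_rhs => rw [← A.act_form hg]
  refine Finset.sum_congr rfl fun j _ => ?_
  simp only [mat₁, Matrix.smul_mulVec, Pi.smul_apply, smul_eq_mul, map_mul, mat_mulVec]
  linear_combination (σ (A.act g v j) * A.act g u j) * c.norm _ (inv_ne_zero (A.det_ne_zero hg))

variable [Fintype F]

/-- The image in `PSU₄(2)`. -/
noncomputable def blk : ↥(stab h U) →* Cfsg.PSU 4 F 2 :=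
  (QuotientGroup.mk' _).comp (MonoidHom.mk'
    (fun g => (⟨⟨A.mat₁ g.1, A.det_mat₁ g.2⟩, A.mat₁_mem g.2⟩ : Cfsg.SU 4 F 2))
    fun g k => Subtype.ext (Subtype.ext (by
      show A.mat₁ (g.1 * k.1) = A.mat₁ g.1 * A.mat₁ k.1
      rw [mat₁, mat₁, mat₁, A.mat_mul g.2 k.2, Matrix.det_mul, mul_inv, Matrix.smul_mul,
        Matrix.mul_smul, smul_smul])))

theorem blk_eq_one_iff (g : ↥(stab h U)) :
    A.blk g = 1 ↔ ∃ l : F, ∀ v : Fin 4 → F, A.act g.1 v = l • v := by
  classical
  have h0 := A.det_ne_zero g.2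
  constructor
  · intro e
    have hz : (⟨⟨A.mat₁ g.1, A.det_mat₁ g.2⟩, A.mat₁_mem g.2⟩ : Cfsg.SU 4 F 2) ∈
        Subgroup.center _ := (QuotientGroup.eq_one_iff _).1 e
    obtain ⟨l, hl⟩ : ∃ l : F, A.mat₁ g.1 = Matrix.diagonal fun _ => l := by
      refine ⟨A.mat₁ g.1 0 0, Matrix.ext fun i j => ?_⟩
      have hz' := Forms.center_SU_diagonal (U6.card_eq c) _ hz
      by_cases hij : i = j
      · subst hij
        rw [Matrix.diagonal_apply_eq]
        by_cases h0 : i = 0
        · rw [h0]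
        · exact (hz' i 0 h0).2
      · rw [Matrix.diagonal_apply_ne _ hij]
        exact (hz' i j hij).1
    refine ⟨(A.mat g.1).det * l, fun v => ?_⟩
    have e' := congrArg (fun M => M *ᵥ v) hl
    simp only [mat₁, Matrix.smul_mulVec, mat_mulVec] at e'
    rw [← inv_smul_smul₀ (inv_ne_zero h0) (A.act g.1 v), e', inv_inv, ← smul_smul]
    congr 1
    funext i
    simp [Matrix.mulVec_diagonal]
  · rintro ⟨l, hl⟩
    refine (QuotientGroup.eq_one_iff _).2 (Subgroup.mem_center_iff.2 fun z => Subtype.ext (Subtype.ext ?_))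
    show z.1.1 * A.mat₁ g.1 = A.mat₁ g.1 * z.1.1
    have e : A.mat₁ g.1 = ((A.mat g.1).det⁻¹ * l) • (1 : Matrix (Fin 4) (Fin 4) F) := by
      refine Matrix.toLin'.injective (LinearMap.ext fun v => ?_)
      simp [Matrix.toLin'_apply, mat₁, mat_mulVec, hl, smul_smul]
    rw [e]
    simp

theorem tv_mem {v : Fin 6 → F} (hv : h v v = 0) (hUv : h U v = 0) : U6.tv c v hv ∈ stab h U :=
  ⟨1, one_ne_zero, by rw [tv_smul, c.form.comm_zero hUv, zero_smul, add_zero, one_smul]⟩

theorem blk_surjective : Function.Surjective A.blk := by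
  classical
  rw [← MonoidHom.range_eq_top]
  refine top_unique ?_
  have hK := U6.card_eq c
  have key : ∀ B ∈ unitaryTransvectionSet 4 F 2,
      (QuotientGroup.mk B : Cfsg.PSU 4 F 2) ∈ A.blk.range := by
    rintro B ⟨v, l, hv, hB⟩
    by_cases hv0 : v = 0
    · have : B = 1 := Subtype.ext (Subtype.ext (hB.trans (by simp [Cfsg.unitaryTransvection, hv0])))
      rw [this]
      exact one_mem _
    by_cases hl : l = 0
    · have : B = 1 := Subtype.ext (Subtype.ext (hB.trans (by simp [Cfsg.unitaryTransvection, hl])))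
      rw [this]
      exact one_mem _
    have hvB : Forms.hermB hK 4 v v = 0 := hv
    have hl2 : l + l ^ 2 = 0 := (unitaryTransvection_isometry_iff hK hv0 hvB l).1 fun x y => by
      rw [← hB]; exact (mem_SU_iff hK B.1).1 B.2 x y
    have hl1 : l = 1 := by
      have h2 : l * (1 + l) = 0 := by linear_combination hl2
      linear_combination (mul_eq_zero.1 h2).resolve_left hl - c.two
    have hi : h (A.incl v) (A.incl v) = 0 := by
      rw [A.h_proj (A.U_incl v) (A.U_incl v), proj_incl, ← hv]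
      exact Finset.sum_congr rfl fun i _ => by rw [U6.sigma_sq c]; ring
    refine ⟨⟨_, tv_mem (c := c) hi (A.U_incl v)⟩, congrArg QuotientGroup.mk (Subtype.ext (Subtype.ext ?_))⟩
    show A.mat₁ (U6.tv c (A.incl v) hi) = B.1.1
    have hmat : A.mat (U6.tv c (A.incl v) hi) = B.1.1 := by
      refine Matrix.toLin'.injective (LinearMap.ext fun x => ?_)
      rw [Matrix.toLin'_apply, Matrix.toLin'_apply, mat_mulVec, act_apply, tv_smul, map_add, map_smul,
        proj_incl, proj_incl, hB, hl1, unitaryTransvection_mulVec hK, one_mul]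
      congr 2
      rw [A.h_proj (A.U_incl v) (A.U_incl x), proj_incl, proj_incl, Forms.hermB_apply]
      exact Finset.sum_congr rfl fun i _ => by rw [U6.sigma_sq c]; ring
    rw [mat₁, hmat, B.1.2, inv_one, one_smul]
  have hcl := closure_unitaryTransvectionSet (n := 4) hK (by norm_num) (by norm_num)
  rintro x -
  induction x using QuotientGroup.induction_on with
  | _ B =>
    have hle : Subgroup.closure (unitaryTransvectionSet 4 F 2) ≤
        A.blk.range.comap (QuotientGroup.mk' _) := (Subgroup.closure_le _).2 key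
    exact hle (hcl ▸ Subgroup.mem_top B)

end Adapt

variable [Fintype F]

/-- The order of `PSU₄(2)`. -/
theorem card_psu (c : U6.Ctx σ h) : Nat.card (Cfsg.PSU 4 F 2) = 25920 := by
  have hK := U6.card_eq c
  have h1 := Forms.card_PSU_mul hK (n := 4) (by norm_num)
  rw [Forms.card_GU hK] at h1
  norm_num [Finset.prod_range_succ, Nat.even_iff] at h1
  omega

omit [Fintype F] in
/-- Conjugation by a unitary matrix is inner, as the scalars cover the determinants. -/
theorem exists_conj_eq (c : U6.Ctx σ h) (g : Cfsg.GU 4 F 2) :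
    ∃ s : Cfsg.PSU 4 F 2, AutPSU.conjU g = MulAut.conj s := by
  classical
  set d := (g.1.1).det with hd
  have hd0 : d ≠ 0 := (Matrix.GeneralLinearGroup.det g.1).ne_zero
  have hdet : (d⁻¹ • g.1.1).det = 1 := by
    rw [Matrix.det_smul, Fintype.card_fin,
      show d⁻¹ ^ 4 = d⁻¹ * d⁻¹ * d⁻¹ * d⁻¹ by ring, c.cube _ (inv_ne_zero hd0), one_mul,
      ← hd, inv_mul_cancel₀ hd0]
  have hmem : (⟨d⁻¹ • g.1.1, hdet⟩ : Matrix.SpecialLinearGroup (Fin 4) F) ∈ Cfsg.SU 4 F 2 := by
    intro u v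
    show hermForm 4 F 2 ((d⁻¹ • g.1.1) *ᵥ u) ((d⁻¹ • g.1.1) *ᵥ v) = _
    refine Eq.trans ?_ (g.2 u v)
    refine Finset.sum_congr rfl fun i _ => ?_
    simp only [Matrix.smul_mulVec, Pi.smul_apply, smul_eq_mul, mul_pow, Units.coeHom_apply]
    have := c.norm _ (inv_ne_zero hd0)
    rw [U6.sigma_sq c] at this
    linear_combination ((g.1.1 *ᵥ u) i * (g.1.1 *ᵥ v) i ^ 2) * this
  refine ⟨QuotientGroup.mk ⟨_, hmem⟩, ?_⟩
  rw [← AutPSU.conjU_suGU]
  refine MulEquiv.ext fun x => ?_
  induction x using QuotientGroup.induction_on with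
  | _ t =>
    rw [AutPSU.conjU_mk, AutPSU.conjU_mk]
    refine congrArg QuotientGroup.mk (AutPSU.su_ext ?_)
    rw [AutPSU.conjSU_coe, AutPSU.conjSU_coe]
    rw [Matrix.coe_units_inv, Matrix.coe_units_inv]
    show g.1.1 * t.1.1 * (g.1.1)⁻¹ = (d⁻¹ • g.1.1) * t.1.1 * (d⁻¹ • g.1.1)⁻¹
    have hu : IsUnit g.1.1.det := IsUnit.mk0 _ hd0
    have e : (d⁻¹ • g.1.1)⁻¹ = d • g.1.1⁻¹ := Matrix.inv_eq_right_inv (by
      rw [Matrix.smul_mul, Matrix.mul_smul, Matrix.mul_nonsing_inv _ hu, smul_smul,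
        inv_mul_cancel₀ hd0, one_smul])
    rw [e, Matrix.smul_mul, Matrix.smul_mul, Matrix.mul_smul, smul_smul, inv_mul_cancel₀ hd0,
      one_smul]

/-- At most twice as many automorphisms as elements. -/
theorem card_aut_le (c : U6.Ctx σ h) :
    Nat.card (MulAut (Cfsg.PSU 4 F 2)) ≤ 2 * Nat.card (Cfsg.PSU 4 F 2) := by
  classical
  have hK := U6.card_eq c
  obtain ⟨φ, hφ⟩ : ∃ φ : MulAut (Cfsg.PSU 4 F 2), ∀ τ : F ≃+* F,
      AutPSU.fieldU τ = 1 ∨ AutPSU.fieldU τ = φ := by
    rcases Classical.em (∀ τ : F ≃+* F, ∀ x, τ x = x) with h0 | h0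
    · exact ⟨1, fun τ => Or.inl (by rw [show τ = 1 from RingEquiv.ext (h0 τ), map_one])⟩
    · obtain ⟨τ₀, hτ₀⟩ : ∃ τ₀ : F ≃+* F, ¬ ∀ x, τ₀ x = x := not_forall.1 h0
      refine ⟨AutPSU.fieldU τ₀, fun τ => ?_⟩
      have haut : (∀ x, τ x = x) ∨ ∀ x, τ x = σ x := U6.aut_eq c τ
      have haut₀ : ∀ x, τ₀ x = σ x := (U6.aut_eq c τ₀).resolve_left hτ₀
      rcases haut with hh | hh
      · exact Or.inl (by rw [show τ = 1 from RingEquiv.ext hh, map_one])
      · refine Or.inr ?_
        rw [show τ = τ₀ from RingEquiv.ext fun x =>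
          (hh x).trans (haut₀ x).symm]
  let f : Cfsg.PSU 4 F 2 × Bool → MulAut (Cfsg.PSU 4 F 2) :=
    fun p => MulAut.conj p.1 * cond p.2 φ 1
  have hs : Function.Surjective f := by
    intro β
    obtain ⟨g, τ, hβ⟩ := AutPSU.exists_decomposition hK (by norm_num) (by norm_num) β
    obtain ⟨s, hs⟩ := exists_conj_eq c g
    rcases hφ τ with h | h
    · refine ⟨(s, false), ?_⟩
      show MulAut.conj s * 1 = β
      rw [hβ, hs, h]
    · refine ⟨(s, true), ?_⟩
      show MulAut.conj s * φ = β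
      rw [hβ, hs, h]
  have h1 := Nat.card_le_card_of_surjective f hs
  rw [Nat.card_prod, Nat.card_eq_fintype_card (α := Bool), Fintype.card_bool, mul_comm] at h1
  exact h1

/-- Scalars on the perp of `U` are scalars or scalar multiples of the transvection at `U`. -/
theorem stab_scalar_perp (A : Adapt c U) (hU : h U U = 0) {g : SUH h} {a : F}
    (hg : ∀ x, h U x = 0 → g • x = a • x) :
    (QuotientGroup.mk g : SUH h ⧸ Subgroup.center (SUH h)) = 1 ∨
      (QuotientGroup.mk g : SUH h ⧸ Subgroup.center (SUH h)) = U6.pt c U hU := by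
  classical
  obtain ⟨o, ho0, ho, hso, -⟩ := c.exists_omega
  have ha : a ≠ 0 := by
    intro e
    have := hg U hU
    rw [e, zero_smul, smul_eq_zero_iff_eq] at this
    have e' := congrArg (fun x => A.L x 0) this
    simp [A.apply_U] at e'
  set E := A.partner o with hE
  have hUE : h U E = 1 := A.U_partner ho
  set w := a⁻¹ • g • E + E with hw
  have hsm : ∀ (m : F) x, g • (m • x) = m • g • x := fun m x =>
    ((g : UH h) : (Fin 6 → F) ≃ₗ[F] (Fin 6 → F)).map_smul m x
  have hfix : ∀ x, h U x = 0 → a⁻¹ • g • x = x := fun x hx => by rw [hg x hx, inv_smul_smul₀ ha]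
  have hna : σ a⁻¹ * a⁻¹ = 1 := c.norm _ (inv_ne_zero ha)
  have hiso : ∀ x y, h (a⁻¹ • g • x) (a⁻¹ • g • y) = h x y := fun x y => by
    simp only [map_smulₛₗ, LinearMap.smul_apply, smul_eq_mul, RingHom.id_apply]
    rw [← mul_assoc, mul_comm a⁻¹ (σ a⁻¹), hna, one_mul]
    exact uh_smul_smul (g : UH h) x y
  have hUw : h U w = 0 := by
    rw [hw, map_add]
    conv_lhs => arg 1; rw [← hfix U hU]
    rw [hiso, hUE, c.two]
  have hproj : A.proj w = 0 := by
    funext j
    have h1 : h (A.incl (Pi.single j 1)) w = 0 := by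
      rw [hw, map_add]
      conv_lhs => arg 1; rw [← hfix _ (A.U_incl _)]
      rw [hiso]
      exact U6.Ctx.addF c _
    rw [A.h_proj (A.U_incl _) hUw, A.proj_incl, Finset.sum_eq_single j (fun b _ hb => by
      simp [Pi.single_eq_of_ne hb]) (by simp), Pi.single_eq_same, map_one, one_mul] at h1
    exact h1
  set r := A.L w 0 with hr
  have hwU : w = r • U := by rw [A.decomp hUw, hproj, map_zero, add_zero]
  have hgE : a⁻¹ • g • E = E + r • U := by
    rw [← hwU, hw, ← add_assoc, add_comm E, add_assoc, c.addV, add_zero]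
  have hEU : h E U = 1 := by rw [c.form.swap, hUE, map_one]
  have hrr : r + σ r = 0 := by
    have e := hiso E E
    rw [hgE] at e
    simp only [map_add, map_smul, map_smulₛₗ, LinearMap.add_apply, LinearMap.smul_apply,
      smul_eq_mul, hEU, hUE, hU, mul_one, mul_zero, add_zero] at e
    linear_combination e
  have hrfix : σ r = r := by linear_combination hrr - r * c.two
  have hall : ∀ x, g • x = a • (x + (r * h U x) • U) := fun x => by
    have hx : h U (x + h U x • E) = 0 := by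
      rw [map_add, map_smul, hUE, smul_eq_mul, mul_one, c.addF]
    have e := hfix _ hx
    rw [smul_add, hsm, smul_add, smul_comm a⁻¹ (h U x), hgE] at e
    have e2 : a⁻¹ • g • x = x + (r * h U x) • U := by
      rw [← eq_sub_iff_add_eq] at e
      rw [e, smul_add, smul_smul, mul_comm (h U x) r, sub_eq_add_neg,
        show -(h U x • E + (r * h U x) • U) = h U x • E + (r * h U x) • U from
          neg_eq_of_add_eq_zero_left (c.addV _),
        add_assoc, ← add_assoc (h U x • E), c.addV, zero_add]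
    rw [← e2, smul_inv_smul₀ ha]
  by_cases hr0 : r = 0
  · left
    refine (proj_eq_one_iff c g).2 ⟨a, c.norm a ha, fun x => ?_⟩
    rw [hall, hr0, zero_mul, zero_smul, add_zero]
  · right
    have hr1 : r = 1 := c.eq_one hrfix hr0
    show _ = QuotientGroup.mk (tv c U hU)
    refine inv_inj.1 ((inv_eq_of_mul_eq_one_right ?_).trans (by rw [← QuotientGroup.mk_inv, tv_inv]))
    rw [← QuotientGroup.mk_mul]
    refine (proj_eq_one_iff c _).2 ⟨a, c.norm a ha, fun x => ?_⟩
    rw [mul_smul, tv_smul, hall, hr1, one_mul, map_add, map_smul, hU, smul_zero, add_zero, add_assoc,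
      c.addV, add_zero]

end Cfsg.Agent.Transpos.U6
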