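import Cfsg.Agent.Lib.Transpos.M22PairSwap
import Cfsg.Agent.Lib.Transpos.UnitaryPointStab
import Cfsg.Agent.Lib.Transpos.M22Simple
import Cfsg.Agent.Lib.Transpos.M22Count

/-!
# The centraliser of the product of two members in type M(22)

`K = C(p, q)` maps onto `PSU₄(2)` with kernel `E` of order `2^10`; modulo `⟨p, q⟩` the kernel consists
of translations, so is elementary abelian; `C(p q)` induces the whole automorphism group on the quotient.
-/

set_option autoImplicit false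
set_option linter.style.haveILetI false
set_option maxHeartbeats 1000000

namespace Cfsg.Agent.Transpos

open Cfsg Cfsg.Agent.ClassicalSimple
open scoped commutatorElement

variable {G : Type*} [Group G] {D : Set G}

namespace M22

/-- The joint centraliser of two members. -/
abbrev J (p q : G) : Subgroup G := Subgroup.centralizer ({p, q} : Set G)

theorem mem_J {p q k : G} : k ∈ J p q ↔ Commute k p ∧ Commute k q := by
  simp only [Subgroup.mem_centralizer_iff, Set.mem_insert_iff, Set.mem_singleton_iff, forall_eq_or_imp,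
    forall_eq]
  exact ⟨fun h => ⟨h.1.symm, h.2.symm⟩, fun h => ⟨h.1.symm, h.2.symm⟩⟩

theorem mem_J_of_dc {p q y : G} (hy : y ∈ Dc (Dc D p) q) : y ∈ J p q :=
  mem_J.2 ⟨hy.1.2.2.symm, hy.2.2.symm⟩

section

variable [Finite G] (H : M22 D) {p q : G} (hp : p ∈ D) (M : Model D p) {U : Fin 6 → M.F} (hU : M.IsPt q U)
include H hp hU

/-- The element of the stabiliser of the point `U` inducing an element of the joint centraliser. -/
theorem exists_rep {k : G} (hk : k ∈ J p q) : ∃ hk' : k ∈ Subgroup.closure (Dc D p),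
    ∃ g : SUH M.h, g ∈ U6.stab M.h U ∧
      QuotientGroup.mk g = M.ψ ⟨k, hk'⟩ := by
  obtain ⟨kp, kq⟩ := mem_J.1 hk
  have hk' : k ∈ Subgroup.closure (Dc D p) :=
    (H.cent_eq hp).le (Subgroup.mem_centralizer_singleton_iff.2 kp.eq)
  obtain ⟨g, hg⟩ := QuotientGroup.mk_surjective (M.ψ ⟨k, hk'⟩)
  refine ⟨hk', g, ?_, hg⟩
  have hpt : M.IsPt (k * q * k⁻¹) (g • U) := M.acts_lift H hp ⟨k, hk'⟩ hg.symm q U hU
  obtain ⟨a, ha⟩ := M.smul_of_eq hU hpt (by rw [kq.eq, mul_inv_cancel_right])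
  exact ⟨a, fun e => hpt.ne_zero (by rw [ha, e, zero_smul]), ha⟩

/-- The chosen representative. -/
noncomputable def rep (k : ↥(J p q)) : ↥(U6.stab M.h U) :=
  ⟨(exists_rep H hp M hU k.2).choose_spec.choose, (exists_rep H hp M hU k.2).choose_spec.choose_spec.1⟩

theorem rep_spec (k : ↥(J p q)) : ∃ hk' : (k : G) ∈ Subgroup.closure (Dc D p),
    QuotientGroup.mk (rep H hp M hU k).1 = M.ψ ⟨k, hk'⟩ :=
  ⟨_, (exists_rep H hp M hU k.2).choose_spec.choose_spec.2⟩

variable [Fintype M.F] (A : U6.Adapt M.c U)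
include A

omit [Finite G] in
/-- Representatives congruent modulo the centre have one image. -/
theorem blk_congr {g g' : ↥(U6.stab M.h U)}
    (e : (QuotientGroup.mk g.1 : SUH M.h ⧸ Subgroup.center (SUH M.h)) = QuotientGroup.mk g'.1) :
    A.blk g = A.blk g' := by
  obtain ⟨z, -, hz⟩ := (U6.proj_eq_one_iff M.c ((g⁻¹ * g' : ↥(U6.stab M.h U)) : SUH M.h)).1 (by
    show (QuotientGroup.mk (g.1⁻¹ * g'.1) : SUH M.h ⧸ Subgroup.center (SUH M.h)) = 1
    rw [QuotientGroup.mk_mul, QuotientGroup.mk_inv, e, inv_mul_cancel])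
  have h1 : A.blk (g⁻¹ * g') = 1 := (A.blk_eq_one_iff _).2 ⟨z, fun v => by
    rw [A.act_apply, hz, map_smul, A.proj_incl]⟩
  rwa [map_mul, map_inv, inv_mul_eq_one] at h1

/-- The map of the joint centraliser onto `PSU₄(2)`. -/
noncomputable def toPSU : ↥(J p q) →* Cfsg.PSU 4 M.F 2 :=
  MonoidHom.mk' (fun k => A.blk (rep H hp M hU k)) fun k l => by
    obtain ⟨h1, e1⟩ := rep_spec H hp M hU k
    obtain ⟨h2, e2⟩ := rep_spec H hp M hU l
    obtain ⟨h3, e3⟩ := rep_spec H hp M hU (k * l)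
    refine (blk_congr H hp M hU A (g' := rep H hp M hU k * rep H hp M hU l) ?_).trans (A.blk.map_mul _ _)
    exact e3.trans (((congrArg M.ψ (Subtype.ext rfl : (⟨_, h3⟩ : ↥(Subgroup.closure (Dc D p))) =
      ⟨_, h1⟩ * ⟨_, h2⟩)).trans (M.ψ.map_mul _ _)).trans
      ((congrArg₂ (· * ·) e1.symm e2.symm).trans (QuotientGroup.mk_mul _ _ _).symm))

theorem toPSU_eq {k : ↥(J p q)} {g : ↥(U6.stab M.h U)} {hk' : (k : G) ∈ Subgroup.closure (Dc D p)}
    (e : QuotientGroup.mk g.1 = M.ψ ⟨k, hk'⟩) : toPSU H hp M hU A k = A.blk g := by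
  obtain ⟨h1, e1⟩ := rep_spec H hp M hU k
  exact blk_congr H hp M hU A (e1.trans e.symm)

theorem toPSU_surjective : Function.Surjective (toPSU H hp M hU A) := by
  intro b
  obtain ⟨g, rfl⟩ := A.blk_surjective b
  obtain ⟨y, hy⟩ := M.surj (QuotientGroup.mk g.1)
  have hyp : Commute (y : G) p := Subgroup.mem_centralizer_singleton_iff.1 ((H.cent_eq hp).ge y.2)
  obtain ⟨a, ha0, ha⟩ := g.2
  have hyq : (y : G) * q * (y : G)⁻¹ = q :=
    (M.eq_of_smul H hp hU (M.acts_lift H hp y hy q U hU) ha).symm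
  exact ⟨⟨y, mem_J.2 ⟨hyp, mul_inv_eq_iff_eq_mul.1 hyq⟩⟩,
    toPSU_eq H hp M hU A (g := g) (hk' := y.2) hy.symm⟩

/-- The image of a member commuting with both. -/
theorem toPSU_dc {y : G} (hy : y ∈ Dc (Dc D p) q) {V : Fin 6 → M.F} (hV : M.IsPt y V)
    (hUV : M.h U V = 0) :
    toPSU H hp M hU A ⟨y, mem_J_of_dc hy⟩ =
      A.blk ⟨U6.tv M.c V hV.iso, U6.Adapt.tv_mem hV.iso hUV⟩ := by
  refine toPSU_eq H hp M hU A (hk' := Subgroup.subset_closure hV.mem) ?_
  exact hV.2.2.2.symm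

/-- Members with the same image lie in one class. -/
theorem line_of_toPSU_eq {y z : G} (hy : y ∈ Dc (Dc D p) q) (hz : z ∈ Dc (Dc D p) q)
    {V W : Fin 6 → M.F} (hV : M.IsPt y V) (hW : M.IsPt z W)
    (e : toPSU H hp M hU A ⟨y, mem_J_of_dc hy⟩ = toPSU H hp M hU A ⟨z, mem_J_of_dc hz⟩) :
    ∃ m n : M.F, W = m • V + n • U := by
  classical
  have hUV := (M.comm_iff H hp hU hV).1 hy.2.2
  have hUW := (M.comm_iff H hp hU hW).1 hz.2.2
  rw [toPSU_dc H hp M hU A hy hV hUV, toPSU_dc H hp M hU A hz hW hUW] at e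
  set gV : ↥(U6.stab M.h U) := ⟨U6.tv M.c V hV.iso, U6.Adapt.tv_mem hV.iso hUV⟩ with hgV
  set gW : ↥(U6.stab M.h U) := ⟨U6.tv M.c W hW.iso, U6.Adapt.tv_mem hW.iso hUW⟩ with hgW
  have h1 : A.blk (gV * gW) = 1 := by
    have hsq : gW * gW = 1 := Subtype.ext (U6.tv_sq M.c hW.iso)
    rw [map_mul, e, ← map_mul, hsq, map_one]
  obtain ⟨l, hl⟩ := (A.blk_eq_one_iff _).1 h1
  have hT : ∀ x, M.h U x = 0 → l • A.proj x =
      A.proj x + M.h W x • A.proj W + (M.h V x + M.h W x * M.h V W) • A.proj V := by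
    intro x hx
    rw [← hl, ← A.proj_smul (gV * gW).2 hx,
      show (gV * gW : ↥(U6.stab M.h U)).1 • x = U6.tv M.c V hV.iso • U6.tv M.c W hW.iso • x from
        mul_smul _ _ _, U6.tv_smul, U6.tv_smul]
    simp only [map_add, map_smul, smul_eq_mul]
  have pV : A.proj V ≠ 0 := fun e0 => by
    have := A.decomp hUV
    rw [e0, map_zero, add_zero] at this
    exact M.out_of_mem H hp hU hV hy |>.2.2 _ this
  obtain ⟨t, ht⟩ : ∃ t : M.F, A.proj W = t • A.proj V := by
    by_cases hWV : M.h W V = 0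
    · have h0 := hT V hUV
      rw [hWV, hV.iso, zero_smul, zero_mul, add_zero, add_zero, zero_smul, add_zero] at h0
      have hl1 : l = 1 := smul_left_injective M.F pV (h0.trans (one_smul _ _).symm)
      by_cases hW0 : A.proj W = 0
      · exact ⟨0, by rw [hW0, zero_smul]⟩
      obtain ⟨j, hj⟩ := Function.ne_iff.1 hW0
      set x := A.incl (Pi.single j 1) with hx
      have hWx : M.h W x ≠ 0 := by
        rw [hx, A.h_proj hUW (A.U_incl _), A.proj_incl, Finset.sum_eq_single j (fun b _ hb => by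
          simp [Pi.single_eq_of_ne hb]) (by simp), Pi.single_eq_same, mul_one]
        exact (map_ne_zero _).2 hj
      have hVW := M.c.form.comm_zero hWV
      have e0 := hT x (A.U_incl _)
      rw [hl1, one_smul, hVW, mul_zero, add_zero, add_assoc, left_eq_add] at e0
      refine ⟨-((M.h W x)⁻¹ * M.h V x), ?_⟩
      rw [← inv_smul_smul₀ hWx (A.proj W), eq_neg_of_add_eq_zero_left e0]
      module
    · have h0 := hT V hUV
      refine ⟨(M.h W V)⁻¹ * (l - 1 - (M.h V V + M.h W V * M.h V W)), ?_⟩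
      have h0' : M.h W V • A.proj W =
          (l - 1 - (M.h V V + M.h W V * M.h V W)) • A.proj V := by
        rw [sub_smul, sub_smul, one_smul, h0]
        abel
      rw [← inv_smul_smul₀ hWV (A.proj W), h0', smul_smul]
  have d1 := A.decomp hUV
  have d2 := A.decomp hUW
  rw [ht, map_smul] at d2
  refine ⟨t, A.L W 0 - t * A.L V 0, d2.trans ?_⟩
  nth_rewrite 2 [d1]
  module

omit [Finite G] in
/-- An element whose representative is a scalar on the perp of `U` is in `⟨p, q⟩`. -/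
theorem mem_pair_of_scalar {k : ↥(J p q)} {g : SUH M.h} {hk' : (k : G) ∈ Subgroup.closure (Dc D p)}
    (e : QuotientGroup.mk g = M.ψ ⟨k, hk'⟩) {a : M.F} (hg : ∀ x, M.h U x = 0 → g • x = a • x) :
    (k : G) ∈ Subgroup.closure ({p, q} : Set G) := by
  have hpV : Subgroup.zpowers p ≤ Subgroup.closure ({p, q} : Set G) :=
    Subgroup.zpowers_le.2 (Subgroup.subset_closure (Or.inl rfl))
  have hker : ∀ z : ↥(Subgroup.closure (Dc D p)), M.ψ z = 1 → (z : G) ∈ Subgroup.closure ({p, q} : Set G) :=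
    fun z hz => by
      have h1 := (M.ker z).1 hz
      rw [H.center_eq hp, Subgroup.mem_subgroupOf] at h1
      exact hpV h1
  rcases U6.stab_scalar_perp A hU.iso hg with h | h
  · exact hker ⟨k, hk'⟩ (e.symm.trans h)
  · have hq' : M.ψ ⟨k, hk'⟩ = M.ψ ⟨q, Subgroup.subset_closure hU.mem⟩ := by
      rw [← e, h, hU.2.2.2]
    have := hker (⟨k, hk'⟩ * ⟨q, Subgroup.subset_closure hU.mem⟩⁻¹) (by
      rw [map_mul, map_inv, hq', mul_inv_cancel])
    have h' := mul_mem this (Subgroup.subset_closure (Or.inr rfl) : q ∈ Subgroup.closure ({p, q} : Set G))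
    simpa using h'

/-- The kernel acts by scalar translations on the perp of `U`. -/
theorem trans_of_ker {k : ↥(J p q)} (hk : toPSU H hp M hU A k = 1) (h2 : k ^ 1024 = 1) :
    ∃ (hk' : (k : G) ∈ Subgroup.closure (Dc D p)) (g : ↥(U6.stab M.h U)) (l : M.F),
      QuotientGroup.mk g.1 = M.ψ ⟨k, hk'⟩ ∧ g.1 • U = l • U ∧
        ∀ x, M.h U x = 0 → ∃ t : M.F, g.1 • x = l • x + t • U := by
  classical
  obtain ⟨hk', e⟩ := rep_spec H hp M hU k
  set g := rep H hp M hU k with hg
  obtain ⟨l, hl⟩ := (A.blk_eq_one_iff g).1 hk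
  obtain ⟨a, ha0, ha⟩ := g.2
  have hl0 : l ≠ 0 := fun e0 => by
    have hmul := A.act_mul (inv_mem g.2) g.2 (Pi.single 0 1)
    rw [inv_mul_cancel, hl, e0, zero_smul, map_zero, A.act_apply, one_smul, A.proj_incl] at hmul
    simpa using congrFun hmul 0
  have hpow : ∀ n : ℕ, (g ^ n).1 • U = a ^ n • U ∧ ∀ v, A.act (g ^ n).1 v = l ^ n • v := by
    intro n
    induction n with
    | zero =>
      refine ⟨by simp, fun v => ?_⟩
      rw [pow_zero, pow_zero, one_smul, Subgroup.coe_one, A.act_apply, one_smul, A.proj_incl]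
    | succ n ih =>
      constructor
      · rw [pow_succ, pow_succ, Subgroup.coe_mul, mul_smul, ha,
          show (g ^ n).1 • (a • U) = a • (g ^ n).1 • U from
            (((g ^ n).1 : UH M.h) : (Fin 6 → M.F) ≃ₗ[M.F] (Fin 6 → M.F)).map_smul a U,
          ih.1, smul_smul, mul_comm]
      · intro v
        rw [pow_succ, pow_succ, Subgroup.coe_mul, A.act_mul (g ^ n).2 g.2, hl, map_smul, ih.2, smul_smul,
          mul_comm]
  have hz : (QuotientGroup.mk (g ^ 1024).1 : SUH M.h ⧸ Subgroup.center (SUH M.h)) = 1 := by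
    rw [Subgroup.coe_pow, QuotientGroup.mk_pow, e, ← map_pow]
    refine (congrArg M.ψ (Subtype.ext ?_)).trans M.ψ.map_one
    have := congrArg Subtype.val h2
    simpa using this
  obtain ⟨z, -, hz⟩ := (U6.proj_eq_one_iff M.c _).1 hz
  have hcube : ∀ b : M.F, b ≠ 0 → b ^ 1024 = b := fun b hb => by
    rw [show b ^ 1024 = (b * b * b) ^ 341 * b by ring, M.c.cube b hb, one_pow, one_mul]
  have hza : z = a := by
    have := (hz U).symm.trans (hpow 1024).1
    rw [hcube a ha0] at this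
    exact smul_left_injective M.F hU.ne_zero this
  have hzl : z = l := by
    have := (hpow 1024).2 (Pi.single 0 1)
    rw [A.act_apply, hz, map_smul, A.proj_incl, hcube l hl0] at this
    simpa using congrFun this 0
  refine ⟨hk', g, l, e, by rw [ha, ← hza, hzl], fun x hx => ?_⟩
  refine ⟨A.L (g.1 • x) 0 - l * A.L x 0, ?_⟩
  have e1 := A.decomp (U6.perp_of_stab g.2 hx)
  rw [A.proj_smul g.2 hx, hl, A.incl.map_smul] at e1
  calc g.1 • x = _ := e1
    _ = l • (A.L x 0 • U + A.incl (A.proj x)) + (A.L (g.1 • x) 0 - l * A.L x 0) • U := by module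
    _ = _ := by rw [← A.decomp hx]

/-- An element of the centre of the joint centraliser is in `⟨p, q⟩`. -/
theorem center_mem_pair {k : ↥(J p q)} (hk : k ∈ Subgroup.center ↥(J p q)) :
    (k : G) ∈ Subgroup.closure ({p, q} : Set G) := by
  classical
  obtain ⟨hk', e⟩ := rep_spec H hp M hU k
  set g := rep H hp M hU k with hg
  obtain ⟨a, ha0, ha⟩ := g.2
  have hsm : ∀ (m : M.F) x, g.1 • (m • x) = m • g.1 • x := fun m x =>
    ((g.1 : UH M.h) : (Fin 6 → M.F) ≃ₗ[M.F] (Fin 6 → M.F)).map_smul m x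
  have eig : ∀ W, M.Out U W → ∃ m : M.F, g.1 • W = m • W := fun W hW => by
    obtain ⟨y, hy, hyL⟩ := M.pt_of_out H hp hU hW
    have hfix : (k : G) * y * (k : G)⁻¹ = y := by
      have := congrArg Subtype.val (Subgroup.mem_center_iff.1 hk ⟨y, mem_J_of_dc hyL⟩)
      exact mul_inv_eq_iff_eq_mul.2 this.symm
    exact M.smul_of_eq hy (M.acts_lift H hp ⟨k, hk'⟩ e.symm y W hy) hfix.symm
  have same : ∀ W, M.Out U W → g.1 • W = a • W := fun W hW => by
    obtain ⟨m, hm⟩ := eig W hW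
    have hW1 : M.Out U (W + (1 : M.F) • U) := hW.add M hU 1
    obtain ⟨n, hn⟩ := eig _ hW1
    rw [one_smul, smul_add, hm, ha] at hn
    obtain ⟨e1, e2⟩ := hW.coef hU.ne_zero (s := m - n) (t := a - n) (by
      rw [← sub_eq_zero.2 hn]; module)
    rw [hm, sub_eq_zero.1 e1, ← sub_eq_zero.1 e2]
  obtain ⟨o, ho0, ho, hso, -⟩ := M.c.exists_omega
  have basis : ∀ j : Fin 4, g.1 • A.incl (Pi.single j 1) = a • A.incl (Pi.single j 1) := by
    intro j
    obtain ⟨i, hij⟩ : ∃ i : Fin 4, i ≠ j := exists_ne j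
    set x := A.incl (Pi.single i 1)
    set y := A.incl (Pi.single j 1)
    have hxy : ∀ {i j : Fin 4}, M.h (A.incl (Pi.single i 1)) (A.incl (Pi.single j 1)) =
        if i = j then 1 else 0 := by
      intro i j
      rw [A.h_proj (A.U_incl _) (A.U_incl _), A.proj_incl, A.proj_incl,
        Finset.sum_eq_single j (fun b _ hb => by simp [Pi.single_eq_of_ne hb]) (by simp),
        Pi.single_eq_same, mul_one]
      by_cases h : i = j
      · subst h; simp
      · rw [if_neg h, Pi.single_eq_of_ne (Ne.symm h), map_zero]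
    have hout : ∀ b : M.F, M.σ b * b = 1 → M.Out U (x + b • y) := fun b hb => by
      refine ⟨by simp [x, y, A.U_incl], ?_, fun m e => ?_⟩
      · simp [x, y, hxy, hij, hij.symm]
        linear_combination hb + M.c.two
      · have := congrArg (fun v => A.proj v i) e
        simp [x, y, A.proj_incl, A.proj_U, Pi.single_eq_of_ne hij] at this
    have e1 := same _ (hout 1 (by rw [map_one, mul_one]))
    have e2 := same _ (hout o (M.c.norm o ho0))
    rw [smul_add, hsm] at e1 e2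
    have h3 : (1 + o) • (g.1 • y) = (1 + o) • (a • y) := by
      have h4 : (g.1 • x + (1 : M.F) • g.1 • y) + (g.1 • x + o • g.1 • y) =
          a • (x + (1 : M.F) • y) + a • (x + o • y) := by rw [e1, e2]
      rw [show (1 + o) • (g.1 • y) = (g.1 • x + (1 : M.F) • g.1 • y) + (g.1 • x + o • g.1 • y) by
        rw [add_add_add_comm, M.c.addV, zero_add, add_smul], h4]
      rw [smul_add, smul_add, add_add_add_comm, M.c.addV, zero_add]
      module
    have h1o : (1 : M.F) + o ≠ 0 := fun e0 => ho0 (by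
      have : o * (1 + o) = 0 := by rw [e0, mul_zero]
      exfalso
      exact one_ne_zero (α := M.F) (by linear_combination ho - this))
    calc g.1 • y = (1 + o)⁻¹ • ((1 + o) • (g.1 • y)) := (inv_smul_smul₀ h1o _).symm
      _ = a • y := by rw [h3, inv_smul_smul₀ h1o]
  refine mem_pair_of_scalar H hp M hU A e (a := a) fun x hx => ?_
  rw [A.decomp hx, smul_add, hsm, ha, smul_add, smul_comm a]
  congr 1
  conv_lhs => rw [pi_eq_sum_univ' (A.proj x), map_sum]
  conv_rhs => rw [pi_eq_sum_univ' (A.proj x), map_sum]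
  rw [Finset.smul_sum, Finset.smul_sum]
  refine Finset.sum_congr rfl fun j _ => ?_
  rw [map_smul, hsm, basis, smul_comm]

end

/-- The centraliser of a product of two members. -/
theorem pair_structure [Finite G] (hD : IsThreeTranspositionGroup D) (hprim : IsPrimitiveUnderConj D)
    (h22 : IsOfTypeM22 G D) {p q : G} (hp : p ∈ D) (hq : q ∈ Dc D p) (C V : Subgroup G)
    (hC : C = Subgroup.centralizer ({p * q} : Set G)) (hV : V = Subgroup.closure ({p, q} : Set G)) :
    J p q ≤ C ∧ ((J p q).subgroupOf C).index = 2 ∧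
      (Subgroup.center ↥(J p q)).map (J p q).subtype = V ∧
      ∃ E : Subgroup G, V ≤ E ∧ E ≤ C ∧ (∀ c ∈ C, ∀ x ∈ E, c * x * c⁻¹ ∈ E) ∧ Nat.card E = 2 ^ 10 ∧
        (∀ x ∈ E, ∀ y ∈ E, x * y * x⁻¹ * y⁻¹ ∈ V ∧ x ^ 2 ∈ V) ∧
        ∃ (_ : (E.subgroupOf C).Normal) (F : Type) (_ : Field F) (_ : Fintype F),
          Fintype.card F = 4 ∧ Nonempty (↥C ⧸ E.subgroupOf C ≃* MulAut (Cfsg.PSU 4 F 2)) := by
  classical
  obtain ⟨_, H, -⟩ := m22_of_primitive hD hprim h22
  obtain ⟨M⟩ := (H.model p hp).2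
  haveI : Fintype M.F := Fintype.ofFinite M.F
  obtain ⟨U, hU⟩ := M.exists_vec H hp hq
  obtain ⟨A⟩ := U6.exists_adapt M.c hU.iso hU.ne_zero
  set K := J p q with hKdef
  have hpq : Commute p q := hq.2.2
  set π := toPSU H hp M hU A with hπ
  have hπs : Function.Surjective π := toPSU_surjective H hp M hU A
  have hpsu : Nat.card (Cfsg.PSU 4 M.F 2) = 25920 := U6.card_psu M.c
  -- orders
  have hKcard : Nat.card ↥K = 26542080 := by
    have h1 := card_eq_orbit_mul (Subgroup.centralizer ({p} : Set G)) q (Dc D p)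
      (fun k hk => by
        have hkp : k * p * k⁻¹ = p :=
          mul_inv_eq_iff_eq_mul.2 (Subgroup.mem_centralizer_singleton_iff.1 hk)
        have := ((stab_of_normal hD k).carries.dc p).1 q hq
        rwa [hkp] at this)
      (fun o ho => by
        obtain ⟨y, -, hyc, e⟩ := M.exists_conj H hp hq ho
        exact ⟨y, Subgroup.mem_centralizer_singleton_iff.2 hyc.eq, e⟩)
    have e : Subgroup.centralizer ({p} : Set G) ⊓ Subgroup.centralizer ({q} : Set G) = K := by
      ext x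
      rw [Subgroup.mem_inf, Subgroup.mem_centralizer_singleton_iff, Subgroup.mem_centralizer_singleton_iff,
        hKdef, mem_J]
      rfl
    rw [e, card_centralizer_member hD hprim h22 hp, H.ncard_dc hp] at h1
    omega
  set N := π.ker with hN
  have hNcard : Nat.card ↥N = 1024 := by
    have h1 := Subgroup.card_eq_card_quotient_mul_card_subgroup N
    rw [Nat.card_congr (QuotientGroup.quotientKerEquivOfSurjective π hπs).toEquiv, hKcard, hpsu] at h1
    omega
  have hsimple : IsSimpleGroup (Cfsg.PSU 4 M.F 2) :=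
    ClassicalSimple.PSU_isSimpleGroup (U6.card_eq M.c) (by norm_num) (by norm_num)
  have hcen : Subgroup.center (Cfsg.PSU 4 M.F 2) = ⊥ := by
    refine (Subgroup.center (Cfsg.PSU 4 M.F 2)).normal_of_characteristic.eq_bot_or_eq_top.resolve_right
      fun h => ?_
    letI : CommGroup (Cfsg.PSU 4 M.F 2) := { (inferInstance : Group (Cfsg.PSU 4 M.F 2)) with
      mul_comm := fun x y => Subgroup.mem_center_iff.1
        (h ▸ Subgroup.mem_top y : y ∈ Subgroup.center (Cfsg.PSU 4 M.F 2)) x }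
    have := IsSimpleGroup.prime_card (α := Cfsg.PSU 4 M.F 2)
    rw [hpsu] at this
    norm_num at this
  -- the element exchanging
  obtain ⟨x₀, hx₀⟩ := (H.line p hp).1 q hq
  obtain ⟨s, -, -, sp, sq, -⟩ := H.exists_swap hp hq hx₀
  have swapC : ∀ {c}, c * p * c⁻¹ = q → c * q * c⁻¹ = p → c ∈ C := fun {c} e1 e2 => by
    rw [hC, Subgroup.mem_centralizer_singleton_iff]
    have : c * (p * q) * c⁻¹ = p * q := by
      rw [show c * (p * q) * c⁻¹ = c * p * c⁻¹ * (c * q * c⁻¹) by group, e1, e2, hpq.eq]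
    exact mul_inv_eq_iff_eq_mul.1 this
  have fixJ : ∀ {c}, c * p * c⁻¹ = p → c * q * c⁻¹ = q → c ∈ K := fun {c} e1 e2 =>
    mem_J.2 ⟨mul_inv_eq_iff_eq_mul.1 e1, mul_inv_eq_iff_eq_mul.1 e2⟩
  have hCperm : ∀ c ∈ C, (c * p * c⁻¹ = p ∧ c * q * c⁻¹ = q) ∨ (c * p * c⁻¹ = q ∧ c * q * c⁻¹ = p) := by
    intro g hg
    rw [hC, Subgroup.mem_centralizer_singleton_iff] at hg
    have he : g * p * g⁻¹ * (g * q * g⁻¹) = p * q := by
      rw [show g * p * g⁻¹ * (g * q * g⁻¹) = g * (p * q) * g⁻¹ by group, hg, mul_inv_cancel_right]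
    rcases mem_of_prod_two H.tr H.noTwin₂ (H.conj_mem g hp) (H.conj_mem g hq.1) hp hq.1
      (fun h => hq.2.1 (mul_left_cancel (mul_right_cancel h)).symm) hq.2.1.symm
      ((commute_conj_iff g).2 hpq) hpq he with h | h
    · rw [h] at he
      exact Or.inl ⟨h, mul_left_cancel he⟩
    · rw [h] at he
      exact Or.inr ⟨h, mul_left_cancel (he.trans hpq.eq)⟩
  have hKC : K ≤ C := fun k hk => by
    rw [hC, Subgroup.mem_centralizer_singleton_iff]
    exact ((mem_J.1 hk).1.mul_right (mem_J.1 hk).2).eq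
  have hsC : s ∈ C := swapC sp sq
  have hnormK : ∀ c ∈ C, ∀ k ∈ K, c * k * c⁻¹ ∈ K := by
    intro c hc k hk
    obtain ⟨k1, k2⟩ := mem_J.1 hk
    rcases hCperm c hc with ⟨e1, e2⟩ | ⟨e1, e2⟩
    · refine mem_J.2 ⟨?_, ?_⟩
      · rw [← e1]; exact (commute_conj_iff c).2 k1
      · rw [← e2]; exact (commute_conj_iff c).2 k2
    · refine mem_J.2 ⟨?_, ?_⟩
      · rw [← e2]; exact (commute_conj_iff c).2 k2
      · rw [← e1]; exact (commute_conj_iff c).2 k1
  -- conjugation on `K`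
  let χ : ↥C → (↥K →* ↥K) := fun c =>
    MonoidHom.mk' (fun k => ⟨(c : G) * k * (c : G)⁻¹, hnormK c c.2 k k.2⟩) fun k l => Subtype.ext (by
      show (c : G) * ((k : G) * l) * (c : G)⁻¹ = (c : G) * k * (c : G)⁻¹ * ((c : G) * l * (c : G)⁻¹)
      group)
  have χmul : ∀ (c d : ↥C) k, χ (c * d) k = χ c (χ d k) := fun c d k => Subtype.ext (by
    show ((c : G) * d) * k * ((c : G) * d)⁻¹ = (c : G) * ((d : G) * k * (d : G)⁻¹) * (c : G)⁻¹
    group)
  have χone : ∀ k, χ 1 k = k := fun k => Subtype.ext (by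
    show (1 : G) * k * (1 : G)⁻¹ = k
    group)
  have χsurj : ∀ c, Function.Surjective (χ c) := fun c k =>
    ⟨χ c⁻¹ k, by rw [← χmul, mul_inv_cancel, χone]⟩
  have hNstab : ∀ c k, π k = 1 → π (χ c k) = 1 := by
    intro c k hk
    have hnor : ((N.map (χ c)).map π).Normal :=
      ((MonoidHom.normal_ker π).map (χ c) (χsurj c)).map π hπs
    rcases hnor.eq_bot_or_eq_top with h | h
    · exact Subgroup.mem_bot.1 (h ▸ ⟨χ c k, ⟨k, hk, rfl⟩, rfl⟩)
    · exfalso
      have h1 : Nat.card ↥((N.map (χ c)).map π) ≤ 1024 :=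
        ((Nat.card_le_card_of_surjective _ ((π.subgroupMap_surjective (N.map (χ c))))).trans
          (Nat.card_le_card_of_surjective _ ((χ c).subgroupMap_surjective N))).trans hNcard.le
      rw [h, Subgroup.card_top, hpsu] at h1
      norm_num at h1
  have hwd : ∀ c k l, π k = π l → π (χ c k) = π (χ c l) := fun c k l e => by
    have := hNstab c (k⁻¹ * l) (by rw [map_mul, map_inv, e, inv_mul_cancel])
    rwa [map_mul, map_inv, map_mul, map_inv, inv_mul_eq_one] at this
  let lift := Function.surjInv hπs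
  have hlift : ∀ x, π (lift x) = x := Function.surjInv_eq hπs
  let φ : ↥C → Cfsg.PSU 4 M.F 2 → Cfsg.PSU 4 M.F 2 := fun c x => π (χ c (lift x))
  have hφ : ∀ c k, φ c (π k) = π (χ c k) := fun c k => hwd c _ _ (hlift _)
  have φinv : ∀ c x, φ c (φ c⁻¹ x) = x := fun c x => by
    show φ c (π (χ c⁻¹ (lift x))) = x
    rw [hφ, ← χmul, mul_inv_cancel, χone, hlift]
  let Φ : ↥C →* MulAut (Cfsg.PSU 4 M.F 2) := MonoidHom.mk' (fun c =>
    { toFun := φ c
      invFun := φ c⁻¹
      left_inv := fun x => by simpa using φinv c⁻¹ x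
      right_inv := φinv c
      map_mul' := fun x y => by
        obtain ⟨k, rfl⟩ := hπs x
        obtain ⟨l, rfl⟩ := hπs y
        rw [← map_mul, hφ, hφ, hφ, map_mul, map_mul] }) fun c d => MulEquiv.ext fun x => by
      obtain ⟨k, rfl⟩ := hπs x
      show φ (c * d) (π k) = φ c (φ d (π k))
      rw [hφ (c * d) k, hφ d k, hφ c, χmul]
  set E := N.map K.subtype with hE
  have hEK : E ≤ K := Subgroup.map_subtype_le N
  have hEcard : Nat.card ↥E = 2 ^ 10 := by
    rw [hE, Subgroup.card_map_of_injective K.subtype_injective, hNcard]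
    norm_num
  have hEconj : ∀ c ∈ C, ∀ x ∈ E, c * x * c⁻¹ ∈ E := by
    rintro c hc _ ⟨k, hk, rfl⟩
    exact ⟨χ ⟨c, hc⟩ k, hNstab _ k hk, rfl⟩
  -- the centre
  have hVK : V ≤ K := by
    rw [hV, Subgroup.closure_le]
    rintro y (rfl | rfl)
    exacts [mem_J.2 ⟨Commute.refl _, hpq⟩, mem_J.2 ⟨hpq.symm, Commute.refl _⟩]
  have hVcen : ∀ v ∈ V, ∀ k ∈ K, Commute k v := by
    intro v hv k hk
    rw [hV] at hv
    have hle : Subgroup.closure ({p, q} : Set G) ≤ Subgroup.centralizer ({k} : Set G) := by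
      rw [Subgroup.closure_le]
      rintro y (rfl | rfl)
      exacts [Subgroup.mem_centralizer_singleton_iff.2 (mem_J.1 hk).1.eq.symm,
        Subgroup.mem_centralizer_singleton_iff.2 (mem_J.1 hk).2.eq.symm]
    exact (Subgroup.mem_centralizer_singleton_iff.1 (hle hv) : Commute v k).symm
  have hcenter : (Subgroup.center ↥K).map K.subtype = V := by
    refine le_antisymm ?_ fun v hv =>
      ⟨⟨v, hVK hv⟩, Subgroup.mem_center_iff.2 fun k => Subtype.ext (hVcen v hv k k.2).eq, rfl⟩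
    rintro _ ⟨k, hk, rfl⟩
    rw [hV]
    exact center_mem_pair H hp M hU A hk
  have hVE : V ≤ E := fun v hv => by
    refine ⟨⟨v, hVK hv⟩, ?_, rfl⟩
    have h1 : π ⟨v, hVK hv⟩ ∈ Subgroup.center (Cfsg.PSU 4 M.F 2) :=
      Subgroup.mem_center_iff.2 fun x => by
        obtain ⟨k, rfl⟩ := hπs x
        rw [← map_mul, ← map_mul]
        exact congrArg π (Subtype.ext (hVcen v hv k k.2).eq)
    rwa [hcen, Subgroup.mem_bot] at h1
  have htrans : ∀ k ∈ N, ∀ l ∈ N, ((k * l * k⁻¹ * l⁻¹ : ↥K) : G) ∈ V ∧ ((k ^ 2 : ↥K) : G) ∈ V := by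
    intro k hk l hl
    have hp2 : ∀ k ∈ N, k ^ 1024 = 1 := fun k hk => by
      have h1 : (⟨k, hk⟩ : ↥N) ^ Nat.card ↥N = 1 := pow_card_eq_one'
      rw [hNcard] at h1
      exact congrArg Subtype.val h1
    obtain ⟨h1, g, a, e1, ga, g1⟩ := trans_of_ker H hp M hU A hk (hp2 k hk)
    obtain ⟨h2, g', b, e2, gb, g2⟩ := trans_of_ker H hp M hU A hl (hp2 l hl)
    have hsm : ∀ (g : SUH M.h) (m : M.F) x, g • (m • x) = m • g • x := fun g m x =>
      ((g : UH M.h) : (Fin 6 → M.F) ≃ₗ[M.F] (Fin 6 → M.F)).map_smul m x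
    have comp : ∀ x, M.h U x = 0 → g.1 • g'.1 • x = g'.1 • g.1 • x := fun x hx => by
      obtain ⟨t, ht⟩ := g1 x hx
      obtain ⟨t', ht'⟩ := g2 x hx
      rw [ht', ht, smul_add, smul_add, hsm, hsm, hsm, hsm, ht, ht', ga, gb]
      module
    rw [hV]
    have hkl : ((k * l * k⁻¹ * l⁻¹ : ↥K) : G) ∈ Subgroup.closure (Dc D p) :=
      mul_mem (mul_mem (mul_mem h1 h2) (inv_mem h1)) (inv_mem h2)
    refine ⟨mem_pair_of_scalar H hp M hU A (g := g.1 * g'.1 * g.1⁻¹ * g'.1⁻¹) (hk' := hkl) ?_ (a := 1) ?_,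
      mem_pair_of_scalar H hp M hU A (g := g.1 ^ 2) (hk' := pow_mem h1 2) ?_ (a := a * a) ?_⟩
    · simp only [QuotientGroup.mk_mul, QuotientGroup.mk_inv, e1, e2, ← map_inv, ← map_mul]
      rfl
    · intro x hx
      have hy : M.h U (g.1⁻¹ • g'.1⁻¹ • x) = 0 :=
        U6.perp_of_stab (inv_mem g.2) (U6.perp_of_stab (inv_mem g'.2) hx)
      rw [one_smul, mul_smul, mul_smul, mul_smul, comp _ hy, smul_inv_smul, smul_inv_smul]
    · rw [QuotientGroup.mk_pow, e1, ← map_pow]
      rfl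
    · intro x hx
      obtain ⟨t, ht⟩ := g1 x hx
      rw [pow_two, mul_smul, ht, smul_add, hsm, hsm, ht, ga, smul_add, smul_smul, smul_smul, smul_smul,
        add_assoc, ← add_smul, mul_comm t a, M.c.addF, zero_smul, add_zero]
  -- the kernel of the action
  have hker : Φ.ker = E.subgroupOf C := by
    ext c
    rw [MonoidHom.mem_ker, Subgroup.mem_subgroupOf]
    constructor
    · intro hc
      have hfix : ∀ k, π (χ c k) = π k := fun k => by
        rw [← hφ c k]
        exact congrArg (fun e : MulAut (Cfsg.PSU 4 M.F 2) => e (π k)) hc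
      rcases hCperm c c.2 with ⟨e1, e2⟩ | ⟨e1, e2⟩
      · refine ⟨⟨c, fixJ e1 e2⟩, ?_, rfl⟩
        have h1 : π ⟨c, fixJ e1 e2⟩ ∈ Subgroup.center (Cfsg.PSU 4 M.F 2) :=
          Subgroup.mem_center_iff.2 fun x => by
            obtain ⟨k, rfl⟩ := hπs x
            have h2 := hfix k
            rw [show χ c k = ⟨c, fixJ e1 e2⟩ * k * ⟨c, fixJ e1 e2⟩⁻¹ from Subtype.ext rfl,
              map_mul, map_mul, map_inv, mul_inv_eq_iff_eq_mul] at h2
            exact h2.symm
        rwa [hcen, Subgroup.mem_bot] at h1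
      · exfalso
        refine H.swap_false hp hq M hU e1 e2 fun W hW m y hy => ?_
        have hyL := M.mem_of_out H hp hU hy (hW.add M hU m)
        have hzL : (c : G) * y * (c : G)⁻¹ ∈ Dc (Dc D p) q := by
          have := (((stab_of_normal hD (c : G)).carries.dc p).dc q).1 y hyL
          rw [e1, e2] at this
          exact dc_dc_symm this
        obtain ⟨Z, hZ⟩ := M.exists_vec H hp hzL.1
        obtain ⟨t, r, e⟩ := line_of_toPSU_eq H hp M hU A hyL hzL hy hZ (hfix ⟨y, mem_J_of_dc hyL⟩).symm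
        have ht : t ≠ 0 := fun h0 => (M.out_of_mem H hp hU hZ hzL).2.2 r (by
          rw [e, h0, zero_smul, zero_add])
        refine ⟨m + t⁻¹ * r, ?_⟩
        have := hZ.smul (inv_ne_zero ht)
        rw [e, smul_add, inv_smul_smul₀ ht, smul_smul, add_assoc, ← add_smul] at this
        exact this
    · rintro ⟨k, hk, e⟩
      have hk' : π k = 1 := hk
      refine MulEquiv.ext fun x => ?_
      obtain ⟨l, rfl⟩ := hπs x
      show φ c (π l) = π l
      rw [hφ, show χ c l = k * l * k⁻¹ from Subtype.ext (by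
        show (c : G) * l * (c : G)⁻¹ = (k : G) * l * (k : G)⁻¹
        rw [show (k : G) = (c : G) from e]), map_mul, map_mul, map_inv, hk', one_mul, inv_one, mul_one]
  have hidx : (K.subgroupOf C).index = 2 := by
    refine Subgroup.index_eq_two_iff_exists_notMem_and'.2 ⟨⟨s, hsC⟩, fun h => ?_, fun c => ?_⟩
    · have := (mem_J.1 (Subgroup.mem_subgroupOf.1 h)).1.eq
      refine hq.2.1 ?_
      rw [← sp]
      exact mul_inv_eq_iff_eq_mul.2 this
    · rcases hCperm c c.2 with ⟨e1, e2⟩ | ⟨e1, e2⟩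
      · exact Or.inr (fixJ e1 e2)
      · refine Or.inl (fixJ ?_ ?_)
        · show s * c * p * (s * c)⁻¹ = p
          rw [show s * c * p * (s * c)⁻¹ = s * ((c : G) * p * (c : G)⁻¹) * s⁻¹ by group, e1, sq]
        · show s * c * q * (s * c)⁻¹ = q
          rw [show s * c * q * (s * c)⁻¹ = s * ((c : G) * q * (c : G)⁻¹) * s⁻¹ by group, e2, sp]
  have hEN : (E.subgroupOf C).Normal := hker ▸ MonoidHom.normal_ker Φ
  have hΦs : Function.Surjective Φ := by
    haveI : Finite (Cfsg.PSU 4 M.F 2) := Nat.finite_of_card_ne_zero (by rw [hpsu]; norm_num)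
    haveI : Finite (MulAut (Cfsg.PSU 4 M.F 2)) :=
      Finite.of_injective (fun e => ⇑e) DFunLike.coe_injective
    have h1 := Subgroup.card_eq_card_quotient_mul_card_subgroup Φ.ker
    rw [Nat.card_congr (QuotientGroup.quotientKerEquivRange Φ).toEquiv, hker,
      Nat.card_congr (Subgroup.subgroupOfEquivOfLe (hEK.trans hKC)).toEquiv, hEcard] at h1
    have h2 := Subgroup.index_mul_card (K.subgroupOf C)
    rw [hidx, Nat.card_congr (Subgroup.subgroupOfEquivOfLe hKC).toEquiv, hKcard, h1] at h2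
    have h3 := U6.card_aut_le (F := M.F) M.c
    rw [hpsu] at h3
    exact MonoidHom.range_eq_top.1 (Subgroup.eq_top_of_le_card _ (by omega))
  refine ⟨hKC, hidx, hcenter, E, hVE, hEK.trans hKC, hEconj, hEcard, ?_, hEN, M.F, inferInstance,
    inferInstance, by rw [U6.card_eq M.c]; norm_num,
    ⟨(QuotientGroup.quotientMulEquivOfEq hker.symm).trans
      (QuotientGroup.quotientKerEquivOfSurjective Φ hΦs)⟩⟩
  rintro _ ⟨k, hk, rfl⟩ _ ⟨l, hl, rfl⟩
  exact htrans k hk l hl

end M22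

end Cfsg.Agent.Transpos
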