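import Cfsg.Agent.Lib.Transpos.M22PairShift
import Cfsg.Agent.Lib.Transpos.M22PairCentralizer
import Cfsg.Agent.Lib.Transpos.M22Conn

/-!
# Automorphisms at a commuting pair in type M(22)

An automorphism fixing a member acts there by a field automorphism unless it is inner
(`M22.inner_of_linear`); one stabilising all classes of twins at a pair acts linearly, with one
eigenvalue modulo `U` (`Model.fix_classes`).  Hence an outer automorphism stabilising all classes
exchanges the pair, and the pair is all that centralises the members commuting with both.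
-/

set_option autoImplicit false
set_option linter.style.haveILetI false
set_option maxHeartbeats 1000000

namespace Cfsg.Agent.Transpos

open Cfsg Cfsg.Agent.ClassicalSimple

variable {G : Type*} [Group G] {D : Set G}

namespace M22

variable (H : M22 D)
include H

/-- Every automorphism permutes the members. -/
theorem preserves [Finite G] (φ : G ≃* G) : Preserves D φ := by
  rcases D.eq_empty_or_nonempty with hD | ⟨d₀, hd₀⟩
  · intro x; simp [hD]
  haveI : Nonempty D := ⟨⟨d₀, hd₀⟩⟩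
  have hcl : IsThreeTranspositionClass (⇑φ '' D) := by
    refine ⟨⟨?_, ?_⟩, ⟨φ d₀, Set.mem_image_of_mem _ hd₀, ?_⟩, ?_⟩
    · rintro _ ⟨x, hx, rfl⟩
      rw [← H.grp.1.1 x hx]
      exact φ.orderOf_eq x
    · rintro _ ⟨x, hx, rfl⟩ _ ⟨y, hy, rfl⟩
      rw [← map_mul, ← map_pow, ← map_pow]
      exact (H.grp.1.2 x hx y hy).imp (fun h => by rw [h, map_one]) (fun h => by rw [h, map_one])
    · refine Set.ext fun z => ⟨?_, fun hz => ?_⟩
      · rintro ⟨x, hx, rfl⟩
        obtain ⟨g, rfl⟩ := H.trans d₀ hd₀ x hx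
        exact isConj_iff.2 ⟨φ g, by rw [map_mul, map_mul, map_inv]⟩
      · obtain ⟨g, rfl⟩ := isConj_iff.1 (hz : IsConj (φ d₀) z)
        refine ⟨φ.symm g * d₀ * (φ.symm g)⁻¹, H.grp.2.1 _ _ hd₀, ?_⟩
        rw [map_mul, map_mul, map_inv, φ.apply_symm_apply]
    · rw [show ⇑φ = ⇑φ.toMonoidHom from rfl, ← MonoidHom.map_closure, H.grp.2.2,
        ← MonoidHom.range_eq_map, MonoidHom.range_eq_top.2 φ.surjective]
  have he := H.unique_class H.full' hcl
  intro x
  refine ⟨fun h => ?_, fun h => he ▸ Set.mem_image_of_mem φ h⟩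
  rw [← he] at h
  obtain ⟨y, hy, e⟩ := h
  exact φ.injective e ▸ hy

/-- An automorphism acting linearly at a member it fixes is inner. -/
theorem mem_range_of_linear [Finite G] {a : G} (ha : a ∈ D) {φ : MulAut G} (hfa : φ a = a)
    (M : Model D a) {Ψ : (Fin 6 → M.F) → (Fin 6 → M.F)} {τ : M.F ≃+* M.F}
    (hΨ : U6.Semi M.h τ Ψ) (hact : M.Acts φ Ψ) (hτ : ∀ x, τ x = x) :
    φ ∈ (MulAut.conj : G →* MulAut G).range := by
  obtain ⟨y, -, e⟩ := H.inner_of_linear ha M (H.preserves φ) hfa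
    (Ψ := Ψ) ⟨hΨ.add, fun m u => by rw [hΨ.smul, hτ]; rfl, fun u v => (hΨ.form u v).trans (hτ _)⟩ hact
  exact ⟨y, MulEquiv.ext fun g => (e g).symm⟩

end M22

namespace Model

variable {a b : G} (M : Model D a) {U : Fin 6 → M.F} (A : U6.Adapt M.c U)

/-- A semilinear map stabilising every class is linear with one eigenvalue modulo `U`. -/
theorem fix_classes {Ψ : (Fin 6 → M.F) → (Fin 6 → M.F)} {τ : M.F ≃+* M.F} (hΨ : U6.Semi M.h τ Ψ)
    (hstab : ∀ V, M.Out U V → ∃ k n : M.F, Ψ V = k • V + n • U) :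
    (∀ x, τ x = x) ∧ ∃ l : M.F, l ≠ 0 ∧ ∀ v, A.proj (Ψ (A.incl v)) = l • v := by
  classical
  let P : (Fin 4 → M.F) → (Fin 4 → M.F) := fun v => A.proj (Ψ (A.incl v))
  have hPadd : ∀ v w, P (v + w) = P v + P w := fun v w => by simp [P, hΨ.add]
  have hPsmul : ∀ (m : M.F) v, P (m • v) = τ m • P v := fun m v => by simp [P, hΨ.smul]
  obtain ⟨o, ho0, ho, hso, -⟩ := M.c.exists_omega
  have hPair : ∀ {i k : Fin 4}, i ≠ k → ∀ y : M.F, y ≠ 0 →
      ∃ r : M.F, P (Pi.single i 1 + Pi.single k y) = r • (Pi.single i 1 + Pi.single k y) := by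
    intro i k hik y hy
    set v : Fin 4 → M.F := Pi.single i 1 + Pi.single k y
    have hv0 : v ≠ 0 := fun e => one_ne_zero (α := M.F) (by simpa [v, hik] using congrFun e i)
    have hv : ∑ j, M.σ (v j) * v j = 0 := by
      rw [Finset.sum_eq_add i k hik (fun j _ hj => by simp [v, hj.1, hj.2])
        (fun h => absurd (Finset.mem_univ i) h) (fun h => absurd (Finset.mem_univ k) h)]
      simp [v, hik, hik.symm, M.c.norm y hy, M.c.two]
    obtain ⟨r, n, e⟩ := hstab _ (M22.out_incl M A hv0 hv)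
    exact ⟨r, by simp [P, e, A.proj_U, A.proj_incl]⟩
  have ho1 : o ≠ 1 := fun e => one_ne_zero (α := M.F) (by subst e; linear_combination ho - M.c.two)
  have hτo0 : τ o ≠ 1 := fun e => ho1 (τ.injective (by rw [e, map_one]))
  -- the basis vectors are eigenvectors
  have hsupp : ∀ i k : Fin 4, i ≠ k → ∀ j, j ≠ i → j ≠ k → P (Pi.single i 1) j = 0 := by
    intro i k hik j hji hjk
    obtain ⟨r, hr⟩ := hPair hik 1 one_ne_zero
    obtain ⟨r', hr'⟩ := hPair hik o ho0
    rw [hPadd] at hr hr'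
    rw [show (Pi.single k o : Fin 4 → M.F) = o • Pi.single k 1 by
      rw [← Pi.single_smul, smul_eq_mul, mul_one], hPsmul] at hr'
    have e1 := congrFun hr j
    have e2 := congrFun hr' j
    simp [hji, hjk] at e1 e2
    have e : (τ o - 1) * P (Pi.single k 1) j = 0 := by linear_combination e2 - e1
    rw [(mul_eq_zero.1 e).resolve_left (sub_ne_zero.2 hτo0), add_zero] at e1
    exact e1
  have hdiag : ∀ i j, j ≠ i → P (Pi.single i 1) j = 0 := fun i j hji => by
    obtain ⟨k, hki, hkj⟩ : ∃ k : Fin 4, k ≠ i ∧ k ≠ j :=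
      (by decide : ∀ i j : Fin 4, ∃ k, k ≠ i ∧ k ≠ j) i j
    exact hsupp i k hki.symm j hji hkj.symm
  set d : Fin 4 → M.F := fun i => P (Pi.single i 1) i
  have hPe : ∀ i, P (Pi.single i 1) = Pi.single i (d i) := fun i => funext fun j => by
    by_cases h : j = i
    · subst h; simp [d]
    · simp [hdiag i j h, h]
  have hPs : ∀ i x, P (Pi.single i x) = Pi.single i (τ x * d i) := fun i x => by
    rw [show (Pi.single i x : Fin 4 → M.F) = x • Pi.single i 1 by
      rw [← Pi.single_smul, smul_eq_mul, mul_one], hPsmul, hPe, ← Pi.single_smul, smul_eq_mul]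
  have hd : ∀ i k, i ≠ k → d i = d k ∧ τ o * d k = o * d i := fun i k hik => by
    obtain ⟨r, hr⟩ := hPair hik 1 one_ne_zero
    obtain ⟨r', hr'⟩ := hPair hik o ho0
    rw [hPadd, hPs, hPs, map_one, one_mul, one_mul] at hr
    rw [hPadd, hPs, hPs, map_one, one_mul] at hr'
    have a1 := congrFun hr i
    have a2 := congrFun hr k
    have b1 := congrFun hr' i
    have b2 := congrFun hr' k
    simp [hik, hik.symm] at a1 a2 b1 b2
    exact ⟨a1.trans a2.symm, by rw [b2, b1]; ring⟩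
  have hd0 : d 0 ≠ 0 := fun e => by
    have hall : ∀ i, d i = 0 := fun i => by
      by_cases h : i = 0
      · rw [h, e]
      · rw [(hd i 0 h).1, e]
    have hmk : ∀ y : M.F, y ≠ 0 → M.h U (Ψ (A.incl (Pi.single 0 1 + Pi.single 1 y))) = 0 ∧
        A.proj (Ψ (A.incl (Pi.single 0 1 + Pi.single 1 y))) = 0 := fun y hy => by
      have hv : ∑ j, M.σ ((Pi.single 0 1 + Pi.single 1 y : Fin 4 → M.F) j) *
          (Pi.single 0 1 + Pi.single 1 y : Fin 4 → M.F) j = 0 := by
        simp [Fin.sum_univ_four, M.c.norm y hy, M.c.two]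
      have hV := M22.out_incl M A (fun e => one_ne_zero (α := M.F) (by simpa using congrFun e 0)) hv
      obtain ⟨r, n, e⟩ := hstab _ hV
      have hUU : M.h U U = 0 := by simp [A.h_U, A.apply_U, M.c.two]
      refine ⟨by rw [e, map_add, map_smul, map_smul, hV.1, hUU, smul_zero, smul_zero, add_zero], ?_⟩
      show P _ = 0
      rw [hPadd, hPs, hPs, hall, hall, mul_zero, mul_zero, Pi.single_zero, Pi.single_zero, add_zero]
    obtain ⟨u1, p1⟩ := hmk 1 one_ne_zero
    obtain ⟨u2, p2⟩ := hmk o ho0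
    have hf := hΨ.form (A.incl (Pi.single 0 1 + Pi.single 1 1)) (A.incl (Pi.single 0 1 + Pi.single 1 o))
    rw [A.h_proj u1 u2, p1, p2, A.h_proj (A.U_incl _) (A.U_incl _), A.proj_incl, A.proj_incl] at hf
    simp [Fin.sum_univ_four] at hf
    refine hτo0 ?_
    linear_combination -hf - M.c.two
  refine ⟨?_, d 0, hd0, fun v => ?_⟩
  · obtain ⟨h1, h2⟩ := hd 0 1 (by decide)
    rw [h1] at h2
    have e := mul_right_cancel₀ (h1 ▸ hd0) h2
    rcases U6.aut_eq M.c τ with h | h
    · exact h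
    · exfalso
      rw [h, hso] at e
      exact ho1 (mul_left_cancel₀ ho0 (by rw [mul_one]; exact e))
  · show P v = _
    have hτ : τ o = o := by
      obtain ⟨h1, h2⟩ := hd 0 1 (by decide)
      rw [h1] at h2
      exact mul_right_cancel₀ (h1 ▸ hd0) h2
    have hid : ∀ x, τ x = x := fun x => by
      rcases U6.aut_eq M.c τ with h | h
      · exact h x
      · rw [h, hso] at hτ
        exact absurd (mul_left_cancel₀ ho0 (by rw [mul_one]; exact hτ)) ho1
    conv_lhs => rw [← Finset.univ_sum_single v]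
    rw [show P (∑ i, Pi.single i (v i)) = ∑ i, P (Pi.single i (v i)) from
      map_sum (AddMonoidHom.mk' P hPadd) _ _]
    simp only [hPs, hid]
    conv_rhs => rw [← Finset.univ_sum_single v, Finset.smul_sum]
    refine Finset.sum_congr rfl fun i _ => ?_
    rw [← Pi.single_smul, smul_eq_mul]
    by_cases h : i = 0
    · rw [h, mul_comm]
    · rw [(hd i 0 h).1, mul_comm]

end Model

namespace M22

variable [Finite G] (H : M22 D) {p q : G} (hp : p ∈ D) (hq : q ∈ Dc D p)
include H hp hq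

omit [Finite G] H hp in
/-- An automorphism preserving the class and permuting the pair permutes the products of twins. -/
theorem twinProd_map {φ : G ≃* G} (hφ : Preserves D φ)
    (he : (φ p = p ∧ φ q = q) ∨ (φ p = q ∧ φ q = p)) {x : G} (hx : x ∈ TwinProd D p q) :
    φ x ∈ TwinProd D p q := by
  obtain ⟨y, z, hy, ht, rfl⟩ := hx
  have hset : ∀ u, φ u ∈ Dc (Dc D p) q ↔ u ∈ Dc (Dc D p) q := fun u => by
    rcases he with ⟨e1, e2⟩ | ⟨e1, e2⟩
    · conv_lhs => rw [← e1, ← e2]
      exact and_congr hφ.mem_dc (and_congr φ.injective.ne_iff Preserves.commute)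
    · have h : φ u ∈ Dc (Dc D (φ p)) (φ q) ↔ u ∈ Dc (Dc D p) q :=
        and_congr hφ.mem_dc (and_congr φ.injective.ne_iff Preserves.commute)
      rw [e1, e2] at h
      exact ⟨fun k => h.1 (dc_dc_symm k), fun k => dc_dc_symm (h.2 k)⟩
  refine ⟨φ y, φ z, (hset y).2 hy, ⟨(hset z).2 ht.1, φ.injective.ne ht.2.1, ht.2.2.1.map φ, fun w hw => ?_⟩,
    map_mul φ y z⟩
  obtain ⟨u, rfl⟩ := φ.surjective w
  rw [Preserves.commute, Preserves.commute]
  exact ht.2.2.2 u ((hset u).1 hw)

omit [Finite G] H hp in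
theorem pf_map {φ : G ≃* G} (hφ : Preserves D φ)
    (he : (φ p = p ∧ φ q = q) ∨ (φ p = q ∧ φ q = p)) {x : G} (hx : x ∈ PF D p q) : φ x ∈ PF D p q := by
  induction hx using Subgroup.closure_induction with
  | mem u hu =>
    refine Subgroup.subset_closure ?_
    rcases hu with hu | hu
    · exact Or.inl (twinProd_map hq hφ he hu)
    · rcases he with ⟨e1, e2⟩ | ⟨e1, e2⟩ <;> rcases hu with rfl | rfl <;> simp [*]
  | one => rw [map_one]; exact one_mem _
  | mul u v _ _ h1 h2 => rw [map_mul]; exact mul_mem h1 h2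
  | inv u _ h1 => rw [map_inv]; exact inv_mem h1

omit [Finite G] H hp in
theorem pf_le_J : PF D p q ≤ J p q := fun x hx => by
  obtain ⟨h1, h2⟩ := pf_commute hq hx
  exact mem_J.2 ⟨h1.symm, h2.symm⟩

variable (M : Model D p) {U : Fin 6 → M.F} (hU : M.IsPt q U) [Fintype M.F] (A : U6.Adapt M.c U)
include hU A

/-- The group of twin products is killed by the map onto `PSU₄(2)`. -/
theorem pf_ker {k : ↥(J p q)} (hk : (k : G) ∈ PF D p q) : toPSU H hp M hU A k = 1 := by
  haveI : Finite (Cfsg.PSU 4 M.F 2) := Finite.of_surjective _ (toPSU_surjective H hp M hU A)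
  haveI : Fact (Nat.Prime 2) := ⟨Nat.prime_two⟩
  have hpsu : Nat.card (Cfsg.PSU 4 M.F 2) = 25920 := U6.card_psu M.c
  have hsimple : IsSimpleGroup (Cfsg.PSU 4 M.F 2) :=
    ClassicalSimple.PSU_isSimpleGroup (U6.card_eq M.c) (by norm_num) (by norm_num)
  haveI : ((PF D p q).subgroupOf (J p q)).Normal := ⟨fun x hx g => by
    rw [Subgroup.mem_subgroupOf] at hx ⊢
    exact pf_map hq (preserves_conj H.grp (g : G)) (Or.inl ⟨mul_inv_eq_iff_eq_mul.2 (mem_J.1 g.2).1.eq,
      mul_inv_eq_iff_eq_mul.2 (mem_J.1 g.2).2.eq⟩) hx⟩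
  have hn : (((PF D p q).subgroupOf (J p q)).map (toPSU H hp M hU A)).Normal :=
    Subgroup.Normal.map inferInstance _ (toPSU_surjective H hp M hU A)
  have h2 : IsPGroup 2 ↥(((PF D p q).subgroupOf (J p q)).map (toPSU H hp M hU A)) :=
    ((pf_two H hp hq).of_equiv (Subgroup.subgroupOfEquivOfLe (pf_le_J hq)).symm).map _
  rcases hn.eq_bot_or_eq_top with h | h
  · exact Subgroup.mem_bot.1 (h ▸ ⟨k, hk, rfl⟩)
  · exfalso
    obtain ⟨n, hn⟩ := IsPGroup.iff_card.1 h2
    rw [h, Subgroup.card_top, hpsu] at hn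
    have : 5 ∣ 2 ^ n := ⟨5184, hn.symm⟩
    have := Nat.Prime.dvd_of_dvd_pow (by norm_num) this
    norm_num at this

/-- An automorphism fixing the pair and trivial on the members commuting with both modulo the twin
products is inner. -/
theorem inner_of_stable {φ : MulAut G} (hφp : φ p = p) (hφq : φ q = q)
    (hst : ∀ y ∈ Dc (Dc D p) q, y * φ y ∈ PF D p q) :
    φ ∈ (MulAut.conj : G →* MulAut G).range := by
  obtain ⟨Ψ, τ, hΨ, hact⟩ := M.exists_semi H hp (H.preserves φ) hφp
  refine H.mem_range_of_linear hp hφp M hΨ hact (M.fix_classes A hΨ fun V hV => ?_).1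
  obtain ⟨y, hy, hyL⟩ := M.pt_of_out H hp hU hV
  have hzL : φ y ∈ Dc (Dc D p) q := by
    have h : φ y ∈ Dc (Dc D (φ p)) (φ q) ↔ y ∈ Dc (Dc D p) q :=
      and_congr (H.preserves φ).mem_dc (and_congr φ.injective.ne_iff Preserves.commute)
    rw [hφp, hφq] at h
    exact h.2 hyL
  have e := pf_ker H hp hq M hU A (k := ⟨y, mem_J_of_dc hyL⟩ * ⟨φ y, mem_J_of_dc hzL⟩) (hst y hyL)
  rw [map_mul] at e
  have e2 : toPSU H hp M hU A ⟨y, mem_J_of_dc hyL⟩ * toPSU H hp M hU A ⟨y, mem_J_of_dc hyL⟩ = 1 := by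
    rw [← map_mul, ← map_one (toPSU H hp M hU A)]
    exact congrArg _ (Subtype.ext (sq_one H.grp.1 hyL.1.1))
  exact line_of_toPSU_eq H hp M hU A hyL hzL hy (hact y V hy) (mul_left_cancel (e2.trans e.symm))

/-- The pair is all that centralises it and the members commuting with both. -/
theorem pair_of_fix_common {c : G} (hc : c ∈ J p q) (hfix : ∀ y ∈ Dc (Dc D p) q, Commute c y) :
    c ∈ Subgroup.closure ({p, q} : Set G) := by
  obtain ⟨hk', g, ⟨α, hα0, hα⟩, hg⟩ := exists_rep H hp M hU hc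
  have hact := M.acts_lift H hp ⟨c, hk'⟩ hg.symm
  have hΨ : U6.Semi M.h (RingEquiv.refl M.F) fun u => g • u :=
    ⟨fun x y => ((g : UH M.h) : (Fin 6 → M.F) ≃ₗ[M.F] (Fin 6 → M.F)).map_add x y,
      fun m x => ((g : UH M.h) : (Fin 6 → M.F) ≃ₗ[M.F] (Fin 6 → M.F)).map_smul m x,
      fun x y => U6.isom M.c g x y⟩
  have hfixV : ∀ V, M.Out U V → ∃ m : M.F, m ≠ 0 ∧ g • V = m • V := fun V hV => by
    obtain ⟨y, hy, hyL⟩ := M.pt_of_out H hp hU hV
    exact (M.fix_iff H hp hact hy).1 (mul_inv_eq_iff_eq_mul.2 (hfix y hyL).eq)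
  obtain ⟨-, l, -, hl⟩ := M.fix_classes A hΨ fun V hV => by
    obtain ⟨m, -, e⟩ := hfixV V hV
    exact ⟨m, 0, by rw [zero_smul, add_zero]; exact e⟩
  have hiso : ∀ v : Fin 4 → M.F, v ≠ 0 → ∑ j, M.σ (v j) * v j = 0 →
      g • A.incl v = l • A.incl v := fun v hv0 hv => by
    obtain ⟨m, -, e⟩ := hfixV _ (out_incl M A hv0 hv)
    have := hl v
    simp only [e, map_smul, A.proj_incl] at this
    rw [e, smul_left_injective M.F hv0 this]
  have hU' : g • U = l • U := by
    set v : Fin 4 → M.F := Pi.single 0 1 + Pi.single 1 1 with hv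
    have hv0 : v ≠ 0 := fun e => one_ne_zero (α := M.F) (by simpa [hv] using congrFun e 0)
    have hvv : ∑ j, M.σ (v j) * v j = 0 := by simp [hv, Fin.sum_univ_four, M.c.two]
    have hV := out_incl M A hv0 hvv
    obtain ⟨m, -, e⟩ := hfixV _ (hV.add M hU 1)
    rw [one_smul, hΨ.add, hα, hiso v hv0 hvv] at e
    obtain ⟨e1, e2⟩ := hV.coef hU.ne_zero (s := l - m) (t := α - m) (by
      rw [← sub_eq_zero.2 e]; module)
    rw [hα, sub_eq_zero.1 e2, sub_eq_zero.1 e1]
  refine mem_pair_of_scalar H hp M hU A (k := ⟨c, hc⟩) (g := g) (hk' := hk') hg (a := l) fun x hx => ?_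
  have hincl : ∀ v, g • A.incl v = l • A.incl v := fun v => by
    induction v using induction_iso M with
    | h0 => rw [map_zero, smul_zero (A := Fin 6 → M.F) l]; exact hΨ.map_zero
    | hadd v w hv hw => rw [map_add, hΨ.add, hv, hw, smul_add]
    | hiso v hv0 hv => exact hiso v hv0 hv
  rw [A.decomp hx, hΨ.add, hΨ.smul, hincl, hU', smul_add, smul_comm]
  rfl

end M22

end Cfsg.Agent.Transpos
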