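import Cfsg.Agent.Lib.Transpos.M22Cent
import Cfsg.Agent.Lib.Transpos.M22Class

/-!
# Involutory automorphisms of groups of type M(22) fix a member

If none is fixed every `a` commutes with its image `b`; the classes of twins in the members commuting
with `a` and `b` are all stable, the action on each is a translation by a nonzero field element, and
these translations add along hyperbolic triples, which is impossible.
-/

set_option autoImplicit false

namespace Cfsg.Agent.Transpos

open Cfsg Cfsg.Agent.ClassicalSimple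

namespace U6

variable {F V : Type*} [Field F] [AddCommGroup V] [Module F V]
  {σ : F →+* F} {h : V →ₛₗ[σ] V →ₗ[F] F} (c : Ctx σ h)
include c

/-- A vector perpendicular to `v` with an isotropic partner of scalar product one. -/
theorem exists_partner {k : ℕ} (v : Fin k → V) {X : V} (hX : h X X = 0) (hv : ∀ i, h (v i) X = 0)
    (hout : X ∉ Submodule.span F (Set.range v)) :
    ∃ t, (∀ i, h (v i) t = 0) ∧ h t t = 0 ∧ h X t = 1 := by
  obtain ⟨t, ht, hne⟩ : ∃ t, (∀ i, h (v i) t = 0) ∧ h X t ≠ 0 := by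
    by_contra hall
    push Not at hall
    exact hout (c.mem_span_of_perp v hall)
  set s := (h X t)⁻¹ • t with hs
  have hXs : h X s = 1 := by rw [hs, map_smul, smul_eq_mul, inv_mul_cancel₀ hne]
  have hsX : h s X = 1 := by rw [c.form.swap, hXs, map_one]
  have hsv : ∀ i, h (v i) s = 0 := fun i => by rw [hs, map_smul, ht i, smul_zero]
  by_cases h0 : h s s = 0
  · exact ⟨s, hsv, h0, hXs⟩
  have h1 : h s s = 1 := c.eq_one (c.form.σ_self s) h0
  obtain ⟨o, -, ho, hso, -⟩ := c.exists_omega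
  refine ⟨s + o • X, fun i => by simp [hsv i, hv i], ?_, by simp [hXs, hX]⟩
  simp only [map_add, LinearMap.add_apply, map_smulₛₗ, LinearMap.smul_apply, smul_eq_mul,
    RingHom.id_apply, h1, hsX, hXs, hX, hso, mul_one, mul_zero, add_zero]
  linear_combination ho

/-- A fixed-point-free additive map with translation, squaring to the identity, is a translation. -/
theorem translation_of_fpf (f : F → F) (hadd : ∀ m n, f (m + n) = f m + f n + f 0)
    (hinv : ∀ m, f (f m) = m) (hfp : ∀ m, f m ≠ m) : ∀ m, f m = m + f 0 := by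
  classical
  obtain ⟨o, ho0, ho, -⟩ := c.exists_omega
  intro v
  by_contra hv
  set w := f v + f 0 with hw
  have hwv : w ≠ v := fun e => hv (by linear_combination hw.symm.trans e - c.addF (f 0))
  have hv0 : v ≠ 0 := fun e => hv (by rw [e, zero_add])
  have hfw : f w + f 0 = v := by
    rw [hw, hadd, hinv, hinv, add_zero, add_assoc, c.addF, add_zero]
  have hw0 : w ≠ 0 := fun e => hv0 (by rw [e, c.addF] at hfw; exact hfw.symm)
  have h00 : f 0 + v ≠ 0 ∧ f 0 + w ≠ 0 ∧ f 0 ≠ 0 ∧ f 0 + (v + w) ≠ 0 := by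
    refine ⟨fun e => hwv ?_, fun e => hwv ?_, fun e => hfp 0 e, fun e => hfp v ?_⟩
    · -- `f 0 = v` gives `f v = 0`, so `w = v`
      have e' : f 0 = v := by linear_combination e - c.addF v
      rw [hw, show f v = 0 by rw [← e']; exact hinv 0, e', zero_add]
    · -- `f 0 = w` gives `f w = 0`, so `v = w`
      have e' : f 0 = w := by linear_combination e - c.addF w
      rw [show f w = 0 by rw [← e']; exact hinv 0, e', zero_add] at hfw
      exact hfw
    · rw [hw] at e
      linear_combination e - c.addF (f 0) - c.addF v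
  -- `f 0` is none of the four elements
  have hu : ∀ x y : F, x ≠ 0 → y ≠ 0 → x ≠ y → ∀ z, z = 0 ∨ z = x ∨ z = y ∨ z = x + y := by
    intro x y hx hy hxy z
    have hmul : ∀ {r}, z * x⁻¹ = r → z = r * x := fun e => by rw [← e, inv_mul_cancel_right₀ hx]
    have hy' : y * x⁻¹ = o ∨ y * x⁻¹ = o * o := by
      rcases univ c ho (y * x⁻¹) with h | h | h | h
      · exact absurd ((mul_eq_zero.1 h).resolve_right (inv_ne_zero hx)) hy
      · exact absurd (by rw [← inv_mul_cancel_right₀ hx y, h, one_mul]) hxy.symm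
      · exact Or.inl h
      · exact Or.inr h
    have hyv : y = y * x⁻¹ * x := (inv_mul_cancel_right₀ hx y).symm
    rcases univ c ho (z * x⁻¹) with h | h | h | h <;> rcases hy' with k | k
    all_goals rw [hmul h, hyv, k]
    · exact Or.inl (zero_mul x)
    · exact Or.inl (zero_mul x)
    · exact Or.inr (Or.inl (one_mul x))
    · exact Or.inr (Or.inl (one_mul x))
    · exact Or.inr (Or.inr (Or.inl rfl))
    · exact Or.inr (Or.inr (Or.inr (by linear_combination x * ho - x * (1 + o * o) * c.two)))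
    · exact Or.inr (Or.inr (Or.inr (by linear_combination x * ho - x * (1 + o) * c.two)))
    · exact Or.inr (Or.inr (Or.inl rfl))
  rcases hu v w hv0 hw0 hwv.symm (f 0) with e | e | e | e
  · exact h00.2.2.1 e
  · exact h00.1 (by rw [e, c.addF])
  · exact h00.2.1 (by rw [e, c.addF])
  · exact h00.2.2.2 (by rw [e, c.addF])

end U6

variable {G : Type*} [Group G] {D : Set G} {a b : G}

/-- An involutory automorphism preserving the class moves every member to a commuting one. -/
structure NoFix (D : Set G) (φ : G ≃* G) : Prop where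
  pres : Preserves D φ
  inv : ∀ x, φ (φ x) = x
  moved : ∀ x ∈ D, φ x ≠ x
  comm : ∀ x ∈ D, Commute x (φ x)

namespace Model

variable (M : Model D a)

/-- An isotropic vector of the perp of `U` off `U`. -/
def Out (U V : Fin 6 → M.F) : Prop := M.h U V = 0 ∧ M.h V V = 0 ∧ ∀ m : M.F, V ≠ m • U

/-- `φ` maps the twins over `V` to those over `W` by translation with `t`. -/
def Shift (φ : G → G) (U V W : Fin 6 → M.F) (t : M.F) : Prop :=
  ∀ m y, M.IsPt y (V + m • U) → M.IsPt (φ y) (W + (m + t) • U)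

variable {M}

theorem Out.coef {U V : Fin 6 → M.F} (hU0 : U ≠ 0) (hV : M.Out U V) {s t : M.F}
    (e : s • V + t • U = 0) : s = 0 ∧ t = 0 := by
  by_cases hs : s = 0
  · refine ⟨hs, ?_⟩
    rw [hs, zero_smul, zero_add] at e
    exact (smul_eq_zero.1 e).resolve_right hU0
  · refine absurd ?_ (hV.2.2 (-(s⁻¹ * t)))
    rw [← inv_smul_smul₀ hs V, eq_neg_of_add_eq_zero_left e]
    module

variable (M) (H : M22 D) (ha : a ∈ D) {U : Fin 6 → M.F} (hU : M.IsPt b U)
include M H ha hU

omit H ha in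
theorem Out.add {V : Fin 6 → M.F} (hV : M.Out U V) (m : M.F) : M.Out U (V + m • U) := by
  refine ⟨by simp [hV.1, hU.iso], by simp [hV.1, hV.2.1, hU.iso, M.c.form.comm_zero hV.1],
    fun k e => hV.2.2 (k - m) ?_⟩
  rw [sub_smul, ← e, add_sub_cancel_right]

theorem pt_of_out {V : Fin 6 → M.F} (hV : M.Out U V) :
    ∃ x, M.IsPt x V ∧ x ∈ Dc (Dc D a) b := by
  obtain ⟨x, hx⟩ := M.exists_mem H ha hV.2.1 fun e => hV.2.2 0 (by rw [e, zero_smul])
  refine ⟨x, hx, hx.mem, fun e => ?_, (M.comm_iff H ha hU hx).2 hV.1⟩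
  obtain ⟨m, hm⟩ := M.smul_of_eq hU hx e.symm
  exact hV.2.2 m hm

theorem out_of_mem {x : G} {V : Fin 6 → M.F} (hx : M.IsPt x V) (hL : x ∈ Dc (Dc D a) b) :
    M.Out U V :=
  ⟨(M.comm_iff H ha hU hx).1 hL.2.2, hx.iso, M.ne_of_ne H ha hU hx hL.2.1.symm⟩

theorem mem_of_out {x : G} {V : Fin 6 → M.F} (hx : M.IsPt x V) (hV : M.Out U V) :
    x ∈ Dc (Dc D a) b := by
  refine ⟨hx.mem, fun e => ?_, (M.comm_iff H ha hU hx).2 hV.1⟩
  obtain ⟨m, hm⟩ := M.smul_of_eq hU hx e.symm
  exact hV.2.2 m hm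

theorem line_of_twin {x z : G} {X Z : Fin 6 → M.F} (hx : M.IsPt x X) (hz : M.IsPt z Z)
    (hxL : x ∈ Dc (Dc D a) b) (ht : Twin D a b x z) :
    ∃ m n : M.F, Z = m • U + n • X := by
  refine M.c.mem_line_of_twin hU.iso ((M.comm_iff H ha hU hx).1 hxL.2.2)
    ((M.comm_iff H ha hU hz).1 ht.1.2.2) fun y hy hUy hym hXy => ?_
  obtain ⟨w, hw⟩ := M.exists_mem H ha hy fun e => hym 0 (by rw [e, zero_smul])
  have hwb : w ≠ b := fun e => by
    obtain ⟨m, hm⟩ := M.smul_of_eq hU hw e.symm
    exact hym m hm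
  have hwT : w ∈ Dc (Dc D a) b := ⟨hw.mem, hwb, (M.comm_iff H ha hU hw).2 hUy⟩
  exact (M.comm_iff H ha hz hw).1
    ((ht.2.2.2 w hwT).1 ((M.comm_iff H ha hx hw).2 hXy).symm).symm

/-- The vector over a member in the class of `W` with coefficient `1` is unique. -/
theorem coef_unique {z : G} {W : Fin 6 → M.F} (hW : M.Out U W) {n n' : M.F}
    (h : M.IsPt z (W + n • U)) (h' : M.IsPt z (W + n' • U)) : n = n' := by
  obtain ⟨t, ht⟩ := M.smul_of_eq h h' rfl
  obtain ⟨e1, e2⟩ := hW.coef hU.ne_zero (s := 1 - t) (t := n' - t * n) (by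
    rw [← sub_eq_zero.2 ht]; module)
  rw [← sub_eq_zero.1 e1, one_mul] at e2
  exact (sub_eq_zero.1 e2).symm

theorem vec_unique {z : G} {W W' : Fin 6 → M.F} (hW : M.Out U W) {n n' : M.F}
    (h : M.IsPt z (W + n • U)) (h' : M.IsPt z (W' + n' • U)) (e : W' = W) : n = n' := by
  subst e
  exact M.coef_unique H ha hU hW h h'

variable {φ : G ≃* G} (N : NoFix D φ) (hab : φ a = b)
include N hab

omit hU in
theorem map_mem {x : G} (hx : x ∈ Dc (Dc D a) b) : φ x ∈ Dc (Dc D a) b := by
  have hba : φ b = a := by rw [← hab, N.inv]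
  refine ⟨⟨(N.pres x).2 hx.1.1, fun e => hx.2.1 ?_, ?_⟩, fun e => hx.1.2.1 ?_, ?_⟩
  · rw [← N.inv x, e, hab]
  · rw [← hba]; exact Preserves.commute.2 hx.2.2
  · rw [← N.inv x, e, hba]
  · rw [← hab]; exact Preserves.commute.2 hx.1.2.2

omit hU in
theorem map_twin {x z : G} (ht : Twin D a b x z) : Twin D a b (φ x) (φ z) := by
  refine ⟨M.map_mem H ha N hab ht.1, φ.injective.ne ht.2.1, Preserves.commute.2 ht.2.2.1,
    fun w hw => ?_⟩
  have := ht.2.2.2 _ (M.map_mem H ha N hab hw)
  rw [← Preserves.commute (φ := φ) (x := φ w), ← Preserves.commute (φ := φ) (x := φ w) (y := z),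
    N.inv] at this
  exact this

/-- Twins go to twins. -/
theorem exists_image {x : G} {V W : Fin 6 → M.F} (hx : M.IsPt x V) (hV : M.Out U V)
    (hW : M.IsPt (φ x) W) : M.Out U W ∧
      ∃ g : M.F → M.F, ∀ m y, M.IsPt y (V + m • U) → M.IsPt (φ y) (W + g m • U) := by
  have hxL := M.mem_of_out H ha hU hx hV
  have hWo := M.out_of_mem H ha hU hW (M.map_mem H ha N hab hxL)
  refine ⟨hWo, ?_⟩
  have key : ∀ m : M.F, ∃ n : M.F, ∀ y, M.IsPt y (V + m • U) → M.IsPt (φ y) (W + n • U) := by
    intro m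
    obtain ⟨y, hy, hyL⟩ := M.pt_of_out H ha hU (hV.add M hU m)
    suffices key : ∃ n, M.IsPt (φ y) (W + n • U) by
      obtain ⟨n, hn⟩ := key
      refine ⟨n, fun z hz => ?_⟩
      rw [← M.eq_of_smul H ha hy hz (one_smul _ _).symm]
      exact hn
    by_cases e : y = x
    · exact ⟨0, by rw [e, zero_smul, add_zero]; exact hW⟩
    have hxy : Commute x y := (M.comm_iff H ha hx hy).2 (by
      simp [hV.2.1, M.c.form.comm_zero hV.1])
    have ht : Twin D a b x y := M.twin_of_span H ha hU hx hy hyL.2.2 hxy hyL.2.1 e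
      (m := m) (n := 1) (by rw [one_smul, add_comm])
    have ht' := M.map_twin H ha N hab ht
    obtain ⟨Y, hY⟩ := M.exists_vec H ha ht'.1.1
    obtain ⟨p, q, e'⟩ := M.line_of_twin H ha hU hW hY (M.map_mem H ha N hab hxL) ht'
    have hq : q ≠ 0 := fun h => (M.out_of_mem H ha hU hY ht'.1).2.2 p (by
      rw [e', h, zero_smul, add_zero])
    refine ⟨q⁻¹ * p, ?_⟩
    have := hY.smul (inv_ne_zero hq)
    rwa [e', smul_add, smul_smul, smul_smul, inv_mul_cancel₀ hq, one_smul, add_comm] at this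
  choose g hg using key
  exact ⟨g, hg⟩

/-- Conjugates go to conjugates. -/
theorem image_conj {x z : G} {V Z W Y : Fin 6 → M.F} {m n m' n' : M.F}
    (hV : M.Out U V) (hZ : M.Out U Z) (hW : M.Out U W) (hY : M.Out U Y)
    (hx : M.IsPt x (V + m • U)) (hz : M.IsPt z (Z + n • U))
    (hx' : M.IsPt (φ x) (W + m' • U)) (hz' : M.IsPt (φ z) (Y + n' • U)) :
    M.IsPt (z * x * z⁻¹) (V + M.h Z V • Z + (m + M.h Z V * n) • U) ∧
      M.IsPt (φ (z * x * z⁻¹)) (W + M.h Y W • Y + (m' + M.h Y W * n') • U) := by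
  have key : ∀ {x z : G} {V Z : Fin 6 → M.F} {m n : M.F}, M.Out U V → M.Out U Z →
      M.IsPt x (V + m • U) → M.IsPt z (Z + n • U) →
      M.IsPt (z * x * z⁻¹) (V + M.h Z V • Z + (m + M.h Z V * n) • U) := by
    intro x z V Z m n hV hZ hx hz
    have := M.acts_tv H ha hz x _ hx
    beta_reduce at this
    have e : M.h (Z + n • U) (V + m • U) = M.h Z V := by
      simp [hU.iso, hV.1, M.c.form.comm_zero hZ.1]
    rw [e] at this
    convert this using 1
    module
  refine ⟨key hV hZ hx hz, ?_⟩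
  rw [map_mul, map_mul, map_inv]
  exact key hW hY hx' hz'

omit N hab in
theorem out_conj {V Z : Fin 6 → M.F} (hV : M.Out U V) (hZ : M.Out U Z) (h : M.h Z V ≠ 0) :
    M.Out U (V + M.h Z V • Z) := by
  refine ⟨by simp [hV.1, hZ.1], ?_, fun k e => h ?_⟩
  · have hn := M.c.norm _ h
    simp only [map_add, LinearMap.add_apply, map_smulₛₗ, LinearMap.smul_apply, smul_eq_mul,
      RingHom.id_apply, hV.2.1, hZ.2.1, M.c.form.swap Z V]
    linear_combination (M.σ (M.h Z V) * M.h Z V) * M.c.two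
  · have e' := congrArg (M.h Z) e
    simp only [map_add, map_smul, smul_eq_mul, hZ.2.1, M.c.form.comm_zero hZ.1, mul_zero,
      add_zero] at e'
    exact e'

theorem shift_ne_zero {V : Fin 6 → M.F} {t : M.F} (hV : M.Out U V) (hs : M.Shift φ U V V t) :
    t ≠ 0 := by
  rintro rfl
  obtain ⟨y, hy⟩ := M.pt_of_out H ha hU (hV.add M hU 0)
  have := hs 0 y hy.1
  rw [add_zero] at this
  exact N.moved y hy.2.1.1 (M.eq_of_smul H ha this hy.1 (one_smul _ _).symm)

theorem Shift.scale {V : Fin 6 → M.F} {t s : M.F} (hs : M.Shift φ U V V t) (h0 : s ≠ 0) :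
    M.Shift φ U (s • V) (s • V) (s * t) := by
  intro m y hy
  have h := hy.smul (inv_ne_zero h0)
  rw [smul_add, smul_smul, smul_smul, inv_mul_cancel₀ h0, one_smul] at h
  have h' := (hs _ y h).smul h0
  rw [smul_add, smul_smul, mul_add, ← mul_assoc, mul_inv_cancel₀ h0, one_mul] at h'
  exact h'

theorem Shift.conj {V Z : Fin 6 → M.F} {t u : M.F} (hV : M.Out U V) (hZ : M.Out U Z)
    (hs : M.Shift φ U V V t) (hu : M.Shift φ U Z Z u) :
    M.Shift φ U (V + M.h Z V • Z) (V + M.h Z V • Z) (t + M.h Z V * u) := by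
  intro m y hy
  obtain ⟨x, hx, -⟩ := M.pt_of_out H ha hU (hV.add M hU m)
  obtain ⟨z, hz, -⟩ := M.pt_of_out H ha hU (hZ.add M hU 0)
  obtain ⟨h1, h2⟩ := M.image_conj H ha hU N hab hV hZ hV hZ hx hz (hs m x hx) (hu 0 z hz)
  rw [mul_zero, add_zero] at h1
  rw [zero_add] at h2
  rw [M.eq_of_smul H ha hy h1 (one_smul _ _).symm, ← add_assoc m]
  exact h2

/-- Some class of twins is stable. -/
theorem exists_stable (hb : b ∈ Dc D a) :
    ∃ X x, M.IsPt x X ∧ M.Out U X ∧ ∃ n : M.F, M.IsPt (φ x) (X + n • U) := by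
  obtain ⟨x, hxL⟩ := (H.line a ha).1 b hb
  obtain ⟨X, hX⟩ := M.exists_vec H ha hxL.1
  obtain ⟨Y, hY⟩ := M.exists_vec H ha (M.map_mem H ha N hab hxL).1
  have hXo := M.out_of_mem H ha hU hX hxL
  have hYo := M.out_of_mem H ha hU hY (M.map_mem H ha N hab hxL)
  have hXY : M.h X Y = 0 := (M.comm_iff H ha hX hY).1 (N.comm x hxL.1.1)
  by_cases hspan : ∃ p q : M.F, Y = p • U + q • X
  · obtain ⟨p, q, e⟩ := hspan
    have hq : q ≠ 0 := fun h => hYo.2.2 p (by rw [e, h, zero_smul, add_zero])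
    refine ⟨X, x, hX, hXo, q⁻¹ * p, ?_⟩
    have := hY.smul (inv_ne_zero hq)
    rwa [e, smul_add, smul_smul, smul_smul, inv_mul_cancel₀ hq, one_smul, add_comm] at this
  push Not at hspan
  have hout : ∀ s : M.F, s ≠ 0 → M.Out U (X + s • Y) := fun s hs => by
    refine ⟨by simp [hXo.1, hYo.1], by simp [hXo.2.1, hYo.2.1, hXY, M.c.form.comm_zero hXY],
      fun k e => hspan (s⁻¹ * k) (-s⁻¹) ?_⟩
    rw [← inv_smul_smul₀ hs Y, eq_sub_of_add_eq' e]
    module
  -- the other classes on the line are permuted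
  have himg : ∀ s : M.F, ∃ z, s ≠ 0 → M.IsPt z (X + s • Y) ∧
      ∃ s' : M.F, s' ≠ 0 ∧ ∃ r : M.F, M.IsPt (φ z) (X + s' • Y + r • U) := by
    intro s
    by_cases hs : s = 0
    · exact ⟨x, fun h => absurd hs h⟩
    obtain ⟨z, hz, hzL⟩ := M.pt_of_out H ha hU (hout s hs)
    refine ⟨z, fun _ => ⟨hz, ?_⟩⟩
    obtain ⟨R, hR⟩ := M.exists_vec H ha (M.map_mem H ha N hab hzL).1
    have hRo := M.out_of_mem H ha hU hR (M.map_mem H ha N hab hzL)
    have hRspan : R ∈ Submodule.span M.F (Set.range ![U, X, Y]) := by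
      refine M.c.mem_span_of_perp _ fun t ht => ?_
      by_contra hne
      -- an isotropic vector with the same scalar products
      have tU : M.h U t = 0 := ht 0
      have tX : M.h X t = 0 := ht 1
      have tY : M.h Y t = 0 := ht 2
      obtain ⟨t', hU', hX', hY', hi, hne'⟩ : ∃ t', M.h U t' = 0 ∧ M.h X t' = 0 ∧ M.h Y t' = 0 ∧
          M.h t' t' = 0 ∧ M.h R t' ≠ 0 := by
        by_cases h0 : M.h t t = 0
        · exact ⟨t, tU, tX, tY, h0, hne⟩
        have hRU : M.h U R = 0 := hRo.1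
        have hRX : M.h X R = 0 := by
          have h := (M.comm_iff H ha hY hR).1 (Preserves.commute.2 ((M.comm_iff H ha hX hz).2
            (by simp [hXo.2.1, hXY])))
          have hzy : Commute (φ x) z := (M.comm_iff H ha hY hz).2
            (by simp [hYo.2.1, M.c.form.comm_zero hXY])
          have h' := (Preserves.commute (φ := φ)).2 hzy
          rw [N.inv] at h'
          exact (M.comm_iff H ha hX hR).1 h'
        have hRY : M.h Y R = 0 := (M.comm_iff H ha hY hR).1 (Preserves.commute.2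
          ((M.comm_iff H ha hX hz).2 (by simp [hXo.2.1, hXY])))
        have h1 : M.h t t = 1 := M.c.eq_one (M.c.form.σ_self t) h0
        obtain ⟨o, -, ho, hso, -⟩ := M.c.exists_omega
        set e := M.h R t with he
        have hn := M.c.norm e hne
        refine ⟨t + (o * e) • R, by simp [tU, hRU], by simp [tX, hRX], by simp [tY, hRY], ?_,
          by simp [hR.iso, ← he, hne]⟩
        simp only [map_add, LinearMap.add_apply, map_smulₛₗ, LinearMap.smul_apply, smul_eq_mul,
          RingHom.id_apply, h1, hR.iso, M.c.form.swap R t, ← he, map_mul, hso, mul_zero, add_zero]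
        linear_combination ho + (o + o * o) * hn
      obtain ⟨w, hw⟩ := M.exists_mem H ha hi fun e => hne' (by rw [e, map_zero])
      refine hne' ?_
      by_cases hwb : ∃ m : M.F, t' = m • U
      · obtain ⟨m, hm⟩ := hwb
        rw [hm]; simp [M.c.form.comm_zero hRo.1]
      push Not at hwb
      have hwL := M.mem_of_out H ha hU hw ⟨hU', hi, hwb⟩
      have hwz : Commute (φ w) z := by
        have k1 : Commute (φ w) (φ x) := Preserves.commute.2 ((M.comm_iff H ha hw hX).2
          (M.c.form.comm_zero hX'))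
        have k2 : Commute (φ w) x := by
          have := (Preserves.commute (φ := φ)).2 ((M.comm_iff H ha hw hY).2 (M.c.form.comm_zero hY'))
          rwa [N.inv] at this
        obtain ⟨P, hP⟩ := M.exists_vec H ha (M.map_mem H ha N hab hwL).1
        refine (M.comm_iff H ha hP hz).2 ?_
        simp [(M.comm_iff H ha hP hX).1 k2, (M.comm_iff H ha hP hY).1 k1]
      have h' := (Preserves.commute (φ := φ)).2 hwz
      rw [N.inv] at h'
      exact (M.comm_iff H ha hR hw).1 h'.symm
    rw [Submodule.mem_span_range_iff_exists_fun] at hRspan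
    obtain ⟨g, hg⟩ := hRspan
    simp only [Fin.sum_univ_three, Matrix.cons_val_zero, Matrix.cons_val_one, Matrix.cons_val] at hg
    have back : ∀ {v : Fin 6 → M.F} {q : M.F} {u : G}, M.IsPt u v → q ≠ 0 →
        R = g 0 • U + q • v → M.Out U v → u ∈ Dc (Dc D a) b → φ z = u ∨ Twin D a b u (φ z) := by
      intro v q u hu hq e hvo huL
      by_cases h : φ z = u
      · exact Or.inl h
      · refine Or.inr (M.twin_of_span H ha hU hu hR (M.map_mem H ha N hab hzL).2.2 ?_
          (M.map_mem H ha N hab hzL).2.1 h e)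
        refine (M.comm_iff H ha hu hR).2 ?_
        rw [e]; simp [hvo.2.1, M.c.form.comm_zero hvo.1]
    have hg1 : g 1 ≠ 0 := fun h => by
      -- `φ z` would be a twin of `φ x`, so `z` of `x`
      have hg2 : g 2 ≠ 0 := fun h' => hRo.2.2 (g 0) (by rw [← hg, h, h']; simp)
      rcases back hY hg2 (by rw [← hg, h]; module) hYo (M.map_mem H ha N hab hxL) with e | ht
      · obtain ⟨k, hk⟩ := M.smul_of_eq hX hz (φ.injective e).symm
        exact hspan 0 (s⁻¹ * (k - 1)) (by
          rw [← inv_smul_smul₀ hs Y, eq_sub_of_add_eq' hk]; module)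
      · have ht' := M.map_twin H ha N hab ht
        rw [N.inv, N.inv] at ht'
        obtain ⟨p, q, e⟩ := M.line_of_twin H ha hU hX hz hxL ht'
        exact hspan (s⁻¹ * p) (s⁻¹ * (q - 1)) (by
          rw [← inv_smul_smul₀ hs Y, eq_sub_of_add_eq' e]; module)
    have hg2 : g 2 ≠ 0 := fun h => by
      rcases back hX hg1 (by rw [← hg, h]; module) hXo hxL with e | ht
      · have e' : z = φ x := φ.injective (e.trans (N.inv x).symm)
        obtain ⟨k, hk⟩ := M.smul_of_eq hY hz e'.symm
        refine one_ne_zero (α := M.F) ?_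
        by_contra
        exact hspan 0 (-(s - k)⁻¹) (by
          by_cases hsk : s - k = 0
          · rw [sub_eq_zero.1 hsk, add_eq_right] at hk
            exact absurd hk hX.ne_zero
          · rw [← inv_smul_smul₀ hsk Y, show (s - k) • Y = -X by
              rw [sub_smul, ← hk]; module]
            module)
      · have ht' := M.map_twin H ha N hab ht
        rw [N.inv] at ht'
        obtain ⟨p, q, e⟩ := M.line_of_twin H ha hU hY hz (M.map_mem H ha N hab hxL) ht'
        by_cases hsq : s - q = 0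
        · rw [sub_eq_zero.1 hsq, add_left_inj] at e
          exact hXo.2.2 p e
        · refine hspan ((s - q)⁻¹ * p) (-(s - q)⁻¹) ?_
          rw [← inv_smul_smul₀ hsq Y, show (s - q) • Y = p • U - X by
            rw [sub_smul, eq_sub_of_add_eq' e]; module]
          module
    refine ⟨(g 1)⁻¹ * g 2, mul_ne_zero (inv_ne_zero hg1) hg2, (g 1)⁻¹ * g 0, ?_⟩
    have := hR.smul (inv_ne_zero hg1)
    convert this using 1
    rw [← hg]
    simp only [smul_add, smul_smul, inv_mul_cancel₀ hg1, one_smul]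
    abel
  choose pt hpt using himg
  choose himg' s' hs' r hr using hpt
  -- distinct classes have distinct images
  have hinj : ∀ {s t : M.F} (hs : s ≠ 0) (ht : t ≠ 0), s' s hs = s' t ht → s = t := by
    intro s t hs ht e
    by_contra hne
    have hnz : pt s ≠ pt t := fun h => by
      obtain ⟨k, hk⟩ := M.smul_of_eq (himg' s hs) (himg' t ht) h
      obtain ⟨e1, e2⟩ : k = 1 ∧ k * s = t := by
        by_cases hk1 : k = 1
        · refine ⟨hk1, ?_⟩
          subst hk1
          rw [one_mul]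
          rw [one_smul, add_right_inj] at hk
          exact (smul_left_injective _ hY.ne_zero hk).symm
        · refine absurd ?_ (hspan 0 (-((t - k * s)⁻¹ * (1 - k))))
          by_cases hd : t - k * s = 0
          · exact absurd (by
              have : (1 - k) • X = 0 := by
                rw [← sub_eq_zero.2 hk, sub_eq_zero.1 hd]; module
              exact (sub_eq_zero.1 ((smul_eq_zero.1 this).resolve_right hX.ne_zero)).symm) hk1
          · rw [← inv_smul_smul₀ hd Y, show (t - k * s) • Y = -((1 - k) • X) by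
              rw [eq_neg_iff_add_eq_zero, ← sub_eq_zero.2 hk]; module]
            module
      exact hne (by rw [← e2, e1, one_mul])
    have h1 := hr s hs
    have h2 := hr t ht
    rw [e] at h1
    have ho := hout _ (hs' t ht)
    have hLs := M.mem_of_out H ha hU (himg' s hs) (hout s hs)
    have hLt := M.mem_of_out H ha hU (himg' t ht) (hout t ht)
    have hc : Commute (φ (pt s)) (φ (pt t)) := (M.comm_iff H ha h1 h2).2 (by
      simp [hXo.2.1, hYo.2.1, hXY, M.c.form.comm_zero hXY, hXo.1, hYo.1,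
        M.c.form.comm_zero hXo.1, M.c.form.comm_zero hYo.1, hU.iso])
    have ht' := M.map_twin H ha N hab (M.twin_of_span H ha hU h1 h2
      (M.map_mem H ha N hab hLt).2.2 hc (M.map_mem H ha N hab hLt).2.1 (φ.injective.ne hnz.symm)
      (m := r t ht - r s hs) (n := 1) (by module))
    rw [N.inv, N.inv] at ht'
    obtain ⟨p, q, e'⟩ := M.line_of_twin H ha hU (himg' s hs) (himg' t ht) hLs ht'
    by_cases hd : t - q * s = 0
    · have : (1 - q) • X = p • U := by
        rw [sub_eq_zero.1 hd] at e'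
        linear_combination (norm := module) e'
      by_cases hq : 1 - q = 0
      · rw [sub_eq_zero.1 hd, ← sub_eq_zero.1 hq, one_mul] at hne
        exact hne rfl
      · exact hXo.2.2 ((1 - q)⁻¹ * p) (by rw [← inv_smul_smul₀ hq X, this, smul_smul])
    · refine hspan ((t - q * s)⁻¹ * p) (-((t - q * s)⁻¹ * (1 - q))) ?_
      rw [← inv_smul_smul₀ hd Y, show (t - q * s) • Y = p • U - (1 - q) • X by
        linear_combination (norm := module) e']
      module
  -- an involution on three classes fixes one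
  obtain ⟨s, hs, hfix⟩ : ∃ s, ∃ hs : s ≠ 0, s' s hs = s := by
    by_contra hall
    push Not at hall
    have hsw : ∀ {s} (hs : s ≠ 0), s' (s' s hs) (hs' s hs) = s := by
      intro s hs
      obtain ⟨-, g, hg⟩ := M.exists_image H ha hU N hab (himg' _ (hs' s hs)) (hout _ (hs' s hs))
        (W := X + s' (s' s hs) (hs' s hs) • Y + r _ (hs' s hs) • U) (hr _ (hs' s hs))
      have h1 := hg _ _ (hr s hs)
      rw [N.inv] at h1
      have h2 := himg' s hs
      obtain ⟨k, hk⟩ := M.smul_of_eq h2 h1 rfl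
      set q := s' (s' s hs) (hs' s hs)
      have hcomb : (1 - k) • X + (q - k * s) • Y + (r _ (hs' s hs) + g (r s hs)) • U = 0 := by
        rw [← sub_eq_zero.2 hk]; module
      by_cases hd : q - k * s = 0
      · by_cases hk1 : 1 - k = 0
        · rw [sub_eq_zero.1 hd, ← sub_eq_zero.1 hk1, one_mul]
        · rw [hd, zero_smul, add_zero] at hcomb
          exact absurd (hXo.coef hU.ne_zero hcomb).1 hk1
      · refine absurd ?_ (hspan (-((q - k * s)⁻¹ * (r _ (hs' s hs) + g (r s hs))))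
          (-((q - k * s)⁻¹ * (1 - k))))
        rw [← inv_smul_smul₀ hd Y, show (q - k * s) • Y =
          -((1 - k) • X + (r _ (hs' s hs) + g (r s hs)) • U) by
            rw [eq_neg_iff_add_eq_zero, ← hcomb]; abel]
        module
    obtain ⟨o, ho0, ho, -⟩ := M.c.exists_omega
    have h1 := hs' 1 one_ne_zero
    set p := s' 1 one_ne_zero with hp
    have hp1 : p ≠ 1 := hall 1 one_ne_zero
    have hq0 : (1 : M.F) + p ≠ 0 := fun e => hp1 (by linear_combination e - M.c.addF (1 : M.F))
    have hq := hall (1 + p) hq0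
    have hq1 : s' (1 + p) hq0 ≠ p := fun e => by
      have := hinj hq0 one_ne_zero e
      exact h1 (by linear_combination this)
    have hq2 : s' (1 + p) hq0 ≠ 1 := fun e => by
      have := hinj hq0 h1 (e.trans (hsw one_ne_zero).symm)
      exact one_ne_zero (α := M.F) (by linear_combination this)
    have hq3 := hs' (1 + p) hq0
    rcases U6.univ M.c ho p with e | e | e | e
    · exact h1 e
    · exact hp1 e
    all_goals
      rcases U6.univ M.c ho (s' (1 + p) hq0) with k | k | k | k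
      · exact hq3 k
      · exact hq2 k
      all_goals
        first
          | exact hq1 (k.trans e.symm)
          | exact hq (by rw [k, e]; linear_combination ho - M.c.addF (1 + o) + M.c.addF (0 : M.F))
          | exact hq (by rw [k, e]; linear_combination ho - M.c.addF (1 + o * o))
  exact ⟨X + s • Y, pt s, himg' s hs, hout s hs, r s hs, by
    have := hr s hs; rwa [hfix] at this⟩

/-- Against a stable class every other class shifts. -/
theorem exists_shifts {X x : _} (hx : M.IsPt x X) (hXo : M.Out U X) {n₀ : M.F}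
    (hx' : M.IsPt (φ x) (X + n₀ • U)) :
    (∃ t, M.Shift φ U X X t) ∧ ∀ R, M.Out U R → M.h R X = 1 →
      ∃ R' d, M.Out U R' ∧ M.h R' X = 1 ∧ M.Shift φ U R R' d := by
  obtain ⟨-, g₀, hg₀⟩ := M.exists_image H ha hU N hab hx hXo hx'
  let f : M.F → M.F := fun m => n₀ + g₀ m
  have hf : ∀ m y, M.IsPt y (X + m • U) → M.IsPt (φ y) (X + f m • U) := fun m y hy => by
    have := hg₀ m y hy
    rwa [add_assoc, ← add_smul] at this
  have hfinv : ∀ m, f (f m) = m := fun m => by
    obtain ⟨y, hy, -⟩ := M.pt_of_out H ha hU (hXo.add M hU m)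
    have := hf _ _ (hf m y hy)
    rw [N.inv] at this
    exact M.coef_unique H ha hU hXo this hy
  have hffp : ∀ m, f m ≠ m := fun m e => by
    obtain ⟨y, hy, hyL⟩ := M.pt_of_out H ha hU (hXo.add M hU m)
    have := hf m y hy
    rw [e] at this
    exact N.moved y hyL.1.1 (M.eq_of_smul H ha this hy (one_smul _ _).symm)
  -- normalised images and the rule of addition
  have norm : ∀ R, M.Out U R → M.h R X = 1 → ∃ R', M.Out U R' ∧ M.h R' X = 1 ∧
      ∃ g : M.F → M.F, (∀ m y, M.IsPt y (R + m • U) → M.IsPt (φ y) (R' + g m • U)) ∧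
        ∀ m n, f (m + n) + g 0 = f m + g n := by
    intro R hR hRX
    obtain ⟨y, hy, hyL⟩ := M.pt_of_out H ha hU hR
    obtain ⟨Q, hQ⟩ := M.exists_vec H ha (M.map_mem H ha N hab hyL).1
    have hQo := M.out_of_mem H ha hU hQ (M.map_mem H ha N hab hyL)
    have hne : M.h Q X ≠ 0 := fun e => by
      have hc : Commute (φ y) (φ x) := (M.comm_iff H ha hQ hx').2 (by
        simp [e, M.c.form.comm_zero hQo.1])
      exact one_ne_zero (hRX.symm.trans ((M.comm_iff H ha hy hx).1 (Preserves.commute.1 hc)))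
    have hs : M.σ (M.h Q X)⁻¹ ≠ 0 := fun e => hne (inv_eq_zero.1 ((map_eq_zero _).1 e))
    obtain ⟨R', hR'⟩ : ∃ R', R' = M.σ (M.h Q X)⁻¹ • Q := ⟨_, rfl⟩
    obtain ⟨hR'o, g, hg⟩ := M.exists_image H ha hU N hab hy hR (hR'.symm ▸ hQ.smul hs)
    have hR'X : M.h R' X = 1 := by
      rw [hR', map_smulₛₗ, LinearMap.smul_apply, smul_eq_mul, M.c.form.invol,
        inv_mul_cancel₀ hne]
    refine ⟨R', hR'o, hR'X, g, hg, fun m n => ?_⟩
    obtain ⟨u, hu, -⟩ := M.pt_of_out H ha hU (hXo.add M hU m)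
    obtain ⟨v, hv, -⟩ := M.pt_of_out H ha hU (hR.add M hU n)
    obtain ⟨u', hu', -⟩ := M.pt_of_out H ha hU (hXo.add M hU (m + n))
    obtain ⟨v', hv', -⟩ := M.pt_of_out H ha hU (hR.add M hU 0)
    obtain ⟨h1, h2⟩ := M.image_conj H ha hU N hab hXo hR hXo hR'o hu hv (hf m u hu) (hg n v hv)
    obtain ⟨k1, k2⟩ := M.image_conj H ha hU N hab hXo hR hXo hR'o hu' hv' (hf _ u' hu')
      (hg 0 v' hv')
    simp only [hRX, hR'X, one_mul, one_smul, add_zero] at h1 h2 k1 k2
    rw [M.eq_of_smul H ha h1 k1 (one_smul _ _).symm] at h2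
    refine M.coef_unique H ha hU ?_ k2 h2
    have := M.out_conj H ha hU hXo hR'o (by rw [hR'X]; exact one_ne_zero)
    rwa [hR'X, one_smul] at this
  obtain ⟨Z, hZ⟩ : ∃ Z, M.Out U Z ∧ M.h Z X = 1 := by
    obtain ⟨Z, hZU, hZZ, hXZ⟩ := U6.exists_partner M.c ![U] hXo.2.1
      (fun i => by fin_cases i; exact hXo.1) (fun h => by
        rw [Matrix.range_cons, Matrix.range_empty, Set.union_empty,
          Submodule.mem_span_singleton] at h
        obtain ⟨m, hm⟩ := h
        exact hXo.2.2 m hm.symm)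
    refine ⟨Z, ⟨hZU 0, hZZ, fun m e => ?_⟩, by rw [M.c.form.swap, hXZ, map_one]⟩
    rw [e, map_smul, M.c.form.comm_zero hXo.1, smul_zero] at hXZ
    exact zero_ne_one hXZ
  obtain ⟨Z', -, -, g, -, hrule⟩ := norm Z hZ.1 hZ.2
  have htr := U6.translation_of_fpf M.c f (fun m n => by
    have h1 := hrule m n
    have h2 := hrule 0 n
    rw [zero_add] at h2
    linear_combination h1 - h2 - f 0 * M.c.two) hfinv hffp
  refine ⟨⟨f 0, fun m y hy => htr m ▸ hf m y hy⟩, fun R hR hRX => ?_⟩
  obtain ⟨R', hR'o, hR'X, g, hg, hrule⟩ := norm R hR hRX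
  refine ⟨R', g 0, hR'o, hR'X, fun m y hy => ?_⟩
  have h := hrule 0 m
  rw [zero_add, htr m, add_right_comm, add_comm (m + g 0) (f 0)] at h
  rw [add_left_cancel h]
  exact hg m y hy

/-- Shifting classes keep their scalar products. -/
theorem scalar_eq {R S R' S' : Fin 6 → M.F} {d e : M.F} (hR : M.Out U R) (hS : M.Out U S)
    (hR' : M.Out U R') (hS' : M.Out U S') (hd : M.Shift φ U R R' d) (he : M.Shift φ U S S' e)
    (hne : M.h S R ≠ 0) : M.h S' R' = M.h S R := by
  obtain ⟨x, hx, -⟩ := M.pt_of_out H ha hU (hR.add M hU (M.h S R))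
  obtain ⟨z, hz, -⟩ := M.pt_of_out H ha hU (hS.add M hU 1)
  obtain ⟨x₀, hx₀, -⟩ := M.pt_of_out H ha hU (hR.add M hU 0)
  obtain ⟨z₀, hz₀, -⟩ := M.pt_of_out H ha hU (hS.add M hU 0)
  have hne' : M.h S' R' ≠ 0 := fun e' => by
    have hc : Commute (φ z₀) (φ x₀) := (M.comm_iff H ha (he 0 z₀ hz₀) (hd 0 x₀ hx₀)).2 (by
      simp [e', hR'.1, hU.iso, M.c.form.comm_zero hS'.1])
    have := (M.comm_iff H ha hz₀ hx₀).1 (Preserves.commute.1 hc)
    simp only [zero_smul, add_zero] at this
    exact hne this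
  obtain ⟨h1, h2⟩ := M.image_conj H ha hU N hab hR hS hR' hS' hx hz (hd _ x hx) (he 1 z hz)
  obtain ⟨k1, k2⟩ := M.image_conj H ha hU N hab hR hS hR' hS' hx₀ hz₀ (hd 0 x₀ hx₀) (he 0 z₀ hz₀)
  rw [M.eq_of_smul H ha h1 k1 (m := 1) (by
    rw [one_smul, mul_one, mul_zero, add_zero, M.c.addF])] at h2
  have := M.coef_unique H ha hU (M.out_conj H ha hU hR' hS' hne') h2 k2
  linear_combination this - M.h S R * M.c.two

/-- All classes seen from a stable one are stable. -/
theorem stable_of_shifts {X : Fin 6 → M.F} (hXo : M.Out U X)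
    (hsh : ∀ R, M.Out U R → M.h R X = 1 → ∃ R' d, M.Out U R' ∧ M.h R' X = 1 ∧ M.Shift φ U R R' d)
    {R : Fin 6 → M.F} (hR : M.Out U R) (hRX : M.h R X = 1) : ∃ t, M.Shift φ U R R t := by
  obtain ⟨R', d, hR', hR'X, hd⟩ := hsh R hR hRX
  have sym : ∀ {V W : Fin 6 → M.F} {t}, M.Out U V → M.Shift φ U V W t →
      M.Shift φ U W V t := fun {V W t} hV hs n y hy => by
    obtain ⟨x, hx, -⟩ := M.pt_of_out H ha hU (hV.add M hU (n + t))
    have h := hs _ x hx
    rw [add_assoc, M.c.addF, add_zero] at h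
    rw [M.eq_of_smul H ha hy h (one_smul _ _).symm, N.inv]
    exact hx
  have orth : ∀ {V W : Fin 6 → M.F} {t}, M.Out U V → M.Out U W → M.Shift φ U V W t →
      M.h V W = 0 := fun {V W t} hV hW hs => by
    obtain ⟨y, hy, hyL⟩ := M.pt_of_out H ha hU (hV.add M hU 0)
    have := (M.comm_iff H ha hy (hs 0 y hy)).1 (N.comm y hyL.1.1)
    simpa [M.c.form.comm_zero hV.1] using this
  have hXR : M.h X R = 1 := by rw [M.c.form.swap, hRX, map_one]
  have hRR' := orth hR hR' hd
  set Δ := R + R' with hΔ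
  have hUΔ : M.h U Δ = 0 := by simp [hΔ, hR.1, hR'.1]
  have hRΔ : M.h R Δ = 0 := by simp [hΔ, hR.2.1, hRR']
  have hXΔ : M.h X Δ = 0 := by
    rw [hΔ, map_add, hXR, M.c.form.swap R' X, hR'X, map_one, M.c.addF]
  have hΔΔ : M.h Δ Δ = 0 := by
    simp [hΔ, hR.2.1, hR'.2.1, hRR', M.c.form.comm_zero hRR']
  by_cases hin : Δ ∈ Submodule.span M.F (Set.range ![U, X, R])
  · rw [Submodule.mem_span_range_iff_exists_fun] at hin
    obtain ⟨g, hg⟩ := hin
    simp only [Fin.sum_univ_three, Matrix.cons_val_zero, Matrix.cons_val_one, Matrix.cons_val] at hg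
    have h1 : g 1 = 0 := by
      have := congrArg (M.h R) hg
      simpa [hRΔ, hRX, hR.2.1, M.c.form.comm_zero hR.1] using this
    have h2 : g 2 = 0 := by
      have := congrArg (M.h X) hg
      simpa [hXΔ, hXR, hXo.2.1, M.c.form.comm_zero hXo.1] using this
    rw [h1, h2, zero_smul, zero_smul, add_zero, add_zero] at hg
    refine ⟨d + g 0, fun m y hy => ?_⟩
    have e : R' + (m + d) • U = R + (m + (d + g 0)) • U := by
      have e' : R' = R + g 0 • U := by rw [hg, hΔ, ← add_assoc, M.c.addV, zero_add]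
      rw [e']; module
    exact e ▸ hd m y hy
  exfalso
  obtain ⟨t, ht, htt, hΔt⟩ := U6.exists_partner M.c ![U, X, R] hΔΔ
    (fun i => by fin_cases i <;> assumption) hin
  have htU : M.h U t = 0 := ht 0
  have htX : M.h X t = 0 := ht 1
  have htR : M.h R t = 0 := ht 2
  obtain ⟨o, ho0, ho, hso, hso2⟩ := M.c.exists_omega
  set S := R + X + o • t with hSdef
  have hS : M.Out U S := by
    refine ⟨by simp [hSdef, hR.1, hXo.1, htU], by
      simp [hSdef, hR.2.1, hXo.2.1, hRX, hXR, htt, htX, htR, M.c.form.comm_zero htX,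
        M.c.form.comm_zero htR, M.c.addF], fun m e => ?_⟩
    have e' := congrArg (M.h X) e
    simp [hSdef, hXR, hXo.2.1, htX, M.c.form.comm_zero hXo.1] at e'
  have hSX : M.h S X = 1 := by
    simp [hSdef, hRX, hXo.2.1, M.c.form.comm_zero htX]
  obtain ⟨S', e, hS', hS'X, he⟩ := hsh S hS hSX
  have hSR : M.h S R = 1 := by
    simp [hSdef, hR.2.1, hXR, M.c.form.comm_zero htR]
  have hR'eq : R' = R + Δ := by rw [hΔ, ← add_assoc, M.c.addV, zero_add]
  have hSΔ : M.h S Δ = o * o := by
    rw [hSdef]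
    simp [hRΔ, hXΔ, hso, M.c.form.swap Δ t, hΔt]
  have hSR' : M.h S R' = o := by
    rw [hR'eq, map_add, hSR, hSΔ]
    linear_combination ho - o * M.c.two
  have hδ : M.h S' R' = 1 := by
    rw [M.scalar_eq H ha hU N hab hR hS hR' hS' hd he (by rw [hSR]; exact one_ne_zero), hSR]
  have hS'R : M.h S' R = o := by
    rw [M.scalar_eq H ha hU N hab hR' hS hR hS' (sym hR hd) he (by rw [hSR']; exact ho0), hSR']
  -- the conjugate commutes with its image
  obtain ⟨x, hx, -⟩ := M.pt_of_out H ha hU (hR.add M hU 0)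
  obtain ⟨z, hz, hzL⟩ := M.pt_of_out H ha hU (hS.add M hU 0)
  obtain ⟨h1, h2⟩ := M.image_conj H ha hU N hab hR hS hR' hS' hx hz (hd 0 x hx) (he 0 z hz)
  have hc := (M.comm_iff H ha h1 h2).1 (N.comm _ (H.grp.2.1 z x hx.mem.1))
  have hSS' := orth hS hS' he
  have hRS' : M.h R S' = o * o := by rw [M.c.form.swap S' R, hS'R, hso]
  rw [hSR, hδ] at hc
  simp [hRR', hSS', hRS', hSR', hU.iso, hR'.1, hS'.1, M.c.form.comm_zero hR.1,
    M.c.form.comm_zero hS.1] at hc
  exact one_ne_zero (α := M.F) (by linear_combination ho - hc)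

/-- Translations adding along hyperbolic triples do not exist. -/
theorem false_of_stable {X : Fin 6 → M.F} (hXo : M.Out U X) {p : M.F} (hp : M.Shift φ U X X p)
    (hst : ∀ R, M.Out U R → M.h R X = 1 → ∃ t, M.Shift φ U R R t) : False := by
  have hspanU : ∀ {k : M.F}, X ≠ k • U := fun {k} => hXo.2.2 k
  obtain ⟨Z, hZU', hZZ, hXZ⟩ := U6.exists_partner M.c ![U] hXo.2.1
    (fun i => by fin_cases i; exact hXo.1) (fun h => by
      rw [Matrix.range_cons, Matrix.range_empty, Set.union_empty,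
        Submodule.mem_span_singleton] at h
      obtain ⟨m, hm⟩ := h
      exact hspanU hm.symm)
  have hUZ : M.h U Z = 0 := hZU' 0
  have hZX : M.h Z X = 1 := by rw [M.c.form.swap, hXZ, map_one]
  have outOf : ∀ {V}, M.h U V = 0 → M.h V V = 0 → M.h X V ≠ 0 → M.Out U V := fun {V} h1 h2 h3 =>
    ⟨h1, h2, fun m e => h3 (by rw [e, map_smul, M.c.form.comm_zero hXo.1, smul_zero])⟩
  have hZo := outOf hUZ hZZ (by rw [hXZ]; exact one_ne_zero)
  obtain ⟨q, hq⟩ := hst Z hZo hZX
  have hpq := hq.conj M H ha hU N hab hZo hXo hp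
  have hp0 := M.shift_ne_zero H ha hU N hab hXo hp
  have hq0 := M.shift_ne_zero H ha hU N hab hZo hq
  have hpq0 : q + p ≠ 0 := by
    rw [hXZ, one_mul] at hpq
    refine M.shift_ne_zero H ha hU N hab ?_ hpq
    exact outOf (by simp [hUZ, hXo.1]) (by simp [hZZ, hXZ, hZX, hXo.2.1, M.c.addF])
      (by simp [hXZ, hXo.2.1])
  -- the ratio is a primitive cube root of one
  obtain ⟨o, hqo⟩ : ∃ o, q = o * p := ⟨q * p⁻¹, (inv_mul_cancel_right₀ hp0 q).symm⟩
  have ho1 : o ≠ 1 := fun e => hpq0 (by rw [hqo, e, one_mul, M.c.addF])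
  have ho0 : o ≠ 0 := fun e => hq0 (by rw [hqo, e, zero_mul])
  have ho : o * o + o + 1 = 0 :=
    (mul_eq_zero.1 (show (o - 1) * (o * o + o + 1) = 0 by
      linear_combination M.c.cube o ho0)).resolve_left (sub_ne_zero.2 ho1)
  have hso : M.σ o = o * o := U6.sigma_sq M.c o
  have hso2 : M.σ (o * o) = o := by rw [map_mul, hso]; linear_combination o * M.c.cube o ho0
  obtain ⟨Y, hUY, hXY, hW, hYY⟩ := M.c.exists_aniso_perp_three (u := U) (w := X) (y := X + o • Z)
    (by
      simp only [map_add, LinearMap.add_apply, map_smulₛₗ, LinearMap.smul_apply, smul_eq_mul,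
        RingHom.id_apply, hXo.2.1, hXZ, hZX, hZZ, hso, mul_one, mul_zero, add_zero, zero_add]
      intro e
      exact one_ne_zero (α := M.F) (by linear_combination ho - e))
  have hZY : M.h Z Y = 0 := by
    simp [hXY, hso, ho0] at hW
    exact hW
  have hYX := M.c.form.comm_zero hXY
  have hYZ := M.c.form.comm_zero hZY
  let T : M.F → M.F → Fin 6 → M.F := fun α β => α • X + β • Z + Y
  have hT : ∀ α β, M.h X (T α β) = β ∧ M.h Z (T α β) = α ∧ M.h U (T α β) = 0 ∧
      M.h (T α β) (T α β) = M.σ α * β + M.σ β * α + 1 ∧ M.h (T α β) X = M.σ β := fun α β => by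
    simp [T, hXo.2.1, hZZ, hXZ, hZX, hXY, hZY, hYX, hYZ, hYY, hUY, hUZ, hXo.1]
  have stT : ∀ {α β}, β ≠ 0 → M.h (T α β) (T α β) = 0 →
      M.Out U (T α β) ∧ ∃ t, M.Shift φ U (T α β) (T α β) t := by
    intro α β hβ hi
    obtain ⟨k1, -, k3, -, k5⟩ := hT α β
    have ho' := outOf k3 hi (by rw [k1]; exact hβ)
    refine ⟨ho', ?_⟩
    have hβσ : M.σ β ≠ 0 := fun e => hβ ((map_eq_zero _).1 e)
    have e : M.h (β⁻¹ • T α β) X = 1 := by
      rw [map_smulₛₗ, LinearMap.smul_apply, k5, smul_eq_mul, map_inv₀, inv_mul_cancel₀ hβσ]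
    obtain ⟨t, ht⟩ := hst _ (outOf (by simp [k3]) (by simp [hi])
      (by simp [k1, hβ])) e
    refine ⟨β * t, ?_⟩
    have := ht.scale M H ha hU N hab hβ
    rwa [smul_smul, mul_inv_cancel₀ hβ, one_smul] at this
  have stepX : ∀ {α β v}, M.Out U (T α β) → M.Shift φ U (T α β) (T α β) v →
      M.Shift φ U (T (α + β) β) (T (α + β) β) (v + β * p) := by
    intro α β v ho' hs
    have := hs.conj M H ha hU N hab ho' hXo hp
    rw [(hT α β).1] at this
    rwa [show T (α + β) β = T α β + β • X by simp only [T]; module]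
  have stepZ : ∀ {α β v}, M.Out U (T α β) → M.Shift φ U (T α β) (T α β) v →
      M.Shift φ U (T α (β + α)) (T α (β + α)) (v + α * q) := by
    intro α β v ho' hs
    have := hs.conj M H ha hU N hab ho' hZo hq
    rw [(hT α β).2.1] at this
    rwa [show T α (β + α) = T α β + α • Z by simp only [T]; module]
  have hoo : o * o ≠ 0 := mul_ne_zero ho0 ho0
  have e1 : o * o + 1 = o := by linear_combination ho - o * M.c.two
  have e2 : (1 : M.F) + o = o * o := by linear_combination ho - o * o * M.c.two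
  have e3 : o + o * o = 1 := by linear_combination ho - M.c.two
  have iso : ∀ α β, M.σ α * β + M.σ β * α + 1 = 0 → M.h (T α β) (T α β) = 0 :=
    fun α β h => (hT α β).2.2.2.1.trans h
  obtain ⟨o₁, v, s₁⟩ := stT (α := o * o) one_ne_zero (iso _ _ (by
    rw [map_one, hso2]; linear_combination ho))
  have o₂ := (stT (α := o) one_ne_zero (iso _ _ (by
    rw [map_one, hso]; linear_combination ho))).1
  have s₂ : M.Shift φ U (T o 1) (T o 1) (v + p) := by
    have := stepX o₁ s₁; rwa [e1, one_mul] at this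
  have o₃ := (stT (α := o) hoo (iso _ _ (by
    rw [hso, hso2]; linear_combination (o * o - o + 1) * ho + o * o * M.c.two - M.c.two * (o * o)))).1
  have s₃ : M.Shift φ U (T o (o * o)) (T o (o * o)) (v + o * p) := by
    have := stepZ o₂ s₂
    rw [e2, hqo, ← mul_assoc, show v + p + o * o * p = v + o * p by
      linear_combination p * ho - o * p * M.c.two] at this
    exact this
  have o₄ := (stT (α := (1 : M.F)) hoo (iso _ _ (by
    rw [map_one, hso2]; linear_combination ho))).1
  have s₄ : M.Shift φ U (T 1 (o * o)) (T 1 (o * o)) (v + p) := by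
    have := stepX o₃ s₃
    rw [e3, show v + o * p + o * o * p = v + p by linear_combination p * ho - p * M.c.two] at this
    exact this
  have o₅ := (stT (α := (1 : M.F)) ho0 (iso _ _ (by
    rw [map_one, hso]; linear_combination ho))).1
  have s₅ : M.Shift φ U (T 1 o) (T 1 o) (v + o * o * p) := by
    have := stepZ o₄ s₄
    rw [e1, one_mul, hqo, show v + p + o * p = v + o * o * p by
      linear_combination p * ho - o * o * p * M.c.two] at this
    exact this
  have nz : ∀ {α β w}, M.Out U (T α β) → M.Shift φ U (T α β) (T α β) w → w ≠ 0 :=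
    fun h h' => M.shift_ne_zero H ha hU N hab h h'
  have hvv : v = v * p⁻¹ * p := (inv_mul_cancel_right₀ hp0 v).symm
  rcases U6.univ M.c ho (v * p⁻¹) with k | k | k | k
  · exact nz o₁ s₁ (by rw [hvv, k, zero_mul])
  · exact nz o₂ s₂ (by rw [hvv, k, one_mul, M.c.addF])
  · exact nz o₃ s₃ (by rw [hvv, k, M.c.addF])
  · exact nz o₅ s₅ (by rw [hvv, k, M.c.addF])

end Model

namespace M22

variable (H : M22 D)
include H

/-- An involutory automorphism preserving the class fixes a member. -/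
theorem exists_fixed_of_involutory [Nonempty D] {φ : G ≃* G} (hφ : Preserves D φ)
    (hinv : ∀ x, φ (φ x) = x) : ∃ d ∈ D, φ d = d := by
  by_contra hno
  push Not at hno
  have hcomm : ∀ x ∈ D, Commute x (φ x) := by
    intro x hx
    by_contra hc
    have hxD := (hφ x).2 hx
    refine hno (x * φ x * x) (H.tr.conj x hx _ hxD) ?_
    rw [map_mul, map_mul, hinv]
    exact (braid H.grp.1 hx hxD hc).symm
  have N : NoFix D φ := ⟨hφ, hinv, hno, hcomm⟩
  obtain ⟨⟨a, ha⟩⟩ := ‹Nonempty D›
  have hb : φ a ∈ Dc D a := ⟨(hφ a).2 ha, hno a ha, hcomm a ha⟩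
  obtain ⟨M⟩ := (H.model a ha).2
  obtain ⟨U, hU⟩ := M.exists_vec H ha hb
  obtain ⟨X, x, hx, hXo, n₀, hx'⟩ := M.exists_stable H ha hU N rfl hb
  obtain ⟨⟨p, hp⟩, hsh⟩ := M.exists_shifts H ha hU N rfl hx hXo hx'
  exact M.false_of_stable H ha hU N rfl hXo hp fun R hR hRX =>
    M.stable_of_shifts H ha hU N rfl hXo hsh hR hRX

end M22

end Cfsg.Agent.Transpos
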