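import Cfsg.Agent.Lib.Transpos.M22Short

/-!
# Every group of type M(22) has connected commuting graph

Otherwise the group generated by one component `B`, modulo its centre, is a connected group of type
M(22), so perfect; hence some element centralising `B` moves the other components like a member.
This gives an injective map of another component into `B` commuting with the action, forcing
members of two components to commute.
-/

set_option autoImplicit false

namespace Cfsg.Agent.Transpos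

open Cfsg Cfsg.Agent.ClassicalSimple
open scoped commutatorElement

variable {G : Type*} [Group G] {D : Set G}

/-- The quotient of the unitary group by its centre has trivial centre. -/
theorem Model.eq_one_of_central {a : G} (M : Model D a) (p : SUH M.h ⧸ Subgroup.center (SUH M.h))
    (hp : ∀ r, Commute p r) : p = 1 := by
  obtain ⟨g, rfl⟩ := QuotientGroup.mk_surjective p
  obtain ⟨l, hl1, hl⟩ := unitary_scalar_of_sameLine M.c.form (by rw [M.c.dim]; norm_num) (g : UH M.h)
    fun v hv0 hv => by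
      have hgv : M.h (g • v) (g • v) = 0 := by rw [U6.isom M.c, hv]
      have hgv0 : g • v ≠ 0 := fun e => hv0 (by
        rw [← inv_smul_smul g v, e]
        exact ((g⁻¹ : SUH M.h) : UH M.h).1.map_zero)
      have e : U6.pt M.c v hv = U6.pt M.c (g • v) hgv := by
        have h1 := congrArg (QuotientGroup.mk' (Subgroup.center (SUH M.h))) (U6.tv_conj M.c g hv)
        rw [map_mul, map_mul, map_inv] at h1
        refine Eq.trans ?_ h1
        change _ = (QuotientGroup.mk g : SUH M.h ⧸ Subgroup.center (SUH M.h)) * U6.pt M.c v hv *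
          (QuotientGroup.mk g)⁻¹
        rw [(hp _).eq, mul_inv_cancel_right]
      obtain ⟨m, hm⟩ := U6.pt_eq_imp M.c hv hgv hgv0 e
      exact ⟨m, hm.symm⟩
  exact (U6.proj_eq_one_iff M.c g).2 ⟨l, hl1, hl⟩

/-- A component with an element centralising it that moves the others like a member does not exist
beside another component. -/
theorem false_of_mover [Finite G] (hD : IsThreeTranspositionGroup D) (hT : Fischer.TClass D)
    {a y₀ : G} (ha : a ∈ D) {B : Set G} (hB : B = Fischer.block D a) (hy₀ : y₀ ∈ D) (hy₀B : y₀ ∉ B)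
    (hn : ∃ n ∈ ⁅Subgroup.closure B, Subgroup.closure B⁆, ∀ v ∈ B, Commute (n⁻¹ * a) v)
    (htrans : ∀ u ∈ B, ∀ v ∈ B, ∃ g ∈ Subgroup.closure B, g * u * g⁻¹ = v)
    (hpair : ∀ v ∈ B, (Dc D v).Nonempty) : False := by
  subst hB
  set B := Fischer.block D a
  have hBD : ∀ {v}, v ∈ B → v ∈ D := fun h => Fischer.block_subset ha h
  have hblock : ∀ {v}, v ∈ B → Fischer.block D v = B := fun h => Fischer.block_eq ha h
  have hsub : ∀ {v w}, v ∈ B → w ∈ D → Commute v w → w ∈ B := fun {v w} hv hw hc => by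
    rw [← hblock hv]
    exact Relation.ReflTransGen.single ⟨hw, hc⟩
  -- members of `B` move the components equally
  have hmv : ∀ {x}, x ∈ B → ∀ v ∈ D,
      Fischer.block D (x * v * x) = Fischer.block D (a * v * a) := by
    intro x hx
    have h' : Relation.ReflTransGen (Fischer.CAdj D) a x := hx
    induction h' with
    | refl => exact fun v _ => rfl
    | @tail p q hp hs ih =>
      intro v hv
      rw [← ih (show p ∈ B from hp) v hv]
      exact (Fischer.commute_act_eq hT (hBD (show p ∈ B from hp)) hs.1 hs.2 hv).symm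
  let act : G → Set G → Set G := fun g S => (fun w => g * w * g⁻¹) '' S
  have act_block : ∀ g v, act g (Fischer.block D v) = Fischer.block D (g * v * g⁻¹) :=
    fun g v => Fischer.block_conj hT g v
  let E : G → Prop := fun g => ∀ v ∈ D, Fischer.block D (g * v * g⁻¹) = Fischer.block D v
  let O : G → Prop := fun g => ∀ v ∈ D, Fischer.block D (g * v * g⁻¹) = Fischer.block D (a * v * a)
  have ha' : a⁻¹ = a := hT.toTSet.inv_eq ha
  have OO : ∀ {g k}, O g → O k → E (g * k) := fun {g k} hg hk v hv => by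
    rw [show g * k * v * (g * k)⁻¹ = g * (k * v * k⁻¹) * g⁻¹ by group, ← act_block, hk v hv,
      act_block, hg _ (hT.toTSet.conj_mem ha hv), Fischer.invol_conj_invol (hT.sq a ha)]
  have OE : ∀ {g k}, O g → E k → O (g * k) := fun {g k} hg hk v hv => by
    rw [show g * k * v * (g * k)⁻¹ = g * (k * v * k⁻¹) * g⁻¹ by group, ← act_block, hk v hv,
      act_block, hg v hv]
  have EO : ∀ {g k}, E g → O k → O (g * k) := fun {g k} hg hk v hv => by
    rw [show g * k * v * (g * k)⁻¹ = g * (k * v * k⁻¹) * g⁻¹ by group, ← act_block, hk v hv,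
      act_block, hg _ (hT.toTSet.conj_mem ha hv)]
  have EE : ∀ {g k}, E g → E k → E (g * k) := fun {g k} hg hk v hv => by
    rw [show g * k * v * (g * k)⁻¹ = g * (k * v * k⁻¹) * g⁻¹ by group, ← act_block, hk v hv,
      act_block, hg v hv]
  have hOB : ∀ {x}, x ∈ B → O x := fun {x} hx v hv => by
    rw [hT.toTSet.inv_eq (hBD hx)]
    exact hmv hx v hv
  have hci : ∀ g v, v ∈ D → g⁻¹ * v * g⁻¹⁻¹ ∈ D := fun g v hv => hT.conj g⁻¹ v hv
  have EI : ∀ {g}, E g → E g⁻¹ := fun {g} hg v hv => by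
    have := hg _ (hci g v hv)
    rw [show g * (g⁻¹ * v * g⁻¹⁻¹) * g⁻¹ = v by group] at this
    exact this.symm
  have OI : ∀ {g}, O g → O g⁻¹ := fun {g} hg v hv => by
    have := hg _ (hci g v hv)
    rw [show g * (g⁻¹ * v * g⁻¹⁻¹) * g⁻¹ = v by group] at this
    have h' := congrArg (act a) this
    rw [act_block, act_block, ha', Fischer.invol_conj_invol (hT.sq a ha)] at h'
    exact h'.symm
  have heven : ∀ g ∈ Subgroup.closure B, E g ∨ O g := by
    intro g hg
    induction hg using Subgroup.closure_induction with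
    | mem x hx => exact Or.inr (hOB hx)
    | one => exact Or.inl fun v _ => by simp
    | mul g k _ _ hg hk =>
      rcases hg with hg | hg <;> rcases hk with hk | hk
      exacts [Or.inl (EE hg hk), Or.inr (EO hg hk), Or.inr (OE hg hk), Or.inl (OO hg hk)]
    | inv g _ hg => exact hg.imp EI OI
  obtain ⟨n, hn, hz⟩ := hn
  let N : Subgroup G :=
    { carrier := {g | E g}
      one_mem' := fun v _ => by simp
      mul_mem' := EE
      inv_mem' := EI }
  have hnE : E n := (Subgroup.commutator_le.2 fun g hg k hk => show E ⁅g, k⁆ from by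
    rw [commutatorElement_def]
    rcases heven g hg with h | h <;> rcases heven k hk with h' | h'
    exacts [EE (EE (EE h h') (EI h)) (EI h'), OO (OE (EO h h') (EI h)) (OI h'),
      EE (OO (OE h h') (OI h)) (EI h'), OO (EO (OO h h') (OI h)) (OI h') ] :
      ⁅Subgroup.closure B, Subgroup.closure B⁆ ≤ N) hn
  set z := n⁻¹ * a
  have hzmove : O z := EO (EI hnE) (hOB (Fischer.block_mem_self a))
  -- the map into `B`
  let f : G → G := fun y => y * (z * y * z⁻¹) * y
  set B₂ := Fischer.block D y₀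
  have hf : ∀ y ∈ B₂, f y ∈ B ∧ ¬ Commute y a := by
    intro y hy
    have hyD : y ∈ D := Fischer.block_subset hy₀ hy
    have hyB : y ∉ B := fun h => hy₀B (by
      rw [← hblock h, Fischer.block_eq hy₀ hy]
      exact Fischer.block_mem_self _)
    have hya : ¬ Commute y a := fun h => hyB (hsub (Fischer.block_mem_self a) hyD h.symm)
    refine ⟨?_, hya⟩
    have h1 : z * y * z⁻¹ ∈ Fischer.block D (a * y * a) := hzmove y hyD ▸ Fischer.block_mem_self _
    have h2 : (fun w => y * w * y⁻¹) (z * y * z⁻¹) ∈ act y (Fischer.block D (a * y * a)) :=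
      ⟨_, h1, rfl⟩
    rw [act_block, hT.toTSet.inv_eq hyD, hT.toTSet.braid ha hyD fun h => hya h.symm,
      Fischer.invol_conj_invol (hT.sq y hyD)] at h2
    simpa only [hT.toTSet.inv_eq hyD] using h2
  have hzK : ∀ g ∈ Subgroup.closure B, Commute z g := fun g hg =>
    (Subgroup.mem_centralizer_singleton_iff.1 ((Subgroup.closure_le _).2
      (fun v hv => Subgroup.mem_centralizer_singleton_iff.2 (hz v hv).eq.symm) hg) :
        g * z = z * g).symm
  have hequiv : ∀ g ∈ Subgroup.closure B, ∀ y, f (g * y * g⁻¹) = g * f y * g⁻¹ := fun g hg y => by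
    show g * y * g⁻¹ * (z * (g * y * g⁻¹) * z⁻¹) * (g * y * g⁻¹) = _
    rw [show z * (g * y * g⁻¹) * z⁻¹ = g * (z * y * z⁻¹) * g⁻¹ by
      rw [show z * (g * y * g⁻¹) * z⁻¹ = (z * g) * y * (z * g)⁻¹ by group, (hzK g hg).eq]; group]
    show _ = g * (y * (z * y * z⁻¹) * y) * g⁻¹
    group
  have hE2 : ∀ {g}, E g → ∀ y ∈ B₂, g * y * g⁻¹ ∈ B₂ := fun {g} hg y hy => by
    rw [show B₂ = Fischer.block D (g * y * g⁻¹) by
      rw [hg y (Fischer.block_subset hy₀ hy), Fischer.block_eq hy₀ hy]]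
    exact Fischer.block_mem_self _
  have hw₀ := (hf y₀ (Fischer.block_mem_self _)).1
  have hsurj : B ⊆ f '' B₂ := by
    intro v hv
    obtain ⟨g, hg, e⟩ := htrans _ hw₀ v hv
    obtain ⟨k, hk, hkE, e'⟩ : ∃ k ∈ Subgroup.closure B, E k ∧ k * f y₀ * k⁻¹ = v := by
      rcases heven g hg with h | h
      · exact ⟨g, hg, h, e⟩
      · refine ⟨g * f y₀, mul_mem hg (Subgroup.subset_closure hw₀), OO h (hOB hw₀), ?_⟩
        rw [← e]
        group
    exact ⟨k * y₀ * k⁻¹, hE2 hkE y₀ (Fischer.block_mem_self _), by rw [hequiv k hk, e']⟩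
  have hcard : B.ncard = B₂.ncard := by
    obtain ⟨g, hg⟩ := hT.trans a ha y₀ hy₀
    rw [show B₂ = act g B by rw [act_block, hg]]
    exact (Set.ncard_image_of_injective _ fun x y e => mul_left_cancel (mul_right_cancel e)).symm
  have hinj : Set.InjOn f B₂ := by
    refine Set.injOn_of_ncard_image_eq (le_antisymm (Set.ncard_image_le (Set.toFinite _)) ?_)
      (Set.toFinite _)
    rw [← hcard]
    exact Set.ncard_le_ncard hsurj (Set.toFinite _)
  obtain ⟨x, hx⟩ := hpair _ hw₀
  have hxB : x ∈ B := hsub hw₀ hx.1 hx.2.2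
  have hg : x * f y₀ ∈ Subgroup.closure B :=
    mul_mem (Subgroup.subset_closure hxB) (Subgroup.subset_closure hw₀)
  have hfix : x * f y₀ * y₀ * (x * f y₀)⁻¹ = y₀ := by
    refine hinj (hE2 (OO (hOB hxB) (hOB hw₀)) y₀ (Fischer.block_mem_self _))
      (Fischer.block_mem_self _) ?_
    rw [hequiv _ hg, show x * f y₀ * f y₀ * (x * f y₀)⁻¹ = x * f y₀ * x⁻¹ by group, hx.2.2.symm.eq,
      mul_inv_cancel_right]
  exact hy₀B (hsub hxB hy₀ (commute_both hD.1 (hBD hxB) (hBD hw₀) hy₀ hx.2.1 hx.2.2.symm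
    (mul_inv_eq_iff_eq_mul.1 hfix).symm).1.symm)

/-- Every group of type M(22) has connected commuting graph. -/
theorem conn_of_type [Finite G] (hD : IsThreeTranspositionGroup D) (h22 : IsOfTypeM22 G D) :
    ∀ a ∈ D, ∀ v ∈ D, Relation.ReflTransGen (Fischer.CAdj D) a v := by
  obtain ⟨htr, hgood, hnT, hn2, hmodel⟩ := M22.pre_of_type hD h22
  have hline := line_of_type hD h22
  have hE := tr_of_group hD
  intro a ha y₀ hy₀
  by_contra hy₀B
  have hT : Fischer.TClass D :=
    ⟨⟨fun x hx => sq_one hD.1 hx, fun x hx => ne_one hD.1 hx, hD.1.2, hD.2.1⟩, htr, hD.2.2,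
      ⟨a, ha⟩⟩
  generalize hB : Fischer.block D a = B
  have hBD : ∀ {v}, v ∈ B → v ∈ D := fun h => Fischer.block_subset ha (hB.symm ▸ h)
  have hsub : ∀ {v w}, v ∈ B → w ∈ Dc D v → w ∈ B := fun {v w} hv hw => by
    rw [← hB] at hv ⊢
    exact Relation.ReflTransGen.tail (hv : Relation.ReflTransGen _ a v) ⟨hw.1, hw.2.2⟩
  have haB : a ∈ B := hB ▸ Fischer.block_mem_self a
  have hDcle : ∀ {v}, v ∈ B → Subgroup.closure (Dc D v) ≤ Subgroup.closure B := fun hv =>
    Subgroup.closure_mono fun w hw => hsub hv hw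
  -- the component is one class of the group it generates
  have hfrom : ∀ v ∈ B, ∃ g ∈ Subgroup.closure B, g * a * g⁻¹ = v := by
    intro v hv
    have hv' : Relation.ReflTransGen (Fischer.CAdj D) a v := by
      rw [← hB] at hv
      exact hv
    clear hv
    induction hv' with
    | refl => exact ⟨1, one_mem _, by simp⟩
    | @tail p q hp hs ih =>
      obtain ⟨g, hg, hgp⟩ := ih
      by_cases hpq : q = p
      · exact ⟨g, hg, hgp.trans hpq.symm⟩
      have hpB : p ∈ B := hB ▸ hp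
      have hq : q ∈ Dc D p := ⟨hs.1, hpq, hs.2⟩
      obtain ⟨z, hz⟩ := (hline p (hBD hpB)).1 q hq
      have hzD : z ∈ D := hz.1.1
      have hpz : p ∈ Dc D z := ⟨hBD hpB, hz.1.2.1.symm, hz.1.2.2.symm⟩
      have hqz : q ∈ Dc D z := ⟨hs.1, hz.2.1.symm, hz.2.2.symm⟩
      obtain ⟨k, hk, hkp⟩ := ((hgood z hzD).1 p q ((hgood z hzD).2 p hpz)
        ((hgood z hzD).2 q hqz)).exists_conj (hE.dc hzD)
      refine ⟨k * g, mul_mem (hDcle (hsub hpB hz.1) hk) hg, ?_⟩
      rw [← hkp, ← hgp]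
      group
  have htransB : ∀ u ∈ B, ∀ v ∈ B, ∃ g ∈ Subgroup.closure B, g * u * g⁻¹ = v := fun u hu v hv => by
    obtain ⟨g, hg, rfl⟩ := hfrom u hu
    obtain ⟨k, hk, rfl⟩ := hfrom v hv
    exact ⟨k * g⁻¹, mul_mem hk (inv_mem hg), by group⟩
  have hTr : Tr B := hE.of_subset (fun v hv => hBD hv) fun x hx v hv => by
    have h : (fun w => x * w * x⁻¹) '' Fischer.block D v = Fischer.block D v :=
      Fischer.invol_fix_block hT (hBD hx) (by
        rw [← hB] at hx hv
        rw [Fischer.block_eq ha hx]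
        exact hv)
    rw [← hB] at hv ⊢
    rw [← Fischer.block_eq ha hv, ← h]
    exact ⟨v, Fischer.block_mem_self _, by rw [hE.inv (Fischer.block_subset ha (hB.symm ▸ hx))]⟩
  have hB1 : B \ {1} = B := Set.sdiff_singleton_eq_self fun h => ne_one hD.1 (hBD h) rfl
  have hS : Tr (B \ {1}) := hB1.symm ▸ hTr
  have hact : ∀ v ∈ B, Active (B \ {1}) v := fun v hv => by
    rw [hB1]
    obtain ⟨x, hx⟩ := (hmodel v (hBD hv)).1
    obtain ⟨-, y, hy, hvy⟩ := (hgood x hx.1).2 v ⟨hBD hv, hx.2.1.symm, hx.2.2.symm⟩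
    exact ⟨hv, y, hsub (hsub hv hx) hy, hvy⟩
  -- the group modulo the centre and its class
  let E : Set (↥(Subgroup.closure B) ⧸ Subgroup.center ↥(Subgroup.closure B)) := qimg B
  let im : ∀ v, v ∈ B → ↥(Subgroup.closure B) ⧸ Subgroup.center ↥(Subgroup.closure B) :=
    fun v hv => qpi B ⟨v, Subgroup.subset_closure hv⟩
  have im_mem : ∀ {v} (hv : v ∈ B), im v hv ∈ E := fun {v} hv => ⟨_, hv, rfl⟩
  have surj : ∀ β ∈ E, ∃ v, ∃ hv : v ∈ B, im v hv = β := by
    rintro β ⟨x, hx, rfl⟩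
    exact ⟨_, hx, rfl⟩
  have hcom : ∀ {u v} (hu : u ∈ B) (hv : v ∈ B), Commute (im u hu) (im v hv) ↔ Commute u v :=
    fun hu hv => commute_pi_iff hS (hB1.symm ▸ hu) (hB1.symm ▸ hv)
  have hinj : ∀ {u v} (hu : u ∈ B) (hv : v ∈ B), im u hu = im v hv → u = v :=
    fun {u v} hu hv e => pi_inj hS (x := ⟨u, Subgroup.subset_closure hu⟩)
      (y := ⟨v, Subgroup.subset_closure hv⟩) (hact u hu) (hact v hv) e
  have hdc : ∀ {u v} (hu : u ∈ B) (hv : v ∈ B), v ∈ Dc D u → im v hv ∈ Dc E (im u hu) :=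
    fun hu hv h => ⟨im_mem hv, fun e => h.2.1 (hinj hv hu e), (hcom hu hv).2 h.2.2⟩
  have hdc' : ∀ {u} (hu : u ∈ B) β, β ∈ Dc E (im u hu) →
      ∃ v, ∃ hv : v ∈ B, v ∈ Dc D u ∧ im v hv = β := fun {u} hu β hβ => by
    obtain ⟨v, hv, rfl⟩ := surj β hβ.1
    exact ⟨v, hv, ⟨hBD hv, fun e => hβ.2.1 (by subst e; rfl), (hcom hu hv).1 hβ.2.2⟩, rfl⟩
  have hdc2 : ∀ {u b v} (hu : u ∈ B) (hb : b ∈ B) (hv : v ∈ B), v ∈ Dc (Dc D u) b →
      im v hv ∈ Dc (Dc E (im u hu)) (im b hb) := fun hu hb hv h =>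
    ⟨hdc hu hv h.1, fun e => h.2.1 (hinj hv hb e), (hcom hb hv).2 h.2.2⟩
  have hdc2' : ∀ {u b} (hu : u ∈ B) (hb : b ∈ B) β, β ∈ Dc (Dc E (im u hu)) (im b hb) →
      ∃ v, ∃ hv : v ∈ B, v ∈ Dc (Dc D u) b ∧ im v hv = β := fun {u b} hu hb β hβ => by
    obtain ⟨v, hv, h, rfl⟩ := hdc' hu β hβ.1
    exact ⟨v, hv, ⟨h, fun e => hβ.2.1 (by subst e; rfl), (hcom hb hv).1 hβ.2.2⟩, rfl⟩
  have grpE : IsThreeTranspositionGroup E := by
    have h1 : E \ {1} = E := Set.sdiff_singleton_eq_self fun h => by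
      obtain ⟨x, hx, e⟩ := h
      exact pi_ne_one (hact _ hx) e
    refine ⟨(h1 ▸ tr_qimg hS).set, fun g β hβ => ?_, closure_qimg _⟩
    obtain ⟨k, rfl⟩ := QuotientGroup.mk_surjective g
    obtain ⟨x, hx, rfl⟩ := hβ
    exact ⟨k * x * k⁻¹, (hTr.stab_closure k.2 x hx).1, by simp⟩
  have lineE : ∀ β ∈ E, Line E β := by
    intro β hβ
    obtain ⟨u, hu, rfl⟩ := surj β hβ
    refine ⟨fun b hb => ?_, fun b hb c hc => ?_⟩
    · obtain ⟨b, hbB, hb', rfl⟩ := hdc' hu b hb
      obtain ⟨c, hc⟩ := (hline u (hBD hu)).1 b hb'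
      exact ⟨_, hdc2 hu hbB (hsub hu hc.1) hc⟩
    · obtain ⟨b, hbB, hb', rfl⟩ := hdc' hu b hb
      obtain ⟨c, hcB, hc', rfl⟩ := hdc2' hu hbB c hc
      obtain ⟨f₁, f₂, f₃, ⟨t1, t2, t3⟩, ⟨n12, n13, n23⟩, hall, hcen⟩ :=
        (hline u (hBD hu)).2 b hb' c hc'
      have tw : ∀ {f} (h : Twin D u b c f),
          Twin E (im u hu) (im b hbB) (im c hcB) (im f (hsub hu h.1.1)) := fun {f} h => by
        refine ⟨hdc2 hu hbB (hsub hu h.1.1) h.1, fun e => h.2.1 (hinj (hsub hu h.1.1) hcB e),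
          (hcom hcB (hsub hu h.1.1)).2 h.2.2.1, fun x hx => ?_⟩
        obtain ⟨x, hxB, hx', rfl⟩ := hdc2' hu hbB x hx
        exact ((hcom hxB hcB).trans (h.2.2.2 x hx')).trans
          (hcom hxB (hsub hu h.1.1)).symm
      refine ⟨_, _, _, ⟨tw t1, tw t2, tw t3⟩,
        ⟨fun e => n12 (hinj (hsub hu t1.1.1) (hsub hu t2.1.1) e),
          fun e => n13 (hinj (hsub hu t1.1.1) (hsub hu t3.1.1) e),
          fun e => n23 (hinj (hsub hu t2.1.1) (hsub hu t3.1.1) e)⟩, ?_, ?_⟩
      · rintro z ⟨hz, hne, hco, hs⟩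
        obtain ⟨z, hzB, hz', rfl⟩ := hdc2' hu hbB z hz
        rcases hall z ⟨hz', fun e => hne (by subst e; rfl), (hcom hcB hzB).1 hco, fun x hx => by
            exact ((hcom (hsub hu hx.1) hcB).symm.trans
              (hs _ (hdc2 hu hbB (hsub hu hx.1) hx))).trans (hcom (hsub hu hx.1) hzB)⟩ with e | e | e
        exacts [Or.inl (by subst e; rfl), Or.inr (Or.inl (by subst e; rfl)),
          Or.inr (Or.inr (by subst e; rfl))]
      · intro y hy
        obtain ⟨y, hyB, hy', rfl⟩ := hdc' hu y hy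
        simp only [im, ← map_mul]
        exact (show Commute (⟨y, Subgroup.subset_closure hyB⟩ : ↥(Subgroup.closure B))
          (⟨b, Subgroup.subset_closure hbB⟩ * ⟨c, Subgroup.subset_closure hcB⟩ *
            ⟨f₁, Subgroup.subset_closure (hsub hu t1.1.1)⟩ *
            ⟨f₂, Subgroup.subset_closure (hsub hu t2.1.1)⟩ *
            ⟨f₃, Subgroup.subset_closure (hsub hu t3.1.1)⟩)
          from Subtype.ext (hcen y hy')).map _
  have goodE : ∀ β ∈ E, Conn (Dc E β) ∧ AllActive (Dc E β) := by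
    intro β hβ
    obtain ⟨u, hu, rfl⟩ := surj β hβ
    refine ⟨fun x y hx hy => ?_, fun x hx => ?_⟩
    · obtain ⟨x, hxB, hx', rfl⟩ := hdc' hu x hx.1
      obtain ⟨y, hyB, hy', rfl⟩ := hdc' hu y hy.1
      have h := (hgood u (hBD hu)).1 x y ((hgood u (hBD hu)).2 x hx') ((hgood u (hBD hu)).2 y hy')
      clear hy hy'
      induction h with
      | refl => exact Relation.ReflTransGen.refl
      | @tail p q hp hs ih =>
        exact (ih (hsub hu hs.1)).tail ⟨hdc hu (hsub hu hs.1) hs.1, hdc hu hyB hs.2.1,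
          fun hc => hs.2.2 ((hcom (hsub hu hs.1) hyB).1 hc)⟩
    · obtain ⟨x, hxB, hx', rfl⟩ := hdc' hu x hx
      obtain ⟨-, y, hy, hxy⟩ := (hgood u (hBD hu)).2 x hx'
      exact ⟨hdc hu hxB hx', _, hdc hu (hsub hu hy) hy, fun hc => hxy ((hcom hxB (hsub hu hy)).1 hc)⟩
  have noTwinE : NoTwin E := by
    intro e he f hf hne hc hs
    obtain ⟨e, heB, rfl⟩ := surj e he
    obtain ⟨f, hfB, rfl⟩ := surj f hf
    have hef : e ≠ f := fun h => hne (by subst h; rfl)
    refine hnT e (hBD heB) f (hBD hfB) hef ((hcom heB hfB).1 hc) fun x hx => ?_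
    by_cases hxB : x ∈ B
    · exact ((hcom hxB heB).symm.trans (hs _ (im_mem hxB))).trans (hcom hxB hfB)
    · refine ⟨fun h => absurd (hsub heB ⟨hx, fun e' => hxB (e' ▸ heB), h.symm⟩) hxB,
        fun h => absurd (hsub hfB ⟨hx, fun e' => hxB (e' ▸ hfB), h.symm⟩) hxB⟩
  have noTwin₂E : ∀ β ∈ E, NoTwin (Dc E β) := by
    intro β hβ e he f hf hne hc hs
    obtain ⟨u, hu, rfl⟩ := surj β hβ
    obtain ⟨e, heB, he', rfl⟩ := hdc' hu e he
    obtain ⟨f, hfB, hf', rfl⟩ := hdc' hu f hf
    refine hn2 u (hBD hu) e he' f hf' (fun h => hne (by subst h; rfl)) ((hcom heB hfB).1 hc) fun x hx => ?_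
    exact ((hcom (hsub hu hx) heB).symm.trans (hs _ (hdc hu (hsub hu hx) hx))).trans
      (hcom (hsub hu hx) hfB)
  have centerE : Subgroup.center (↥(Subgroup.closure B) ⧸ Subgroup.center ↥(Subgroup.closure B)) = ⊥ := by
    refine (Subgroup.eq_bot_iff_forall _).2 fun g hg => ?_
    obtain ⟨k, rfl⟩ := QuotientGroup.mk_surjective g
    refine (QuotientGroup.eq_one_iff k).2 (Subgroup.mem_center_iff.2 fun y => ?_)
    have hk : ∀ v (hv : v ∈ B), Commute (k : G) v := fun v hv => by
      have hv' : (k : G) * v * (k : G)⁻¹ ∈ B := (hTr.stab_closure k.2 v hv).1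
      have e : (k : G) * v * (k : G)⁻¹ = v := hinj hv' hv (by
        show qpi B ⟨(k : G) * v * (k : G)⁻¹, _⟩ = _
        rw [show (⟨(k : G) * v * (k : G)⁻¹, Subgroup.subset_closure hv'⟩ : ↥(Subgroup.closure B)) =
          k * ⟨v, Subgroup.subset_closure hv⟩ * k⁻¹ from Subtype.ext rfl, map_mul, map_mul, map_inv]
        show _ * im v hv * _ = _
        rw [show (qpi B) k = QuotientGroup.mk k from rfl,
          ← Subgroup.mem_center_iff.1 hg (im v hv), mul_inv_cancel_right])
      exact mul_inv_eq_iff_eq_mul.1 e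
    refine Subtype.ext ?_
    exact (Subgroup.mem_centralizer_singleton_iff.1 ((Subgroup.closure_le _).2
      (fun v hv => Subgroup.mem_centralizer_singleton_iff.2 (hk v hv).eq.symm) y.2))
  have modelE : ∀ β ∈ E, (Dc E β).Nonempty ∧ Nonempty (Model E β) := by
    intro β hβ
    obtain ⟨u, hu, rfl⟩ := surj β hβ
    obtain ⟨⟨x, hx⟩, ⟨M⟩⟩ := hmodel u (hBD hu)
    refine ⟨⟨_, hdc hu (hsub hu hx) hx⟩, ?_⟩
    let g := (qpi B).comp (Subgroup.inclusion (hDcle hu))
    have hg : g.range = Subgroup.closure (Dc E (im u hu)) := by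
      rw [MonoidHom.range_eq_map, ← Subgroup.closure_closure_coe_preimage (k := Dc D u),
        MonoidHom.map_closure]
      congr 1
      ext γ
      constructor
      · rintro ⟨v, hv, rfl⟩
        exact hdc hu (hsub hu hv) hv
      · intro hγ
        obtain ⟨v, hvB, hv, rfl⟩ := hdc' hu γ hγ
        exact ⟨⟨v, Subgroup.subset_closure hv⟩, hv, rfl⟩
    let g' := g.codRestrict (Subgroup.closure (Dc E (im u hu))) fun p => hg ▸ ⟨p, rfl⟩
    have hg' : Function.Surjective g' := fun p => by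
      obtain ⟨q, hq⟩ : ↑p ∈ g.range := by rw [hg]; exact p.2
      exact ⟨q, Subtype.ext hq⟩
    have hle : g'.ker ≤ M.ψ.ker := fun p hp => by
      refine (M.ker p).2 (Subgroup.mem_center_iff.2 fun q => Subtype.ext ?_)
      have h1 : (qpi B) (Subgroup.inclusion (hDcle hu) p) = 1 := congrArg Subtype.val hp
      exact pi_eq_one h1 (Subgroup.inclusion (hDcle hu) q)
    let ψ' := g'.liftOfSurjective hg' ⟨M.ψ, hle⟩
    have hψ : ∀ q, ψ' (g' q) = M.ψ q := fun q =>
      MonoidHom.liftOfRightInverse_comp_apply _ _ _ _ q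
    have hsurj : Function.Surjective ψ' := fun p => by
      obtain ⟨q, rfl⟩ := M.surj p
      exact ⟨g' q, hψ q⟩
    exact ⟨
      { F := M.F
        σ := M.σ
        h := M.h
        c := M.c
        ψ := ψ'
        surj := hsurj
        ker := fun p => by
          constructor
          · intro hp
            obtain ⟨q, rfl⟩ := hg' p
            rw [hψ, M.ker] at hp
            refine Subgroup.mem_center_iff.2 fun y => ?_
            obtain ⟨y, rfl⟩ := hg' y
            rw [← map_mul, Subgroup.mem_center_iff.1 hp y, map_mul]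
          · intro hp
            refine M.eq_one_of_central _ fun r => ?_
            obtain ⟨y, rfl⟩ := hsurj r
            exact (show Commute p y from (Subgroup.mem_center_iff.1 hp y).symm).map ψ' }⟩
  have hM : M22 E := by
    refine ⟨grpE, ?_, ?_, lineE, goodE, noTwinE, noTwin₂E, centerE, modelE⟩
    · intro β hβ γ hγ
      obtain ⟨u, hu, rfl⟩ := surj β hβ
      obtain ⟨v, hv, rfl⟩ := surj γ hγ
      have hu' := hB.symm ▸ hu
      have h : Relation.ReflTransGen (Fischer.CAdj D) u v := by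
        show v ∈ Fischer.block D u
        rw [Fischer.block_eq ha hu', hB]
        exact hv
      induction h with
      | refl => exact Relation.ReflTransGen.refl
      | @tail p q hp hs ih =>
        have hpB : p ∈ B := by
          rw [← hB, ← Fischer.block_eq ha hu']
          exact hp
        exact (ih hpB (im_mem hpB)).tail ⟨im_mem hv, (hcom hpB hv).2 hs.2⟩
    · intro β hβ γ hγ
      obtain ⟨u, hu, rfl⟩ := surj β hβ
      obtain ⟨v, hv, rfl⟩ := surj γ hγ
      obtain ⟨g, hg, rfl⟩ := htransB u hu v hv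
      exact ⟨qpi B ⟨g, hg⟩, by simp only [im, ← map_mul, ← map_inv]; rfl⟩
  have : Nonempty E := ⟨⟨_, im_mem haB⟩⟩
  have hperf := hM.perfect
  obtain ⟨n, hn, hna⟩ : ∃ n ∈ commutator ↥(Subgroup.closure B), qpi B n = im a haB := by
    have h : im a haB ∈ (commutator ↥(Subgroup.closure B)).map (qpi B) := by
      rw [commutator_def, Subgroup.map_commutator,
        Subgroup.map_top_of_surjective _ (QuotientGroup.mk'_surjective _), ← commutator_def, hperf]
      exact Subgroup.mem_top _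
    exact Subgroup.mem_map.1 h
  refine false_of_mover hD hT ha hB.symm hy₀ (hB ▸ hy₀B) ⟨(n : G), ?_, fun v hv => ?_⟩ htransB
    fun v hv => (hmodel v (hBD hv)).1
  · rw [← Subgroup.map_subtype_commutator]
    exact Subgroup.mem_map_of_mem _ hn
  · have h1 : qpi B (n⁻¹ * ⟨a, Subgroup.subset_closure haB⟩) = 1 := by
      rw [map_mul, map_inv, hna, inv_mul_cancel]
    exact (pi_eq_one h1 ⟨v, Subgroup.subset_closure hv⟩).symm

end Cfsg.Agent.Transpos
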