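import Cfsg.Agent.Lib.Transpos.M22Quasi

/-!
# Lifts to a central extension by involutions of a group of type M(22)

If the kernel of `π : C → G` is central of exponent two, lifts of commuting elements commute when one
lies over a member, and lifts of members are involutions.
-/

set_option autoImplicit false

namespace Cfsg.Agent.Transpos

open Cfsg
open scoped commutatorElement

namespace CoverLift

variable {C G : Type*} [Group C] [Group G] {π : C →* G}
  (hker : ∀ x : C, π x = 1 → (∀ y, Commute x y) ∧ x * x = 1)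
include hker

/-- The square of a lift depends on the image only. -/
theorem sq_lift {x y : C} (e : π x = π y) : x * x = y * y := by
  obtain ⟨hc, h2⟩ := hker (y⁻¹ * x) (by rw [map_mul, map_inv, e, inv_mul_cancel])
  calc x * x = y * ((y⁻¹ * x) * y) * (y⁻¹ * x) := by group
    _ = y * (y * (y⁻¹ * x)) * (y⁻¹ * x) := by rw [(hc y).eq]
    _ = y * y * ((y⁻¹ * x) * (y⁻¹ * x)) := by group
    _ = y * y := by rw [h2, mul_one]

/-- Lifts of commuting elements commute, if the centraliser of one image is perfect. -/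
theorem lift_commute (hsurj : Function.Surjective π) {x y : C}
    (hperf : commutator ↥(Subgroup.centralizer ({π x} : Set G)) = ⊤)
    (hy : Commute (π y) (π x)) : Commute y x := by
  let Cx := Subgroup.centralizer ({π x} : Set G)
  have hle : commutator Cx ≤ ((Subgroup.centralizer ({x} : Set C)).map π).subgroupOf Cx := by
    rw [commutator_def, Subgroup.commutator_le]
    rintro p - q -
    obtain ⟨p', hp⟩ := hsurj (p : G)
    obtain ⟨q', hq⟩ := hsurj (q : G)
    refine Subgroup.mem_subgroupOf.2 ⟨⁅p', q'⁆, Subgroup.mem_centralizer_singleton_iff.2 ?_, by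
      rw [map_commutatorElement, hp, hq]; rfl⟩
    have hc : ∀ {r : C} {r₀ : Cx}, π r = r₀ → ∃ s, (∀ w, Commute s w) ∧ r * x = x * r * s := by
      intro r r₀ hr
      have h := Subgroup.mem_centralizer_singleton_iff.1 r₀.2
      refine ⟨(x * r)⁻¹ * (r * x), (hker _ ?_).1, by group⟩
      rw [map_mul, map_inv, map_mul, map_mul, hr, h, inv_mul_cancel]
    obtain ⟨s, hs, e1⟩ := hc hp
    obtain ⟨t, ht, e2⟩ := hc hq
    have f1 : p'⁻¹ * x = x * p'⁻¹ * s⁻¹ := by
      calc p'⁻¹ * x = p'⁻¹ * (x * p' * s) * s⁻¹ * p'⁻¹ := by group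
        _ = p'⁻¹ * (p' * x) * s⁻¹ * p'⁻¹ := by rw [e1]
        _ = x * (s⁻¹ * p'⁻¹) := by group
        _ = x * p'⁻¹ * s⁻¹ := by rw [((hs p'⁻¹).inv_left).eq, mul_assoc]
    have f2 : q'⁻¹ * x = x * q'⁻¹ * t⁻¹ := by
      calc q'⁻¹ * x = q'⁻¹ * (x * q' * t) * t⁻¹ * q'⁻¹ := by group
        _ = q'⁻¹ * (q' * x) * t⁻¹ * q'⁻¹ := by rw [e2]
        _ = x * (t⁻¹ * q'⁻¹) := by group
        _ = x * q'⁻¹ * t⁻¹ := by rw [((ht q'⁻¹).inv_left).eq, mul_assoc]
    rw [commutatorElement_def]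
    calc p' * q' * p'⁻¹ * q'⁻¹ * x = p' * q' * p'⁻¹ * (q'⁻¹ * x) := by group
      _ = p' * q' * (p'⁻¹ * x) * q'⁻¹ * t⁻¹ := by rw [f2]; group
      _ = p' * (q' * x) * p'⁻¹ * (s⁻¹ * q'⁻¹) * t⁻¹ := by rw [f1]; group
      _ = p' * x * q' * (t * p'⁻¹) * (q'⁻¹ * s⁻¹) * t⁻¹ := by
        rw [e2, ((hs q'⁻¹).inv_left).eq]; group
      _ = x * p' * (s * q') * (p'⁻¹ * t) * (q'⁻¹ * s⁻¹) * t⁻¹ := by
        rw [e1, (ht p'⁻¹).eq]; group
      _ = x * p' * (q' * s) * p'⁻¹ * ((t * q'⁻¹) * s⁻¹) * t⁻¹ := by rw [(hs q').eq]; group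
      _ = x * p' * q' * (s * p'⁻¹) * q'⁻¹ * (t * (s⁻¹ * t⁻¹)) := by rw [(ht q'⁻¹).eq]; group
      _ = x * p' * q' * p'⁻¹ * (s * q'⁻¹) * (t * (s⁻¹ * t⁻¹)) := by rw [(hs p'⁻¹).eq]; group
      _ = x * p' * q' * p'⁻¹ * (q'⁻¹ * s) * ((t * s⁻¹) * t⁻¹) := by rw [(hs q'⁻¹).eq]; group
      _ = x * (p' * q' * p'⁻¹ * q'⁻¹) := by rw [((ht s⁻¹)).eq]; group
  rw [hperf] at hle
  obtain ⟨k, hk, e⟩ := Subgroup.mem_subgroupOf.1
    (hle (Subgroup.mem_top (⟨π y, Subgroup.mem_centralizer_singleton_iff.2 hy.eq⟩ : Cx)))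
  have hk' : Commute k x := Subgroup.mem_centralizer_singleton_iff.1 hk
  obtain ⟨hc, -⟩ := hker (k⁻¹ * y) (by rw [map_mul, map_inv, e, inv_mul_cancel])
  rw [show y = k * (k⁻¹ * y) by group]
  exact hk'.mul_left (hc x)

/-- Lifts of members are involutions. -/
theorem lift_sq [Finite G] {D : Set G} [Nonempty D] (H : M22 D) (hfull : M22.Full D) (hsurj : Function.Surjective π)
    {x : C} (hx : π x ∈ D) : x * x = 1 := by
  obtain ⟨a, b, c, f, g, k, l, ⟨ha, hb, hc, hf⟩, ⟨kab, kac, kaf, kbc, kbf, kcf⟩,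
    ⟨hg, hk, hl⟩, ⟨kgk, kgl, kkl⟩, he⟩ := H.exists_odd
  obtain ⟨a, rfl⟩ := hsurj a; obtain ⟨b, rfl⟩ := hsurj b; obtain ⟨c, rfl⟩ := hsurj c
  obtain ⟨f, rfl⟩ := hsurj f; obtain ⟨g, rfl⟩ := hsurj g; obtain ⟨k, rfl⟩ := hsurj k
  obtain ⟨l, rfl⟩ := hsurj l
  have same : ∀ x : C, π x ∈ D → x * x = a * a := fun x hx => by
    obtain ⟨q, hq⟩ := H.trans _ ha _ hx
    obtain ⟨q, rfl⟩ := hsurj q
    rw [← map_inv, ← map_mul, ← map_mul] at hq
    rw [← sq_lift hker hq, show q * a * q⁻¹ * (q * a * q⁻¹) = q * (a * a) * q⁻¹ by group]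
    have := (hker (a * a) (by rw [map_mul, sq_one H.grp.1 ha])).1 q
    rw [← this.eq, mul_inv_cancel_right]
  have h2 := sq_lift hker (x := a * b * c * f) (y := g * k * l) (by simpa only [map_mul] using he)
  have cab := lift_commute hker hsurj (hfull.perfect _ hb) kab
  have cac := lift_commute hker hsurj (hfull.perfect _ hc) kac
  have cbc := lift_commute hker hsurj (hfull.perfect _ hc) kbc
  have caf := lift_commute hker hsurj (hfull.perfect _ hf) kaf
  have cbf := lift_commute hker hsurj (hfull.perfect _ hf) kbf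
  have ccf := lift_commute hker hsurj (hfull.perfect _ hf) kcf
  have cgk := lift_commute hker hsurj (hfull.perfect _ hk) kgk
  have cgl := lift_commute hker hsurj (hfull.perfect _ hl) kgl
  have ckl := lift_commute hker hsurj (hfull.perfect _ hl) kkl
  rw [((caf.mul_left cbf).mul_left ccf).symm.mul_mul_mul_comm,
    (cac.mul_left cbc).symm.mul_mul_mul_comm, cab.symm.mul_mul_mul_comm,
    (cgl.mul_left ckl).symm.mul_mul_mul_comm, cgk.symm.mul_mul_mul_comm,
    same b hb, same c hc, same f hf, same g hg, same k hk, same l hl] at h2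
  exact (same x hx).trans (mul_eq_left.1 h2)

end CoverLift

end Cfsg.Agent.Transpos
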