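import Cfsg.Agent.Lib.Transpos.M22Pieces
import Cfsg.Agent.Lib.Transpos.M22Conn
import Cfsg.Agent.Lib.Transpos.M22Class

/-!
# A perfect double cover of type M(22) has no linear lift of the members

Let `π : C → G` be a perfect central extension of a group of type M(22) by an involution `z`, and `X`
a conjugation-invariant set of lifts of the members.  Then the lifts in `X` of a base generate a
subgroup containing `z`.  Otherwise the lifts give compatible sections on the groups of all bases,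
hence a section on a Sylow 2-subgroup, against perfectness by transfer.
-/

set_option autoImplicit false
set_option linter.style.haveILetI false

namespace Cfsg.Agent.Transpos

open Cfsg
open scoped commutatorElement

namespace CoverSplit

open Thompson

/-- In a finite group a central involution with a complement in a subgroup of odd index is no
commutator product. -/
theorem notMem_commutator {W : Type*} [Group W] [Finite W] {z : W} (hzc : ∀ x, Commute z x)
    (hz2 : z * z = 1) (M : Subgroup W) (hzM : z ∉ M) {k : ℕ} (hk : Odd k) (hidx : M.index = 2 * k) :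
    z ∉ commutator W := by
  classical
  set S := M ⊔ Subgroup.zpowers z with hS
  have hle : M ≤ S := le_sup_left
  have hzS : z ∈ S := Subgroup.mem_sup_right (Subgroup.mem_zpowers z)
  have hzp : ∀ x ∈ Subgroup.zpowers z, x = 1 ∨ x = z := by
    rintro x ⟨n, rfl⟩
    have hz2' : z ^ (2 : ℤ) = 1 := by rw [zpow_two]; exact hz2
    obtain ⟨j, hj⟩ := Int.even_or_odd' n
    rcases hj with rfl | rfl
    · exact Or.inl (by simp [zpow_mul, hz2'])
    · exact Or.inr (by simp [zpow_add, zpow_mul, hz2'])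
  have hmem : ∀ x ∈ S, x ∈ M ∨ x * z ∈ M := by
    intro x hx
    have hn : Subgroup.zpowers z ≤ Subgroup.normalizer (M : Set W) :=
      Subgroup.le_normalizer_iff.2 fun w hw y hy => by
        rcases hzp w hw with rfl | rfl
        · simpa using hy
        · rwa [(hzc y).eq, mul_inv_cancel_right]
    rw [← SetLike.mem_coe, hS, Subgroup.coe_mul_of_right_le_normalizer_left _ _ hn] at hx
    obtain ⟨y, hy, w, hw, rfl⟩ := hx
    rcases hzp w hw with rfl | rfl
    · exact Or.inl (by simpa using hy)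
    · exact Or.inr (by rwa [mul_assoc, hz2, mul_one])
  have h2 : (M.subgroupOf S).index = 2 := by
    refine Subgroup.index_eq_two_iff.2 ⟨⟨z, hzS⟩, fun x => ?_⟩
    simp only [Subgroup.mem_subgroupOf, Subgroup.coe_mul]
    rcases hmem x x.2 with h | h
    · refine Or.inr ⟨h, fun h' => hzM ?_⟩
      simpa using M.mul_mem (M.inv_mem h) h'
    · refine Or.inl ⟨h, fun h' => hzM ?_⟩
      simpa using M.mul_mem (M.inv_mem h') h
  have hSodd : Odd S.index := by
    have e := Subgroup.relIndex_mul_index hle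
    rw [Subgroup.relIndex, h2, hidx] at e
    exact (Nat.eq_of_mul_eq_mul_left (by norm_num) e) ▸ hk
  let φ : ↥S →* Multiplicative (ZMod 2) :=
    MonoidHom.mk' (fun x => if x ∈ M.subgroupOf S then 1 else Multiplicative.ofAdd 1) fun x y => by
      have h := Subgroup.mul_mem_iff_of_index_two h2 (a := x) (b := y)
      by_cases hx : x ∈ M.subgroupOf S <;> by_cases hy : y ∈ M.subgroupOf S <;>
        simp [hx, hy, h]
      rfl
  intro hzc'
  have h1 : φ.transfer z = 1 := Abelianization.commutator_subset_ker φ.transfer hzc'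
  have hkey : ∀ (j : ℕ) (g₀ : W), g₀⁻¹ * z ^ j * g₀ ∈ S → g₀⁻¹ * z ^ j * g₀ = z ^ j :=
    fun j g₀ _ => by rw [mul_assoc, ((hzc g₀).pow_left j).eq, inv_mul_cancel_left]
  rw [φ.transfer_eq_pow z hkey] at h1
  obtain ⟨j, hj⟩ := hSodd
  have hzj : z ^ S.index = z := by rw [hj, pow_succ, pow_mul, pow_two, hz2, one_pow, one_mul]
  simp only [hzj] at h1
  have hn : (⟨z, hzS⟩ : ↥S) ∉ M.subgroupOf S := hzM
  simp [φ, hn] at h1

variable {C G : Type*} [Group C] [Group G] [Finite C] [Finite G]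
variable {π : C →* G} {z : C} {D : Set G} {X : Set C}

/-- A double cover with a conjugation-invariant set of lifts of the members. -/
structure Cover (π : C →* G) (z : C) (D : Set G) (X : Set C) : Prop where
  surj : Function.Surjective π
  ne : z ≠ 1
  sq : z * z = 1
  central : ∀ x, Commute z x
  ker : ∀ x, π x = 1 → x = 1 ∨ x = z
  map_z : π z = 1
  X_conj : ∀ c : C, ∀ x ∈ X, c * x * c⁻¹ ∈ X
  X_mem : ∀ x ∈ X, π x ∈ D
  X_lift : ∀ a ∈ D, ∃ x ∈ X, π x = a
  X_inj : ∀ x ∈ X, ∀ y ∈ X, π x = π y → x = y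

/-- The lifts in `X` of a set generate this subgroup. -/
def hat (π : C →* G) (X : Set C) (B : Set G) : Subgroup C :=
  Subgroup.closure {x | x ∈ X ∧ π x ∈ B}

theorem map_hat (K : Cover π z D X) {B : Set G} (hB : B ⊆ D) :
    (hat π X B).map π = Subgroup.closure B := by
  rw [hat, MonoidHom.map_closure]
  congr 1
  refine Set.Subset.antisymm ?_ fun a ha => ?_
  · rintro _ ⟨x, hx, rfl⟩; exact hx.2
  · obtain ⟨x, hx, rfl⟩ := K.X_lift a (hB ha)
    exact ⟨x, ⟨hx, ha⟩, rfl⟩

theorem conj_hat (K : Cover π z D X) {B : Set G} (c : C) :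
    (hat π X B).map (MulAut.conj c).toMonoidHom = hat π X (MulAut.conj (π c) '' B) := by
  rw [hat, hat, MonoidHom.map_closure]
  congr 1
  refine Set.Subset.antisymm ?_ fun y hy => ?_
  · rintro _ ⟨x, hx, rfl⟩
    exact ⟨K.X_conj c x hx.1, π x, hx.2, by simp⟩
  · obtain ⟨b, hb, e⟩ := hy.2
    refine ⟨c⁻¹ * y * c, ⟨?_, ?_⟩, by simp [mul_assoc]⟩
    · simpa using K.X_conj c⁻¹ y hy.1
    · simp only [map_mul, map_inv, ← e, MulAut.conj_apply, mul_assoc, inv_mul_cancel_left,
        inv_mul_cancel, mul_one]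
      exact hb

theorem eq_one_of_hat (K : Cover π z D X) {B : Set G} (hz : z ∉ hat π X B) {x : C}
    (hx : x ∈ hat π X B) (e : π x = 1) : x = 1 :=
  (K.ker x e).resolve_right fun h => hz (h ▸ hx)

theorem eq_of_hat (K : Cover π z D X) {B : Set G} (hz : z ∉ hat π X B) {x y : C}
    (hx : x ∈ hat π X B) (hy : y ∈ hat π X B) (e : π x = π y) : x = y :=
  mul_inv_eq_one.1 (eq_one_of_hat K hz (mul_mem hx (inv_mem hy))
    (by rw [map_mul, map_inv, e, mul_inv_cancel]))

variable (hD : IsThreeTranspositionGroup D) (hprim : IsPrimitiveUnderConj D) (h22 : IsOfTypeM22 G D)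
include hD hprim h22

/-- If the lifts of one base avoid `z`, so do those of all bases. -/
theorem notMem_hat (K : Cover π z D X) {B₀ : Set G} (hB₀ : IsBase D B₀) (hz : z ∉ hat π X B₀)
    {B : Set G} (hB : IsBase D B) : z ∉ hat π X B := by
  obtain ⟨g, -, e⟩ := exists_conj_fix hD hprim h22 hB₀ hB (T := ∅) (Set.empty_subset _) (Set.empty_subset _)
  obtain ⟨c, rfl⟩ := K.surj g
  intro h
  rw [← e, ← conj_hat K c] at h
  obtain ⟨x, hx, ex⟩ := h
  refine hz ?_
  have : x = z := by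
    have : c * x * c⁻¹ = z := ex
    rw [mul_inv_eq_iff_eq_mul, (K.central c).eq] at this
    exact mul_left_cancel this
  exact this ▸ hx

variable {B₀ : Set G}

/-- The sections on the groups of two bases agree. -/
theorem hat_agree (K : Cover π z D X) (hB₀ : IsBase D B₀) (hz₀ : z ∉ hat π X B₀) {B B' : Set G}
    (hB : IsBase D B) (hB' : IsBase D B') {u v : C} (hu : u ∈ hat π X B) (hv : v ∈ hat π X B')
    (e : π u = π v) : u = v := by
  have hz : ∀ {S : Set G}, IsBase D S → z ∉ hat π X S := fun hS => notMem_hat hD hprim h22 K hB₀ hz₀ hS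
  have hu' : π u ∈ Subgroup.closure B := map_hat K hB.1 ▸ ⟨u, hu, rfl⟩
  have hv' : π v ∈ Subgroup.closure B' := map_hat K hB'.1 ▸ ⟨v, hv, rfl⟩
  obtain ⟨l, hn, hl, hm, el⟩ := mem_closure_base hD hprim h22 hB hu'
  obtain ⟨l', hn', hl', hm', el'⟩ := mem_closure_base hD hprim h22 hB' hv'
  have hc := frames_commute hD hB hB' hm hn' hl' hm' (el.trans (e.trans el'.symm))
  obtain ⟨B'', hB'', hsub⟩ := exists_base_above hD hprim h22 (T := {x | x ∈ l ∨ x ∈ l'})
    (by rintro x (hx | hx); exacts [hB.1 (hm x hx), hB'.1 (hm' x hx)])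
    (by
      rintro x (hx | hx) y (hy | hy)
      exacts [hB.2.1 x (hm x hx) y (hm y hy), hc x hx y hy, (hc y hy x hx).symm,
        hB'.2.1 x (hm' x hx) y (hm' y hy)])
  choose! L hL using fun a (ha : a ∈ D) => K.X_lift a ha
  have key : ∀ {S : Set G} {w : C} {r : List G}, IsBase D S → (∀ s ∈ r, s ∈ S) → (∀ s ∈ r, s ∈ B'') →
      r.prod = π w → w ∈ hat π X S →
      w = (r.map L).prod ∧ (r.map L).prod ∈ hat π X B'' := by
    intro S w r hS hrS hr'' er hw
    have h1 : ∀ {T : Set G}, T ⊆ D → (∀ s ∈ r, s ∈ T) → (r.map L).prod ∈ hat π X T := fun {T} hTD hrT =>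
      Subgroup.list_prod_mem _ fun x hx => by
        obtain ⟨s, hs, rfl⟩ := List.mem_map.1 hx
        exact Subgroup.subset_closure ⟨(hL s (hTD (hrT s hs))).1,
          by rw [(hL s (hTD (hrT s hs))).2]; exact hrT s hs⟩
    refine ⟨eq_of_hat K (hz hS) hw (h1 hS.1 hrS) ?_, h1 hB''.1 hr''⟩
    rw [← er, map_list_prod, List.map_map, List.map_congr_left (g := id) fun s hs => ?_, List.map_id]
    exact (hL s (hS.1 (hrS s hs))).2
  obtain ⟨eu, mu⟩ := key hB hm (fun s hs => hsub (Or.inl hs)) el hu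
  obtain ⟨ev, mv⟩ := key hB' hm' (fun s hs => hsub (Or.inr hs)) el' hv
  rw [eu, ev]
  refine eq_of_hat K (hz hB'') mu mv ?_
  rw [← eu, ← ev, e]

/-- A subgroup of order `2^16` over the pieces, avoiding `z`. -/
theorem exists_section (K : Cover π z D X) (hB₀ : IsBase D B₀) (hz₀ : z ∉ hat π X B₀) {a : G}
    (ha : a ∈ D) :
    ∃ (p : G) (B : Set G) (P : Subgroup C), p ∈ B ∧ p ≠ a ∧ IsBase D B ∧ a ∈ B ∧ z ∉ P ∧
      Nat.card ↥P = 2 ^ 16 ∧ (∀ x ∈ P, Commute (π x) a) ∧
      P ≤ Subgroup.closure {x | x ∈ X ∧ ∃ S, IsBase D S ∧ a ∈ S ∧ p ∈ S ∧ π x ∈ S} := by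
  obtain ⟨_, H, -⟩ := m22_of_primitive hD hprim h22
  obtain ⟨M⟩ := (H.model a ha).2
  obtain ⟨B, hB, haB⟩ := exists_base_above hD hprim h22 (T := {a}) (by simpa using ha) (by simp)
  have haB : a ∈ B := haB rfl
  obtain ⟨p, hpB, B₁, B₂, E, E', hpa, ⟨hB₁, haB₁, hp₁⟩, ⟨hB₂, haB₂, hp₂⟩, ⟨hE₁, hE₂⟩,
    ⟨hEn, hE'n, hE'n₁, hE'E⟩, hint, ⟨-, hcard⟩, -⟩ :=
    Pieces.exists_pieces M H ha hD hprim h22 hB haB
  have hz : ∀ {S : Set G}, IsBase D S → z ∉ hat π X S := fun hS => notMem_hat hD hprim h22 K hB₀ hz₀ hS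
  set U := hat π X B₁ ⊓ E.comap π with hU
  set U' := hat π X B₂ ⊓ E'.comap π with hU'
  have hnh : ∀ {S : Set G} {c : C}, π c ∈ Subgroup.normalizer S →
      c ∈ Subgroup.normalizer (hat π X S : Set C) := fun {S c} hc => by
    rw [Subgroup.mem_normalizer_iff_map_conj_eq, ← MulEquiv.toMonoidHom_eq_coe, conj_hat K c,
      Subgroup.mem_normalizer_iff_conj_image_eq.1 hc]
  have hUn : U ≤ Subgroup.normalizer (hat π X B : Set C) := fun c hc => hnh (hEn hc.2)
  have hU'n : U' ≤ Subgroup.normalizer (hat π X B : Set C) := fun c hc => hnh (hE'n hc.2)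
  have hU'U : U' ≤ Subgroup.normalizer (U : Set C) := by
    refine Subgroup.le_normalizer_iff.2 fun c hc x hx => ⟨?_, ?_⟩
    · exact (Subgroup.mem_normalizer_iff.1 (hnh (hE'n₁ hc.2)) x).1 hx.1
    · show π (c * x * c⁻¹) ∈ E
      rw [map_mul, map_mul, map_inv]
      exact (Subgroup.mem_normalizer_iff.1 (hE'E hc.2) (π x)).1 hx.2
  have hmap : (hat π X B ⊔ (U ⊔ U')).map π = Subgroup.closure B ⊔ E ⊔ E' := by
    have hm : ∀ {S : Set G} {F : Subgroup G}, IsBase D S → F ≤ Subgroup.closure S →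
        (hat π X S ⊓ F.comap π).map π = F := fun {S F} hS hF => by
      refine le_antisymm ?_ fun y hy => ?_
      · rintro _ ⟨x, hx, rfl⟩; exact hx.2
      · obtain ⟨x, hx, rfl⟩ := (map_hat K hS.1).symm ▸ hF hy
        exact ⟨x, ⟨hx, hy⟩, rfl⟩
    rw [Subgroup.map_sup, Subgroup.map_sup, map_hat K hB.1, hm hB₁ hE₁, hm hB₂ hE₂, sup_assoc]
  have hzP : z ∉ hat π X B ⊔ (U ⊔ U') := by
    intro hzP
    have hsup : U ⊔ U' ≤ Subgroup.normalizer (hat π X B : Set C) := sup_le hUn hU'n
    rw [← SetLike.mem_coe, Subgroup.coe_mul_of_right_le_normalizer_left _ _ hsup] at hzP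
    obtain ⟨n, hn, k, hk, e⟩ := hzP
    rw [SetLike.mem_coe] at hn hk
    rw [← SetLike.mem_coe, Subgroup.coe_mul_of_right_le_normalizer_left _ _ hU'U] at hk
    obtain ⟨u, hu, u', hu', rfl⟩ := hk
    rw [SetLike.mem_coe] at hu hu'
    have hπ : π n * (π u * π u') = 1 := by
      have := congrArg π e
      simpa only [map_mul, K.map_z] using this
    have hnB : π n ∈ Subgroup.closure B := map_hat K hB.1 ▸ ⟨n, hn, rfl⟩
    have huu : π u * π u' = (π n)⁻¹ := eq_inv_of_mul_eq_one_right hπ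
    have huB : π u ∈ Subgroup.closure B := hint _ hu.2 _ hu'.2 fun s hs => by
      rw [huu]
      exact (commute_closure hB.2.1 (inv_mem hnB) (Subgroup.subset_closure hs))
    have hu'B : π u' ∈ Subgroup.closure B := by
      rw [show π u' = (π u)⁻¹ * (π n)⁻¹ by rw [← huu, inv_mul_cancel_left]]
      exact mul_mem (inv_mem huB) (inv_mem hnB)
    obtain ⟨u₁, hu₁, e₁⟩ := (map_hat K hB.1).symm ▸ huB
    obtain ⟨u₂, hu₂, e₂⟩ := (map_hat K hB.1).symm ▸ hu'B
    refine hz hB ?_
    rw [← e, ← hat_agree hD hprim h22 K hB₀ hz₀ hB hB₁ hu₁ hu.1 e₁,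
      ← hat_agree hD hprim h22 K hB₀ hz₀ hB hB₂ hu₂ hu'.1 e₂]
    exact mul_mem hn (mul_mem hu₁ hu₂)
  refine ⟨p, B, hat π X B ⊔ (U ⊔ U'), hpB, hpa, hB, haB, hzP, ?_, fun x hx => ?_, ?_⟩
  · have hinj : Function.Injective (π.comp (hat π X B ⊔ (U ⊔ U')).subtype) :=
      (injective_iff_map_eq_one _).2 fun x hx =>
        Subtype.ext ((K.ker x hx).resolve_right fun h => hzP (h ▸ x.2))
    rw [← hcard, ← hmap, Nat.card_congr (MonoidHom.ofInjective hinj).toEquiv,
      MonoidHom.range_comp, Subgroup.range_subtype]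
  · have hle : Subgroup.closure B ⊔ E ⊔ E' ≤ Subgroup.centralizer ({a} : Set G) := by
      have hc : ∀ {S : Set G}, IsBase D S → a ∈ S →
          Subgroup.closure S ≤ Subgroup.centralizer ({a} : Set G) := fun {S} hS haS =>
        (Subgroup.closure_le _).2 fun s hs =>
          Subgroup.mem_centralizer_singleton_iff.2 (hS.2.1 s hs a haS).eq
      exact sup_le (sup_le (hc hB haB) (hE₁.trans (hc hB₁ haB₁))) (hE₂.trans (hc hB₂ haB₂))
    exact Subgroup.mem_centralizer_singleton_iff.1 (hle (hmap ▸ ⟨x, hx, rfl⟩))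
  · have hS : ∀ {S : Set G}, IsBase D S → a ∈ S → p ∈ S →
        hat π X S ≤ Subgroup.closure {x | x ∈ X ∧ ∃ S, IsBase D S ∧ a ∈ S ∧ p ∈ S ∧ π x ∈ S} :=
      fun {S} h1 h2 h3 => Subgroup.closure_mono fun x hx => ⟨hx.1, S, h1, h2, h3, hx.2⟩
    exact sup_le (hS hB haB hpB)
      (sup_le (inf_le_left.trans (hS hB₁ haB₁ hp₁)) (inf_le_left.trans (hS hB₂ haB₂ hp₂)))

/-- The derived subgroup of the preimage of a member centraliser. -/
def derived (π : C →* G) (a : G) : Subgroup C :=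
  ⁅(Subgroup.centralizer ({a} : Set G)).comap π, (Subgroup.centralizer ({a} : Set G)).comap π⁆

omit [Finite C] [Finite G] hD hprim h22 in
theorem derived_conj (K : Cover π z D X) (c : C) {a b : G} (e : π c * a * (π c)⁻¹ = b) {x : C}
    (hx : x ∈ derived π a) : c * x * c⁻¹ ∈ derived π b := by
  have h1 : ((Subgroup.centralizer ({a} : Set G)).comap π).map (MulAut.conj c).toMonoidHom ≤
      (Subgroup.centralizer ({b} : Set G)).comap π := by
    rintro _ ⟨y, hy, rfl⟩
    rw [Subgroup.mem_comap, Subgroup.mem_centralizer_singleton_iff, ← e]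
    have hy' : π y * a = a * π y := Subgroup.mem_centralizer_singleton_iff.1 hy
    simp only [MulEquiv.coe_toMonoidHom, MulAut.conj_apply, map_mul, map_inv, mul_assoc,
      inv_mul_cancel_left]
    rw [← mul_assoc (π y) a, hy', mul_assoc]
  have h2 : (derived π a).map (MulAut.conj c).toMonoidHom ≤ derived π b := by
    rw [derived, Subgroup.map_commutator]
    exact Subgroup.commutator_mono h1 h1
  exact h2 ⟨x, hx, rfl⟩

/-- The derived subgroup avoids `z` and maps onto the centraliser. -/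
theorem derived_spec (K : Cover π z D X) (hB₀ : IsBase D B₀) (hz₀ : z ∉ hat π X B₀) {a : G}
    (ha : a ∈ D) :
    z ∉ derived π a ∧ (derived π a).map π = Subgroup.centralizer ({a} : Set G) := by
  obtain ⟨p, B, P, -, -, -, -, hzP, hcard, hPa, -⟩ := exists_section hD hprim h22 K hB₀ hz₀ ha
  obtain ⟨_, H, hfull⟩ := m22_of_primitive hD hprim h22
  set Q := Subgroup.centralizer ({a} : Set G) with hQ
  set W := Q.comap π with hW
  refine ⟨fun hzd => ?_, ?_⟩
  · have hPW : P ≤ W := fun x hx => Subgroup.mem_centralizer_singleton_iff.2 (hPa x hx).eq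
    have hzW : z ∈ W := by rw [hW, Subgroup.mem_comap, K.map_z]; exact one_mem _
    have hker : Nat.card ↥π.ker = 2 := by
      have : (π.ker : Set C) = {1, z} := Set.ext fun x => ⟨fun hx => K.ker x hx, fun hx => by
        rcases hx with rfl | rfl
        exacts [map_one _, K.map_z]⟩
      rw [← SetLike.coe_sort_coe, this, Nat.card_coe_set_eq, Set.ncard_pair K.ne.symm]
    have hWcard : Nat.card ↥W = 2 * Nat.card ↥Q := by
      have h1 := W.card_mul_index
      rw [hW, Subgroup.index_comap_of_surjective _ K.surj] at h1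
      have h2 : Nat.card C = Nat.card ↥π.ker * Nat.card G := by
        rw [Subgroup.card_eq_card_quotient_mul_card_subgroup π.ker, mul_comm,
          Nat.card_congr (QuotientGroup.quotientKerEquivOfSurjective π K.surj).toEquiv]
      rw [h2, hker, ← Q.card_mul_index, ← mul_assoc, ← hW] at h1
      exact Nat.eq_of_mul_eq_mul_right (Nat.pos_of_ne_zero Subgroup.index_ne_zero_of_finite) h1
    rw [card_centralizer_member hD hprim h22 ha] at hWcard
    set M := P.subgroupOf W with hM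
    have hMcard : Nat.card ↥M = 2 ^ 16 := by
      rw [hM, Nat.card_congr (Subgroup.subgroupOfEquivOfLe hPW).toEquiv, hcard]
    have hidx : M.index = 2 * 280665 := by
      have h1 := M.card_mul_index
      rw [hMcard, hWcard] at h1
      omega
    have hzd' : (⟨z, hzW⟩ : ↥W) ∈ commutator ↥W := by
      have h3 : derived π a = (commutator ↥W).map W.subtype := (Subgroup.map_subtype_commutator W).symm
      rw [h3] at hzd
      obtain ⟨y, hy, e⟩ := hzd
      rwa [show (⟨z, hzW⟩ : ↥W) = y from Subtype.ext e.symm]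
    exact notMem_commutator (z := (⟨z, hzW⟩ : ↥W)) (fun x => Subtype.ext (K.central x))
      (Subtype.ext K.sq) M (fun h => hzP h) (k := 280665) (by decide) hidx hzd'
  · rw [derived, Subgroup.map_commutator, Subgroup.map_comap_eq_self_of_surjective K.surj,
      ← Subgroup.map_subtype_commutator, hfull.perfect a ha, ← MonoidHom.range_eq_map,
      Subgroup.range_subtype]

/-- The lifts in `X` of a base through `a` lie in the derived subgroup at `a`. -/
theorem hat_le_derived (K : Cover π z D X) (hB₀ : IsBase D B₀) (hz₀ : z ∉ hat π X B₀) {a : G}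
    (ha : a ∈ D) {S : Set G} (hS : IsBase D S) (haS : a ∈ S) : hat π X S ≤ derived π a := by
  obtain ⟨hne, H, hfull⟩ := m22_of_primitive hD hprim h22
  have hspec := fun {b : G} (hb : b ∈ D) => derived_spec hD hprim h22 K hB₀ hz₀ hb
  -- the two cases at one member decide them at every member
  have hprop : ∀ {b b' x x' : G} {u u' : C}, b ∈ D → b' ∈ D → u ∈ X → u' ∈ X → π u = x → π u' = x' →
      (∃ g, g * b * g⁻¹ = b' ∧ g * x * g⁻¹ = x') → u ∈ derived π b → u' ∈ derived π b' := by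
    rintro b b' x x' u u' - - hu hu' rfl rfl ⟨g, e1, e2⟩ hd
    obtain ⟨c, rfl⟩ := K.surj g
    have h1 := derived_conj K c e1 hd
    rwa [K.X_inj _ (K.X_conj c u hu) u' hu' (by rw [map_mul, map_mul, map_inv]; exact e2)] at h1
  obtain ⟨m, b, c, f, g, k, l, hm, ⟨hb, hc, hf⟩, ⟨hg, hk, hl⟩, ⟨nbc, nbf, ncf, ngk, ngl, nkl⟩,
    ⟨cbc, cbf, ccf⟩, ⟨cgk, cgl, ckl⟩, he, hx⟩ := H.exists_seven
  have hxb := hx b hb.1 hb.2.2.symm (Commute.refl b) cbc cbf
  have hxc := hx c hc.1 hc.2.2.symm cbc.symm (Commute.refl c) ccf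
  have hxf := hx f hf.1 hf.2.2.symm cbf.symm ccf.symm (Commute.refl f)
  obtain ⟨B₇, hB₇, h7⟩ := exists_base_above hD hprim h22 (T := {m, b, c, f, g, k, l})
    (by rintro x (rfl | rfl | rfl | rfl | rfl | rfl | rfl) <;>
      first | exact hm | exact hb.1 | exact hc.1 | exact hf.1 | exact hg.1 | exact hk.1 | exact hl.1)
    (by
      have a1 := hb.2.2
      have a2 := hc.2.2
      have a3 := hf.2.2
      have a4 := hg.2.2
      have a5 := hk.2.2
      have a6 := hl.2.2
      rintro x (rfl | rfl | rfl | rfl | rfl | rfl | rfl) y (rfl | rfl | rfl | rfl | rfl | rfl | rfl) <;>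
        first
          | exact Commute.refl _
          | assumption
          | (apply Commute.symm; assumption)
          | exact hxb.1 | exact hxb.2.1 | exact hxb.2.2 | exact hxb.1.symm | exact hxb.2.1.symm
          | exact hxb.2.2.symm | exact hxc.1 | exact hxc.2.1 | exact hxc.2.2 | exact hxc.1.symm
          | exact hxc.2.1.symm | exact hxc.2.2.symm | exact hxf.1 | exact hxf.2.1 | exact hxf.2.2
          | exact hxf.1.symm | exact hxf.2.1.symm | exact hxf.2.2.symm)
  choose! L hL using fun q (hq : q ∈ D) => K.X_lift q hq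
  have hLmem : ∀ {q}, q ∈ B₇ → L q ∈ hat π X B₇ := fun {q} hq =>
    Subgroup.subset_closure ⟨(hL q (hB₇.1 hq)).1, by rw [(hL q (hB₇.1 hq)).2]; exact hq⟩
  have i0 : m ∈ B₇ := h7 (by simp)
  have i1 : b ∈ B₇ := h7 (by simp)
  have i2 : c ∈ B₇ := h7 (by simp)
  have i3 : f ∈ B₇ := h7 (by simp)
  have i4 : g ∈ B₇ := h7 (by simp)
  have i5 : k ∈ B₇ := h7 (by simp)
  have i6 : l ∈ B₇ := h7 (by simp)
  have hrel : L m * L b * L c * L f = L g * L k * L l := by
    refine eq_of_hat K (notMem_hat hD hprim h22 K hB₀ hz₀ hB₇)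
      (mul_mem (mul_mem (mul_mem (hLmem i0) (hLmem i1)) (hLmem i2)) (hLmem i3))
      (mul_mem (mul_mem (hLmem i4) (hLmem i5)) (hLmem i6)) ?_
    simp only [map_mul, (hL _ (hB₇.1 i0)).2, (hL _ (hB₇.1 i1)).2, (hL _ (hB₇.1 i2)).2,
      (hL _ (hB₇.1 i3)).2, (hL _ (hB₇.1 i4)).2, (hL _ (hB₇.1 i5)).2, (hL _ (hB₇.1 i6)).2, he]
  -- a member over another one
  obtain ⟨e, heB, hen⟩ : ∃ e ∈ B₇, e ∉ ({m, b, c, f, g, k, l} : Set G) := by
    by_contra hno
    push Not at hno
    have h1 := Set.ncard_le_ncard (t := ({m, b, c, f, g, k, l} : Set G)) hno (Set.toFinite _)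
    have h8 : ({m, b, c, f, g, k, l} : Set G).ncard ≤ 7 := by
      iterate 6 refine (Set.ncard_insert_le _ _).trans (Nat.succ_le_succ ?_)
      rw [Set.ncard_singleton]
    rw [hB₇.2.2] at h1
    omega
  have hα : ∀ {a' x : G} {u : C}, a' ∈ D → x ∈ Dc D a' → u ∈ X → π u = x → u ∈ derived π a' := by
    intro a' x u ha' hxa hu hux
    by_contra hnd
    have hall : ∀ {q}, q ∈ B₇ → q ≠ e → L q * z ∈ derived π e := fun {q} hq hqe => by
      have hnd' : L q ∉ derived π e := fun hd => by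
        obtain ⟨y, y1, y2⟩ := H.conj_pair (hB₇.1 heB) ⟨hB₇.1 hq, hqe, hB₇.2.1 e heB q hq⟩ ha' hxa
        exact hnd (hprop (hB₇.1 heB) ha' (hL q (hB₇.1 hq)).1 hu (hL q (hB₇.1 hq)).2 hux
          ⟨y, y1, y2⟩ hd)
      obtain ⟨w, hw, ew⟩ : q ∈ (derived π e).map π := by
        rw [(hspec (hB₇.1 heB)).2]
        exact Subgroup.mem_centralizer_singleton_iff.2 (hB₇.2.1 q hq e heB).eq
      rcases K.ker ((L q)⁻¹ * w) (by rw [map_mul, map_inv, (hL q (hB₇.1 hq)).2, ew, inv_mul_cancel])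
        with h | h
      · exact absurd (inv_mul_eq_one.1 h ▸ hw) hnd'
      · rwa [← eq_mul_of_inv_mul_eq h]
    simp only [Set.mem_insert_iff, Set.mem_singleton_iff, not_or] at hen
    obtain ⟨n0, n1, n2, n3, n4, n5, n6⟩ := hen
    have hzz : ∀ p q : C, p * z * (q * z) = p * q := fun p q => by
      rw [mul_assoc p, ← mul_assoc z q, (K.central q).eq, mul_assoc q, K.sq, mul_one]
    have h4 : (L m * z) * (L b * z) * (L c * z) * (L f * z) = L g * L k * L l := by
      rw [hzz, mul_assoc (L m * L b), hzz, ← mul_assoc, hrel]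
    have h3 : (L g * z) * (L k * z) * (L l * z) = L g * L k * L l * z := by
      rw [hzz, ← mul_assoc]
    refine (hspec (hB₇.1 heB)).1 ?_
    have hw4 := mul_mem (mul_mem (mul_mem (hall i0 (Ne.symm n0)) (hall i1 (Ne.symm n1)))
      (hall i2 (Ne.symm n2))) (hall i3 (Ne.symm n3))
    have hw3 := mul_mem (mul_mem (hall i4 (Ne.symm n4)) (hall i5 (Ne.symm n5))) (hall i6 (Ne.symm n6))
    rw [h4] at hw4
    rw [h3] at hw3
    have := mul_mem (inv_mem hw4) hw3
    rwa [inv_mul_cancel_left] at this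
  have hβ : ∀ {a' : G} {u : C}, a' ∈ D → u ∈ X → π u = a' → u ∈ derived π a' := by
    intro a' u ha' hu hua
    have hm' : L m ∈ derived π m := by
      have e1 : L m = L g * L k * L l * (L b * L c * L f)⁻¹ := by
        rw [eq_mul_inv_iff_mul_eq, ← hrel]
        simp only [mul_assoc]
      rw [e1]
      exact mul_mem (mul_mem (mul_mem (hα hm hg (hL g hg.1).1 (hL g hg.1).2)
        (hα hm hk (hL k hk.1).1 (hL k hk.1).2)) (hα hm hl (hL l hl.1).1 (hL l hl.1).2))
        (inv_mem (mul_mem (mul_mem (hα hm hb (hL b hb.1).1 (hL b hb.1).2)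
          (hα hm hc (hL c hc.1).1 (hL c hc.1).2)) (hα hm hf (hL f hf.1).1 (hL f hf.1).2)))
    obtain ⟨y, hy⟩ := H.trans m hm a' ha'
    exact hprop hm ha' (hL m hm).1 hu (hL m hm).2 hua ⟨y, hy, hy⟩ hm'
  refine (Subgroup.closure_le _).2 fun x hx => ?_
  by_cases hxa : π x = a
  · exact hβ ha hx.1 hxa
  · exact hα ha (sub_dc hS haS ⟨hx.2, hxa⟩) hx.1 rfl

/-- No lift of the members of a base avoids `z` in a perfect cover. -/
theorem no_linear_lift (K : Cover π z D X) (hperf : commutator C = ⊤) (hB₀ : IsBase D B₀) :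
    z ∈ hat π X B₀ := by
  by_contra hz₀
  obtain ⟨hne, H, -⟩ := m22_of_primitive hD hprim h22
  obtain ⟨a, ha⟩ := hne
  obtain ⟨p, B, P, hpB, hpa, hB, haB, -, hcardP, -, hPgen⟩ := exists_section hD hprim h22 K hB₀ hz₀ ha
  set Y := {x | x ∈ X ∧ ∃ S, IsBase D S ∧ a ∈ S ∧ p ∈ S ∧ π x ∈ S}
  set Kc := Subgroup.closure Y with hKc
  have hKd : Kc ≤ derived π a := (Subgroup.closure_le _).2 fun x ⟨hx, S, hS, haS, _, hxS⟩ =>
    hat_le_derived hD hprim h22 K hB₀ hz₀ ha hS haS (Subgroup.subset_closure ⟨hx, hxS⟩)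
  have hzK : z ∉ Kc := fun h => (derived_spec hD hprim h22 K hB₀ hz₀ ha).1 (hKd h)
  -- an element exchanging `a` and `p`
  obtain ⟨q, hq⟩ : ∃ q ∈ B, q ≠ a ∧ q ≠ p := by
    by_contra hno
    push Not at hno
    have h1 := Set.ncard_le_ncard (t := ({a, p} : Set G)) (fun x hx => by
      by_cases hxa : x = a
      · exact Or.inl hxa
      · exact Or.inr (hno x hx hxa)) (Set.toFinite _)
    rw [hB.2.2, Set.ncard_pair hpa.symm] at h1
    omega
  obtain ⟨r, -, -, hr, -, har, hpr, -⟩ := H.exists_path (hB.1 hq.1)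
    (⟨ha, hq.2.1.symm, hB.2.1 q hq.1 a haB⟩ : a ∈ Dc D q)
    (⟨hB.1 hpB, hq.2.2.symm, hB.2.1 q hq.1 p hpB⟩ : p ∈ Dc D q) hpa.symm (hB.2.1 a haB p hpB)
  have hrD := hr.1
  have hpD := hB.1 hpB
  set w := r * p * a * r with hw
  have hap := hB.2.1 a haB p hpB
  have s1 := sq_one hD.1 hrD
  have s2 := sq_one hD.1 ha
  have s3 := sq_one hD.1 hpD
  have ia := inv_eq hD.1 ha
  have ir := inv_eq hD.1 hrD
  have ip := inv_eq hD.1 hpD
  have braid_a : r * a * r = a * r * a := braid hD.1 hrD ha fun h => har h.symm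
  have braid_p : r * p * r = p * r * p := braid hD.1 hrD hpD fun h => hpr h.symm
  have hww : w * w = 1 := by
    simp only [hw, mul_assoc]
    rw [← mul_assoc r r, s1, one_mul, ← mul_assoc a p, hap.eq, mul_assoc p a, ← mul_assoc a a, s2,
      one_mul, ← mul_assoc p p, s3, one_mul, s1]
  have hwa : w * a * w⁻¹ = p := by
    rw [inv_eq_of_mul_eq_one_left hww]
    calc w * a * w = r * p * a * (r * a * r) * p * a * r := by simp only [hw, mul_assoc]
      _ = r * p * (a * a) * r * (a * p * a) * r := by rw [braid_a]; simp only [mul_assoc]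
      _ = r * p * r * p * r := by rw [s2, mul_one, hap.eq, mul_assoc p a a, s2, mul_one]
      _ = p * r * p * p * r := by rw [braid_p]
      _ = p := by rw [mul_assoc (p * r) p p, s3, mul_one, mul_assoc, s1, mul_one]
  have hwp : w * p * w⁻¹ = a := by
    rw [← hwa, inv_eq_of_mul_eq_one_left hww]
    simp only [mul_assoc]
    rw [hww, mul_one, ← mul_assoc w w, hww, one_mul]
  obtain ⟨xr, hxr, exr⟩ := K.X_lift r hrD
  obtain ⟨xp, hxp, exp⟩ := K.X_lift p hpD
  obtain ⟨xa, hxa, exa⟩ := K.X_lift a ha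
  set v := xr * xp * xa * xr with hv
  have hvw : π v = w := by simp [hv, hw, exr, exp, exa]
  have hvv : v * v ∈ Kc := by
    have hxx : ∀ {x : C}, x ∈ X → π x * π x = 1 := fun {x} hx => sq_one hD.1 (K.X_mem x hx)
    have hsq : ∀ {x : C}, x ∈ X → x * x = 1 := fun {x} hx => by
      obtain ⟨S, hS, hsub⟩ := exists_base_above hD hprim h22 (T := {π x})
        (by simpa using K.X_mem x hx) (by simp)
      have hxS : x ∈ hat π X S := Subgroup.subset_closure ⟨hx, hsub rfl⟩
      exact eq_one_of_hat K (notMem_hat hD hprim h22 K hB₀ hz₀ hS) (mul_mem hxS hxS)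
        (by rw [map_mul, hxx hx])
    have hmp : xp * xa = xa * xp := by
      refine eq_of_hat K (notMem_hat hD hprim h22 K hB₀ hz₀ hB)
        (mul_mem (Subgroup.subset_closure ⟨hxp, exp ▸ hpB⟩) (Subgroup.subset_closure ⟨hxa, exa ▸ haB⟩))
        (mul_mem (Subgroup.subset_closure ⟨hxa, exa ▸ haB⟩) (Subgroup.subset_closure ⟨hxp, exp ▸ hpB⟩)) ?_
      rw [map_mul, map_mul, exp, exa, hap.eq]
    have : v * v = 1 := by
      simp only [hv, mul_assoc]
      rw [← mul_assoc xr xr, hsq hxr, one_mul, ← mul_assoc xa xp, ← hmp, mul_assoc xp xa,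
        ← mul_assoc xa xa, hsq hxa, one_mul, ← mul_assoc xp xp, hsq hxp, one_mul, hsq hxr]
    rw [this]; exact one_mem _
  have hvn : v ∈ Subgroup.normalizer (Kc : Set C) := by
    refine Subgroup.normalizer_le_normalizer_closure _ ?_
    refine Subgroup.mem_normalizer_iff_conj_image_eq.2
      (Set.eq_of_subset_of_ncard_le ?_ (by rw [Set.ncard_image_of_injective _ (MulAut.conj v).injective])
        (Set.toFinite _))
    rintro _ ⟨x, ⟨hx, S, hS, haS, hpS, hxS⟩, rfl⟩
    refine ⟨K.X_conj v x hx, MulAut.conj w '' S, IsBase.conj hD hS w, ⟨p, hpS, hwp⟩, ⟨a, haS, hwa⟩,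
      π x, hxS, ?_⟩
    simp [hvw]
  set N := Kc ⊔ Subgroup.zpowers v with hN
  have hwna : ¬ Commute w a := fun h => by
    rw [h.eq, mul_inv_cancel_right] at hwa
    exact hpa hwa.symm
  have hKa : ∀ x ∈ Kc, Commute (π x) a := fun x hx => by
    have h1 : π x ∈ (derived π a).map π := ⟨x, hKd hx, rfl⟩
    rw [(derived_spec hD hprim h22 K hB₀ hz₀ ha).2] at h1
    exact Subgroup.mem_centralizer_singleton_iff.1 h1
  have hNmem : ∀ x ∈ N, x ∈ Kc ∨ x * v ∈ Kc := by
    intro x hx
    rw [← SetLike.mem_coe, hN, Subgroup.coe_mul_of_right_le_normalizer_left _ _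
      ((Subgroup.zpowers_le).2 hvn)] at hx
    obtain ⟨y, hy, _, ⟨n, rfl⟩, rfl⟩ := hx
    have hpow : ∀ j : ℤ, v ^ (2 * j) ∈ Kc := fun j => by
      rw [zpow_mul, zpow_two]; exact Kc.zpow_mem hvv j
    obtain ⟨j, hj⟩ := Int.even_or_odd' n
    rcases hj with rfl | rfl
    · exact Or.inl (Kc.mul_mem hy (hpow j))
    · refine Or.inr ?_
      show y * v ^ (2 * j + 1) * v ∈ Kc
      have e2 : y * v ^ (2 * j + 1) * v = y * v ^ (2 * j) * (v * v) := by
        simp only [zpow_add_one, mul_assoc]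
      rw [e2]
      exact Kc.mul_mem (Kc.mul_mem hy (hpow j)) hvv
  have hzN : z ∉ N := fun h => by
    rcases hNmem z h with h | h
    · exact hzK h
    · have := hKa _ h
      rw [map_mul, K.map_z, one_mul, hvw] at this
      exact hwna this
  have hvK : v ∉ Kc := fun h => hwna (hvw ▸ hKa v h)
  have hrel2 : (Kc.subgroupOf N).index = 2 := by
    refine Subgroup.index_eq_two_iff.2 ⟨⟨v, Subgroup.mem_sup_right (Subgroup.mem_zpowers v)⟩, fun x => ?_⟩
    simp only [Subgroup.mem_subgroupOf, Subgroup.coe_mul]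
    rcases hNmem x x.2 with h | h
    · refine Or.inr ⟨h, fun h' => hvK ?_⟩
      simpa using Kc.mul_mem (Kc.inv_mem h) h'
    · refine Or.inl ⟨h, fun h' => hvK ?_⟩
      simpa using Kc.mul_mem (Kc.inv_mem h') h
  have h17 : 2 ^ 17 ∣ Nat.card ↥N := by
    rw [← (Kc.subgroupOf N).card_mul_index, hrel2,
      Nat.card_congr (Subgroup.subgroupOfEquivOfLe (le_sup_left : Kc ≤ N)).toEquiv, pow_succ, ← hcardP]
    exact Nat.mul_dvd_mul_right (Subgroup.card_dvd_of_le hPgen) 2
  -- orders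
  have hker : Nat.card ↥π.ker = 2 := by
    have : (π.ker : Set C) = {1, z} := Set.ext fun x => ⟨fun hx => K.ker x hx, fun hx => by
      rcases hx with rfl | rfl
      exacts [map_one _, K.map_z]⟩
    rw [← SetLike.coe_sort_coe, this, Nat.card_coe_set_eq, Set.ncard_pair K.ne.symm]
  have hC : Nat.card C = 2 * Nat.card G := by
    rw [Subgroup.card_eq_card_quotient_mul_card_subgroup π.ker, hker,
      Nat.card_congr (QuotientGroup.quotientKerEquivOfSurjective π K.surj).toEquiv, mul_comm]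
  have hNG : Nat.card ↥N ∣ Nat.card G := by
    have hinj : Function.Injective (π.comp N.subtype) := (injective_iff_map_eq_one _).2 fun x hx =>
      Subtype.ext ((K.ker x hx).resolve_right fun h => hzN (h ▸ x.2))
    exact Subgroup.card_dvd_of_injective _ hinj
  rw [card_m22 hD hprim h22] at hNG hC
  obtain ⟨t, ht⟩ := h17
  have h1 := N.card_mul_index
  rw [hC, ht] at h1
  rw [ht] at hNG
  have htodd : Odd t := (Nat.dvd_of_mul_dvd_mul_left (by norm_num)
    (hNG.trans (dvd_of_eq (by norm_num : (2 : ℕ) ^ 17 * 3 ^ 9 * 5 ^ 2 * 7 * 11 * 13 =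
      2 ^ 17 * 492567075)))).elim fun j hj => (Nat.odd_mul.1 (hj ▸ (by decide : Odd 492567075))).1
  have h2 : t * N.index = 2 * 492567075 :=
    Nat.eq_of_mul_eq_mul_left (by norm_num : 0 < 2 ^ 17) (by
      rw [← mul_assoc, h1]; norm_num)
  obtain ⟨k, hk⟩ : 2 ∣ N.index := by
    rcases (Nat.Prime.dvd_mul Nat.prime_two).1 ⟨_, h2⟩ with h | h
    · exact absurd h (fun h' => Nat.not_even_iff_odd.2 htodd (even_iff_two_dvd.2 h'))
    · exact h
  have hkodd : Odd k := by
    have h3 : t * k = 492567075 := by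
      rw [hk] at h2; linarith [mul_left_comm t 2 k]
    exact (Nat.odd_mul.1 (h3 ▸ (by decide : Odd 492567075))).2
  exact notMem_commutator K.central K.sq N hzN hkodd hk (hperf ▸ Subgroup.mem_top z)

end CoverSplit

end Cfsg.Agent.Transpos
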