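import Cfsg.Agent.Lib.Transpos.M22CoverSplit
import Cfsg.Agent.Lib.Transpos.M22CoverLift

/-!
# The largest elementary abelian 2-groups of a perfect double cover of type M(22)

`C` is the centraliser of an involution `d` and `π : C → Gb` a perfect double cover with kernel `⟨d⟩`.
The preimage of the group of a base is elementary abelian of order `2 ^ 11`; in a Sylow 2-subgroup it is
the only one of this order, so its normaliser is transitive on the conjugates of `d` in it.
-/

set_option autoImplicit false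
set_option linter.style.haveILetI false

namespace Cfsg.Agent.Transpos.DoubleThompson

open Cfsg Thompson

variable {G Gb : Type*} [Group G] [Group Gb] {d : G}

/-- The centraliser of `d`. -/
abbrev Cd (d : G) : Subgroup G := Subgroup.centralizer ({d} : Set G)

/-- A perfect double cover of type M(22) as the centraliser of an involution. -/
structure Setting (π : ↥(Cd d) →* Gb) (z : ↥(Cd d)) (D : Set Gb) (X : Set ↥(Cd d)) : Prop where
  grp : IsThreeTranspositionGroup D
  prim : IsPrimitiveUnderConj D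
  type22 : IsOfTypeM22 Gb D
  cover : CoverSplit.Cover π z D X
  z_val : (z : G) = d
  commute : ∀ x y, π x ∈ D → Commute (π y) (π x) → Commute y x
  sq : ∀ x, π x ∈ D → x * x = 1
  not_square : ¬ ∃ g : G, g ^ 2 = d
  perfect : commutator ↥(Cd d) = ⊤

variable {π : ↥(Cd d) →* Gb} {z : ↥(Cd d)} {D : Set Gb} {X : Set ↥(Cd d)}

/-- The preimage of the group of a base. -/
def gp (π : ↥(Cd d) →* Gb) (B : Set Gb) : Subgroup ↥(Cd d) := (Subgroup.closure B).comap π

/-- The preimage of the group of a base as a subgroup of `G`. -/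
def amb (π : ↥(Cd d) →* Gb) (B : Set Gb) : Subgroup G := (gp π B).map (Cd d).subtype

theorem mem_gp {B : Set Gb} {y : ↥(Cd d)} : y ∈ gp π B ↔ π y ∈ Subgroup.closure B := Iff.rfl

namespace Setting

variable (K : Setting π z D X)
include K

/-- The other class of lifts gives the same setting. -/
theorem twist : Setting π z D {x | x * z ∈ X} where
  grp := K.grp
  prim := K.prim
  type22 := K.type22
  z_val := K.z_val
  commute := K.commute
  sq := K.sq
  not_square := K.not_square
  perfect := K.perfect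
  cover :=
    { surj := K.cover.surj
      ne := K.cover.ne
      sq := K.cover.sq
      central := K.cover.central
      ker := K.cover.ker
      map_z := K.cover.map_z
      X_conj := fun c x hx => by
        show c * x * c⁻¹ * z ∈ X
        have := K.cover.X_conj c _ hx
        rwa [show c * (x * z) * c⁻¹ = c * x * c⁻¹ * z by
          rw [mul_assoc _ c⁻¹, ← (K.cover.central c⁻¹).eq]
          simp only [mul_assoc]] at this
      X_mem := fun x hx => by simpa [K.cover.map_z] using K.cover.X_mem _ hx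
      X_lift := fun a ha => by
        obtain ⟨x, hx, e⟩ := K.cover.X_lift a ha
        exact ⟨x * z, by simpa [mul_assoc, K.cover.sq] using hx, by simp [e, K.cover.map_z]⟩
      X_inj := fun x hx y hy e => mul_right_cancel (K.cover.X_inj _ hx _ hy (by simp [e])) }

theorem z_mem (B : Set Gb) : z ∈ gp π B := by
  rw [mem_gp, K.cover.map_z]
  exact one_mem _

theorem d_mem_amb (B : Set Gb) : d ∈ amb π B := ⟨z, K.z_mem B, K.z_val⟩

/-- The preimage of the group of a base is elementary abelian. -/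
theorem elem {B : Set Gb} (hB : IsBase D B) : IsElementaryAbelian 2 (gp π B) := by
  set S := {x | π x ∈ B} ∪ {z}
  have hS : ∀ x ∈ S, ∀ y ∈ S, Commute x y := by
    rintro x (hx | rfl) y (hy | rfl)
    exacts [K.commute y x (hB.1 hy) (hB.2.1 _ hx _ hy), (K.cover.central x).symm,
      K.cover.central y, Commute.refl _]
  have h := elem_closure hS (by rintro x (hx | rfl); exacts [K.sq x (hB.1 hx), K.cover.sq])
  suffices e : gp π B = Subgroup.closure S by rwa [e]
  refine le_antisymm (fun y hy => ?_) ((Subgroup.closure_le _).2 ?_)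
  · have hm : π y ∈ (Subgroup.closure S).map π := by
      rw [MonoidHom.map_closure]
      refine Subgroup.closure_mono (fun b hb => ?_) hy
      obtain ⟨x, rfl⟩ := K.cover.surj b
      exact ⟨x, Or.inl hb, rfl⟩
    obtain ⟨w, hw, e⟩ := hm
    rcases K.cover.ker (w⁻¹ * y) (by simp [e]) with h1 | h1
    · exact (inv_mul_eq_one.1 h1) ▸ hw
    · rw [eq_mul_of_inv_mul_eq h1]
      exact mul_mem hw (Subgroup.subset_closure (Or.inr rfl))
  · rintro x (hx | rfl)
    exacts [Subgroup.subset_closure hx, K.z_mem B]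

theorem elem_amb {B : Set Gb} (hB : IsBase D B) : IsElementaryAbelian 2 (amb π B) := by
  refine ⟨⟨⟨fun x y => ?_⟩⟩, ?_⟩
  · obtain ⟨x', hx', hx⟩ := x.2
    obtain ⟨y', hy', hy⟩ := y.2
    refine Subtype.ext ?_
    show (x : G) * y = y * x
    rw [← hx, ← hy, ← map_mul, ← map_mul, (elem_commute (K.elem hB) hx' hy').eq]
  · rintro _ ⟨x, hx, rfl⟩
    rw [← map_pow, (K.elem hB).2 x hx, map_one]

theorem card_eq_two_mul_map (P : Subgroup ↥(Cd d)) (hz : z ∈ P) :
    Nat.card ↥P = 2 * Nat.card ↥(P.map π) := by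
  have e := Subgroup.card_mul_index (π.comp P.subtype).ker
  have hk : (π.comp P.subtype).ker = Subgroup.zpowers (⟨z, hz⟩ : ↥P) := by
    refine le_antisymm (fun x hx => ?_) (Subgroup.zpowers_le.2 K.cover.map_z)
    rcases K.cover.ker x hx with h | h
    · rw [show x = 1 from Subtype.ext h]; exact one_mem _
    · rw [show x = ⟨z, hz⟩ from Subtype.ext h]; exact Subgroup.mem_zpowers _
  have h2 : orderOf (⟨z, hz⟩ : ↥P) = 2 := orderOf_eq_prime (Subtype.ext (by
    rw [SubmonoidClass.coe_pow, pow_two]; exact K.cover.sq)) fun h => K.cover.ne (congrArg Subtype.val h)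
  rw [Subgroup.index_ker, MonoidHom.range_comp, Subgroup.range_subtype, hk, Nat.card_zpowers, h2] at e
  exact e.symm

variable [Finite G] [Finite Gb]

theorem card {B : Set Gb} (hB : IsBase D B) : Nat.card ↥(gp π B) = 2 ^ 11 := by
  obtain ⟨a, ha⟩ : B.Nonempty := Set.nonempty_of_ncard_ne_zero (by rw [hB.2.2]; norm_num)
  obtain ⟨-, H, -⟩ := m22_of_primitive K.grp K.prim K.type22
  obtain ⟨M⟩ := (H.model a (hB.1 ha)).2
  rw [K.card_eq_two_mul_map _ (K.z_mem B), gp, Subgroup.map_comap_eq_self_of_surjective K.cover.surj]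
  obtain ⟨-, -, -, -, -, -, -, -, -, -, -, -, -, h⟩ :=
    Pieces.exists_pieces M H (hB.1 ha) K.grp K.prim K.type22 hB ha
  rw [h]; norm_num

/-- A Sylow 2-subgroup contains exactly one largest elementary abelian group, over the base in its
image. -/
theorem sylow (S : Sylow 2 ↥(Cd d)) :
    ∃ B, IsBase D B ∧ gp π B ≤ (S : Subgroup ↥(Cd d)) ∧
      ∀ P ≤ (S : Subgroup ↥(Cd d)), IsElementaryAbelian 2 P → 2 ^ 11 ≤ Nat.card ↥P → P = gp π B := by
  haveI : Fact (Nat.Prime 2) := ⟨Nat.prime_two⟩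
  set T := S.mapSurjective K.cover.surj with hT
  have hTco : (T : Subgroup Gb) = (S : Subgroup ↥(Cd d)).map π := rfl
  have hB := sylow_base K.grp K.prim K.type22 T
  set B := {x | x ∈ D ∧ x ∈ (T : Subgroup Gb)} with hBdef
  have hzS : z ∈ (S : Subgroup ↥(Cd d)) := by
    have hn : Subgroup.zpowers z ≤ Subgroup.normalizer ((S : Subgroup ↥(Cd d)) : Set ↥(Cd d)) :=
      Subgroup.zpowers_le.2 (Subgroup.mem_normalizer_iff.2 fun y => by
        rw [(K.cover.central y).eq, mul_inv_cancel_right])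
    have hp : IsPGroup 2 ↥(Subgroup.zpowers z) := fun x => ⟨1, Subtype.ext (by
      obtain ⟨n, hn⟩ := x.2
      rw [SubmonoidClass.coe_pow, ← hn, ← zpow_natCast, ← zpow_mul, mul_comm, zpow_mul]
      simp [pow_two, K.cover.sq])⟩
    have := S.is_maximal' (hp.to_sup_of_normal_right' S.isPGroup' hn) le_sup_right
    exact this.le (Subgroup.mem_sup_left (Subgroup.mem_zpowers z))
  have hgS : gp π B ≤ (S : Subgroup ↥(Cd d)) := fun y hy => by
    have hy' : π y ∈ (S : Subgroup ↥(Cd d)).map π :=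
      (Subgroup.closure_le _).2 (fun x hx => hTco ▸ hx.2) (mem_gp.1 hy)
    obtain ⟨w, hw, e⟩ := hy'
    rcases K.cover.ker (w⁻¹ * y) (by simp [e]) with h1 | h1
    · exact (inv_mul_eq_one.1 h1) ▸ hw
    · rw [eq_mul_of_inv_mul_eq h1]; exact mul_mem hw hzS
  refine ⟨B, hB, hgS, fun P hPS hP hcard => ?_⟩
  have hPe : IsElementaryAbelian 2 (P.map π) := by
    refine ⟨⟨⟨fun x y => ?_⟩⟩, ?_⟩
    · obtain ⟨x', hx', hx⟩ := x.2
      obtain ⟨y', hy', hy⟩ := y.2
      refine Subtype.ext ?_
      show (x : Gb) * y = y * x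
      rw [← hx, ← hy, ← map_mul, ← map_mul, (elem_commute hP hx' hy').eq]
    · rintro _ ⟨x, hx, rfl⟩
      rw [← map_pow, hP.2 x hx, map_one]
  have hnorm : ∀ x ∈ P.map π, ∀ s ∈ B, x * s * x⁻¹ ∈ B := fun x hx s hs => by
    have hxT : x ∈ (T : Subgroup Gb) := hTco ▸ Subgroup.map_mono hPS hx
    exact ⟨K.grp.2.1 x s hs.1, mul_mem (mul_mem hxT hs.2) (inv_mem hxT)⟩
  have hBcard : 2 * Nat.card ↥(Subgroup.closure B) = 2 ^ 11 := by
    have h := K.card hB
    rwa [K.card_eq_two_mul_map _ (K.z_mem B), gp,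
      Subgroup.map_comap_eq_self_of_surjective K.cover.surj] at h
  have hle : Nat.card ↥(Subgroup.closure B) ≤ Nat.card ↥(P.map π) := by
    have h1 : Nat.card ↥P ≤ Nat.card ↥(P ⊔ Subgroup.zpowers z : Subgroup ↥(Cd d)) :=
      Subgroup.card_le_of_le le_sup_left
    have hm : (P ⊔ Subgroup.zpowers z).map π = P.map π := by
      rw [Subgroup.map_sup, sup_eq_left, Subgroup.map_le_iff_le_comap, Subgroup.zpowers_le,
        Subgroup.mem_comap, K.cover.map_z]
      exact one_mem _
    rw [K.card_eq_two_mul_map _ (Subgroup.mem_sup_right (Subgroup.mem_zpowers z)), hm] at h1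
    omega
  have e := eq_of_card_le K.grp K.prim K.type22 hB hPe hnorm hle
  refine Subgroup.eq_of_le_of_card_ge (fun y hy => ?_) (by rw [K.card hB]; exact hcard)
  exact mem_gp.2 (e ▸ Subgroup.mem_map_of_mem π hy)

/-- The Thompson subgroup of a Sylow 2-subgroup. -/
theorem thompson (S : Sylow 2 ↥(Cd d)) {B : Set Gb} (hB : IsBase D B)
    (hgS : gp π B ≤ (S : Subgroup ↥(Cd d)))
    (hu : ∀ P ≤ (S : Subgroup ↥(Cd d)), IsElementaryAbelian 2 P → 2 ^ 11 ≤ Nat.card ↥P → P = gp π B) :
    thompsonSubgroupOf 2 (S : Subgroup ↥(Cd d)) = gp π B := by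
  set E' := (gp π B).subgroupOf (S : Subgroup ↥(Cd d))
  have hE'map : E'.map (S : Subgroup ↥(Cd d)).subtype = gp π B := by
    rw [Subgroup.subgroupOf_map_subtype, inf_eq_left.2 hgS]
  have hcardmap : ∀ P : Subgroup ↥(S : Subgroup ↥(Cd d)),
      Nat.card ↥(P.map (S : Subgroup ↥(Cd d)).subtype) = Nat.card ↥P := fun P =>
    Subgroup.card_map_of_injective Subtype.val_injective
  have hE'elem : IsElementaryAbelian 2 E' := by
    refine ⟨⟨⟨fun x y => Subtype.ext (Subtype.ext ?_)⟩⟩, fun x hx => Subtype.ext ?_⟩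
    · exact (elem_commute (K.elem hB) (Subgroup.mem_subgroupOf.1 x.2) (Subgroup.mem_subgroupOf.1 y.2)).eq
    · rw [SubmonoidClass.coe_pow]
      exact (K.elem hB).2 _ (Subgroup.mem_subgroupOf.1 hx)
  have hcardE' : Nat.card ↥E' = 2 ^ 11 := by rw [← hcardmap, hE'map, K.card hB]
  have hmap : ∀ P : Subgroup ↥(S : Subgroup ↥(Cd d)), IsElementaryAbelian 2 P →
      IsElementaryAbelian 2 (P.map (S : Subgroup ↥(Cd d)).subtype) := by
    intro P hP
    refine ⟨⟨⟨fun x y => ?_⟩⟩, ?_⟩
    · obtain ⟨x', hx', hx⟩ := x.2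
      obtain ⟨y', hy', hy⟩ := y.2
      refine Subtype.ext ?_
      show (x : ↥(Cd d)) * y = y * x
      rw [← hx, ← hy, ← map_mul, ← map_mul, (elem_commute hP hx' hy').eq]
    · rintro _ ⟨x, hx, rfl⟩
      rw [← map_pow, hP.2 x hx, map_one]
  have hkey : ∀ P, IsElementaryAbelian 2 P → 2 ^ 11 ≤ Nat.card ↥P → P = E' := fun P hP h =>
    Subgroup.map_injective Subtype.val_injective ((hu _ (by
      rintro _ ⟨x, -, rfl⟩; exact x.2) (hmap P hP) (by rwa [hcardmap])).trans hE'map.symm)
  have hset : maxElementaryAbelianSubgroups 2 ↥(S : Subgroup ↥(Cd d)) = {E'} := by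
    refine Set.eq_singleton_iff_unique_mem.2 ⟨⟨hE'elem, fun P hP => ?_⟩, fun P hP => ?_⟩
    · by_contra hlt
      rw [hkey P hP (by omega)] at hlt
      exact hlt le_rfl
    · exact hkey P hP.1 (hcardE' ▸ hP.2 E' hE'elem)
  rw [thompsonSubgroupOf, thompsonSubgroup, hset, sSup_singleton, hE'map]

/-- The normaliser of the largest elementary abelian group is transitive on the conjugates of `d` in it. -/
theorem trans (S : Sylow 2 ↥(Cd d)) {B : Set Gb} (hB : IsBase D B)
    (hu : ∀ P ≤ (S : Subgroup ↥(Cd d)), IsElementaryAbelian 2 P → 2 ^ 11 ≤ Nat.card ↥P → P = gp π B)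
    {y : G} (hy : y ∈ amb π B) (hd : IsConj d y) :
    ∃ n ∈ Subgroup.normalizer (amb π B : Set G), n * d * n⁻¹ = y := by
  haveI : Fact (Nat.Prime 2) := ⟨Nat.prime_two⟩
  obtain ⟨g, rfl⟩ := isConj_iff.1 hd
  set A := amb π B with hA
  have hAe := K.elem_amb hB
  set P := A.comap ((MulAut.conj g).toMonoidHom.comp (Cd d).subtype) with hPdef
  have hPmem : ∀ c, c ∈ P ↔ g * (c : G) * g⁻¹ ∈ A := fun c => Iff.rfl
  have hmap : P.map ((MulAut.conj g).toMonoidHom.comp (Cd d).subtype) = A := by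
    refine le_antisymm (Subgroup.map_comap_le _ _) fun a ha => ?_
    have hc : g⁻¹ * a * g ∈ Cd d := Subgroup.mem_centralizer_singleton_iff.2 (by
      have h := (elem_commute hAe ha hy).eq
      calc g⁻¹ * a * g * d = g⁻¹ * (a * (g * d * g⁻¹)) * g := by group
        _ = g⁻¹ * ((g * d * g⁻¹) * a) * g := by rw [h]
        _ = d * (g⁻¹ * a * g) := by group)
    exact ⟨⟨_, hc⟩, (hPmem _).2 (by simpa [mul_assoc] using ha), by simp [mul_assoc]⟩
  have hinj : Function.Injective ((MulAut.conj g).toMonoidHom.comp (Cd d).subtype) :=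
    (MulAut.conj g).injective.comp Subtype.val_injective
  have hPe : IsElementaryAbelian 2 P :=
    ⟨⟨⟨fun a b => Subtype.ext (hinj (by
      rw [Subgroup.coe_mul, Subgroup.coe_mul, map_mul, map_mul]
      exact (elem_commute hAe ((hPmem _).1 a.2) ((hPmem _).1 b.2)).eq))⟩⟩,
     fun a ha => hinj (by rw [map_pow, map_one]; exact hAe.2 _ ha)⟩
  have hPcard : Nat.card ↥P = 2 ^ 11 := by
    rw [← Subgroup.card_map_of_injective hinj, hmap, hA, amb,
      Subgroup.card_map_of_injective Subtype.val_injective, K.card hB]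
  obtain ⟨S', hS'⟩ := (isPGroup_elem hPe).exists_le_sylow
  obtain ⟨c, hc⟩ := MulAction.exists_smul_eq ↥(Cd d) S' S
  set P' := P.map (MulAut.conj c).toMonoidHom with hP'
  have hP'e : P' = gp π B := by
    refine hu P' ?_ ?_ ?_
    · rintro _ ⟨x, hx, rfl⟩
      rw [← hc]
      exact Subgroup.smul_mem_pointwise_smul _ (MulAut.conj c) _ (hS' hx)
    · refine ⟨⟨⟨fun x y => ?_⟩⟩, ?_⟩
      · obtain ⟨x', hx', hx⟩ := x.2
        obtain ⟨y', hy', hy⟩ := y.2
        refine Subtype.ext ?_
        show (x : ↥(Cd d)) * y = y * x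
        rw [← hx, ← hy, ← map_mul, ← map_mul, (elem_commute hPe hx' hy').eq]
      · rintro _ ⟨x, hx, rfl⟩
        rw [← map_pow, hPe.2 x hx, map_one]
    · rw [hP', Subgroup.card_map_of_injective (MulAut.conj c).injective, hPcard]
  have hfw : A.map (MulAut.conj (g * (c : G)⁻¹)).toMonoidHom = A := by
    conv_lhs => rw [hA, amb, ← hP'e, hP', Subgroup.map_map, Subgroup.map_map]
    refine Eq.trans ?_ hmap
    congr 1
    ext x
    simp [mul_assoc]
  refine ⟨g * (c : G)⁻¹, Subgroup.mem_normalizer_iff.2 fun x => ?_, ?_⟩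
  · conv_rhs => rw [← hfw]
    exact (Subgroup.mem_map_iff_mem (MulAut.conj (g * (c : G)⁻¹)).injective).symm
  · have hcd : (c : G)⁻¹ * d * c = d := by
      rw [mul_assoc, ← Subgroup.mem_centralizer_singleton_iff.1 c.2, inv_mul_cancel_left]
    calc _ = g * ((c : G)⁻¹ * d * c) * g⁻¹ := by group
      _ = _ := by rw [hcd]

/-- A conjugate of `d` in `C` other than `d` has a conjugate in every largest elementary abelian group. -/
theorem exists_other {B : Set Gb} (hB : IsBase D B)
    (hnwc : ∃ g : G, g * d * g⁻¹ ∈ Cd d ∧ g * d * g⁻¹ ≠ d) :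
    ∃ y ∈ gp π B, y ≠ z ∧ IsConj d (y : G) := by
  obtain ⟨g, hg, hne⟩ := hnwc
  set x : ↥(Cd d) := ⟨_, hg⟩
  have hxx : x * x = 1 := Subtype.ext (by
    show g * d * g⁻¹ * (g * d * g⁻¹) = 1
    have : d * d = 1 := by
      rw [← K.z_val, ← Subgroup.coe_mul, K.cover.sq, Subgroup.coe_one]
    calc _ = g * (d * d) * g⁻¹ := by group
      _ = 1 := by rw [this, mul_one, mul_inv_cancel])
  obtain ⟨-, -, hfull⟩ := m22_of_primitive K.grp K.prim K.type22
  obtain ⟨l, -, -, hlD, hlc, hl⟩ := hfull.short (π x) (by rw [← map_mul, hxx, map_one])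
  obtain ⟨B', hB', hlB'⟩ := exists_base_above K.grp K.prim K.type22 (T := {s | s ∈ l}) hlD hlc
  obtain ⟨k, -, hk⟩ := exists_conj_fix K.grp K.prim K.type22 hB' hB (T := ∅)
    (Set.empty_subset _) (Set.empty_subset _)
  obtain ⟨c, rfl⟩ := K.cover.surj k
  refine ⟨c * x * c⁻¹, ?_, fun h => hne ?_, ?_⟩
  · rw [mem_gp, map_mul, map_mul, map_inv, ← hk, ← hl]
    have : MulAut.conj (π c) l.prod ∈ (Subgroup.closure B').map (MulAut.conj (π c)).toMonoidHom :=
      Subgroup.mem_map_of_mem _ (Subgroup.list_prod_mem _ fun s hs => Subgroup.subset_closure (hlB' hs))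
    rw [MonoidHom.map_closure] at this
    exact this
  · have hz : x = z := by
      rw [show x = c⁻¹ * (c * x * c⁻¹) * c by group, h, mul_assoc, (K.cover.central c).eq,
        inv_mul_cancel_left]
    exact (congrArg Subtype.val hz).trans K.z_val
  · exact (isConj_iff.2 ⟨g, rfl⟩).trans (isConj_iff.2 ⟨(c : G), by simp [x]⟩)

end Setting

end Cfsg.Agent.Transpos.DoubleThompson
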