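import Cfsg.Agent.Lib.Transpos.M22DoubleCount

/-!
# The impossible orbit lengths 45, 254, 276 and 1024

Transport by the normaliser turns a property of the products with `d` into one of all products of two
conjugates; for 254 the lifts in one class of the base are a suborbit, and for 1024 the complement of the
orbit would be a subgroup containing a class of lifts and not `z`.
-/

set_option autoImplicit false
set_option linter.style.haveILetI false
set_option linter.unusedSectionVars false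

namespace Cfsg.Agent.Transpos.DoubleThompson

open Cfsg Thompson

variable {G Gb : Type*} [Group G] [Group Gb] [Finite G] [Finite Gb] {d : G}
variable {π : ↥(Cd d) →* Gb} {z : ↥(Cd d)} {D : Set Gb} {X : Set ↥(Cd d)}

namespace Setting

variable (K : Setting π z D X) {B : Set Gb} (hB : IsBase D B)
include K hB

theorem ncard_lifts : (lifts π X B).ncard = 22 := by
  have hinj : Set.InjOn π (lifts π X B) := fun x hx y hy => K.cover.X_inj _ hx.1 _ hy.1
  rw [← hB.2.2, ← hinj.ncard_image]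
  congr 1
  ext b
  exact ⟨fun ⟨x, hx, e⟩ => e ▸ hx.2, fun hb =>
    let ⟨x, hx, e⟩ := K.cover.X_lift b (hB.1 hb); ⟨x, ⟨hx, e.symm ▸ hb⟩, e⟩⟩

/-- Two lifts avoiding two given ones. -/
theorem exists_third (p q : ↥(Cd d)) :
    ∃ r ∈ lifts π X B, r ≠ p ∧ r ≠ q := by
  by_contra hno
  push Not at hno
  have h := Set.ncard_le_ncard (t := ({p, q} : Set ↥(Cd d))) (fun r hr => by
    by_cases e : r = p
    · exact Or.inl e
    · exact Or.inr (hno r hr e)) (Set.toFinite _)
  rw [K.ncard_lifts hB] at h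
  have h2 : ({p, q} : Set ↥(Cd d)).ncard ≤ 2 := by
    refine (Set.ncard_insert_le _ _).trans ?_
    rw [Set.ncard_singleton]
  omega

theorem exists_triple : ∃ p ∈ lifts π X B, ∃ q ∈ lifts π X B, ∃ r ∈ lifts π X B,
    q ≠ p ∧ r ≠ p ∧ r ≠ q := by
  obtain ⟨p, hp, -, -⟩ := K.exists_third hB 1 1
  obtain ⟨q, hq, hqp, -⟩ := K.exists_third hB p p
  obtain ⟨r, hr, hrp, hrq⟩ := K.exists_third hB p q
  exact ⟨p, hp, q, hq, r, hr, hqp, hrp, hrq⟩

theorem zz (x : ↥(Cd d)) : x * z * z = x := by rw [mul_assoc, K.cover.sq, mul_one]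

theorem coe_z (x : ↥(Cd d)) : ((x * z : ↥(Cd d)) : G) = (x : G) * d := by
  rw [Subgroup.coe_mul, K.z_val]

theorem pair_notMem' {p q : ↥(Cd d)} (hp : p * z ∈ lifts π X B) (hq : q * z ∈ lifts π X B) :
    ((p * q : ↥(Cd d)) : G) ∉ orb π B := by
  have h := K.pair_notMem hB hp hq
  rwa [show p * z * (q * z) = p * q by
    rw [mul_assoc p, ← mul_assoc z q, (K.cover.central q).eq, mul_assoc q, K.cover.sq, mul_one]] at h

variable (htr : ∀ y ∈ orb π B, ∃ n ∈ Subgroup.normalizer (amb π B : Set G), n * d * n⁻¹ = y)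
include htr

/-- Both classes of lifts and nothing else: length 45. -/
theorem false45 (h1 : ∀ p ∈ lifts π X B, (p : G) ∈ orb π B)
    (h1' : ∀ p ∈ lifts π X B, ((p * z : ↥(Cd d)) : G) ∈ orb π B)
    (h2 : ∀ p ∈ lifts π X B, ∀ q ∈ lifts π X B, q ≠ p → ((p * q * z : ↥(Cd d)) : G) ∉ orb π B)
    (h3 : ∀ p ∈ lifts π X B, ∀ q ∈ lifts π X B, ∀ r ∈ lifts π X B, q ≠ p ∧ r ≠ p ∧ r ≠ q →
      ((p * q * r : ↥(Cd d)) : G) ∉ orb π B ∧ ((p * q * r * z : ↥(Cd d)) : G) ∉ orb π B) : False := by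
  obtain ⟨p, hp, q, hq, r, -, hqp, -, -⟩ := K.exists_triple hB
  obtain ⟨n, -, e, hn⟩ := K.transport hB htr (h1 p hp)
  set y := MulAut.conj n⁻¹ (q : G) with hy
  have hyq : MulAut.conj n y = (q : G) := by simp [hy, mul_assoc]
  have hyO : y ∈ orb π B := (hn y).1 (by rw [hyq]; exact h1 q hq)
  obtain ⟨⟨c, hc, hcy⟩, -⟩ := hyO
  have hcO : (c : G) ∈ orb π B := by
    rw [show (c : G) = y from hcy]; exact (hn y).1 (by rw [hyq]; exact h1 q hq)
  have hcz : ((c * z : ↥(Cd d)) : G) ∈ orb π B ∨ c = z := by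
    obtain ⟨u, hu, hk⟩ := K.gp_cases hB hc
    rcases hk with rfl | hk | ⟨a, ha, b, hb, hab, rfl⟩ | ⟨a, ha, b, hb, f, hf, hab, rfl⟩
    · rcases hu with rfl | rfl
      · exact absurd hcO (by rw [Subgroup.coe_one]; exact K.one_notMem_orb hB)
      · exact Or.inr (one_mul z)
    · rcases hu with rfl | rfl
      · exact Or.inl (h1' _ hk)
      · exact Or.inl (by rw [K.zz hB]; exact h1 u hk)
    · rcases hu with rfl | rfl
      · exact absurd hcO (K.pair_notMem hB ha hb)
      · exact absurd hcO (h2 a ha b hb hab)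
    · rcases hu with rfl | rfl
      · exact absurd hcO (h3 a ha b hb f hf hab).1
      · exact absurd hcO (h3 a ha b hb f hf hab).2
  rcases hcz with h | h
  · rw [K.coe_z hB, show (c : G) = y from hcy, ← hn, map_mul, hyq, MulAut.conj_apply, e,
      ← Subgroup.coe_mul] at h
    exact K.pair_notMem hB hq hp h
  · have : y = d := by rw [← K.z_val, ← h]; exact hcy.symm
    rw [this, MulAut.conj_apply, e] at hyq
    exact hqp (Subtype.ext hyq.symm)

/-- Both classes of lifts and the pairs: length 276. -/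
theorem false276 (h1 : ∀ p ∈ lifts π X B, (p : G) ∈ orb π B)
    (h1' : ∀ p ∈ lifts π X B, ((p * z : ↥(Cd d)) : G) ∈ orb π B)
    (h2 : ∀ p ∈ lifts π X B, ∀ q ∈ lifts π X B, q ≠ p → ((p * q * z : ↥(Cd d)) : G) ∈ orb π B)
    (h3 : ∀ p ∈ lifts π X B, ∀ q ∈ lifts π X B, ∀ r ∈ lifts π X B, q ≠ p ∧ r ≠ p ∧ r ≠ q →
      ((p * q * r : ↥(Cd d)) : G) ∉ orb π B ∧ ((p * q * r * z : ↥(Cd d)) : G) ∉ orb π B) : False := by
  -- the neighbours of `d` are the lifts of members
  have hnb : ∀ y ∈ orb π B, d * y ∈ orb π B →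
      ∃ c : ↥(Cd d), (c : G) = y ∧ (c ∈ lifts π X B ∨ c * z ∈ lifts π X B) := by
    rintro y ⟨⟨c, hc, rfl⟩, hcc⟩ hdy
    have hcO : (c : G) ∈ orb π B := mem_orb.2 ⟨hc, hcc⟩
    have hdy' : ((c * z : ↥(Cd d)) : G) ∈ orb π B := by
      rw [← (K.cover.central c).eq, Subgroup.coe_mul, K.z_val]; exact hdy
    refine ⟨c, rfl, ?_⟩
    obtain ⟨u, hu, hk⟩ := K.gp_cases hB hc
    rcases hk with rfl | hk | ⟨a, ha, b, hb, hab, rfl⟩ | ⟨a, ha, b, hb, f, hf, hab, rfl⟩
    · rcases hu with rfl | rfl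
      · exact absurd hcO (by rw [Subgroup.coe_one]; exact K.one_notMem_orb hB)
      · rw [K.zz hB, Subgroup.coe_one] at hdy'
        exact absurd hdy' (K.one_notMem_orb hB)
    · rcases hu with rfl | rfl
      · exact Or.inl hk
      · exact Or.inr (by rw [K.zz hB]; exact hk)
    · rcases hu with rfl | rfl
      · exact absurd hcO (K.pair_notMem hB ha hb)
      · rw [K.zz hB] at hdy'
        exact absurd hdy' (K.pair_notMem hB ha hb)
    · rcases hu with rfl | rfl
      · exact absurd hcO (h3 a ha b hb f hf hab).1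
      · exact absurd hcO (h3 a ha b hb f hf hab).2
  have hmix : ∀ {u v : ↥(Cd d)}, u ∈ lifts π X B → v * z ∈ lifts π X B →
      ((u * v : ↥(Cd d)) : G) ∈ orb π B := fun {u v} hu hv => by
    rw [show u * v = u * (v * z) * z by rw [← mul_assoc u v z, K.zz hB]]
    by_cases h : v * z = u
    · rw [h, K.lifts_sq hB hu, one_mul]; exact K.z_mem_orb hB
    · exact h2 u hu _ hv h
  have hd : ∀ u ∈ orb π B, ∀ v ∈ orb π B, ∀ w ∈ orb π B, d * u ∈ orb π B → d * v ∈ orb π B →
      d * w ∈ orb π B → u * v ∉ orb π B → u * w ∉ orb π B → v * w ∉ orb π B := by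
    intro u hu v hv w hw du dv dw huv huw
    obtain ⟨cu, rfl, ku⟩ := hnb u hu du
    obtain ⟨cv, rfl, kv⟩ := hnb v hv dv
    obtain ⟨cw, rfl, kw⟩ := hnb w hw dw
    rw [← Subgroup.coe_mul] at huv huw ⊢
    have hswap : ∀ {a b : ↥(Cd d)}, (a ∈ lifts π X B ∨ a * z ∈ lifts π X B) → b ∈ lifts π X B →
        ((a * b : ↥(Cd d)) : G) ∉ orb π B → a ∈ lifts π X B := fun {a b} ha hb hab =>
      ha.resolve_right fun ha' => hab (by
        have hag : a ∈ gp π B := by
          have := mul_mem (K.lifts_gp hB ha') (K.z_mem B)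
          rwa [K.zz hB] at this
        rw [(K.gp_comm hB hag (K.lifts_gp hB hb)).eq]
        exact hmix hb ha')
    rcases ku with hu' | hu'
    · exact K.pair_notMem hB (kv.resolve_right fun h => huv (hmix hu' h))
        (kw.resolve_right fun h => huw (hmix hu' h))
    · have hg : ∀ {a : ↥(Cd d)}, a * z ∈ lifts π X B → a ∈ gp π B := fun {a} h => by
        have := mul_mem (K.lifts_gp hB h) (K.z_mem B)
        rwa [K.zz hB] at this
      refine K.pair_notMem' hB (kv.resolve_left fun h => huv ?_) (kw.resolve_left fun h => huw ?_) <;>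
      · rw [(K.gp_comm hB (hg hu') (K.lifts_gp hB h)).eq]
        exact hmix h hu'
  obtain ⟨p, hp, q, hq, r, hr, hqp, hrp, hrq⟩ := K.exists_triple hB
  obtain ⟨n, -, e, hn⟩ := K.transport hB htr (h1 p hp)
  have hp' : ∀ u ∈ orb π B, ∀ v ∈ orb π B, ∀ w ∈ orb π B, (p : G) * u ∈ orb π B →
      (p : G) * v ∈ orb π B → (p : G) * w ∈ orb π B → u * v ∉ orb π B → u * w ∉ orb π B →
        v * w ∉ orb π B := by
    intro u hu v hv w hw
    obtain ⟨u, rfl⟩ := (MulAut.conj n).surjective u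
    obtain ⟨v, rfl⟩ := (MulAut.conj n).surjective v
    obtain ⟨w, rfl⟩ := (MulAut.conj n).surjective w
    rw [← e, ← MulAut.conj_apply]
    simp only [← map_mul, hn] at hu hv hw ⊢
    exact hd u hu v hv w hw
  have cqp := (K.gp_comm hB (K.lifts_gp hB hp) (K.lifts_gp hB hq))
  refine hp' _ (h1' q hq) _ (h2 p hp r hr hrp) _ (h1' r hr) ?_ ?_ ?_ ?_ ?_ ?_ <;>
    rw [← Subgroup.coe_mul]
  · rw [← mul_assoc]; exact h2 p hp q hq hqp
  · rw [← mul_assoc, ← mul_assoc, K.lifts_sq hB hp, one_mul]; exact h1' r hr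
  · rw [← mul_assoc]; exact h2 p hp r hr hrp
  · have h := (h3 q hq p hp r hr ⟨hqp.symm, hrq, hrp⟩).1
    rwa [show q * z * (p * r * z) = q * p * r by
      rw [mul_assoc q z, (K.cover.central (p * r * z)).eq, K.zz hB, mul_assoc q p r]]
  · have h := K.pair_notMem hB hq hr
    rwa [show q * z * (r * z) = q * r by
      rw [mul_assoc q z, (K.cover.central (r * z)).eq, K.zz hB]]
  · rw [show p * r * z * (r * z) = p by
      rw [mul_assoc (p * r) z, (K.cover.central (r * z)).eq, K.zz hB, mul_assoc, K.lifts_sq hB hr,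
        mul_one]]
    exact h1 p hp

/-- One of each kind: length 1024. -/
theorem false1024 (h1 : ∀ p ∈ lifts π X B, (p : G) ∈ orb π B)
    (hc : ∀ u ∈ gp π B, ((u : G) ∈ orb π B ↔ ((u * z : ↥(Cd d)) : G) ∉ orb π B)) : False := by
  have hxy : ∀ x ∈ orb π B, ∀ y ∈ orb π B, x * y ∉ orb π B := by
    intro x hx y hy
    obtain ⟨n, -, e, hn⟩ := K.transport hB htr hx
    obtain ⟨y, rfl⟩ := (MulAut.conj n).surjective y
    rw [← e, ← MulAut.conj_apply, ← map_mul, hn]
    obtain ⟨⟨c, hcg, rfl⟩, hcc⟩ := (hn y).1 hy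
    have h := (hc c hcg).1 (mem_orb.2 ⟨hcg, hcc⟩)
    rwa [← (K.cover.central c).eq, Subgroup.coe_mul, K.z_val] at h
  let S : Subgroup ↥(Cd d) :=
    { carrier := {s | s ∈ gp π B ∧ (s : G) ∉ orb π B}
      one_mem' := ⟨one_mem _, K.one_notMem_orb hB⟩
      mul_mem' := fun {s t} hs ht => ⟨mul_mem hs.1 ht.1, by
        have hs' := not_not.1 (fun h => hs.2 ((hc s hs.1).2 h))
        have ht' := not_not.1 (fun h => ht.2 ((hc t ht.1).2 h))
        have h := hxy _ hs' _ ht'
        rwa [← Subgroup.coe_mul, show s * z * (t * z) = s * t by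
          rw [mul_assoc s z, (K.cover.central (t * z)).eq, K.zz hB]] at h⟩
      inv_mem' := fun {s} hs => by
        rw [inv_eq_of_mul_eq_one_right (K.gp_sq hB hs.1)]; exact hs }
  have hz := CoverSplit.no_linear_lift K.grp K.prim K.type22 K.twist.cover K.perfect hB
  have hle : CoverSplit.hat π {x | x * z ∈ X} B ≤ S := (Subgroup.closure_le _).2 fun x hx => by
    have hxl : x * z ∈ lifts π X B := ⟨hx.1, by rw [map_mul, K.cover.map_z, mul_one]; exact hx.2⟩
    have hg : x ∈ gp π B := mem_gp.2 (Subgroup.subset_closure hx.2)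
    exact ⟨hg, fun h => (hc x hg).1 h (h1 _ hxl)⟩
  exact (hle hz).2 (K.z_mem_orb hB)

/-- One class of lifts and the pairs: length 254. -/
theorem false254 (h1 : ∀ p ∈ lifts π X B, (p : G) ∈ orb π B)
    (h1' : ∀ p ∈ lifts π X B, ((p * z : ↥(Cd d)) : G) ∉ orb π B)
    (h3 : ∀ p ∈ lifts π X B, ∀ q ∈ lifts π X B, ∀ r ∈ lifts π X B, q ≠ p ∧ r ≠ p ∧ r ≠ q →
      ((p * q * r : ↥(Cd d)) : G) ∉ orb π B ∧ ((p * q * r * z : ↥(Cd d)) : G) ∉ orb π B)
    (hcard : (orb π B).ncard = 254) : False := by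
  classical
  set O := orb π B with hO
  set L : Set G := Subtype.val '' lifts π X B with hL
  have hLcard : L.ncard = 22 := by
    rw [hL, Set.ncard_image_of_injective _ Subtype.val_injective, K.ncard_lifts hB]
  have hLO : L ⊆ O := by rintro _ ⟨x, hx, rfl⟩; exact h1 x hx
  set P : Set G := {x | ∃ a ∈ lifts π X B, ∃ b ∈ lifts π X B, b ≠ a ∧ ((a * b * z : ↥(Cd d)) : G) = x}
    with hP
  have hdL : d ∉ L := by
    rintro ⟨x, hx, e⟩
    obtain rfl : x = z := Subtype.ext (e.trans K.z_val.symm)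
    exact ne_one K.grp.1 (hB.1 hx.2) K.cover.map_z
  -- the orbit is made of the three parts
  have hparts : ∀ x ∈ O, x = d ∨ x ∈ L ∨ x ∈ P := by
    rintro x ⟨⟨c, hc, rfl⟩, hcc⟩
    have hcO : (c : G) ∈ O := mem_orb.2 ⟨hc, hcc⟩
    obtain ⟨u, hu, hk⟩ := K.gp_cases hB hc
    rcases hk with rfl | hk | ⟨a, ha, b, hb, hab, rfl⟩ | ⟨a, ha, b, hb, f, hf, hab, rfl⟩
    · rcases hu with rfl | rfl
      · exact absurd hcO (by rw [Subgroup.coe_one]; exact K.one_notMem_orb hB)
      · exact Or.inl (by rw [one_mul]; exact K.z_val)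
    · rcases hu with rfl | rfl
      · exact Or.inr (Or.inl ⟨_, hk, rfl⟩)
      · exact absurd hcO (h1' u hk)
    · rcases hu with rfl | rfl
      · exact absurd hcO (K.pair_notMem hB ha hb)
      · exact Or.inr (Or.inr ⟨a, ha, b, hb, hab, rfl⟩)
    · rcases hu with rfl | rfl
      · exact absurd hcO (h3 a ha b hb f hf hab).1
      · exact absurd hcO (h3 a ha b hb f hf hab).2
  have hPcard : 231 ≤ P.ncard := by
    have h := Set.ncard_le_ncard (s := O) (t := insert d (L ∪ P)) (fun x hx => hparts x hx) (Set.toFinite _)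
    have h' := (Set.ncard_insert_le d (L ∪ P)).trans (Nat.succ_le_succ (Set.ncard_union_le L P))
    omega
  -- elements of the normaliser and the relation they carry
  set N := Subgroup.normalizer (amb π B : Set G) with hN
  have hNO : ∀ n ∈ N, ∀ y, MulAut.conj n y ∈ O ↔ y ∈ O := fun n hn y =>
    and_congr (Subgroup.mem_normalizer_iff.1 hn y).symm
      ⟨fun h => h.trans (isConj_iff.2 ⟨n⁻¹, by simp [mul_assoc]⟩),
        fun h => h.trans (isConj_iff.2 ⟨n, by simp⟩)⟩
  have hcN : ∀ c : ↥(Cd d), MulAut.conj (π c) '' B = B → (c : G) ∈ N := fun c hc => by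
    refine Subgroup.mem_normalizer_iff.2 fun x => ?_
    have hmap : (gp π B).map (MulAut.conj c).toMonoidHom = gp π B := by
      ext y
      have e : (Subgroup.closure B).map (MulAut.conj (π c)).toMonoidHom = Subgroup.closure B := by
        rw [MonoidHom.map_closure]; exact congrArg _ hc
      rw [Subgroup.map_equiv_eq_comap_symm', Subgroup.mem_comap, mem_gp, mem_gp]
      conv_rhs => rw [← e]
      rw [Subgroup.map_equiv_eq_comap_symm', Subgroup.mem_comap]
      simp
    have key : (amb π B).map (MulAut.conj (c : G)).toMonoidHom = amb π B := by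
      rw [amb, Subgroup.map_map]
      conv_rhs => rw [← hmap, Subgroup.map_map]
      rfl
    conv_rhs => rw [← key]
    exact (Subgroup.mem_map_iff_mem (MulAut.conj (c : G)).injective).symm
  have hcd : ∀ c : ↥(Cd d), MulAut.conj (c : G) d = d := fun c => by
    rw [MulAut.conj_apply, Subgroup.mem_centralizer_singleton_iff.1 c.2, mul_inv_cancel_right]
  have hLinv : ∀ n ∈ N, n * d * n⁻¹ = d → ∀ x ∈ L, MulAut.conj n x ∈ L := by
    intro n hn hd
    obtain ⟨c, rfl, hc⟩ := K.stab hB hn hd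
    rintro _ ⟨x, hx, rfl⟩
    exact ⟨c * x * c⁻¹, ⟨K.cover.X_conj c x hx.1, by
      rw [map_mul, map_mul, map_inv]; exact hc.le ⟨π x, hx.2, rfl⟩⟩, rfl⟩
  let R : G → G → Prop := fun x y => ∃ n ∈ N, n * d * n⁻¹ = x ∧ (MulAut.conj n).symm y ∈ L
  have hRn : ∀ {n x : G}, n ∈ N → n * d * n⁻¹ = x → ∀ y, R x y ↔ y ∈ MulAut.conj n '' L := by
    intro n x hn hx y
    constructor
    · rintro ⟨m, hm, hmx, hy⟩
      have hk := hLinv (n⁻¹ * m) (mul_mem (inv_mem hn) hm) (by
        rw [show n⁻¹ * m * d * (n⁻¹ * m)⁻¹ = n⁻¹ * (m * d * m⁻¹) * n by group, hmx, ← hx]; group) _ hy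
      exact ⟨_, hk, by simp [mul_assoc]⟩
    · rintro ⟨l, hl, rfl⟩
      exact ⟨n, hn, hx, by rwa [MulEquiv.symm_apply_apply]⟩
  have hRd : ∀ y, R d y ↔ y ∈ L := fun y => by
    rw [hRn (one_mem N) (by group) y, map_one]; simp
  have hReq : ∀ {k : G}, k ∈ N → ∀ {x y : G}, R x y → R (MulAut.conj k x) (MulAut.conj k y) := by
    rintro k hk x y ⟨n, hn, rfl, hy⟩
    refine ⟨k * n, mul_mem hk hn, by simp [mul_assoc], ?_⟩
    convert hy using 1
    simp only [MulAut.conj_symm_apply, MulAut.conj_apply]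
    group
  have hRiff : ∀ {k : G}, k ∈ N → ∀ {x y : G}, R (MulAut.conj k x) (MulAut.conj k y) ↔ R x y := by
    intro k hk x y
    refine ⟨fun h => ?_, hReq hk⟩
    have := hReq (inv_mem hk) h
    simpa [mul_assoc] using this
  -- every in-degree is 22
  have hout : ∀ x ∈ O, {y | y ∈ O ∧ R x y}.ncard = 22 := by
    intro x hx
    obtain ⟨n, hn, e⟩ := htr x hx
    have : {y | y ∈ O ∧ R x y} = MulAut.conj n '' L := by
      ext y
      rw [Set.mem_setOf_eq, hRn hn e y]
      exact ⟨fun h => h.2, fun h => ⟨by obtain ⟨l, hl, rfl⟩ := h; exact (hNO n hn l).2 (hLO hl), h⟩⟩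
    rw [this, Set.ncard_image_of_injective _ (MulAut.conj n).injective, hLcard]
  have hin : ∀ y ∈ O, {x | x ∈ O ∧ R x y}.ncard = {x | x ∈ O ∧ R x d}.ncard := by
    intro y hy
    obtain ⟨n, hn, rfl⟩ := htr y hy
    rw [← Set.ncard_image_of_injective {x | x ∈ O ∧ R x d} (MulAut.conj n).injective]
    congr 1
    ext x
    constructor
    · rintro ⟨hx, h⟩
      refine ⟨(MulAut.conj n).symm x, ⟨(hNO n hn _).1 (by rwa [MulEquiv.apply_symm_apply]), (hRiff hn).1 ?_⟩,
        MulEquiv.apply_symm_apply _ _⟩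
      rwa [MulEquiv.apply_symm_apply]
    · rintro ⟨w, ⟨hw, h⟩, rfl⟩
      exact ⟨(hNO n hn w).2 hw, hReq hn h⟩
  have hindeg : {x | x ∈ O ∧ R x d}.ncard = 22 := by
    set F := (Set.toFinite O).toFinset with hF
    have hb := Finset.sum_card_bipartiteAbove_eq_sum_card_bipartiteBelow (s := F) (t := F) R
    have hset : ∀ (q : G → Prop), (F.filter q).card = {y | y ∈ O ∧ q y}.ncard := fun q => by
      rw [← Set.ncard_coe_finset]; simp [hF]
    simp only [Finset.bipartiteAbove, Finset.bipartiteBelow] at hb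
    rw [Finset.sum_congr rfl fun x hx => (hset _).trans (hout x ((Set.toFinite O).mem_toFinset.1 hx)),
      Finset.sum_congr rfl fun y hy => (hset _).trans (hin y ((Set.toFinite O).mem_toFinset.1 hy)),
      Finset.sum_const, Finset.sum_const, smul_eq_mul, smul_eq_mul] at hb
    have hF254 : F.card = 254 := by rw [hF, ← Set.ncard_eq_toFinset_card O, hcard]
    rw [hF254] at hb
    omega
  -- every lift is related to `d`
  have hed : ∀ e ∈ L, R e d := by
    rintro _ ⟨e, he, rfl⟩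
    by_contra hne
    have hall : ∀ e' ∈ lifts π X B, ¬ R (e' : G) d := fun e' he' h => by
      obtain ⟨c, hc, rfl⟩ := K.one_trans hB he he'
      have h1 : R (MulAut.conj (c : G) (e : G)) (MulAut.conj (c : G) d) := by rw [hcd]; exact h
      exact hne ((hRiff (hcN c hc)).1 h1)
    have hsub : {x | x ∈ O ∧ R x d} ⊆ P := fun x hx => by
      rcases hparts x hx.1 with h | ⟨e', he', rfl⟩ | h
      · exact absurd ((hRd d).1 (h ▸ hx.2)) hdL
      · exact absurd hx.2 (hall e' he')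
      · exact h
    obtain ⟨w, hw⟩ : {x | x ∈ O ∧ R x d}.Nonempty :=
      Set.nonempty_of_ncard_ne_zero (by rw [hindeg]; norm_num)
    obtain ⟨a, ha, b, hb, hab, rfl⟩ := hsub hw
    have hPsub : P ⊆ {x | x ∈ O ∧ R x d} := by
      rintro _ ⟨a', ha', b', hb', hab', rfl⟩
      obtain ⟨c, hc, rfl, rfl⟩ := K.two_trans hB ha hb ha' hb' hab hab'
      have e1 : ((c * a * c⁻¹ * (c * b * c⁻¹) * z : ↥(Cd d)) : G) =
          MulAut.conj (c : G) ((a * b * z : ↥(Cd d)) : G) := by
        rw [show c * a * c⁻¹ * (c * b * c⁻¹) * z = c * (a * b * z) * c⁻¹ by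
          simp only [mul_assoc, inv_mul_cancel_left]; rw [(K.cover.central c⁻¹).eq]]
        rfl
      rw [e1]
      refine ⟨(hNO _ (hcN c hc) _).2 hw.1, ?_⟩
      have h := hReq (hcN c hc) hw.2
      rwa [hcd] at h
    have := Set.ncard_le_ncard hPsub (Set.toFinite _)
    omega
  -- the neighbours of a lift
  have hnb : ∀ e ∈ lifts π X B, (∃ f ∈ lifts π X B, R (e : G) f) ∨
      ∀ f ∈ lifts π X B, f ≠ e → R (e : G) ((e * f * z : ↥(Cd d)) : G) := by
    intro e he
    by_contra hno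
    push Not at hno
    obtain ⟨hF, f₀, hf₀, hf₀e, hnR⟩ := hno
    have h21 : ∀ f ∈ lifts π X B, f ≠ e → ¬ R (e : G) ((e * f * z : ↥(Cd d)) : G) := by
      intro f hf hfe h
      obtain ⟨c, hc, ec, rfl⟩ := K.two_trans hB he hf he hf₀ hfe hf₀e
      have h' := hReq (hcN c hc) h
      rw [MulAut.conj_apply, MulAut.conj_apply, ← Subgroup.coe_inv, ← Subgroup.coe_mul,
        ← Subgroup.coe_mul, ec, ← Subgroup.coe_mul, ← Subgroup.coe_mul] at h'
      refine hnR ?_
      rwa [show c * (e * f * z) * c⁻¹ = e * (c * f * c⁻¹) * z by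
        conv_rhs => rw [← ec]
        simp only [mul_assoc, inv_mul_cancel_left]; rw [(K.cover.central c⁻¹).eq]] at h'
    have hsub : {y | y ∈ O ∧ R (e : G) y} ⊆ insert d
        {x | ∃ a ∈ lifts π X B, ∃ b ∈ lifts π X B, b ≠ a ∧ a ≠ e ∧ b ≠ e ∧
          ((a * b * z : ↥(Cd d)) : G) = x} := by
      intro y hy
      rcases hparts y hy.1 with h | ⟨f, hf, rfl⟩ | ⟨a, ha, b, hb, hab, rfl⟩
      · exact Or.inl h
      · exact absurd hy.2 (hF f hf)
      · refine Or.inr ⟨a, ha, b, hb, hab, fun h => ?_, fun h => ?_, rfl⟩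
        · subst h; exact h21 b hb hab hy.2
        · subst h
          have c' := K.gp_comm hB (K.lifts_gp hB ha) (K.lifts_gp hB hb)
          exact h21 a ha (Ne.symm hab) (by rw [← c'.eq]; exact hy.2)
    set Q := {x | ∃ a ∈ lifts π X B, ∃ b ∈ lifts π X B, b ≠ a ∧ a ≠ e ∧ b ≠ e ∧
          ((a * b * z : ↥(Cd d)) : G) = x} with hQ
    obtain ⟨y, hy, hyd⟩ : ∃ y ∈ {y | y ∈ O ∧ R (e : G) y}, y ≠ d := by
      by_contra h
      push Not at h
      have := Set.ncard_le_ncard (t := ({d} : Set G)) h (Set.toFinite _)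
      rw [hout _ (h1 e he), Set.ncard_singleton] at this
      omega
    obtain ⟨a, ha, b, hb, hab, hae, hbe, rfl⟩ := (hsub hy).resolve_left hyd
    have hQsub : Q ⊆ {y | y ∈ O ∧ R (e : G) y} := by
      rintro _ ⟨a', ha', b', hb', hab', hae', hbe', rfl⟩
      obtain ⟨c, hc, ec, rfl, rfl⟩ := K.three_trans hB he ha hb he ha' hb'
        ⟨hae, hbe, hab⟩ ⟨hae', hbe', hab'⟩
      have e1 : ((c * a * c⁻¹ * (c * b * c⁻¹) * z : ↥(Cd d)) : G) =
          MulAut.conj (c : G) ((a * b * z : ↥(Cd d)) : G) := by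
        rw [show c * a * c⁻¹ * (c * b * c⁻¹) * z = c * (a * b * z) * c⁻¹ by
          simp only [mul_assoc, inv_mul_cancel_left]; rw [(K.cover.central c⁻¹).eq]]
        rfl
      rw [e1]
      refine ⟨(hNO _ (hcN c hc) _).2 hy.1, ?_⟩
      have h := hReq (hcN c hc) hy.2
      rwa [show MulAut.conj (c : G) (e : G) = ((c * e * c⁻¹ : ↥(Cd d)) : G) from rfl, ec] at h
    have hPQ : P ⊆ Q ∪ (fun f : ↥(Cd d) => ((e * f * z : ↥(Cd d)) : G)) '' lifts π X B := by
      rintro _ ⟨a', ha', b', hb', hab', rfl⟩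
      by_cases h : a' = e
      · exact Or.inr ⟨b', hb', by rw [h]⟩
      by_cases h' : b' = e
      · refine Or.inr ⟨a', ha', ?_⟩
        rw [h', (K.gp_comm hB (K.lifts_gp hB ha') (K.lifts_gp hB he)).eq]
      · exact Or.inl ⟨a', ha', b', hb', hab', h, h', rfl⟩
    have h5 := (Set.ncard_le_ncard hPQ (Set.toFinite _)).trans (Set.ncard_union_le _ _)
    have h6 := (Set.ncard_image_le (f := fun f : ↥(Cd d) => ((e * f * z : ↥(Cd d)) : G))
      (Set.toFinite (lifts π X B))).trans (K.ncard_lifts hB).le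
    have h7 := Set.ncard_le_ncard hQsub (Set.toFinite _)
    rw [hout _ (h1 e he)] at h7
    omega
  by_cases hFex : ∃ e ∈ lifts π X B, ∃ f ∈ lifts π X B, R (e : G) f
  · -- the classes of the relation would have 23 members
    obtain ⟨e₀, he₀, f₀, hf₀, hR₀⟩ := hFex
    have hne₀ : f₀ ≠ e₀ := by
      rintro rfl
      obtain ⟨n, hn, en⟩ := htr _ (h1 f₀ hf₀)
      obtain ⟨l, hl, el⟩ := (hRn hn en _).1 hR₀
      rw [← en, ← MulAut.conj_apply] at el
      exact hdL ((MulAut.conj n).injective el ▸ hl)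
    have hallR : ∀ e ∈ lifts π X B, ∀ f ∈ lifts π X B, f ≠ e → R (e : G) f := fun e he f hf hfe => by
      obtain ⟨c, hc, rfl, rfl⟩ := K.two_trans hB he₀ hf₀ he hf hne₀ hfe
      exact hReq (hcN c hc) hR₀
    let cl : G → Set G := fun x => {y | y ∈ O ∧ (y = x ∨ R x y)}
    have hclcard : ∀ x ∈ O, (cl x).ncard = 23 := by
      intro x hx
      have e : cl x = insert x {y | y ∈ O ∧ R x y} := by
        ext y; simp only [cl, Set.mem_setOf_eq, Set.mem_insert_iff]
        exact ⟨fun h => h.2.imp id fun h' => ⟨h.1, h'⟩,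
          fun h => h.elim (fun h => ⟨h ▸ hx, Or.inl h⟩) fun h => ⟨h.1, Or.inr h.2⟩⟩
      rw [e, Set.ncard_insert_of_notMem, hout x hx]
      rintro ⟨-, h⟩
      obtain ⟨n, hn, en⟩ := htr x hx
      obtain ⟨l, hl, el⟩ := (hRn hn en x).1 h
      rw [← en, ← MulAut.conj_apply] at el
      exact hdL ((MulAut.conj n).injective el ▸ hl)
    have hcl : ∀ e ∈ lifts π X B, cl (e : G) = cl d := fun e he => by
      refine (Set.eq_of_subset_of_ncard_le ?_ (by rw [hclcard _ (h1 e he), hclcard d (K.d_mem_orb hB)])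
        (Set.toFinite _)).symm
      rintro y ⟨hy, hy'⟩
      refine ⟨hy, ?_⟩
      rcases hy' with rfl | hy'
      · exact Or.inr (hed _ ⟨e, he, rfl⟩)
      · obtain ⟨f, hf, rfl⟩ := (hRd y).1 hy'
        exact or_iff_not_imp_left.2 fun h => hallR e he f hf fun h' => h (h' ▸ rfl)
    have hcl' : ∀ x ∈ O, ∀ y ∈ cl x, cl y = cl x := by
      intro x hx y hy
      obtain ⟨n, hn, e⟩ := htr x hx
      obtain ⟨y, rfl⟩ := (MulAut.conj n).surjective y
      rw [← MulAut.conj_apply] at e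
      subst e
      have himg : ∀ w, cl (MulAut.conj n w) = MulAut.conj n '' cl w := fun w => by
        ext v
        obtain ⟨v, rfl⟩ := (MulAut.conj n).surjective v
        rw [(MulAut.conj n).injective.mem_set_image]
        simp only [cl, Set.mem_setOf_eq, hNO n hn, hRiff hn, EmbeddingLike.apply_eq_iff_eq]
      rw [himg] at hy
      obtain ⟨y', hy', e'⟩ := hy
      obtain rfl := (MulAut.conj n).injective e'
      rw [himg, himg]
      congr 1
      rcases hy'.2 with h | h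
      · rw [h]
      · obtain ⟨f, hf, rfl⟩ := (hRd y').1 h
        exact hcl f hf
    set F := (Set.toFinite O).toFinset with hF
    have hsum := Finset.card_eq_sum_card_fiberwise (f := cl) (s := F) (t := F.image cl)
      fun x hx => Finset.mem_image_of_mem cl hx
    rw [Finset.sum_congr rfl (g := fun _ => 23) fun S hS => by
      obtain ⟨x, hx, rfl⟩ := Finset.mem_image.1 hS
      rw [hF, Set.Finite.mem_toFinset] at hx
      rw [← Set.ncard_coe_finset, ← hclcard x hx]
      congr 1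
      ext y
      simp only [hF, Finset.coe_filter, Set.Finite.mem_toFinset, Set.mem_setOf_eq]
      exact ⟨fun h => h.2 ▸ ⟨h.1, Or.inl rfl⟩, fun h => ⟨h.1, hcl' x hx y h⟩⟩,
      Finset.sum_const, smul_eq_mul, hF, ← Set.ncard_eq_toFinset_card O, hcard] at hsum
    omega
  -- the other class of lifts is preserved
  push Not at hFex
  have hpair : ∀ e ∈ lifts π X B, ∀ f ∈ lifts π X B, f ≠ e → R (e : G) ((e * f * z : ↥(Cd d)) : G) :=
    fun e he => (hnb e he).resolve_left fun ⟨f, hf, h⟩ => hFex e he f hf h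
  set M : Set G := (fun x : ↥(Cd d) => ((x * z : ↥(Cd d)) : G)) '' lifts π X B with hM
  have hpres : ∀ e ∈ lifts π X B, ∀ n ∈ N, n * d * n⁻¹ = e → ∀ m ∈ M, MulAut.conj n m ∈ M := by
    rintro e he n hn en _ ⟨x, hx, rfl⟩
    have hR : R (e : G) (MulAut.conj n (x : G)) := (hRn hn en _).2 ⟨_, ⟨x, hx, rfl⟩, rfl⟩
    have hsub : insert d ((fun f : ↥(Cd d) => ((e * f * z : ↥(Cd d)) : G)) '' (lifts π X B \ {e})) ⊆
        {y | y ∈ O ∧ R (e : G) y} := by
      rintro y (rfl | ⟨f, hf, rfl⟩)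
      · exact ⟨K.d_mem_orb hB, hed _ ⟨e, he, rfl⟩⟩
      · have h := hpair e he f hf.1 hf.2
        exact ⟨by obtain ⟨l, hl, el⟩ := (hRn hn en _).1 h; beta_reduce; rw [← el]; exact (hNO n hn l).2 (hLO hl), h⟩
    have hdn : d ∉ (fun f : ↥(Cd d) => ((e * f * z : ↥(Cd d)) : G)) '' (lifts π X B \ {e}) := by
      rintro ⟨f, hf, hef⟩
      have h : e * f * z = z := Subtype.ext (hef.trans K.z_val.symm)
      rw [mul_eq_right, mul_eq_one_iff_inv_eq, inv_eq_of_mul_eq_one_right (K.lifts_sq hB he)] at h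
      exact hf.2 h.symm
    have heq := Set.eq_of_subset_of_ncard_le hsub (by
      rw [hout _ (h1 e he), Set.ncard_insert_of_notMem hdn, Set.ncard_image_of_injective,
        Set.ncard_sdiff_singleton_of_mem he, K.ncard_lifts hB]
      intro f g hfg
      exact mul_left_cancel (mul_right_cancel (Subtype.ext hfg))) (Set.toFinite _)
    have hmem : MulAut.conj n (x : G) ∈ {y | y ∈ O ∧ R (e : G) y} :=
      ⟨(hNO n hn _).2 (h1 x hx), hR⟩
    rw [← heq] at hmem
    have eprod : MulAut.conj n ((x * z : ↥(Cd d)) : G) = MulAut.conj n (x : G) * e := by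
      rw [K.coe_z hB, map_mul, MulAut.conj_apply n d, en]
    rw [eprod]
    rcases hmem with h | ⟨f, hf, hf'⟩
    · refine ⟨e, he, ?_⟩
      beta_reduce; rw [h, ← (K.cover.central e).eq, Subgroup.coe_mul, K.z_val]
    · refine ⟨f, hf.1, ?_⟩
      rw [← hf', ← Subgroup.coe_mul]
      congr 1
      rw [mul_assoc (e * f) z e, (K.cover.central e).eq, ← mul_assoc,
        mul_assoc e f e, (K.gp_comm hB (K.lifts_gp hB hf.1) (K.lifts_gp hB he)).eq, ← mul_assoc,
        K.lifts_sq hB he, one_mul]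
  obtain ⟨e, he, f, hf, g, hg, hfe, hge, hgf⟩ := K.exists_triple hB
  obtain ⟨n, hn, en⟩ := htr _ (h1 e he)
  obtain ⟨_, ⟨f', hf', rfl⟩, ef'⟩ := (hRn hn en _).1 (hpair e he f hf hfe)
  obtain ⟨n', hn', en'⟩ := htr _ (h1 f' hf')
  have hk : n * n' * d * (n * n')⁻¹ = ((e * f * z : ↥(Cd d)) : G) := by
    rw [show n * n' * d * (n * n')⁻¹ = n * (n' * d * n'⁻¹) * n⁻¹ by group, en', ← MulAut.conj_apply, ef']
  have hpk : ∀ m ∈ M, MulAut.conj (n * n') m ∈ M := fun m hm => by
    rw [map_mul, MulAut.mul_apply]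
    exact hpres e he n hn en _ (hpres f' hf' n' hn' en' m hm)
  have hM22 : M.ncard = 22 := by
    rw [hM, Set.ncard_image_of_injective _ fun a b h => mul_right_cancel (Subtype.ext h), K.ncard_lifts hB]
  have himg : MulAut.conj (n * n') '' M = M := Set.eq_of_subset_of_ncard_le
    (by rintro _ ⟨m, hm, rfl⟩; exact hpk m hm)
    (by rw [Set.ncard_image_of_injective _ (MulAut.conj _).injective]) (Set.toFinite _)
  obtain ⟨_, ⟨x, hx, rfl⟩, ex⟩ : ((g * z : ↥(Cd d)) : G) ∈ MulAut.conj (n * n') '' M :=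
    himg.symm ▸ ⟨g, hg, rfl⟩
  have hmem : MulAut.conj (n * n') ((x * z * z : ↥(Cd d)) : G) ∈ O :=
    (hNO _ (mul_mem hn hn') _).2 (by rw [K.zz hB]; exact h1 x hx)
  rw [K.coe_z hB, map_mul, ex, MulAut.conj_apply _ d, hk, ← Subgroup.coe_mul] at hmem
  have h := (h3 g hg e he f hf ⟨Ne.symm hge, Ne.symm hgf, hfe⟩).1
  apply h
  rwa [mul_assoc g z, (K.cover.central (e * f * z)).eq, K.zz hB, ← mul_assoc] at hmem

end Setting

end Cfsg.Agent.Transpos.DoubleThompson
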