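import Cfsg.Agent.Lib.Transpos.M22DoubleBase
import Cfsg.Agent.Lib.OddBaseTwo.SmallBounds

/-!
# The conjugates of `d` in the largest elementary abelian group: there are 23

The orbit of `d` under the normaliser is a union of the lifts of the kinds of elements of the group of
a base.  Its length divides the order of `GL₁₁(2)`, leaving 1, 23, 45, 254, 276 and 1024; all but 23
are impossible.
-/

set_option autoImplicit false
set_option linter.style.haveILetI false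
set_option linter.unusedSectionVars false

namespace Cfsg.Agent.Transpos.DoubleThompson

open Cfsg Thompson

variable {G Gb : Type*} [Group G] [Group Gb] [Finite G] [Finite Gb] {d : G}
variable {π : ↥(Cd d) →* Gb} {z : ↥(Cd d)} {D : Set Gb} {X : Set ↥(Cd d)}

/-- The conjugates of `d` in the largest elementary abelian group. -/
def orb (π : ↥(Cd d) →* Gb) (B : Set Gb) : Set G := {x | x ∈ amb π B ∧ IsConj d x}

/-- The lifts in `X` of a base. -/
def lifts (π : ↥(Cd d) →* Gb) (X : Set ↥(Cd d)) (B : Set Gb) : Set ↥(Cd d) := {x | x ∈ X ∧ π x ∈ B}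

namespace Setting

theorem mem_orb {B : Set Gb} {y : ↥(Cd d)} : (y : G) ∈ orb π B ↔ y ∈ gp π B ∧ IsConj d (y : G) :=
  and_congr_left' (Subgroup.mem_map_iff_mem Subtype.val_injective)

variable (K : Setting π z D X) {B : Set Gb} (hB : IsBase D B)
include K hB

theorem lifts_gp {x : ↥(Cd d)} (hx : x ∈ lifts π X B) : x ∈ gp π B :=
  mem_gp.2 (Subgroup.subset_closure hx.2)

theorem lifts_sq {x : ↥(Cd d)} (hx : x ∈ lifts π X B) : x * x = 1 := K.sq x (hB.1 hx.2)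

theorem gp_comm {x y : ↥(Cd d)} (hx : x ∈ gp π B) (hy : y ∈ gp π B) : Commute x y :=
  elem_commute (K.elem hB) hx hy

theorem gp_sq {x : ↥(Cd d)} (hx : x ∈ gp π B) : x * x = 1 := by
  rw [← pow_two]; exact (K.elem hB).2 x hx

theorem d_mem_orb : d ∈ orb π B := ⟨K.d_mem_amb B, IsConj.refl d⟩

theorem z_mem_orb : (z : G) ∈ orb π B := K.z_val.symm ▸ K.d_mem_orb hB

theorem one_notMem_orb : (1 : G) ∉ orb π B := fun h => by
  have := isConj_one_left.1 h.2
  exact K.cover.ne (Subtype.ext (K.z_val.trans this))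

/-- An element of `C` over the normaliser of the base permutes the conjugates of `d`. -/
theorem conj_iff {c : ↥(Cd d)} (hc : MulAut.conj (π c) '' B = B) (y : ↥(Cd d)) :
    ((c * y * c⁻¹ : ↥(Cd d)) : G) ∈ orb π B ↔ (y : G) ∈ orb π B := by
  have hmap : (Subgroup.closure B).map (MulAut.conj (π c)).toMonoidHom = Subgroup.closure B := by
    rw [MonoidHom.map_closure]; exact congrArg _ hc
  rw [mem_orb, mem_orb]
  refine and_congr ?_ ⟨fun h => h.trans (isConj_iff.2 ⟨(c : G)⁻¹, by simp [mul_assoc]⟩),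
    fun h => h.trans (isConj_iff.2 ⟨(c : G), by simp⟩)⟩
  rw [mem_gp, mem_gp, map_mul, map_mul, map_inv, ← MulAut.conj_apply]
  conv_lhs => rw [← hmap]
  exact Subgroup.mem_map_iff_mem (MulAut.conj (π c)).injective

/-- An element of the normaliser fixing `d` lies in `C` and normalises the base. -/
theorem stab {n : G} (hn : n ∈ Subgroup.normalizer (amb π B : Set G)) (hd : n * d * n⁻¹ = d) :
    ∃ c : ↥(Cd d), (c : G) = n ∧ MulAut.conj (π c) '' B = B := by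
  have hc : n ∈ Cd d := Subgroup.mem_centralizer_singleton_iff.2 (mul_inv_eq_iff_eq_mul.1 hd)
  refine ⟨⟨n, hc⟩, rfl, Set.eq_of_subset_of_ncard_le ?_
    (by rw [Set.ncard_image_of_injective _ (MulAut.conj _).injective]) (Set.toFinite _)⟩
  rintro _ ⟨b, hb, rfl⟩
  obtain ⟨x, rfl⟩ := K.cover.surj b
  refine mem_of_commute K.grp K.prim K.type22 hB (K.grp.2.1 _ _ (hB.1 hb)) fun s hs =>
    commute_closure hB.2.1 ?_ (Subgroup.subset_closure hs)
  obtain ⟨y, hy, e⟩ := (Subgroup.mem_normalizer_iff.1 hn (x : G)).1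
    ⟨x, mem_gp.2 (Subgroup.subset_closure hb), rfl⟩
  have e' : y = ⟨n, hc⟩ * x * ⟨n, hc⟩⁻¹ := Subtype.ext e
  rw [MulAut.conj_apply, ← map_inv, ← map_mul, ← map_mul, ← e']
  exact hy

/-- The product of two lifts of distinct members of the base in the same class is no conjugate of `d`. -/
theorem pair_notMem {p q : ↥(Cd d)} (hp : p ∈ lifts π X B) (hq : q ∈ lifts π X B) :
    ((p * q : ↥(Cd d)) : G) ∉ orb π B := by
  intro h
  by_cases hne : q = p
  · rw [hne, K.lifts_sq hB hp, Subgroup.coe_one] at h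
    exact K.one_notMem_orb hB h
  have hne' : π q ≠ π p := fun e => hne (K.cover.X_inj _ hq.1 _ hp.1 e)
  obtain ⟨-, H, -⟩ := m22_of_primitive K.grp K.prim K.type22
  have hpD := hB.1 hp.2
  have hqD := hB.1 hq.2
  have hqp : π q ∈ Dc D (π p) := ⟨hqD, hne', hB.2.1 _ hp.2 _ hq.2⟩
  obtain ⟨cc, hcc⟩ := (H.line (π p) hpD).1 (π q) hqp
  obtain ⟨r, -, -, hr, -, npr, nqr, -⟩ := H.exists_path hcc.1.1
    (mem_dc_symm hpD hcc.1) (mem_dc_symm hqD ⟨hcc.1.1, hcc.2.1, hcc.2.2⟩) hne'.symm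
    (hB.2.1 _ hp.2 _ hq.2)
  obtain ⟨R, hR, eR⟩ := K.cover.X_lift r hr.1
  have sR : R * R = 1 := K.sq R (eR ▸ hr.1)
  have iR : R⁻¹ = R := inv_eq_of_mul_eq_one_right sR
  have hbraid : ∀ {u : ↥(Cd d)}, u ∈ lifts π X B → ¬ Commute (π u) r → u * R * u = R * u * R := by
    intro u hu hnc
    have iu : u⁻¹ = u := inv_eq_of_mul_eq_one_right (K.lifts_sq hB hu)
    refine K.cover.X_inj _ ?_ _ ?_ ?_
    · simpa [iu] using K.cover.X_conj u R hR
    · simpa [iR] using K.cover.X_conj R u hu.1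
    · rw [map_mul, map_mul, map_mul, map_mul, eR]
      exact braid K.grp.1 (hB.1 hu.2) hr.1 hnc
  have bp := hbraid hp npr
  have bq := hbraid hq nqr
  have e1 : p * R * q * (p * R * q) = R * (p * q) * R := by
    have cqp : q * p = p * q := (K.gp_comm hB (K.lifts_gp hB hq) (K.lifts_gp hB hp)).eq
    calc p * R * q * (p * R * q) = p * R * (q * p) * R * q := by simp only [mul_assoc]
      _ = (p * R * p) * (q * R * q) := by rw [cqp]; simp only [mul_assoc]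
      _ = (R * p * R) * (R * q * R) := by rw [bp, bq]
      _ = R * p * (R * R) * q * R := by simp only [mul_assoc]
      _ = R * (p * q) * R := by rw [sR, mul_one, mul_assoc R p q]
  set w : ↥(Cd d) := R * (p * R * q) * R with hw
  have e2 : w * w = p * q := by
    calc w * w = R * (p * R * q) * (R * R) * (p * R * q) * R := by simp only [hw, mul_assoc]
      _ = R * (p * R * q * (p * R * q)) * R := by rw [sR, mul_one]; simp only [mul_assoc]
      _ = (R * R) * (p * q) * (R * R) := by rw [e1]; simp only [mul_assoc]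
      _ = p * q := by rw [sR, one_mul, mul_one]
  obtain ⟨g, hg⟩ := isConj_iff.1 (mem_orb.1 h).2
  refine K.not_square ⟨g⁻¹ * w * g, ?_⟩
  calc (g⁻¹ * (w : G) * g) ^ 2 = g⁻¹ * ((w * w : ↥(Cd d)) : G) * g := by
        simp only [pow_two, Subgroup.coe_mul]; group
    _ = g⁻¹ * (g * d * g⁻¹) * g := by rw [e2, hg]
    _ = d := by group

/-- The four kinds of elements. -/
theorem gp_cases {y : ↥(Cd d)} (hy : y ∈ gp π B) :
    ∃ u, (y = u ∨ y = u * z) ∧ (u = 1 ∨ u ∈ lifts π X B ∨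
      (∃ p ∈ lifts π X B, ∃ q ∈ lifts π X B, q ≠ p ∧ p * q = u) ∨
      ∃ p ∈ lifts π X B, ∃ q ∈ lifts π X B, ∃ r ∈ lifts π X B, (q ≠ p ∧ r ≠ p ∧ r ≠ q) ∧
        p * q * r = u) := by
  have key : ∀ u, π y = π u → (y = u ∨ y = u * z) := fun u e => by
    rcases K.cover.ker (u⁻¹ * y) (by simp [e]) with h | h
    · exact Or.inl (inv_mul_eq_one.1 h).symm
    · exact Or.inr (eq_mul_of_inv_mul_eq h)
  have hl : ∀ b ∈ B, ∃ x ∈ lifts π X B, π x = b := fun b hb => by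
    obtain ⟨x, hx, e⟩ := K.cover.X_lift b (hB.1 hb)
    exact ⟨x, ⟨hx, e.symm ▸ hb⟩, e⟩
  rcases kind_cases K.grp K.prim K.type22 hB (mem_gp.1 hy) with
    h | h | ⟨p, hp, q, hq, hne, e⟩ | ⟨p, hp, q, hq, r, hr, hne, e⟩
  · exact ⟨1, key 1 (by rw [h, map_one]), Or.inl rfl⟩
  · obtain ⟨x, hx, e⟩ := hl _ h
    exact ⟨x, key x e.symm, Or.inr (Or.inl hx)⟩
  · obtain ⟨p, hp', rfl⟩ := hl p hp
    obtain ⟨q, hq', rfl⟩ := hl q hq
    exact ⟨p * q, key _ (by rw [map_mul, e]),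
      Or.inr (Or.inr (Or.inl ⟨p, hp', q, hq', fun h => hne (congrArg π h), rfl⟩))⟩
  · obtain ⟨p, hp', rfl⟩ := hl p hp
    obtain ⟨q, hq', rfl⟩ := hl q hq
    obtain ⟨r, hr', rfl⟩ := hl r hr
    exact ⟨p * q * r, key _ (by rw [map_mul, map_mul, e]),
      Or.inr (Or.inr (Or.inr ⟨p, hp', q, hq', r, hr', ⟨fun h => hne.1 (congrArg π h),
        fun h => hne.2.1 (congrArg π h), fun h => hne.2.2 (congrArg π h)⟩, rfl⟩))⟩

theorem lift_ne {p q : ↥(Cd d)} (hp : p ∈ lifts π X B) (hq : q ∈ lifts π X B) (h : q ≠ p) :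
    π q ≠ π p := fun e => h (K.cover.X_inj _ hq.1 _ hp.1 e)

/-- The normaliser in `C` is transitive on the lifts. -/
theorem one_trans {p p' : ↥(Cd d)} (hp : p ∈ lifts π X B) (hp' : p' ∈ lifts π X B) :
    ∃ c : ↥(Cd d), MulAut.conj (π c) '' B = B ∧ c * p * c⁻¹ = p' := by
  obtain ⟨g, e, hg⟩ := exists_normalizer_one K.grp K.prim K.type22 hB hp.2 hp'.2
  obtain ⟨c, rfl⟩ := K.cover.surj g
  exact ⟨c, hg, K.cover.X_inj _ (K.cover.X_conj c p hp.1) _ hp'.1 (by simpa using e)⟩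

/-- The normaliser in `C` is transitive on pairs of lifts. -/
theorem two_trans {p q p' q' : ↥(Cd d)} (hp : p ∈ lifts π X B) (hq : q ∈ lifts π X B)
    (hp' : p' ∈ lifts π X B) (hq' : q' ∈ lifts π X B) (h : q ≠ p) (h' : q' ≠ p') :
    ∃ c : ↥(Cd d), MulAut.conj (π c) '' B = B ∧ c * p * c⁻¹ = p' ∧ c * q * c⁻¹ = q' := by
  obtain ⟨g, e1, e2, hg⟩ := exists_normalizer_two K.grp K.prim K.type22 hB hp.2 hq.2 hp'.2 hq'.2
    (K.lift_ne hB hp hq h) (K.lift_ne hB hp' hq' h')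
  obtain ⟨c, rfl⟩ := K.cover.surj g
  exact ⟨c, hg, K.cover.X_inj _ (K.cover.X_conj c p hp.1) _ hp'.1 (by simpa using e1),
    K.cover.X_inj _ (K.cover.X_conj c q hq.1) _ hq'.1 (by simpa using e2)⟩

/-- The normaliser in `C` is transitive on triples of lifts. -/
theorem three_trans {p q r p' q' r' : ↥(Cd d)} (hp : p ∈ lifts π X B) (hq : q ∈ lifts π X B)
    (hr : r ∈ lifts π X B) (hp' : p' ∈ lifts π X B) (hq' : q' ∈ lifts π X B) (hr' : r' ∈ lifts π X B)
    (h : q ≠ p ∧ r ≠ p ∧ r ≠ q) (h' : q' ≠ p' ∧ r' ≠ p' ∧ r' ≠ q') :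
    ∃ c : ↥(Cd d), MulAut.conj (π c) '' B = B ∧ c * p * c⁻¹ = p' ∧ c * q * c⁻¹ = q' ∧
      c * r * c⁻¹ = r' := by
  obtain ⟨g, e1, e2, e3, hg⟩ := exists_normalizer_three K.grp K.prim K.type22 hB hp.2 hq.2 hr.2
    hp'.2 hq'.2 hr'.2 ⟨K.lift_ne hB hp hq h.1, K.lift_ne hB hp hr h.2.1, K.lift_ne hB hq hr h.2.2⟩
    ⟨K.lift_ne hB hp' hq' h'.1, K.lift_ne hB hp' hr' h'.2.1, K.lift_ne hB hq' hr' h'.2.2⟩
  obtain ⟨c, rfl⟩ := K.cover.surj g
  exact ⟨c, hg, K.cover.X_inj _ (K.cover.X_conj c p hp.1) _ hp'.1 (by simpa using e1),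
    K.cover.X_inj _ (K.cover.X_conj c q hq.1) _ hq'.1 (by simpa using e2),
    K.cover.X_inj _ (K.cover.X_conj c r hr.1) _ hr'.1 (by simpa using e3)⟩

theorem one_uniform {p p' ε : ↥(Cd d)} (hp : p ∈ lifts π X B) (hp' : p' ∈ lifts π X B)
    (hε : ε = 1 ∨ ε = z) :
    ((p * ε : ↥(Cd d)) : G) ∈ orb π B ↔ ((p' * ε : ↥(Cd d)) : G) ∈ orb π B := by
  obtain ⟨c, hc, rfl⟩ := K.one_trans hB hp hp'
  rw [← K.conj_iff hB hc (p * ε)]
  suffices e : c * (p * ε) * c⁻¹ = c * p * c⁻¹ * ε by rw [e]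
  rcases hε with rfl | rfl
  · simp
  · simp only [mul_assoc]; rw [(K.cover.central c⁻¹).eq]

theorem two_uniform {p q p' q' ε : ↥(Cd d)} (hp : p ∈ lifts π X B) (hq : q ∈ lifts π X B)
    (hp' : p' ∈ lifts π X B) (hq' : q' ∈ lifts π X B) (h : q ≠ p) (h' : q' ≠ p') (hε : ε = 1 ∨ ε = z) :
    ((p * q * ε : ↥(Cd d)) : G) ∈ orb π B ↔ ((p' * q' * ε : ↥(Cd d)) : G) ∈ orb π B := by
  obtain ⟨c, hc, rfl, rfl⟩ := K.two_trans hB hp hq hp' hq' h h'
  rw [← K.conj_iff hB hc (p * q * ε)]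
  suffices e : c * (p * q * ε) * c⁻¹ = c * p * c⁻¹ * (c * q * c⁻¹) * ε by rw [e]
  rcases hε with rfl | rfl
  · group
  · simp only [mul_assoc, inv_mul_cancel_left]; rw [(K.cover.central c⁻¹).eq]

theorem three_uniform {p q r p' q' r' ε : ↥(Cd d)} (hp : p ∈ lifts π X B) (hq : q ∈ lifts π X B)
    (hr : r ∈ lifts π X B) (hp' : p' ∈ lifts π X B) (hq' : q' ∈ lifts π X B) (hr' : r' ∈ lifts π X B)
    (h : q ≠ p ∧ r ≠ p ∧ r ≠ q) (h' : q' ≠ p' ∧ r' ≠ p' ∧ r' ≠ q') (hε : ε = 1 ∨ ε = z) :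
    ((p * q * r * ε : ↥(Cd d)) : G) ∈ orb π B ↔ ((p' * q' * r' * ε : ↥(Cd d)) : G) ∈ orb π B := by
  obtain ⟨c, hc, rfl, rfl, rfl⟩ := K.three_trans hB hp hq hr hp' hq' hr' h h'
  rw [← K.conj_iff hB hc (p * q * r * ε)]
  suffices e : c * (p * q * r * ε) * c⁻¹ =
      c * p * c⁻¹ * (c * q * c⁻¹) * (c * r * c⁻¹) * ε by rw [e]
  rcases hε with rfl | rfl
  · group
  · simp only [mul_assoc, inv_mul_cancel_left]; rw [(K.cover.central c⁻¹).eq]

variable (htr : ∀ y ∈ orb π B, ∃ n ∈ Subgroup.normalizer (amb π B : Set G), n * d * n⁻¹ = y)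
include htr

/-- The orbit of `d` is the set of its conjugates, so its length divides the order of `GL₁₁(2)`. -/
theorem ncard_dvd : (orb π B).ncard ∣ ∏ i : Fin 11, (2 ^ 11 - 2 ^ (i : ℕ)) := by
  classical
  set A := amb π B with hA
  have hAe := K.elem_amb hB
  letI : CommGroup ↥A :=
    { (inferInstance : Group ↥A) with mul_comm := fun a b => hAe.1.is_comm.comm a b }
  haveI : Fact (Nat.Prime 2) := ⟨Nat.prime_two⟩
  have hcard : Nat.card ↥A = 2 ^ 11 := by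
    rw [hA, amb, Subgroup.card_map_of_injective Subtype.val_injective, K.card hB]
  have hdvd := OddBaseTwo.card_mulAut_dvd (W := ↥A) 2 11 hcard fun a => Subtype.ext (hAe.2 _ a.2)
  refine Dvd.dvd.trans ?_ hdvd
  set f := Subgroup.normalizerMonoidHom A
  set R := f.range
  let d' : ↥A := ⟨d, K.d_mem_amb B⟩
  have himg : orb π B = Subtype.val '' MulAction.orbit ↥R d' := by
    ext x
    constructor
    · intro hx
      obtain ⟨n, hn, e⟩ := htr x hx
      exact ⟨(⟨f ⟨n, hn⟩, ⟨_, rfl⟩⟩ : ↥R) • d', MulAction.mem_orbit _ _, e⟩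
    · rintro ⟨_, ⟨⟨_, n, rfl⟩, rfl⟩, rfl⟩
      exact ⟨((⟨f n, ⟨n, rfl⟩⟩ : ↥R) • d').2, isConj_iff.2 ⟨(n : G), rfl⟩⟩
  rw [himg, Set.ncard_image_of_injective _ Subtype.val_injective, ← MulAction.index_stabilizer]
  exact (Subgroup.index_dvd_card _).trans (Subgroup.card_subgroup_dvd_card R)

/-- Transport of a property of pairs from `d` to every conjugate. -/
theorem transport {x : G} (hx : x ∈ orb π B) :
    ∃ n : G, n ∈ Subgroup.normalizer (amb π B : Set G) ∧ n * d * n⁻¹ = x ∧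
      (∀ y, MulAut.conj n y ∈ orb π B ↔ y ∈ orb π B) := by
  obtain ⟨n, hn, e⟩ := htr x hx
  exact ⟨n, hn, e, fun y => and_congr (Subgroup.mem_normalizer_iff.1 hn y).symm
    ⟨fun h => h.trans (isConj_iff.2 ⟨n⁻¹, by simp [mul_assoc]⟩),
      fun h => h.trans (isConj_iff.2 ⟨n, by simp⟩)⟩⟩

end Setting

end Cfsg.Agent.Transpos.DoubleThompson
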