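import Cfsg.Agent.Lib.Transpos.M22Line
import Cfsg.Agent.Lib.Fischer.Primitive
import Cfsg.Agent.Lib.Fischer.CommutingGraph

/-!
# Products of three commuting transpositions in M(22)

`exists_triple`: `a b c` is the product of a second triple, the twins of `c`, because the product of
all six centralises two members with their commuting sets, which generate (`eq_top_of_two`).
-/

set_option autoImplicit false

namespace Cfsg.Agent.Transpos

open Cfsg

variable {G : Type*} [Group G] {D : Set G}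

/-- Conjugation by any element stabilises a normal subset. -/
theorem stab_of_normal (hD : IsThreeTranspositionGroup D) (g : G) : Stab D g := fun w hw =>
  ⟨hD.2.1 g w hw, by simpa using hD.2.1 g⁻¹ w hw⟩

section

variable (hD : IsThreeTranspositionGroup D)
  (hconn : ∀ a ∈ D, ∀ v ∈ D, Relation.ReflTransGen (Fischer.CAdj D) a v)
  (hline : ∀ a ∈ D, Line D a) (hgood : ∀ a ∈ D, Conn (Dc D a) ∧ AllActive (Dc D a))
include hD hconn hline hgood

/-- `x ∈ Dc D b` does not commute with some member of `Dc D a` if it does not commute with `a`. -/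
theorem exists_not_commute {a b x : G} (ha : a ∈ D) (hb : b ∈ Dc D a) (hx : x ∈ Dc D b)
    (hax : ¬ Commute a x) : ∃ y ∈ Dc D a, ¬ Commute y x := by
  by_contra hall
  push Not at hall
  have hb' : a ∈ Dc D b := ⟨ha, hb.2.1.symm, hb.2.2.symm⟩
  obtain ⟨z, hz⟩ := (hline b hb.1).1 a hb'
  obtain ⟨f₁, f₂, f₃, ⟨t1, t2, t3⟩, -, -, hcen⟩ := (hline b hb.1).2 a hb' z hz
  have hm : ∀ {w}, w ∈ Dc (Dc D b) a → Commute x w := fun {w} hw =>
    (hall w ⟨hw.1.1, hw.2.1, hw.2.2⟩).symm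
  have hrest : Commute x (z * f₁ * f₂ * f₃) :=
    (((hm hz).mul_right (hm t1.1)).mul_right (hm t2.1)).mul_right (hm t3.1)
  have hall5 : Commute x (a * (z * f₁ * f₂ * f₃)) := by simpa [mul_assoc] using hcen x hx
  exact hax (by simpa [mul_assoc] using hall5.mul_right hrest.inv_right : Commute x a).symm

omit hconn hline in
/-- A subgroup with `a`, `b` and their commuting sets contains all members linked to `a` by commuting. -/
theorem mem_of_two (K : Subgroup G) {a b : G} (ha : a ∈ D) (hb : b ∈ Dc D a) (haK : a ∈ K)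
    (hA : Dc D a ⊆ K) {x : G} (hx : x ∈ Dc D b) (hxK : x ∈ K) (hax : ¬ Commute a x)
    {y₀ : G} (hy₀ : y₀ ∈ Dc D a) (hy₀x : ¬ Commute y₀ x) {v : G}
    (hv : Relation.ReflTransGen (Fischer.CAdj D) a v) : v ∈ K := by
  have hE : Tr D := tr_of_group hD
  have hEK : Tr (D ∩ K) := hE.of_subset Set.inter_subset_left fun p hp q hq =>
    ⟨hE.conj p hp.1 q hq.1, K.mul_mem (K.mul_mem hp.2 hq.2) hp.2⟩
  have hcl : Subgroup.closure (D ∩ (K : Set G)) ≤ K := (Subgroup.closure_le _).2 Set.inter_subset_right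
  have hAeq : ∀ y ∈ Dc D a, ∃ k ∈ K, k * a * k⁻¹ = y := by
    intro y hy
    have s1 : Step (D ∩ (K : Set G)) a x := ⟨⟨ha, haK⟩, ⟨hx.1, hxK⟩, hax⟩
    have s2 : Step (D ∩ (K : Set G)) x y₀ := ⟨⟨hx.1, hxK⟩, ⟨hy₀.1, hA hy₀⟩, fun h => hy₀x h.symm⟩
    have h1 : Linked (D ∩ (K : Set G)) a y₀ := (Relation.ReflTransGen.single s1).tail s2
    have h2 : Linked (D ∩ (K : Set G)) y₀ y :=
      Linked.mono (show Dc D a ⊆ D ∩ (K : Set G) from fun w hw => ⟨hw.1, hA hw⟩)
        ((hgood a ha).1 y₀ y ((hgood a ha).2 y₀ hy₀) ((hgood a ha).2 y hy))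
    have h12 : Linked (D ∩ (K : Set G)) a y := Relation.ReflTransGen.trans h1 h2
    obtain ⟨k, hk, hky⟩ := h12.exists_conj hEK
    exact ⟨k, hcl hk, hky⟩
  suffices key : ∃ k ∈ K, k * a * k⁻¹ = v by
    obtain ⟨k, hk, rfl⟩ := key
    exact K.mul_mem (K.mul_mem hk haK) (K.inv_mem hk)
  induction hv with
  | refl => exact ⟨1, K.one_mem, by simp⟩
  | @tail p q _ hs ih =>
    obtain ⟨k, hk, rfl⟩ := ih
    by_cases hqp : q = k * a * k⁻¹
    · exact ⟨k, hk, hqp.symm⟩
    have hq : k⁻¹ * q * k ∈ Dc D a := by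
      refine ⟨(stab_of_normal hD k q hs.1).2, fun h => hqp (by rw [← h]; group), ?_⟩
      refine (commute_conj_iff k).mp ?_
      rw [show k * (k⁻¹ * q * k) * k⁻¹ = q by group]
      exact hs.2
    obtain ⟨l, hl, he⟩ := hAeq _ hq
    exact ⟨k * l, K.mul_mem hk hl, by
      rw [show k * l * a * (k * l)⁻¹ = k * (l * a * l⁻¹) * k⁻¹ by group, he]; group⟩

/-- Two commuting members and their commuting sets generate. -/
theorem eq_top_of_two (hn : NoTwin D) (K : Subgroup G) {a b : G} (ha : a ∈ D) (hb : b ∈ Dc D a)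
    (haK : a ∈ K) (hA : Dc D a ⊆ K) (hB : Dc D b ⊆ K) : K = ⊤ := by
  have hbK : b ∈ K := hA hb
  have hb' : a ∈ Dc D b := ⟨ha, hb.2.1.symm, hb.2.2.symm⟩
  have hall : ∀ v ∈ D, v ∈ K := by
    obtain ⟨x, hx, hxab⟩ : ∃ x ∈ D, ¬(Commute x a ↔ Commute x b) := by
      by_contra hc
      push Not at hc
      exact hn a ha b hb.1 hb.2.1.symm hb.2.2 fun x hx => hc x hx
    intro v hv
    by_cases hxa : Commute x a
    · have hxb : ¬ Commute b x := fun h => hxab (iff_of_true hxa h.symm)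
      have hxA : x ∈ Dc D a := ⟨hx, fun e => hxb (by rw [e]; exact hb.2.2.symm), hxa.symm⟩
      obtain ⟨y₀, hy₀, hy₀x⟩ := exists_not_commute hD hconn hline hgood hb.1 hb' hxA hxb
      exact mem_of_two hD hgood K hb.1 hb' hbK hB hxA (hA hxA) hxb hy₀ hy₀x
        (hconn b hb.1 v hv)
    · have hxb : Commute x b := by
        by_contra h
        exact hxab (iff_of_false hxa h)
      have hax : ¬ Commute a x := fun h => hxa h.symm
      have hxB : x ∈ Dc D b := ⟨hx, fun e => hax (by rw [e]; exact hb.2.2), hxb.symm⟩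
      obtain ⟨y₀, hy₀, hy₀x⟩ := exists_not_commute hD hconn hline hgood ha hb hxB hax
      exact mem_of_two hD hgood K ha hb haK hA hxB (hB hxB) hax hy₀ hy₀x (hconn a ha v hv)
  exact eq_top_iff.2 (hD.2.2 ▸ (Subgroup.closure_le K).2 hall)

/-- The second factorisation. -/
theorem exists_triple (hn : NoTwin D) (hZ : Subgroup.center G = ⊥) {a b c : G} (ha : a ∈ D)
    (hb : b ∈ Dc D a) (hc : c ∈ Dc (Dc D a) b) :
    ∃ f₁ f₂ f₃ : G, (Twin D a b c f₁ ∧ Twin D a b c f₂ ∧ Twin D a b c f₃) ∧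
      (f₁ ≠ f₂ ∧ f₁ ≠ f₃ ∧ f₂ ≠ f₃) ∧ (∀ z, Twin D a b c z → z = f₁ ∨ z = f₂ ∨ z = f₃) ∧
      f₁ * f₂ * f₃ = a * b * c := by
  have hE := tr_of_group hD
  obtain ⟨f₁, f₂, f₃, ht, hne, hall, hcen⟩ := (hline a ha).2 b hb c hc
  have hb' : a ∈ Dc D b := ⟨ha, hb.2.1.symm, hb.2.2.symm⟩
  have hswap : ∀ w, w ∈ Dc (Dc D a) b ↔ w ∈ Dc (Dc D b) a := fun w => by
    simp only [Dc, Set.mem_ofPred_eq]; tauto
  have hset : Dc (Dc D a) b = Dc (Dc D b) a := Set.ext hswap
  obtain ⟨g₁, g₂, g₃, ⟨u1, u2, u3⟩, ⟨m12, m13, m23⟩, -, hcen'⟩ :=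
    (hline b hb.1).2 a hb' c ((hswap c).1 hc)
  refine ⟨f₁, f₂, f₃, ht, hne, hall, ?_⟩
  obtain ⟨⟨⟨w1, -, -, s1⟩, ⟨w2, -, -, s2⟩, ⟨w3, -, -, s3⟩⟩, ⟨n12, n13, n23⟩⟩ := And.intro ht hne
  -- the three twins commute
  have c12 : Commute f₁ f₂ := (s2 f₁ w1).1 ((s1 f₁ w1).2 (Commute.refl _))
  have c13 : Commute f₁ f₃ := (s3 f₁ w1).1 ((s1 f₁ w1).2 (Commute.refl _))
  have c23 : Commute f₂ f₃ := (s3 f₂ w2).1 ((s2 f₂ w2).2 (Commute.refl _))
  have hsame : g₁ * g₂ * g₃ = f₁ * f₂ * f₃ := by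
    have k : ∀ g, Twin D b a c g → g = f₁ ∨ g = f₂ ∨ g = f₃ := fun g hg =>
      hall g (by unfold Twin at hg ⊢; rw [hset]; exact hg)
    have e1 : f₂ * f₁ = f₁ * f₂ := c12.eq.symm
    have e2 : f₃ * f₁ = f₁ * f₃ := c13.eq.symm
    have e3 : f₃ * f₂ = f₂ * f₃ := c23.eq.symm
    have e1' : ∀ x, f₂ * (f₁ * x) = f₁ * (f₂ * x) := fun x => by rw [← mul_assoc, e1, mul_assoc]
    have e2' : ∀ x, f₃ * (f₁ * x) = f₁ * (f₃ * x) := fun x => by rw [← mul_assoc, e2, mul_assoc]
    have e3' : ∀ x, f₃ * (f₂ * x) = f₂ * (f₃ * x) := fun x => by rw [← mul_assoc, e3, mul_assoc]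
    rcases k g₁ u1 with rfl | rfl | rfl <;> rcases k g₂ u2 with rfl | rfl | rfl <;>
      rcases k g₃ u3 with rfl | rfl | rfl <;>
      first
        | exact absurd rfl m12
        | exact absurd rfl m13
        | exact absurd rfl m23
        | simp only [mul_assoc, e1, e2, e3, e1', e2', e3']
  set p := a * b * c * (f₁ * f₂ * f₃) with hp
  have cab : Commute a b := hb.2.2
  have pA : ∀ y ∈ Dc D a, Commute y p := fun y hy => by
    have := (hy.2.2.symm : Commute y a).mul_right (hcen y hy)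
    simpa [hp, mul_assoc] using this
  have pB : ∀ y ∈ Dc D b, Commute y p := fun y hy => by
    have h5 := hcen' y hy
    rw [show a * c * g₁ * g₂ * g₃ = a * c * (f₁ * f₂ * f₃) by rw [← hsame]; simp [mul_assoc]] at h5
    rw [show p = b * (a * c * (f₁ * f₂ * f₃)) by
      rw [hp, ← mul_assoc b (a * c), ← mul_assoc b a c, cab.eq]]
    exact (hy.2.2.symm : Commute y b).mul_right h5
  have hz : ∀ {w}, w ∈ Dc (Dc D a) b → Commute a w := fun hw => hw.1.2.2
  have pa : Commute a p :=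
    (((Commute.refl a).mul_right cab).mul_right (hz hc)).mul_right
      (((hz w1).mul_right (hz w2)).mul_right (hz w3))
  have hK := eq_top_of_two hD hconn hline hgood hn (Subgroup.centralizer {p}) ha hb
    (Subgroup.mem_centralizer_singleton_iff.2 pa.eq)
    (fun y hy => Subgroup.mem_centralizer_singleton_iff.2 (pA y hy).eq)
    (fun y hy => Subgroup.mem_centralizer_singleton_iff.2 (pB y hy).eq)
  have hpc : p ∈ Subgroup.center G := Subgroup.mem_center_iff.2 fun g =>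
    Subgroup.mem_centralizer_singleton_iff.1 (hK ▸ Subgroup.mem_top g)
  rw [hZ, Subgroup.mem_bot, hp] at hpc
  have h := eq_inv_of_mul_eq_one_left hpc
  rw [h, mul_inv_rev, mul_inv_rev, hE.inv w1.1.1, hE.inv w2.1.1, hE.inv w3.1.1,
    c12.symm.eq]
  exact (c13.symm.mul_right c23.symm).eq.symm

end

/-- Six distinct factors: the new factor is a twin. -/
theorem twin_of_prod_distinct {E : Set G} (hE : Tr E) {a b c a' b' c' : G} (ha : a ∈ E) (hb : b ∈ E)
    (hc : c ∈ E) (ha' : a' ∈ E) (hb' : b' ∈ E) (hc' : c' ∈ E) (nab : a ≠ b) (nac : a ≠ c)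
    (nbc : b ≠ c) (cab : Commute a b) (cac : Commute a c) (cbc : Commute b c) (nab' : a' ≠ b')
    (nac' : a' ≠ c') (nbc' : b' ≠ c') (cab' : Commute a' b') (cac' : Commute a' c')
    (cbc' : Commute b' c') (he : a * b * c = a' * b' * c') (n1 : a ≠ a') (n2 : b ≠ a') (n3 : c ≠ a')
    (n4 : c ≠ b') (n5 : c ≠ c') : Twin E a b c a' := by
  have hcom : ∀ e ∈ E, Commute e (a' * b' * c') → Commute e a ∧ Commute e b ∧ Commute e c :=
    fun e hee h => commute_three hE.set ha hb hc hee nab nac nbc cab cac cbc (he ▸ h)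
  obtain ⟨ka, kb, kc⟩ := hcom a' ha' (((Commute.refl a').mul_right cab').mul_right cac')
  obtain ⟨-, -, kb'⟩ := hcom b' hb' ((cab'.symm.mul_right (Commute.refl b')).mul_right cbc')
  obtain ⟨-, -, kc'⟩ := hcom c' hc' ((cac'.symm.mul_right cbc'.symm).mul_right (Commute.refl c'))
  have heq : c * b' * c' = a' * a * b := by
    calc c * b' * c' = c * (b' * c') := mul_assoc _ _ _
      _ = b' * c' * c := (kb'.symm.mul_right kc'.symm).eq
      _ = a' * (a' * b' * c') * c := by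
        rw [mul_assoc a' b' c', mul_mul_cancel hE.set ha']
      _ = a' * a * b := by
        rw [← he, mul_assoc, mul_assoc (a * b), sq_one hE.set hc, mul_one, mul_assoc]
  refine ⟨⟨⟨ha', n1.symm, ka.symm⟩, n2.symm, kb.symm⟩, n3.symm, kc.symm, fun x hx => ⟨fun hxc => ?_, fun hxa' => ?_⟩⟩
  · refine (commute_three hE.set ha' hb' hc' hx.1.1 nab' nac' nbc' cab' cac' cbc' ?_).1
    rw [← he]; exact (hx.1.2.2.symm.mul_right hx.2.2.symm).mul_right hxc
  · refine (commute_three hE.set hc hb' hc' hx.1.1 n4 n5 nbc' kb'.symm kc'.symm cbc' ?_).1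
    rw [heq]; exact (hxa'.mul_right hx.1.2.2.symm).mul_right hx.2.2.symm

/-- A commuting triple with product `a b c` is `{a, b, c}` or consists of twins of `c`. -/
theorem mem_or_twin {E : Set G} (hE : Tr E) (h2 : ∀ a ∈ E, NoTwin (Dc E a)) {a b c a' b' c' : G}
    (ha : a ∈ E) (hb : b ∈ E) (hc : c ∈ E) (ha' : a' ∈ E) (hb' : b' ∈ E) (hc' : c' ∈ E)
    (nab : a ≠ b) (nac : a ≠ c) (nbc : b ≠ c) (cab : Commute a b) (cac : Commute a c)
    (cbc : Commute b c) (nab' : a' ≠ b') (nac' : a' ≠ c') (nbc' : b' ≠ c') (cab' : Commute a' b')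
    (cac' : Commute a' c') (cbc' : Commute b' c') (he : a * b * c = a' * b' * c') :
    (a = a' ∨ a = b' ∨ a = c') ∨ Twin E a b c a' := by
  by_cases h : a = a' ∨ a = b' ∨ a = c'
  · exact Or.inl h
  right
  simp only [not_or] at h
  obtain ⟨n1, n1', n1''⟩ := h
  have two : ∀ {u v p q : G}, u ∈ E → v ∈ E → p ∈ E → q ∈ E → u ≠ v → p ≠ q → Commute u v →
      Commute p q → u * v = p * q → u = p ∨ u = q := fun hu hv hp hq => mem_of_prod_two hE h2 hu hv hp hq
  have eb : a * b * c = b * (a * c) := by rw [cab.eq, mul_assoc]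
  have ec : a * b * c = c * (a * b) := (cac.symm.mul_right cbc.symm).eq.symm
  have e1 : a' * b' * c' = a' * (b' * c') := mul_assoc _ _ _
  have e2 : a' * b' * c' = b' * (a' * c') := by rw [cab'.eq, mul_assoc]
  have e3 : a' * b' * c' = c' * (a' * b') := (cac'.symm.mul_right cbc'.symm).eq.symm
  refine twin_of_prod_distinct hE ha hb hc ha' hb' hc' nab nac nbc cab cac cbc nab' nac' nbc'
    cab' cac' cbc' he n1 ?_ ?_ ?_ ?_
  · exact fun e => (two ha hc hb' hc' nac nbc' cac cbc'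
      (mul_left_cancel (e ▸ (eb.symm.trans (he.trans e1))))).elim n1' n1''
  · exact fun e => (two ha hb hb' hc' nab nbc' cab cbc'
      (mul_left_cancel (e ▸ (ec.symm.trans (he.trans e1))))).elim n1' n1''
  · exact fun e => (two ha hb ha' hc' nab nac' cab cac'
      (mul_left_cancel (e ▸ (ec.symm.trans (he.trans e2))))).elim n1 n1''
  · exact fun e => (two ha hb ha' hb' nab nab' cab cab'
      (mul_left_cancel (e ▸ (ec.symm.trans (he.trans e3))))).elim n1 n1'

end Cfsg.Agent.Transpos
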