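import Cfsg.Agent.Lib.Transpos.M22Count
import Cfsg.Agent.Lib.Transpos.M22InvolClasses
import Cfsg.Agent.S5463

/-!
# Triples of commuting members in type M(22)

`ncard_dc_dc`: 180 members commute with two commuting ones; `card_centralizer_triple`: the centraliser of
a product of three commuting members has order `1769472`, as each is such a product in 12 ordered ways.
-/

set_option autoImplicit false
set_option linter.style.haveILetI false

namespace Cfsg.Agent.Transpos

open Cfsg Cfsg.Agent.ClassicalSimple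

variable {G : Type*} [Group G] [Finite G] {D : Set G}

omit [Finite G] in
theorem M22.ncard_dc_dc [Finite G] (H : M22 D) {p q : G} (hp : p ∈ D) (hq : q ∈ Dc D p) :
    (Dc (Dc D p) q).ncard = 180 := by
  have h1 := Set.ncard_inter_add_ncard_sdiff_eq_ncard (Dc D p) {x | ¬ Commute x q}
  have h2 : Dc D p \ {x | ¬ Commute x q} = insert q (Dc (Dc D p) q) := by
    ext x
    constructor
    · intro hx
      by_cases h : x = q
      · exact Or.inl h
      · exact Or.inr ⟨hx.1, h, (not_not.1 hx.2).symm⟩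
    · rintro (rfl | hx)
      exacts [⟨hq, fun h => h (Commute.refl x)⟩, ⟨hx.1, fun h => h hx.2.2.symm⟩]
  rw [h2, Set.ncard_insert_of_notMem (s := Dc (Dc D p) q) fun h => h.2.1 rfl, H.ncard_dc hp,
    show Dc D p ∩ {x | ¬ Commute x q} = {x | x ∈ Dc D p ∧ ¬ Commute x q} from rfl,
    H.ncard_off hp hq] at h1
  omega

/-- The ordered triples of commuting members. -/
def IsTriple (D : Set G) (t : G × G × G) : Prop :=
  t.1 ∈ D ∧ t.2.1 ∈ Dc D t.1 ∧ t.2.2 ∈ Dc (Dc D t.1) t.2.1

omit [Finite G] in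
theorem IsTriple.list {t : G × G × G} (h : IsTriple D t) :
    [t.1, t.2.1, t.2.2].Nodup ∧ [t.1, t.2.1, t.2.2].length = 3 ∧
      (∀ a ∈ [t.1, t.2.1, t.2.2], a ∈ D) ∧
      (∀ a ∈ [t.1, t.2.1, t.2.2], ∀ b ∈ [t.1, t.2.1, t.2.2], Commute a b) ∧
      [t.1, t.2.1, t.2.2].prod = t.1 * t.2.1 * t.2.2 := by
  obtain ⟨h1, ⟨h2, n12, c12⟩, ⟨h3, n13, c13⟩, n23, c23⟩ := h
  refine ⟨by simp [n12.symm, n13.symm, n23.symm], rfl, by simp [h1, h2, h3], ?_, by simp [mul_assoc]⟩
  intro a ha b hb
  simp only [List.mem_cons, List.not_mem_nil, or_false] at ha hb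
  rcases ha with rfl | rfl | rfl <;> rcases hb with rfl | rfl | rfl <;>
    first
      | exact Commute.refl _
      | assumption
      | exact Commute.symm (by assumption)

variable (hD : IsThreeTranspositionGroup D) (hprim : IsPrimitiveUnderConj D) (h22 : IsOfTypeM22 G D)
include hD hprim h22

/-- The centraliser of a product of three commuting members. -/
theorem card_centralizer_triple {d₀ : G} (hd₀ : d₀ ∈ D)
    (h3 : pCore 3 ↥(Subgroup.closure (Dc D d₀)) ≤ Subgroup.center ↥(Subgroup.closure (Dc D d₀)))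
    (h2 : pCore 2 ↥(Subgroup.closure (Dc D d₀)) ≤ Subgroup.center ↥(Subgroup.closure (Dc D d₀)))
    {t₀ : G × G × G} (ht₀ : IsTriple D t₀) :
    Nat.card ↥(Subgroup.centralizer ({t₀.1 * t₀.2.1 * t₀.2.2} : Set G)) = 1769472 := by
  classical
  haveI : Fintype G := Fintype.ofFinite G
  obtain ⟨_, H, -⟩ := m22_of_primitive hD hprim h22
  let μ : G × G × G → G := fun t => t.1 * t.2.1 * t.2.2
  set T : Finset (G × G × G) := Finset.univ.filter (IsTriple D) with hT
  have hTcard : T.card = 437837400 := by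
    have e : (Σ p : D, Σ q : Dc D (p : G), Dc (Dc D (p : G)) (q : G)) ≃
        {t : G × G × G // IsTriple D t} :=
      { toFun := fun x => ⟨(x.1.1, x.2.1.1, x.2.2.1), x.1.2, x.2.1.2, x.2.2.2⟩
        invFun := fun t => ⟨⟨t.1.1, t.2.1⟩, ⟨t.1.2.1, t.2.2.1⟩, ⟨t.1.2.2, t.2.2.2⟩⟩
        left_inv := fun _ => rfl
        right_inv := fun _ => rfl }
    rw [hT, ← Fintype.card_subtype, ← Nat.card_eq_fintype_card, ← Nat.card_congr e, Nat.card_sigma,
      Finset.sum_congr rfl (g := fun _ => 693 * 180) fun p _ => ?_, Finset.sum_const,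
      Finset.card_univ, ← Nat.card_eq_fintype_card, Nat.card_coe_set_eq, ncard_m22 hD hprim h22]
    · norm_num
    rw [Nat.card_sigma, Finset.sum_congr rfl (g := fun _ => 180) fun q _ => ?_, Finset.sum_const,
      Finset.card_univ, ← Nat.card_eq_fintype_card, Nat.card_coe_set_eq, H.ncard_dc p.2, smul_eq_mul]
    rw [Nat.card_coe_set_eq, H.ncard_dc_dc p.2 q.2]
  -- twelve ordered triples for each product
  have hfib : ∀ s ∈ T, (T.filter fun t => μ t = μ s).card = 12 := by
    intro s hs
    simp only [hT, Finset.mem_filter, Finset.mem_univ, true_and] at hs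
    obtain ⟨l₁, l₂, ⟨n₁, k₁, m₁, c₁, p₁⟩, ⟨n₂, k₂, m₂, c₂, p₂⟩, hne, hall⟩ :=
      (S5463.result hD hprim d₀ hd₀ h3 h2 h22).2 (μ s) _ hs.list
    obtain ⟨u, v, w, hl₁⟩ := List.length_eq_three.1 k₁
    have hnd : (l₁.permutations ++ l₂.permutations).Nodup := by
      rw [List.nodup_append]
      refine ⟨(List.nodup_permutations_iff).2 n₁, (List.nodup_permutations_iff).2 n₂, fun a ha b hb e => ?_⟩
      subst e
      rw [List.mem_permutations] at ha hb
      exact hne fun x => (ha.symm.trans hb).mem_iff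
    have hcard : (l₁.permutations ++ l₂.permutations).toFinset.card = 12 := by
      rw [List.toFinset_card_of_nodup hnd, List.length_append, List.length_permutations,
        List.length_permutations, k₁, k₂]
      rfl
    rw [← hcard]
    refine Finset.card_bij (fun t _ => [t.1, t.2.1, t.2.2]) ?_ ?_ ?_
    · intro t ht
      simp only [hT, Finset.mem_filter, Finset.mem_univ, true_and] at ht
      rw [List.mem_toFinset, List.mem_append, List.mem_permutations, List.mem_permutations]
      have hl := ht.1.list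
      refine (hall _ ⟨hl.1, hl.2.1, hl.2.2.1, hl.2.2.2.1, hl.2.2.2.2.trans ht.2⟩).imp
        (fun h => (List.perm_ext_iff_of_nodup hl.1 n₁).2 h)
        fun h => (List.perm_ext_iff_of_nodup hl.1 n₂).2 h
    · intro t _ t' _ e
      simp only [List.cons.injEq, and_true] at e
      exact Prod.ext e.1 (Prod.ext e.2.1 e.2.2)
    · intro l hl
      rw [List.mem_toFinset, List.mem_append, List.mem_permutations, List.mem_permutations] at hl
      have key : ∀ l' : List G, l'.Nodup → l'.length = 3 → (∀ a ∈ l', a ∈ D) →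
          (∀ a ∈ l', ∀ b ∈ l', Commute a b) → l'.prod = μ s → l.Perm l' →
          ∃ (t : G × G × G) (_ : t ∈ T.filter fun t => μ t = μ s), [t.1, t.2.1, t.2.2] = l := by
        intro l' hn hk hm hc hp hperm
        obtain ⟨a, b, c, rfl⟩ := List.length_eq_three.1 (hperm.length_eq.trans hk)
        have hn' := hperm.nodup_iff.2 hn
        simp only [List.nodup_cons, List.mem_cons, List.not_mem_nil, or_false, not_or] at hn'
        have hmem : ∀ {x}, x ∈ [a, b, c] → x ∈ D := fun hx => hm _ (hperm.mem_iff.1 hx)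
        have hcom : ∀ {x y}, x ∈ [a, b, c] → y ∈ [a, b, c] → Commute x y := fun hx hy =>
          hc _ (hperm.mem_iff.1 hx) _ (hperm.mem_iff.1 hy)
        refine ⟨(a, b, c), ?_, rfl⟩
        simp only [hT, Finset.mem_filter, Finset.mem_univ, true_and]
        refine ⟨⟨hmem (by simp), ⟨hmem (by simp), Ne.symm hn'.1.1, hcom (by simp) (by simp)⟩,
          ⟨⟨hmem (by simp), Ne.symm hn'.1.2, hcom (by simp) (by simp)⟩, Ne.symm hn'.2.1,
            hcom (by simp) (by simp)⟩⟩, ?_⟩
        rw [← hp, ← hperm.prod_eq' ((List.nodup_cons.2 ⟨by simpa using hn'.1, by simpa using hn'.2.1⟩ :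
          [a, b, c].Nodup).pairwise_of_forall_ne fun x hx y hy _ => hcom hx hy)]
        simp [μ, mul_assoc]
      rcases hl with h | h
      · exact key l₁ n₁ k₁ m₁ c₁ p₁ h
      · exact key l₂ n₂ k₂ m₂ c₂ p₂ h
  -- the products form one class
  set O : Set G := ↑(T.image μ) with hO
  have hmem : ∀ k ∈ (⊤ : Subgroup G), k * μ t₀ * k⁻¹ ∈ O := fun k _ => by
    rw [hO, Finset.mem_coe, Finset.mem_image]
    refine ⟨(k * t₀.1 * k⁻¹, k * t₀.2.1 * k⁻¹, k * t₀.2.2 * k⁻¹), ?_, by simp only [μ]; group⟩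
    simp only [hT, Finset.mem_filter, Finset.mem_univ, true_and]
    have hc := (stab_of_normal hD k).carries
    exact ⟨hc.1 _ ht₀.1, (hc.dc _).1 _ ht₀.2.1, ((hc.dc _).dc _).1 _ ht₀.2.2⟩
  have htr : ∀ o ∈ O, ∃ k ∈ (⊤ : Subgroup G), k * μ t₀ * k⁻¹ = o := fun o ho => by
    rw [hO, Finset.mem_coe, Finset.mem_image] at ho
    obtain ⟨t, ht, rfl⟩ := ho
    simp only [hT, Finset.mem_filter, Finset.mem_univ, true_and] at ht
    obtain ⟨g, e1, e2, e3⟩ := H.conj_triple ht₀.1 ht₀.2.1 ht₀.2.2 ht.1 ht.2.1 ht.2.2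
    exact ⟨g, Subgroup.mem_top g, by simp only [μ]; rw [← e1, ← e2, ← e3]; group⟩
  have h1 := card_eq_orbit_mul (⊤ : Subgroup G) (μ t₀) O hmem htr
  rw [Subgroup.card_top, top_inf_eq, card_m22 hD hprim h22, hO, Set.ncard_coe_finset] at h1
  have h2' := Finset.card_eq_sum_card_image μ T
  rw [hTcard, Finset.sum_congr rfl (g := fun _ => 12) fun o ho => ?_, Finset.sum_const,
    smul_eq_mul] at h2'
  · rw [show (T.image μ).card = 36486450 by omega] at h1
    show Nat.card ↥(Subgroup.centralizer ({μ t₀} : Set G)) = _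
    norm_num at h1
    rw [Nat.card_eq_fintype_card]
    omega
  · obtain ⟨s, hs, rfl⟩ := Finset.mem_image.1 ho
    exact hfib s hs

end Cfsg.Agent.Transpos
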