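import Cfsg.Agent.Lib.Transpos.UnitarySemi
import Mathlib.LinearAlgebra.Determinant

/-!
# Moving isotropic points by transvections with prescribed perps

`U6.one_step`, `U6.exists_mid`, `U6.exists_mid_affine`: two isotropic points are joined by at most
two transvections with centres in the perp of given vectors.  `U6.det_eq_one`: the determinant of
an isometry with three eigenvectors spanning an isotropic plane.
-/

set_option autoImplicit false

namespace Cfsg.Agent.Transpos.U6

open Cfsg Cfsg.Agent.ClassicalSimple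

variable {F V : Type*} [Field F] [AddCommGroup V] [Module F V]
  {σ : F →+* F} {h : V →ₛₗ[σ] V →ₗ[F] F}

variable (c : Ctx σ h)
include c

/-- The transvection at the sum exchanges two points with pairing 1. -/
theorem one_step {v w : V} (hv : h v v = 0) (hw : h w w = 0) (hvw : h v w = 1) :
    h (v + w) (v + w) = 0 ∧ v + w ≠ 0 ∧ v + h (v + w) v • (v + w) = w := by
  have hwv : h w v = 1 := by rw [c.form.swap v w, hvw, map_one]
  refine ⟨by simp [hv, hw, hvw, hwv, c.two], fun e => ?_, ?_⟩
  · have := congrArg (h v) e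
    simp [hv, hvw] at this
  · simp only [map_add, LinearMap.add_apply, hv, hwv, zero_add, one_smul]
    rw [← add_assoc, c.addV, zero_add]

theorem li_cons {k : ℕ} {P : Fin k → V} (hP : LinearIndependent F P) {v : V}
    (hv : v ∉ Submodule.span F (Set.range P)) : LinearIndependent F (Fin.cons v P) :=
  linearIndependent_finCons.2 ⟨hP, hv⟩

/-- An isotropic point in the perp of `P`, off the perps of two orthogonal points. -/
theorem exists_mid [FiniteDimensional F V] {k : ℕ} (P : Fin k → V) (hP : LinearIndependent F P)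
    {v w : V} (hv : h v v = 0) (hvw : h v w = 0)
    (hPv : ∀ i, h (P i) v = 0) (hv' : v ∉ Submodule.span F (Set.range P))
    (hw' : w ∉ Submodule.span F (Set.range P)) :
    ∃ z, h z z = 0 ∧ (∀ i, h (P i) z = 0) ∧ h v z ≠ 0 ∧ h w z ≠ 0 := by
  obtain ⟨t, ht⟩ := exists_eval_eq _ (linearIndependent_h c.form (li_cons c hP hv')) (Fin.cons 1 0)
  obtain ⟨t', ht'⟩ := exists_eval_eq _ (linearIndependent_h c.form (li_cons c hP hw')) (Fin.cons 1 0)
  have t1 : h v t = 1 := ht 0
  have t2 : h w t' = 1 := ht' 0
  have tP : ∀ i, h (P i) t = 0 := fun i => ht i.succ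
  have tP' : ∀ i, h (P i) t' = 0 := fun i => ht' i.succ
  obtain ⟨y, hy, hy1, hy2⟩ : ∃ y, (∀ i, h (P i) y = 0) ∧ h v y ≠ 0 ∧ h w y ≠ 0 := by
    by_cases h1 : h w t = 0
    · by_cases h2 : h v t' = 0
      · exact ⟨t + t', fun i => by simp [tP, tP'], by simp [t1, h2], by simp [h1, t2]⟩
      · exact ⟨t', tP', h2, by simp [t2]⟩
    · exact ⟨t, tP, by simp [t1], h1⟩
  obtain ⟨d, hd⟩ := c.form.exists_trace_one
  have hyv : h y v ≠ 0 := fun e => hy1 (c.form.comm_zero e)
  refine ⟨y + (d * h y y * (h y v)⁻¹) • v, ?_, fun i => by simp [hy, hPv],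
    by simpa [hv] using hy1, by simpa [c.form.comm_zero hvw] using hy2⟩
  have e : σ (h y v) = h v y := (c.form.swap y v).symm
  simp only [map_add, map_smulₛₗ, LinearMap.add_apply, LinearMap.smul_apply, smul_eq_mul,
    RingHom.id_apply, hv, map_mul, map_inv₀, c.form.σ_self, e, mul_zero, add_zero]
  have hvy : h v y ≠ 0 := hy1
  field_simp
  linear_combination (h y y) * hd + h y y * c.two

/-- An isotropic point with pairing 1 with each of three vectors. -/
theorem exists_mid_affine [FiniteDimensional F V] {A v w : V} (hA : h A A = 0) (hv : h v v = 0)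
    (hAv : h A v = 1) (hli : LinearIndependent F ![A, v, w]) :
    ∃ z, h z z = 0 ∧ h A z = 1 ∧ h v z = 1 ∧ h w z = 1 := by
  obtain ⟨y, hy⟩ := exists_eval_eq _ (linearIndependent_h c.form hli) ![1, 1, 1]
  have y1 : h A y = 1 := hy 0
  have y2 : h v y = 1 := hy 1
  have y3 : h w y = 1 := hy 2
  by_cases hyy : h y y = 0
  · exact ⟨y, hyy, y1, y2, y3⟩
  have hy1 := c.eq_one (c.form.σ_self y) hyy
  obtain ⟨o, ho0, ho, hso, -⟩ := c.exists_omega
  have hvA : h v A = 1 := by rw [c.form.swap A v, hAv, map_one]
  have haniso : h (A + o • v) (A + o • v) ≠ 0 := by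
    have e : h (A + o • v) (A + o • v) = o + σ o := by simp [hA, hv, hAv, hvA]
    rw [e, hso]
    exact fun e => one_ne_zero (α := F) (by linear_combination ho - e)
  obtain ⟨s, s1, s3, s2, hss⟩ := c.exists_aniso_perp_three (u := A) (w := w) haniso
  have s2' : h v s = 0 := by
    simp [s1] at s2
    exact s2.resolve_left ho0
  obtain ⟨m, hm0, hm⟩ : ∃ m : F, m ≠ 0 ∧ m * h y s + σ (m * h y s) = 0 := by
    by_cases e : h y s = 0
    · exact ⟨1, one_ne_zero, by simp [e]⟩
    · exact ⟨(h y s)⁻¹, inv_ne_zero e, by rw [inv_mul_cancel₀ e, map_one, c.two]⟩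
  refine ⟨y + m • s, ?_, by simp [y1, s1], by simp [y2, s2'], by simp [y3, s3]⟩
  have e : h s y = σ (h y s) := c.form.swap y s
  rw [map_mul] at hm
  simp only [map_add, map_smulₛₗ, LinearMap.add_apply, LinearMap.smul_apply, smul_eq_mul,
    RingHom.id_apply, hy1, hss, e]
  linear_combination hm + c.norm m hm0 + c.two

/-- A non-zero isotropic vector in the perp of four vectors. -/
theorem exists_iso_perp [FiniteDimensional F V] (e : Fin 4 → V) :
    ∃ y, y ≠ 0 ∧ h y y = 0 ∧ ∀ i, h (e i) y = 0 := by
  obtain ⟨y, hy, hy0⟩ := exists_forall_eq_zero_notMem (fun i => h (e i)) (⊥ : Submodule F V)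
    (by rw [finrank_bot, Fintype.card_fin, c.dim]; omega)
  rw [Submodule.mem_bot] at hy0
  by_cases hyy : h y y = 0
  · exact ⟨y, hy0, hyy, hy⟩
  obtain ⟨z, hz, hz0⟩ := exists_forall_eq_zero_notMem
    (Fin.cons (h y) fun i => h (e i) : Fin 5 → Module.Dual F V) (⊥ : Submodule F V)
    (by rw [finrank_bot, Fintype.card_fin, c.dim]; omega)
  rw [Submodule.mem_bot] at hz0
  have hyz : h y z = 0 := hz 0
  have hez : ∀ i, h (e i) z = 0 := fun i => hz i.succ
  by_cases hzz : h z z = 0
  · exact ⟨z, hz0, hzz, hez⟩
  have hy1 := c.eq_one (c.form.σ_self y) hyy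
  have hz1 := c.eq_one (c.form.σ_self z) hzz
  refine ⟨y + z, fun e => hyy ?_, by simp [hy1, hz1, hyz, c.form.comm_zero hyz, c.two],
    fun i => by simp [hy, hez]⟩
  have := congrArg (h y) e
  simpa [hyz] using this

/-- Three pairwise orthogonal isotropic independent vectors span their own perp. -/
theorem mem_plane {W : Fin 3 → V} (hW : LinearIndependent F W)
    (horth : ∀ i j, h (W i) (W j) = 0) {t : V} (ht : ∀ i, h (W i) t = 0) :
    t ∈ Submodule.span F (Set.range W) := by
  have := c.fd
  let T : V →ₗ[F] Fin 3 → F := LinearMap.pi fun i => h (W i)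
  have hle : Submodule.span F (Set.range W) ≤ LinearMap.ker T := Submodule.span_le.2 (by
    rintro _ ⟨j, rfl⟩
    exact LinearMap.mem_ker.2 (funext fun i => horth i j))
  have hker : Module.finrank F (LinearMap.ker T) ≤ 3 := by
    have e1 := LinearMap.finrank_range_add_finrank_ker T
    have htop : LinearMap.range T = ⊤ := LinearMap.range_eq_top.2 fun a => by
      obtain ⟨x, hx⟩ := exists_eval_eq _ (linearIndependent_h c.form hW) a
      exact ⟨x, funext hx⟩
    rw [htop, finrank_top, Module.finrank_fintype_fun_eq_card, Fintype.card_fin, c.dim] at e1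
    omega
  rw [Submodule.eq_of_le_of_finrank_le hle (by
    rw [finrank_span_eq_card hW, Fintype.card_fin]; exact hker)]
  exact LinearMap.mem_ker.2 (funext ht)

/-- An isometry with eigenvalues `p` on an isotropic plane has determinant `(∏ p)²`. -/
theorem det_eq_one [FiniteDimensional F V] {g : V →ₗ[F] V} (hg : ∀ x y, h (g x) (g y) = h x y)
    {W : Fin 3 → V} (hW : LinearIndependent F W) (horth : ∀ i j, h (W i) (W j) = 0)
    {p : Fin 3 → F} (hp : ∀ i, g (W i) = p i • W i) (hprod : p 0 * p 1 * p 2 = 1) :
    LinearMap.det g = 1 := by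
  classical
  set S := Submodule.span F (Set.range W) with hS
  have hgS : S ≤ S.comap g := Submodule.span_le.2 (by
    rintro _ ⟨i, rfl⟩
    show g (W i) ∈ S
    rw [hp]
    exact S.smul_mem _ (Submodule.subset_span ⟨i, rfl⟩))
  have hp0 : ∀ i, p i ≠ 0 := fun i e => by
    have := Finset.prod_eq_zero (Finset.mem_univ i) e
    rw [Fin.prod_univ_three, hprod] at this
    exact one_ne_zero this
  have hdual : ∀ j, ∃ z, ∀ i, h (W i) z = if i = j then 1 else 0 := fun j =>
    exists_eval_eq _ (linearIndependent_h c.form hW) _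
  choose z hz using hdual
  let bS : Module.Basis (Fin 3) F S := Module.Basis.span hW
  have hli : LinearIndependent F fun j => S.mkQ (z j) := by
    rw [Fintype.linearIndependent_iff]
    intro a ha i
    have hmem : ∑ j, a j • z j ∈ S := by
      rw [← Submodule.Quotient.mk_eq_zero, ← Submodule.mkQ_apply]
      simpa using ha
    obtain ⟨b, hb⟩ := (Submodule.mem_span_range_iff_exists_fun F).1 hmem
    have := congrArg (h (W i)) hb
    simpa [hz, horth] using this.symm
  have hcard : Fintype.card (Fin 3) = Module.finrank F (V ⧸ S) := by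
    have e := S.finrank_quotient_add_finrank
    rw [hS, finrank_span_eq_card hW, c.dim, Fintype.card_fin] at e
    rw [Fintype.card_fin, hS]
    omega
  let bQ := basisOfLinearIndependentOfCardEqFinrank hli hcard
  have diag : ∀ {M : Type _} [AddCommGroup M] [Module F M] (b : Module.Basis (Fin 3) F M)
      (f : M →ₗ[F] M), (∀ i, f (b i) = p i • b i) → LinearMap.det f = 1 := by
    intro M _ _ b f hf
    rw [← LinearMap.det_toMatrix b]
    have : LinearMap.toMatrix b b f = Matrix.diagonal p := by
      ext i j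
      rw [LinearMap.toMatrix_apply, hf, map_smul, b.repr_self, Matrix.diagonal_apply,
        Finsupp.smul_apply, smul_eq_mul, Finsupp.single_apply]
      by_cases e : i = j
      · subst e; simp
      · simp [e, Ne.symm e]
    rw [this, Matrix.det_diagonal, Fin.prod_univ_three, hprod]
  rw [LinearMap.det_eq_det_mul_det S g hgS, diag bS _ fun i => Subtype.ext ?_,
    diag bQ _ fun j => ?_, one_mul]
  · simp only [bQ, coe_basisOfLinearIndependentOfCardEqFinrank]
    rw [Submodule.mkQ_apply, Submodule.mapQ_apply, ← Submodule.Quotient.mk_smul,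
      Submodule.Quotient.eq]
    refine mem_plane c hW horth fun i => ?_
    have e := hg (W i) (z j)
    rw [hp, map_smulₛₗ, LinearMap.smul_apply, smul_eq_mul, hz] at e
    have n := c.norm (p i) (hp0 i)
    rw [map_sub, map_smul, smul_eq_mul, hz, sub_eq_zero]
    by_cases hij : i = j
    · subst hij
      rw [if_pos rfl] at e ⊢
      linear_combination (p i) * e - h (W i) (g (z i)) * n
    · rw [if_neg hij] at e ⊢
      linear_combination (p i) * e - h (W i) (g (z j)) * n
  · show g (bS i : V) = p i • (bS i : V)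
    have e : (bS i : V) = W i := Module.Basis.coe_span_apply hW i
    rw [e]
    exact hp i

end Cfsg.Agent.Transpos.U6
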