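import Cfsg.Agent.Lib.Transpos.M22Quasi
import Cfsg.Agent.Lib.Transpos.UnitaryMove
import Cfsg.Agent.Lib.AutPSU.Semilinear

/-!
# Automorphisms fixing a member act on its points by semilinear isometries

`Preserves D φ`: an automorphism permuting `D`.  `Model.exists_semi`: if it fixes `a` it induces a
semilinear isometry on the space at `a`.  `M22.eq_id_or_conj`: if it fixes all members commuting
with `a` it is trivial or conjugation by `a`.
-/

set_option autoImplicit false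

namespace Cfsg.Agent.Transpos

open Cfsg Cfsg.Agent.ClassicalSimple

variable {G : Type*} [Group G] {D : Set G} {a : G}

/-- `φ` permutes `D`. -/
def Preserves (D : Set G) (φ : G ≃* G) : Prop := ∀ x, φ x ∈ D ↔ x ∈ D

theorem preserves_conj (hD : IsThreeTranspositionGroup D) (g : G) : Preserves D (MulAut.conj g) :=
  fun x => ⟨fun h => by
    have h' := hD.2.1 g⁻¹ _ h
    simpa [mul_assoc] using h', fun h => hD.2.1 g x h⟩

theorem Preserves.trans {φ ψ : G ≃* G} (hφ : Preserves D φ) (hψ : Preserves D ψ) :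
    Preserves D (φ.trans ψ) := fun x => (hψ (φ x)).trans (hφ x)

theorem Preserves.commute {φ : G ≃* G} {x y : G} : Commute (φ x) (φ y) ↔ Commute x y :=
  ⟨fun h => φ.injective (by rw [map_mul, map_mul, h.eq]), fun h => h.map φ⟩

theorem Preserves.mem_dc {φ : G ≃* G} (hφ : Preserves D φ) {x p : G} :
    φ x ∈ Dc D (φ p) ↔ x ∈ Dc D p :=
  and_congr (hφ x) (and_congr φ.injective.ne_iff Preserves.commute)

theorem Preserves.mem_dc_fix {φ : G ≃* G} (hφ : Preserves D φ) {x p : G} (hp : φ p = p) :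
    φ x ∈ Dc D p ↔ x ∈ Dc D p := by
  conv_lhs => rw [← hp]
  exact hφ.mem_dc

namespace Model

variable (M : Model D a)

/-- `f` moves the points as `Ψ` does. -/
def Acts (f : G → G) (Ψ : (Fin 6 → M.F) → (Fin 6 → M.F)) : Prop :=
  ∀ x u, M.IsPt x u → M.IsPt (f x) (Ψ u)

theorem Acts.comp {M : Model D a} {f g : G → G} {Φ Ψ : (Fin 6 → M.F) → (Fin 6 → M.F)}
    (hf : M.Acts f Φ) (hg : M.Acts g Ψ) : M.Acts (fun x => f (g x)) fun u => Φ (Ψ u) :=
  fun x u hx => hf _ _ (hg x u hx)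

theorem Acts.congr {M : Model D a} {f : G → G} {Ψ Ψ' : (Fin 6 → M.F) → (Fin 6 → M.F)}
    (ht : M.Acts f Ψ) (e : ∀ u, Ψ u = Ψ' u) : M.Acts f Ψ' := fun x u hx => e u ▸ ht x u hx

theorem IsPt.smul {M : Model D a} {x : G} {u : Fin 6 → M.F} (h : M.IsPt x u) {m : M.F}
    (hm : m ≠ 0) : M.IsPt x (m • u) := by
  obtain ⟨hx, hu, h0, e⟩ := h
  have hu' : M.h (m • u) (m • u) = 0 := by simp [hu]
  exact ⟨hx, hu', smul_ne_zero hm h0, e.trans (U6.pt_congr M.c hu hu' hm rfl).symm⟩

variable (H : M22 D) (ha : a ∈ D)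
include M H ha

/-- The action of an element of the group generated by the members commuting with `a`. -/
theorem acts_lift (y : ↥(Subgroup.closure (Dc D a))) {g : SUH M.h} (hy : M.ψ y = QuotientGroup.mk g) :
    M.Acts (fun x => (y : G) * x * (y : G)⁻¹) fun u => g • u := by
  rintro x u ⟨hx, hu, hu0, e⟩
  refine ⟨conj_mem M H ha y hx, by rw [U6.isom M.c, hu], fun h0 => hu0 ?_, ?_⟩
  · rw [← inv_smul_smul g u, show g • u = 0 from h0]
    exact ((g⁻¹ : SUH M.h) : UH M.h).1.map_zero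
  · have h1 := U6.tv_conj M.c g hu
    refine Eq.trans ?_ (congrArg (QuotientGroup.mk' (Subgroup.center (SUH M.h))) h1)
    rw [map_mul, map_mul, map_inv, show QuotientGroup.mk' _ g = M.ψ y from hy.symm]
    change _ = M.ψ y * U6.pt M.c u hu * (M.ψ y)⁻¹
    rw [← e, ← map_inv, ← map_mul, ← map_mul]
    rfl

/-- A member acts as its transvection. -/
theorem acts_tv {x : G} {u : Fin 6 → M.F} (hx : M.IsPt x u) :
    M.Acts (fun z => x * z * x⁻¹) fun v => v + M.h u v • u :=
  (acts_lift M H ha ⟨x, Subgroup.subset_closure hx.mem⟩ (g := U6.tv M.c u hx.iso) hx.2.2.2).congr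
    fun v => U6.tv_smul M.c hx.iso v

theorem exists_lift (g : SUH M.h) :
    ∃ y ∈ Subgroup.closure (Dc D a), M.Acts (fun x => y * x * y⁻¹) fun u => g • u := by
  obtain ⟨y, hy⟩ := M.surj (QuotientGroup.mk g)
  exact ⟨y, y.2, acts_lift M H ha y hy⟩

/-- A map acting as a scalar fixes every point. -/
theorem fix_of_acts_scalar {f : G → G} {m : M.F} (ht : M.Acts f fun u => m • u) :
    ∀ x ∈ Dc D a, f x = x := fun x hx => by
  obtain ⟨u, hu⟩ := M.exists_vec H ha hx
  exact (eq_of_smul M H ha hu (ht x u hu) rfl).symm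

theorem fix_iff {f : G → G} {x : G} {Ψ : (Fin 6 → M.F) → (Fin 6 → M.F)} (ht : M.Acts f Ψ)
    {u : Fin 6 → M.F} (hx : M.IsPt x u) : f x = x ↔ ∃ m : M.F, m ≠ 0 ∧ Ψ u = m • u := by
  constructor
  · intro hc
    obtain ⟨m, hm⟩ := smul_of_eq M hx (ht x u hx) hc.symm
    exact ⟨m, fun e => (ht x u hx).ne_zero (by rw [hm, e, zero_smul]), hm⟩
  · rintro ⟨m, -, hm⟩
    exact (eq_of_smul M H ha hx (ht x u hx) hm).symm

/-- An automorphism fixing `a` acts as a semilinear isometry. -/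
theorem exists_semi {φ : G ≃* G} (hφ : Preserves D φ) (hfa : φ a = a) :
    ∃ (Ψ : (Fin 6 → M.F) → (Fin 6 → M.F)) (τ : M.F ≃+* M.F), U6.Semi M.h τ Ψ ∧ M.Acts φ Ψ := by
  classical
  have := Fintype.ofFinite M.F
  have hF := U6.card_eq M.c
  have : Fact (Nat.Prime 2) := ⟨Nat.prime_two⟩
  have : CharP M.F 2 := CharTwo.of_one_ne_zero_of_two_eq_zero one_ne_zero
    (by rw [← M.c.two]; norm_num)
  set T := Subgroup.closure (Dc D a)
  have himg : φ.toMonoidHom '' Dc D a = Dc D a := by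
    refine Set.Subset.antisymm ?_ fun y hy => ?_
    · rintro _ ⟨x, hx, rfl⟩
      exact (hφ.mem_dc_fix hfa).2 hx
    · refine ⟨φ.symm y, (hφ.mem_dc_fix hfa).1 ?_, φ.apply_symm_apply y⟩
      rw [φ.apply_symm_apply]
      exact hy
  let χ : ↥T ≃* ↥T := (φ.subgroupMap T).trans
    (MulEquiv.subgroupCongr ((MonoidHom.map_closure _ _).trans (congrArg Subgroup.closure himg)))
  have hker : Subgroup.center ↥T = M.ψ.ker := Subgroup.ext fun x => (M.ker x).symm
  let e : ↥T ⧸ Subgroup.center ↥T ≃* SUH M.h ⧸ Subgroup.center (SUH M.h) :=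
    (QuotientGroup.quotientMulEquivOfEq hker).trans
      (QuotientGroup.quotientKerEquivOfSurjective M.ψ M.surj)
  have he : ∀ x, e (QuotientGroup.mk x) = M.ψ x := fun x => rfl
  let β : MulAut (SUH M.h ⧸ Subgroup.center (SUH M.h)) :=
    e.symm.trans ((centerQuotientCongr χ).trans e)
  have hβ : ∀ x, β (M.ψ x) = M.ψ (χ x) := fun x => by
    show e (centerQuotientCongr χ (e.symm (M.ψ x))) = _
    rw [← he x, e.symm_apply_apply, ← he (χ x)]
    rfl
  obtain ⟨Ψ, τ, hadd, hsmul, hform, hall⟩ := AutPSU.exists_semilinear (p := 2) (q := 2) M.c.form hF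
    (fun x => by rw [U6.sigma_sq M.c, pow_two]) (by rw [M.c.dim]; norm_num)
    (by rw [M.c.dim]; norm_num) β
  have hΨ : U6.Semi M.h τ Ψ := ⟨hadd, hsmul, hform⟩
  have hinj : Function.Injective Ψ := fun x y hxy => sub_eq_zero.1 (M.c.form.sep _ fun z => by
    apply τ.injective
    have e : Ψ (x - y) = 0 := by
      have := hadd (x - y) y
      rw [sub_add_cancel, hxy, right_eq_add] at this
      exact this
    rw [← hform, e, map_zero, LinearMap.zero_apply, map_zero])
  have hsurj : Function.Surjective Ψ := Finite.surjective_of_injective hinj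
  refine ⟨Ψ, τ, hΨ, ?_⟩
  rintro x u ⟨hx, hu, hu0, ex⟩
  have hmem : φ x ∈ Dc D a := (hφ.mem_dc_fix hfa).2 hx
  have hu' : M.h (Ψ u) (Ψ u) = 0 := by rw [hform, hu, map_zero]
  refine ⟨hmem, hu', fun e => hu0 (hinj (e.trans hΨ.map_zero.symm)), ?_⟩
  obtain ⟨s', hs', es'⟩ := hall (U6.tv M.c u hu)
  have hs : s' = U6.tv M.c (Ψ u) hu' := U6.ext_smul M.c fun y => by
    obtain ⟨z, rfl⟩ := hsurj y
    rw [hs', U6.tv_smul, U6.tv_smul, hadd, hsmul, hform]
  have h1 := hβ ⟨x, Subgroup.subset_closure hx⟩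
  rw [ex, show β (U6.pt M.c u hu) = U6.pt M.c (Ψ u) hu' from
    es'.trans (by rw [hs]; rfl)] at h1
  exact (congrArg M.ψ (Subtype.ext rfl)).trans h1.symm

end Model

namespace M22

variable (H : M22 D)
include H

/-- Fixing all members commuting with `a` leaves the identity and conjugation by `a`. -/
theorem eq_id_or_conj {φ : G ≃* G} (hφ : Preserves D φ) (ha : a ∈ D) (hfa : φ a = a)
    (hfix : ∀ y ∈ Dc D a, φ y = y) : (∀ g, φ g = g) ∨ ∀ g, φ g = a * g * a⁻¹ := by
  obtain ⟨b, hb⟩ := (H.model a ha).1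
  have hab := mem_dc_symm ha hb
  obtain ⟨M⟩ := (H.model b hb.1).2
  obtain ⟨x, hx, hax⟩ := H.exists_opp ha hb
  have hy : φ x ∈ Dc D b := (hφ.mem_dc_fix (hfix b hb)).2 hx
  have hay : ¬ Commute a (φ x) := fun h => hax (Preserves.commute.1 (by rwa [hfa] : Commute (φ a) (φ x)))
  have hs : Same (Dc (Dc D b) a) x (φ x) := fun w hw => by
    have hwz : φ w = w := hfix w ⟨hw.1.1, hw.2.1, hw.2.2⟩
    conv_rhs => rw [← hwz]
    exact Preserves.commute.symm
  -- an automorphism fixing a generating set is trivial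
  have key : ∀ ψ : G ≃* G, ψ a = a → (∀ y ∈ Dc D a, ψ y = y) → ψ x = x → ∀ g, ψ g = g := by
    intro ψ ka kA kx g
    let K : Subgroup G := ψ.toMonoidHom.eqLocus (MonoidHom.id G)
    obtain ⟨y₀, hy₀, hy₀x⟩ :=
      exists_not_commute H.grp H.conn H.line H.good ha hb hx hax
    have hall : D ⊆ K := fun v hv =>
      mem_of_two H.grp H.good K ha hb ka kA hx kx hax hy₀ hy₀x (H.conn a ha v hv)
    exact (((Subgroup.closure_le K).2 hall) (H.grp.2.2 ▸ Subgroup.mem_top g) : ψ g = g)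
  rcases M.eq_or_conj H hb.1 hab hx hy hax hay hs with e | e
  · exact Or.inl (key φ hfa hfix e)
  · right
    have ha2 : a * a = 1 := sq_one H.grp.1 ha
    have hai : a⁻¹ = a := inv_eq H.grp.1 ha
    have h1 := key (φ.trans (MulAut.conj a)) (by simp [hfa]) (fun y hy => by
        show a * φ y * a⁻¹ = y
        rw [hfix y hy, hy.2.2.eq, mul_inv_cancel_right]) (by
        show a * φ x * a⁻¹ = x
        rw [e, hai]
        simp [mul_assoc, mul_mul_cancel H.grp.1 ha, ha2])
    intro g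
    have := h1 g
    change a * φ g * a⁻¹ = g at this
    conv_rhs => rw [← this]
    rw [hai]
    simp [mul_assoc, mul_mul_cancel H.grp.1 ha, ha2]

end M22

end Cfsg.Agent.Transpos
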