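import Cfsg.Agent.Lib.Transpos.M22Thompson
import Cfsg.Agent.Lib.Transpos.M22InvolClasses

/-!
# Bases in a group of type M(22): extension, transitivity, the products in the group of a base

* `exists_base_above`: a set of commuting members lies in a base.
* `exists_conj_fix`: two bases through given members are conjugate by an element fixing these members;
  so the normaliser of a base is as transitive on it as the group is on commuting members.
* `mem_closure_base`: the group of a base consists of the products of at most three of its members.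
* `frames_commute`: two representations of the same product commute.
-/

set_option autoImplicit false
set_option linter.style.haveILetI false

namespace Cfsg.Agent.Transpos

open Cfsg

namespace Thompson

variable {G : Type*} [Group G] [Finite G] {D : Set G}
variable (hD : IsThreeTranspositionGroup D) (hprim : IsPrimitiveUnderConj D)
  (h22 : IsOfTypeM22 G D)
include hD hprim h22

/-- Commuting members lie in a common base. -/
theorem exists_base_above {T : Set G} (hT : T ⊆ D) (hc : ∀ x ∈ T, ∀ y ∈ T, Commute x y) :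
    ∃ B, IsBase D B ∧ T ⊆ B := by
  have hp : IsPGroup 2 ↥(Subgroup.closure T) :=
    isPGroup_elem (elem_closure hc fun x hx => sq_one hD.1 (hT hx))
  obtain ⟨S, hS⟩ := hp.exists_le_sylow
  exact ⟨_, sylow_base hD hprim h22 S, fun x hx => ⟨hT hx, hS (Subgroup.subset_closure hx)⟩⟩

omit [Finite G] hprim h22 in
/-- A conjugate of a base is a base. -/
theorem IsBase.conj {B : Set G} (hB : IsBase D B) (g : G) : IsBase D (MulAut.conj g '' B) :=
  (conjBase hD g ⟨B, hB⟩).2

/-- Bases through the same members are conjugate by an element fixing these members. -/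
theorem exists_conj_fix {B B' T : Set G} (hB : IsBase D B) (hB' : IsBase D B') (hT : T ⊆ B)
    (hT' : T ⊆ B') : ∃ g : G, (∀ t ∈ T, Commute g t) ∧ MulAut.conj g '' B = B' := by
  set K := Subgroup.centralizer T with hK
  have hle : ∀ {S : Set G}, IsBase D S → T ⊆ S → Subgroup.closure S ≤ K := fun {S} hS hTS =>
    (Subgroup.closure_le _).2 fun x hx => Subgroup.mem_centralizer_iff.2 fun t ht =>
      (hS.2.1 t (hTS ht) x hx).eq
  have hp : ∀ {S : Set G}, IsBase D S → IsPGroup 2 ↥((Subgroup.closure S).subgroupOf K) :=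
    fun {S} hS => (isPGroup_elem (hS.elem hD)).comap_subtype
  obtain ⟨T₁, hT₁⟩ := (hp hB).exists_le_sylow
  obtain ⟨T₂, hT₂⟩ := (hp hB').exists_le_sylow
  obtain ⟨k, hk⟩ := MulAction.exists_smul_eq ↥K T₁ T₂
  obtain ⟨P, hP⟩ := ((T₂.isPGroup').map K.subtype).exists_le_sylow
  have hS := sylow_base hD hprim h22 P
  set S := {x : G | x ∈ D ∧ x ∈ (P : Subgroup G)}
  have h' : ∀ x ∈ B', x ∈ S := fun x hx => ⟨hB'.1 hx, hP ⟨⟨x, hle hB' hT'
    (Subgroup.subset_closure hx)⟩, hT₂ (Subgroup.mem_subgroupOf.2 (Subgroup.subset_closure hx)), rfl⟩⟩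
  have h'' : MulAut.conj (k : G) '' B ⊆ S := by
    rintro _ ⟨x, hx, rfl⟩
    refine ⟨hD.2.1 _ x (hB.1 hx), hP ⟨k * ⟨x, hle hB hT (Subgroup.subset_closure hx)⟩ * k⁻¹, ?_, rfl⟩⟩
    rw [← hk]
    exact Subgroup.smul_mem_pointwise_smul _ (MulAut.conj k) _
      (hT₁ (Subgroup.mem_subgroupOf.2 (Subgroup.subset_closure hx)))
  have e' := Set.eq_of_subset_of_ncard_le h' (by rw [hB'.2.2, hS.2.2]) (Set.toFinite _)
  have e'' := Set.eq_of_subset_of_ncard_le h''
    (by rw [(IsBase.conj hD hB k).2.2, hS.2.2]) (Set.toFinite _)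
  exact ⟨k, fun t ht => (Subgroup.mem_centralizer_iff.1 k.2 t ht).symm, e''.trans e'.symm⟩

/-- An element carrying members of a base into it can be taken to normalise the base. -/
theorem exists_normalizer {B T : Set G} (hB : IsBase D B) (h : G) (hT : T ⊆ B)
    (hh : ∀ t ∈ T, h * t * h⁻¹ ∈ B) :
    ∃ g : G, (∀ t ∈ T, g * t * g⁻¹ = h * t * h⁻¹) ∧ MulAut.conj g '' B = B := by
  obtain ⟨k, hk, e⟩ := exists_conj_fix hD hprim h22 (IsBase.conj hD hB h) hB
    (T := MulAut.conj h '' T) (Set.image_mono hT) (by rintro _ ⟨t, ht, rfl⟩; exact hh t ht)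
  refine ⟨k * h, fun t ht => ?_, ?_⟩
  · rw [show k * h * t * (k * h)⁻¹ = k * (h * t * h⁻¹) * k⁻¹ by group]
    exact mul_inv_eq_iff_eq_mul.2 (hk _ ⟨t, ht, rfl⟩).eq
  · rw [Set.image_image] at e
    exact (Set.image_congr' fun x => by rw [map_mul, MulAut.mul_apply]).trans e

/-- The normaliser of a base is transitive on it. -/
theorem exists_normalizer_one {B : Set G} (hB : IsBase D B) {p p' : G} (hp : p ∈ B) (hp' : p' ∈ B) :
    ∃ g : G, g * p * g⁻¹ = p' ∧ MulAut.conj g '' B = B := by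
  obtain ⟨h, rfl⟩ := (m22_of_primitive hD hprim h22).2.1.trans p (hB.1 hp) p' (hB.1 hp')
  obtain ⟨g, hg, e⟩ := exists_normalizer hD hprim h22 hB h (T := {p}) (by simpa using hp)
    (by simpa using hp')
  exact ⟨g, hg p rfl, e⟩

/-- The normaliser of a base is transitive on its pairs. -/
theorem exists_normalizer_two {B : Set G} (hB : IsBase D B) {p q p' q' : G} (hp : p ∈ B) (hq : q ∈ B)
    (hp' : p' ∈ B) (hq' : q' ∈ B) (hpq : q ≠ p) (hpq' : q' ≠ p') :
    ∃ g : G, g * p * g⁻¹ = p' ∧ g * q * g⁻¹ = q' ∧ MulAut.conj g '' B = B := by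
  obtain ⟨h, rfl, rfl⟩ := (m22_of_primitive hD hprim h22).2.1.conj_pair (hB.1 hp)
    ⟨hB.1 hq, hpq, hB.2.1 p hp q hq⟩ (hB.1 hp') ⟨hB.1 hq', hpq', hB.2.1 p' hp' q' hq'⟩
  obtain ⟨g, hg, e⟩ := exists_normalizer hD hprim h22 hB h (T := {p, q})
    (by rintro t (rfl | rfl) <;> assumption) (by rintro t (rfl | rfl) <;> assumption)
  exact ⟨g, hg p (Or.inl rfl), hg q (Or.inr rfl), e⟩

/-- The normaliser of a base is transitive on its triples. -/
theorem exists_normalizer_three {B : Set G} (hB : IsBase D B) {p q r p' q' r' : G} (hp : p ∈ B)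
    (hq : q ∈ B) (hr : r ∈ B) (hp' : p' ∈ B) (hq' : q' ∈ B) (hr' : r' ∈ B)
    (hd : q ≠ p ∧ r ≠ p ∧ r ≠ q) (hd' : q' ≠ p' ∧ r' ≠ p' ∧ r' ≠ q') :
    ∃ g : G, g * p * g⁻¹ = p' ∧ g * q * g⁻¹ = q' ∧ g * r * g⁻¹ = r' ∧ MulAut.conj g '' B = B := by
  obtain ⟨h, rfl, rfl, rfl⟩ := (m22_of_primitive hD hprim h22).2.1.conj_triple (hB.1 hp)
    ⟨hB.1 hq, hd.1, hB.2.1 p hp q hq⟩ ⟨⟨hB.1 hr, hd.2.1, hB.2.1 p hp r hr⟩, hd.2.2, hB.2.1 q hq r hr⟩
    (hB.1 hp') ⟨hB.1 hq', hd'.1, hB.2.1 p' hp' q' hq'⟩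
    ⟨⟨hB.1 hr', hd'.2.1, hB.2.1 p' hp' r' hr'⟩, hd'.2.2, hB.2.1 q' hq' r' hr'⟩
  obtain ⟨g, hg, e⟩ := exists_normalizer hD hprim h22 hB h (T := {p, q, r})
    (by rintro t (rfl | rfl | rfl) <;> assumption) (by rintro t (rfl | rfl | rfl) <;> assumption)
  exact ⟨g, hg p (by simp), hg q (by simp), hg r (by simp), e⟩

/-- The elements of the group of a base are the products of at most three of its members. -/
theorem mem_closure_base {B : Set G} (hB : IsBase D B) {x : G} (hx : x ∈ Subgroup.closure B) :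
    ∃ l : List G, l.Nodup ∧ l.length ≤ 3 ∧ (∀ s ∈ l, s ∈ B) ∧ l.prod = x := by
  obtain ⟨_, H, hfull⟩ := m22_of_primitive hD hprim h22
  obtain ⟨l, hn, hl, hlD, hc, he⟩ := hfull.short x (by rw [← pow_two]; exact (hB.elem hD).2 x hx)
  refine ⟨l, hn, hl, fun t ht => mem_of_commute hD hprim h22 hB (hlD t ht) fun s hs => ?_, he⟩
  have hsx : Commute s l.prod := he ▸ commute_closure hB.2.1 (Subgroup.subset_closure hs) hx
  have hsD := hB.1 hs
  match l, hn, hl, hlD, hc, ht, hsx with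
  | [], _, _, _, _, ht, _ => simp at ht
  | [p], _, _, _, _, ht, hsx =>
    obtain rfl : t = p := by simpa using ht
    exact (by simpa using hsx : Commute s t).symm
  | [p, q], hn, _, hlD, hc, ht, hsx =>
    have hne : p ≠ q := by simpa using hn
    obtain ⟨h1, h2⟩ := commute_both hD.1 (hlD p (by simp)) (hlD q (by simp)) hsD hne
      (hc p (by simp) q (by simp)) (by simpa using hsx)
    rcases (by simpa using ht : t = p ∨ t = q) with rfl | rfl
    exacts [h1.symm, h2.symm]
  | [p, q, r], hn, _, hlD, hc, ht, hsx =>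
    simp only [List.nodup_cons, List.mem_cons, List.not_mem_nil, or_false, not_or] at hn
    obtain ⟨h1, h2, h3⟩ := commute_three hD.1 (hlD p (by simp)) (hlD q (by simp)) (hlD r (by simp))
      hsD hn.1.1 hn.1.2 hn.2.1 (hc p (by simp) q (by simp)) (hc p (by simp) r (by simp))
      (hc q (by simp) r (by simp)) (by simpa [mul_assoc] using hsx)
    rcases (by simpa using ht : t = p ∨ t = q ∨ t = r) with rfl | rfl | rfl
    exacts [h1.symm, h2.symm, h3.symm]
  | _ :: _ :: _ :: _ :: _, _, hl, _, _, _, _ => exact absurd hl (by simp only [List.length_cons]; omega)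

/-- The four kinds of elements of the group of a base. -/
theorem kind_cases {B : Set G} (hB : IsBase D B) {x : G} (hx : x ∈ Subgroup.closure B) :
    x = 1 ∨ x ∈ B ∨ (∃ p ∈ B, ∃ q ∈ B, q ≠ p ∧ p * q = x) ∨
      ∃ p ∈ B, ∃ q ∈ B, ∃ r ∈ B, (q ≠ p ∧ r ≠ p ∧ r ≠ q) ∧ p * q * r = x := by
  obtain ⟨l, hn, hl, hm, rfl⟩ := mem_closure_base hD hprim h22 hB hx
  match l, hn, hl, hm with
  | [], _, _, _ => simp
  | [p], _, _, hm => exact Or.inr (Or.inl (by simpa using hm p (by simp)))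
  | [p, q], hn, _, hm =>
    exact Or.inr (Or.inr (Or.inl ⟨p, hm p (by simp), q, hm q (by simp),
      Ne.symm (by simpa using hn), by simp⟩))
  | [p, q, r], hn, _, hm =>
    simp only [List.nodup_cons, List.mem_cons, List.not_mem_nil, or_false, not_or] at hn
    exact Or.inr (Or.inr (Or.inr ⟨p, hm p (by simp), q, hm q (by simp), r, hm r (by simp),
      ⟨Ne.symm hn.1.1, Ne.symm hn.1.2, Ne.symm hn.2.1⟩, by simp [mul_assoc]⟩))
  | _ :: _ :: _ :: _ :: _, _, hl, _ => exact absurd hl (by simp only [List.length_cons]; omega)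

/-- Products of distinct members of a base are determined in length. -/
theorem kind_exclusive {B : Set G} (hB : IsBase D B) {p q : G} (hp : p ∈ B) (hq : q ∈ B)
    (hqp : q ≠ p) :
    p * q ≠ 1 ∧ p * q ∉ D ∧
      ∀ r ∈ B, r ≠ p → r ≠ q → p * q * r ≠ 1 ∧ p * q * r ∉ D ∧
        ∀ p' ∈ B, ∀ q' ∈ B, q' ≠ p' → p * q * r ≠ p' * q' := by
  obtain ⟨_, H, -⟩ := m22_of_primitive hD hprim h22
  have hq' : q ∈ Dc D p := ⟨hB.1 hq, hqp, hB.2.1 p hp q hq⟩
  refine ⟨fun e => hqp ?_, fun h => H.one_ne_two h (hB.1 hp) hq' rfl, fun r hr hrp hrq => ?_⟩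
  · rw [eq_inv_of_mul_eq_one_right e, inv_eq hD.1 (hB.1 hp)]
  have hr' : r ∈ Dc (Dc D p) q := ⟨⟨hB.1 hr, hrp, hB.2.1 p hp r hr⟩, hrq, hB.2.1 q hq r hr⟩
  refine ⟨fun e => ?_, fun h => H.one_ne_three h (hB.1 hp) hq' hr' rfl, fun p' hp' q₁ hq₁ hne e => ?_⟩
  · exact H.one_ne_two (hB.1 hr) (hB.1 hp) hq'
      (by rw [eq_inv_of_mul_eq_one_left e, inv_eq hD.1 (hB.1 hr)])
  · have h2 : IsFrameProd D 2 (p * q * r) := ⟨[p', q₁], by simpa using Ne.symm hne, rfl,
      by simp [hB.1 hp', hB.1 hq₁], by simp [hB.2.1 p' hp' q₁ hq₁, hB.2.1 q₁ hq₁ p' hp'], by simp [e]⟩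
    have h3 : IsFrameProd D 3 (p * q * r) := ⟨[p, q, r],
      by simp [Ne.symm hqp, Ne.symm hrp, Ne.symm hrq], rfl,
      by simp [hB.1 hp, hB.1 hq, hB.1 hr],
      by simp [hB.2.1 p hp q hq, hB.2.1 q hq p hp, hB.2.1 p hp r hr, hB.2.1 r hr p hp,
        hB.2.1 q hq r hr, hB.2.1 r hr q hq],
      by simp [mul_assoc]⟩
    exact absurd (H.len_unique (by norm_num) (by norm_num) (by norm_num) le_rfl h2 h3) (by norm_num)

omit [Finite G] hprim h22 in
/-- Members in two products with the same value, each inside a base, commute. -/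
theorem frames_commute {B B' : Set G} (hB : IsBase D B) (hB' : IsBase D B') {l l' : List G}
    (hm : ∀ s ∈ l, s ∈ B) (hn' : l'.Nodup) (hl' : l'.length ≤ 3)
    (hm' : ∀ s ∈ l', s ∈ B') (e : l.prod = l'.prod) :
    ∀ s ∈ l, ∀ t ∈ l', Commute s t := by
  intro s hs t ht
  have hx : Commute s l'.prod := e ▸ commute_closure hB.2.1 (Subgroup.subset_closure (hm s hs))
    (Subgroup.list_prod_mem _ fun y hy => Subgroup.subset_closure (hm y hy))
  have hsD := hB.1 (hm s hs)
  match l', hn', hl', hm', ht, hx with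
  | [], _, _, _, ht, _ => simp at ht
  | [p], _, _, _, ht, hx =>
    obtain rfl : t = p := by simpa using ht
    simpa using hx
  | [p, q], hn', _, hm', ht, hx =>
    have hne : p ≠ q := by simpa using hn'
    obtain ⟨h1, h2⟩ := commute_both hD.1 (hB'.1 (hm' p (by simp))) (hB'.1 (hm' q (by simp))) hsD hne
      (hB'.2.1 p (hm' p (by simp)) q (hm' q (by simp))) (by simpa using hx)
    rcases (by simpa using ht : t = p ∨ t = q) with rfl | rfl
    exacts [h1, h2]
  | [p, q, r], hn', _, hm', ht, hx =>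
    simp only [List.nodup_cons, List.mem_cons, List.not_mem_nil, or_false, not_or] at hn'
    obtain ⟨h1, h2, h3⟩ := commute_three hD.1 (hB'.1 (hm' p (by simp))) (hB'.1 (hm' q (by simp)))
      (hB'.1 (hm' r (by simp))) hsD hn'.1.1 hn'.1.2 hn'.2.1
      (hB'.2.1 p (hm' p (by simp)) q (hm' q (by simp))) (hB'.2.1 p (hm' p (by simp)) r (hm' r (by simp)))
      (hB'.2.1 q (hm' q (by simp)) r (hm' r (by simp))) (by simpa [mul_assoc] using hx)
    rcases (by simpa using ht : t = p ∨ t = q ∨ t = r) with rfl | rfl | rfl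
    exacts [h1, h2, h3]
  | _ :: _ :: _ :: _ :: _, _, hl', _, _, _ => exact absurd hl' (by simp only [List.length_cons]; omega)

end Thompson

end Cfsg.Agent.Transpos
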