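import Cfsg.Agent.Lib.ClassicalSimple.UnitaryMatrix

/-!
# Transvections of a six-dimensional unitary space over the field with four elements

* `exists_eq_tv`: an involution of the projective group all of whose products with conjugates have
  order at most 3 is the image of a transvection.
* `five_prod`: the five transvections with centres on a totally isotropic line multiply to 1.
* `mem_line_of_twin`: isotropic points with the same perp inside the perp of `u` are collinear with `u`.
-/

set_option autoImplicit false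

namespace Cfsg.Agent.Transpos.U6

open Cfsg.Agent.ClassicalSimple

variable {F V : Type*} [Field F] [AddCommGroup V] [Module F V]
  {σ : F →+* F} {h : V →ₛₗ[σ] V →ₗ[F] F}

/-- A unitary form in dimension 6 over four elements. -/
structure Ctx (σ : F →+* F) (h : V →ₛₗ[σ] V →ₗ[F] F) : Prop where
  form : IsUnitaryForm σ h
  two : (1 : F) + 1 = 0
  norm : ∀ x : F, x ≠ 0 → σ x * x = 1
  cube : ∀ x : F, x ≠ 0 → x * x * x = 1
  dim : Module.finrank F V = 6

namespace Ctx

variable (c : Ctx σ h)
include c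

theorem addF (x : F) : x + x = 0 := by linear_combination x * c.two

theorem addV (x : V) : x + x = 0 := by
  rw [← two_smul F x, ← one_add_one_eq_two, c.two, zero_smul]

theorem fd : FiniteDimensional F V :=
  Module.finite_of_finrank_pos (by rw [c.dim]; norm_num)

theorem eq_one {x : F} (hx : σ x = x) (h0 : x ≠ 0) : x = 1 := by
  have e := c.norm x h0
  rw [hx] at e
  linear_combination c.cube x h0 - x * e

theorem exists_omega : ∃ w : F, w ≠ 0 ∧ w * w + w + 1 = 0 ∧ σ w = w * w ∧ σ (w * w) = w := by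
  obtain ⟨a, ha⟩ := c.form.ne_id
  have h0 : a ≠ 0 := fun e => ha (by rw [e, map_zero])
  have h1 : a - 1 ≠ 0 := fun e => ha (by rw [sub_eq_zero.1 e, map_one])
  have hs : σ a = a * a := mul_right_cancel₀ h0 ((c.norm a h0).trans (c.cube a h0).symm)
  refine ⟨a, h0, (mul_eq_zero.1 (show (a - 1) * (a * a + a + 1) = 0 by
    linear_combination c.cube a h0)).resolve_left h1, hs, ?_⟩
  rw [map_mul, hs]
  linear_combination a * c.cube a h0

theorem mem_span_of_perp {k : ℕ} (v : Fin k → V) {s : V}
    (hs : ∀ t, (∀ i, h (v i) t = 0) → h s t = 0) : s ∈ Submodule.span F (Set.range v) := by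
  have hmem : h s ∈ Submodule.span F (Set.range fun i => h (v i)) := by
    refine mem_span_of_iInf_ker_le_ker fun t ht => ?_
    simp only [Submodule.mem_iInf, LinearMap.mem_ker] at ht
    exact hs t ht
  obtain ⟨a, ha⟩ := (Submodule.mem_span_range_iff_exists_fun F).1 hmem
  have e : s - ∑ i, σ (a i) • v i = 0 := c.form.sep _ fun y => by
    simp [← ha, c.form.invol]
  rw [sub_eq_zero.1 e]
  exact Submodule.sum_mem _ fun i _ => Submodule.smul_mem _ _ (Submodule.subset_span ⟨i, rfl⟩)

/-- A hermitian form with zero diagonal vanishes. -/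
theorem eq_zero_of_diag {b : F} (hb : ∀ m : F, m * b + σ (m * b) = 0) : b = 0 := by
  by_contra h0
  obtain ⟨d, hd⟩ := c.form.exists_trace_one
  have := hb (d * b⁻¹)
  rw [inv_mul_cancel_right₀ h0, hd] at this
  exact one_ne_zero this

/-- An anisotropic vector in the perp of three vectors, one of them anisotropic. -/
theorem exists_aniso_perp_three {u w y : V} (hy : h y y ≠ 0) :
    ∃ z, h u z = 0 ∧ h w z = 0 ∧ h y z = 0 ∧ h z z = 1 := by
  have := c.fd
  let v : Fin 3 → V := ![u, w, y]
  let T : V →ₗ[F] Fin 3 → F := LinearMap.pi fun i => h (v i)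
  let S := LinearMap.ker T
  have hS : ∀ z, z ∈ S ↔ ∀ i, h (v i) z = 0 := fun z => by
    simp [S, T, LinearMap.mem_ker, funext_iff]
  suffices key : ∃ z ∈ S, h z z ≠ 0 by
    obtain ⟨z, hz, hne⟩ := key
    have e := (hS z).1 hz
    exact ⟨z, e 0, e 1, e 2, c.eq_one (c.form.σ_self z) hne⟩
  by_contra hall
  push Not at hall
  have hST : ∀ s ∈ S, ∀ t ∈ S, h s t = 0 := fun s hs t ht => c.eq_zero_of_diag fun m => by
    have e := hall _ (S.add_mem hs (S.smul_mem m ht))
    simp only [map_add, LinearMap.add_apply, map_smulₛₗ, LinearMap.smul_apply, smul_eq_mul,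
      RingHom.id_apply, hall s hs, hall t ht, c.form.swap s t, mul_zero, add_zero, zero_add] at e
    rw [map_mul]; linear_combination e
  have hle : S ≤ Submodule.span F (Set.range v) := fun s hs =>
    c.mem_span_of_perp v fun t ht => hST s hs t ((hS t).2 ht)
  have h3 : Module.finrank F (Submodule.span F (Set.range v)) ≤ 3 :=
    (finrank_range_le_card v).trans (by simp)
  have hker : 3 ≤ Module.finrank F S := by
    have e1 := LinearMap.finrank_range_add_finrank_ker T
    have e2 := Submodule.finrank_le (LinearMap.range T)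
    rw [c.dim] at e1
    rw [Module.finrank_fintype_fun_eq_card, Fintype.card_fin] at e2
    show 3 ≤ Module.finrank F (LinearMap.ker T)
    omega
  have hyS : y ∈ S :=
    (Submodule.eq_of_le_of_finrank_le hle (h3.trans hker)) ▸ Submodule.subset_span ⟨2, rfl⟩
  exact hy (hall y hyS)

/-- Isotropic points with the same perp inside the perp of `u` lie on a line with `u`. -/
theorem mem_line_of_twin {u w r : V} (hu : h u u = 0) (hwu : h u w = 0) (hru : h u r = 0)
    (hr : ∀ y, h y y = 0 → h u y = 0 → (∀ m : F, y ≠ m • u) → h w y = 0 → h r y = 0) :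
    ∃ m n : F, r = m • u + n • w := by
  have hiso : ∀ y, h y y = 0 → h u y = 0 → h w y = 0 → h r y = 0 := fun y hy huy hwy => by
    by_cases hm : ∃ m : F, y = m • u
    · obtain ⟨m, rfl⟩ := hm
      rw [map_smul, c.form.comm_zero hru, smul_zero]
    · exact hr y hy huy (fun m e => hm ⟨m, e⟩) hwy
  have hall : ∀ t, (∀ i, h (![u, w] i) t = 0) → h r t = 0 := fun t ht => by
    have hut : h u t = 0 := ht 0
    have hwt : h w t = 0 := ht 1
    by_cases htt : h t t = 0
    · exact hiso t htt hut hwt
    have ht1 := c.eq_one (c.form.σ_self t) htt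
    obtain ⟨z, huz, hwz, htz, hzz⟩ := c.exists_aniso_perp_three (u := u) (w := w) htt
    have key : ∀ m : F, m ≠ 0 → h r t + m * h r z = 0 := fun m hm => by
      have e := hiso (t + m • z) (by
        simp [ht1, hzz, htz, c.form.comm_zero htz]
        linear_combination c.norm m hm + c.two) (by simp [hut, huz]) (by simp [hwt, hwz])
      simpa using e
    obtain ⟨o, ho0, ho, -⟩ := c.exists_omega
    have e1 := key 1 one_ne_zero
    have e2 := key o ho0
    have hz0 : (o - 1) * h r z = 0 := by linear_combination e2 - e1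
    have ho1 : o - 1 ≠ 0 := fun e => by
      have : o = 1 := sub_eq_zero.1 e
      subst this
      exact one_ne_zero (α := F) (by linear_combination ho - c.two)
    rw [(mul_eq_zero.1 hz0).resolve_left ho1, mul_zero, add_zero] at e1
    exact e1
  have := c.mem_span_of_perp ![u, w] hall
  rw [Matrix.range_cons, Matrix.range_cons, Matrix.range_empty, Set.union_empty,
    Set.singleton_union, Submodule.mem_span_pair] at this
  obtain ⟨m, n, e⟩ := this
  exact ⟨m, n, e.symm⟩

/-- An isotropic point other than `u` orthogonal to `u`. -/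
theorem exists_orth {u : V} (hu : h u u = 0) :
    ∃ r, h r r = 0 ∧ h u r = 0 ∧ ∀ m : F, r ≠ m • u := by
  have := c.fd
  obtain ⟨y, hy, hyu⟩ : ∃ y, h u y = 0 ∧ ∀ m : F, y ≠ m • u := by
    by_contra hcon
    push Not at hcon
    have hle : LinearMap.ker (h u) ≤ Submodule.span F {u} := fun y hy => by
      obtain ⟨m, hm⟩ := hcon y hy
      exact Submodule.mem_span_singleton.2 ⟨m, hm.symm⟩
    have e1 := LinearMap.finrank_range_add_finrank_ker (h u)
    have e2 := Submodule.finrank_le (LinearMap.range (h u))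
    have e3 := Submodule.finrank_mono hle
    have e4 := finrank_span_le_card (R := F) ({u} : Set V)
    rw [c.dim] at e1
    rw [Module.finrank_self] at e2
    simp at e4
    omega
  by_cases hyy : h y y = 0
  · exact ⟨y, hyy, hy, hyu⟩
  obtain ⟨z, huz, -, hyz, hzz⟩ := c.exists_aniso_perp_three (u := u) (w := u) hyy
  have hy1 := c.eq_one (c.form.σ_self y) hyy
  refine ⟨y + z, by simp [hy1, hzz, hyz, c.form.comm_zero hyz, c.two], by simp [hy, huz],
    fun m e => hyy ?_⟩
  have := congrArg (h y) e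
  simpa [hyz, c.form.comm_zero hy] using this

end Ctx

variable (c : Ctx σ h) [Finite F] [FiniteDimensional F V]
include c

/-- The transvection with centre `u`. -/
noncomputable def tv (u : V) (hu : h u u = 0) : SUH h :=
  ⟨uRootElt c.form u 0 1 hu (map_zero _) (by simp [c.two]), uRootElt_det c.form _ _ _⟩

theorem tv_smul {u : V} (hu : h u u = 0) (x : V) : tv c u hu • x = x + h u x • u := by
  rw [show tv c u hu • x = uRootElt c.form u 0 1 hu (map_zero _) (by simp [c.two]) • x from rfl,
    uRootElt_smul]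
  simp

theorem ext_smul {g k : SUH h} (e : ∀ x : V, g • x = k • x) : g = k :=
  Subtype.ext (UH.ext' e)

theorem tv_sq {u : V} (hu : h u u = 0) : tv c u hu * tv c u hu = 1 := ext_smul c fun x => by
  rw [mul_smul, tv_smul, tv_smul, one_smul, map_add, map_smul, hu, smul_zero, add_zero,
    add_assoc, c.addV, add_zero]

theorem tv_inv {u : V} (hu : h u u = 0) : (tv c u hu)⁻¹ = tv c u hu :=
  inv_eq_of_mul_eq_one_left (tv_sq c hu)

theorem isom (g : SUH h) (x y : V) : h (g • x) (g • y) = h x y := uh_smul_smul (g : UH h) x y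

theorem tv_conj (g : SUH h) {u : V} (hu : h u u = 0) :
    g * tv c u hu * g⁻¹ = tv c (g • u) (by rw [isom c, hu]) := ext_smul c fun x => by
  have e : h u (g⁻¹ • x) = h (g • u) x := by rw [← isom c g, smul_inv_smul]
  rw [mul_smul, mul_smul, tv_smul, tv_smul, e, smul_add, smul_inv_smul]
  exact congrArg (x + ·) (((g : UH h) : V ≃ₗ[F] V).map_smul _ _)

theorem tv_commute_of_fix (g : SUH h) {u : V} (hu : h u u = 0) (hg : g • u = u) :
    Commute g (tv c u hu) := by
  have e := tv_conj c g hu
  simp only [hg] at e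
  exact mul_inv_eq_iff_eq_mul.1 e

theorem tv_commute {u w : V} (hu : h u u = 0) (hw : h w w = 0) (huw : h u w = 0) :
    Commute (tv c u hu) (tv c w hw) :=
  tv_commute_of_fix c _ hw (by rw [tv_smul, huw, zero_smul, add_zero])

theorem proj_eq_one_iff (g : SUH h) :
    (QuotientGroup.mk g : SUH h ⧸ Subgroup.center (SUH h)) = 1 ↔
      ∃ a : F, σ a * a = 1 ∧ ∀ x : V, g • x = a • x := by
  rw [QuotientGroup.eq_one_iff, SUH_mem_center_iff c.form (by rw [c.dim]; norm_num)]

/-- The image of a transvection. -/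
noncomputable def pt (u : V) (hu : h u u = 0) : SUH h ⧸ Subgroup.center (SUH h) :=
  QuotientGroup.mk (tv c u hu)

theorem pt_congr {u w : V} (hu : h u u = 0) (hw : h w w = 0) {m : F} (hm : m ≠ 0)
    (e : w = m • u) : pt c w hw = pt c u hu := by
  refine congrArg QuotientGroup.mk (ext_smul c fun x => ?_)
  rw [tv_smul, tv_smul, e, map_smulₛₗ, LinearMap.smul_apply, smul_eq_mul, smul_smul]
  congr 2
  linear_combination h u x * c.norm m hm

theorem pt_ne_one {u : V} (hu : h u u = 0) (h0 : u ≠ 0) : pt c u hu ≠ 1 := by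
  intro e
  obtain ⟨a, -, ha⟩ := (proj_eq_one_iff c _).1 e
  obtain ⟨y, hy⟩ := exists_h_ne_zero c.form h0
  have e1 := ha u
  rw [tv_smul, hu, zero_smul, add_zero] at e1
  have ha1 : a = 1 := (smul_left_injective F h0 (by simpa using e1)).symm
  have e2 := ha y
  rw [tv_smul, ha1, one_smul, add_eq_left] at e2
  exact h0 ((smul_eq_zero.1 e2).resolve_left hy)

theorem pt_commute_iff {u w : V} (hu : h u u = 0) (hw : h w w = 0) :
    Commute (pt c u hu) (pt c w hw) ↔ h u w = 0 := by
  refine ⟨fun hc => ?_, fun e => (tv_commute c hu hw e).map (QuotientGroup.mk' _)⟩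
  by_contra hne
  have hwu : h w u ≠ 0 := fun e => hne (c.form.comm_zero e)
  have e : (QuotientGroup.mk ((tv c u hu * tv c w hw)⁻¹ * (tv c w hw * tv c u hu)) :
      SUH h ⧸ Subgroup.center (SUH h)) = 1 := by
    simp only [QuotientGroup.mk_mul, QuotientGroup.mk_inv]
    exact inv_mul_eq_one.2 hc.eq
  obtain ⟨a, -, ha⟩ := (proj_eq_one_iff c _).1 e
  have e1 := ha u
  rw [mul_smul, inv_smul_eq_iff] at e1
  have eL : (tv c w hw * tv c u hu) • u = u + h w u • w := by
    simp [mul_smul, tv_smul, hu]
  have eR : (tv c u hu * tv c w hw) • (a • u) = a • (u + h w u • (w + h u w • u)) := by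
    rw [show (tv c u hu * tv c w hw) • (a • u) = a • (tv c u hu * tv c w hw) • u from
      (((tv c u hu * tv c w hw : SUH h) : UH h) : V ≃ₗ[F] V).map_smul _ _, mul_smul, tv_smul, tv_smul]
    congr 1
    rw [map_add, hu, map_smul, smul_eq_mul, zero_add]
    module
  rw [eL, eR] at e1
  have e2 := congrArg (h u) e1
  simp only [map_add, map_smul, smul_eq_mul, hu, zero_add, mul_zero, add_zero] at e2
  have ha0 : a = 1 :=
    mul_right_cancel₀ (mul_ne_zero hwu hne) (by linear_combination -e2)
  subst ha0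
  have e3 := congrArg (h w) e1
  simp only [map_add, map_smul, smul_eq_mul, hw, zero_add, mul_zero, one_mul] at e3
  exact mul_ne_zero (mul_ne_zero hwu hne) hwu (by linear_combination -e3)

theorem pt_eq_imp {u w : V} (hu : h u u = 0) (hw : h w w = 0) (hw0 : w ≠ 0)
    (e : pt c u hu = pt c w hw) : ∃ m : F, w = m • u := by
  have huw : h u w = 0 := (pt_commute_iff c hu hw).1 (by rw [e])
  by_contra hne
  push Not at hne
  have e1 : (QuotientGroup.mk (tv c u hu * tv c w hw) : SUH h ⧸ Subgroup.center (SUH h)) = 1 := by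
    rw [QuotientGroup.mk_mul]
    change pt c u hu * pt c w hw = 1
    rw [e]
    change QuotientGroup.mk (tv c w hw) * QuotientGroup.mk (tv c w hw) = _
    rw [← QuotientGroup.mk_mul, tv_sq, QuotientGroup.mk_one]
  obtain ⟨a, -, ha⟩ := (proj_eq_one_iff c _).1 e1
  have e2 := ha w
  rw [mul_smul, tv_smul, tv_smul, hw, zero_smul, add_zero, huw, zero_smul, add_zero] at e2
  have ha1 : a = 1 := (smul_left_injective F hw0 (by simpa using e2)).symm
  obtain ⟨y, hy⟩ := exists_h_ne_zero c.form hw0
  have e3 := ha y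
  rw [mul_smul, tv_smul, tv_smul, ha1, one_smul, map_add, map_smul, huw, smul_zero, add_zero,
    add_assoc, add_eq_left] at e3
  refine hne (-((h w y)⁻¹ * h u y)) ?_
  have e4 : h w y • w = -(h u y • u) := eq_neg_of_add_eq_zero_left e3
  calc w = (h w y)⁻¹ • (h w y • w) := (inv_smul_smul₀ hy w).symm
    _ = _ := by rw [e4, smul_neg, smul_smul, neg_smul]

theorem pt_exists_conj {u w : V} (hu : h u u = 0) (hw : h w w = 0) (hu0 : u ≠ 0) (hw0 : w ≠ 0) :
    ∃ k, k * pt c u hu * k⁻¹ = pt c w hw := by
  have h3 : 3 ≤ Module.finrank F V := by rw [c.dim]; norm_num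
  obtain ⟨g, hg, hgu⟩ := uRoot_trans c.form h3 hu0 hw0 hu hw
  have hgS : g ∈ SUH h := by
    have hle : uRootGroup c.form ≤ SUH h := (Subgroup.closure_le _).2 (by
      rintro _ ⟨u', w', a', h1, h2, h3, rfl⟩
      exact uRootElt_det c.form h1 h2 h3)
    exact hle hg
  refine ⟨QuotientGroup.mk ⟨g, hgS⟩, ?_⟩
  have e := tv_conj c ⟨g, hgS⟩ hu
  simp only [show (⟨g, hgS⟩ : SUH h) • u = w from hgu] at e
  exact congrArg QuotientGroup.mk e

/-- The five transvections of a totally isotropic line. -/
theorem five_prod {u w : V} (hu : h u u = 0) (hw : h w w = 0) (huw : h u w = 0) {o : F}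
    (ho : o * o + o + 1 = 0) (hso : σ o = o * o)
    (p1 : h (u + (1 : F) • w) (u + (1 : F) • w) = 0)
    (p2 : h (u + o • w) (u + o • w) = 0) (p3 : h (u + (o * o) • w) (u + (o * o) • w) = 0) :
    pt c u hu * pt c w hw * pt c _ p1 * pt c _ p2 * pt c _ p3 = 1 := by
  have e : tv c u hu * tv c w hw * tv c _ p1 * tv c _ p2 * tv c _ p3 = 1 := ext_smul c fun x => by
    simp only [mul_smul, tv_smul, one_smul, map_add, map_smulₛₗ, LinearMap.add_apply,
      LinearMap.smul_apply, smul_eq_mul, RingHom.id_apply, hu, hw, huw, c.form.comm_zero huw,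
      mul_zero, add_zero, hso]
    match_scalars
    · ring
    · linear_combination (2 * h u x + h w x) * c.two + (h w x + o * (o - 1) * h w x) * ho - h w x * c.two
    · linear_combination (2 * h w x) * c.two + (h u x + h w x * (o - 1) * (o ^ 3 + 2)) * ho
  simpa only [pt, ← QuotientGroup.mk_mul, ← QuotientGroup.mk_one] using congrArg QuotientGroup.mk e

/-- An involution has a vector pairing to 1 with its image. -/
theorem exists_pair {g : SUH h} (hg : g * g = 1) (hne : g ≠ 1) :
    ∃ x, h x (g • x + x) = 1 := by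
  have hgg : ∀ x : V, g • g • x = x := fun x => by rw [← mul_smul, hg, one_smul]
  have hsym : ∀ x y : V, h y (g • x + x) = σ (h x (g • y + y)) := fun x y => by
    have e : h y (g • x) = h (g • y) x := by rw [← isom c g, hgg]
    rw [map_add, map_add, map_add, e, c.form.swap x (g • y), c.form.swap x y]
  suffices key : ∃ x, h x (g • x + x) ≠ 0 by
    obtain ⟨x, hx⟩ := key
    exact ⟨x, c.eq_one (hsym x x).symm hx⟩
  by_contra hall
  push Not at hall
  refine hne (ext_smul c fun x => ?_)
  have e : g • x + x = 0 := c.form.sep _ fun y => by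
    refine c.form.comm_zero (c.eq_zero_of_diag fun m => ?_)
    have e := hall (y + m • x)
    rw [smul_add g y, show g • (m • x) = m • g • x from ((g : UH h) : V ≃ₗ[F] V).map_smul _ _,
      add_add_add_comm, ← smul_add m] at e
    simp only [map_add, map_smul, map_smulₛₗ, LinearMap.add_apply, LinearMap.smul_apply,
      smul_eq_mul, RingHom.id_apply] at e
    have hx := hall x
    have hy := hall y
    have hxy := hsym y x
    simp only [map_add] at hx hy hxy ⊢
    rw [map_mul, map_add, ← hxy]
    linear_combination e - hy - m * σ m * hx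
  rw [one_smul]
  exact (eq_neg_of_add_eq_zero_left e).trans (neg_eq_of_add_eq_zero_left (c.addV x))

/-- An involution with all products with conjugates of order at most 3 is a transvection. -/
theorem exists_eq_tv {g : SUH h} (hg : g * g = 1) (hne : g ≠ 1)
    (hord : ∀ k : SUH h, ((QuotientGroup.mk (g * (k * g * k⁻¹)) : SUH h ⧸ Subgroup.center (SUH h)) ^ 2 = 1) ∨
      ((QuotientGroup.mk (g * (k * g * k⁻¹)) : SUH h ⧸ Subgroup.center (SUH h)) ^ 3 = 1)) :
    ∃ (v : V) (hv : h v v = 0), v ≠ 0 ∧ g = tv c v hv := by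
  have hinv : ∀ {g : SUH h}, g * g = 1 → ∀ x : V, g • g • x = x := fun hg x => by
    rw [← mul_smul, hg, one_smul]
  have hiso : ∀ {g : SUH h}, g * g = 1 → ∀ x : V, h (g • x + x) (g • x + x) = 0 := fun {g} hg x => by
    have e : h x (g • x) = h (g • x) x := by rw [← isom c g, hinv hg]
    simp only [map_add, LinearMap.add_apply, isom c, e]
    linear_combination (h x x + h (g • x) x) * c.two
  have hfix : ∀ {g : SUH h}, g * g = 1 → ∀ x : V, g • (g • x + x) = g • x + x := fun hg x => by
    rw [smul_add, hinv hg, add_comm]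
  obtain ⟨x, hx⟩ := exists_pair c hg hne
  generalize hadef : g • x + x = a at hx
  have haa : h a a = 0 := hadef ▸ hiso hg x
  have hga : g • a = a := hadef ▸ hfix hg x
  have ha0 : a ≠ 0 := fun e => by simp [e] at hx
  have hax : h a x = 1 := by rw [c.form.swap x a, hx, map_one]
  have hct : Commute g (tv c a haa) := tv_commute_of_fix c g haa hga
  set g₁ := g * tv c a haa with hg₁
  have hg₁2 : g₁ * g₁ = 1 := by
    rw [hg₁, mul_assoc, ← mul_assoc (tv c a haa), ← hct.eq, mul_assoc, tv_sq, mul_one, hg]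
  have h1a : g₁ • a = a := by rw [hg₁, mul_smul, tv_smul, haa, zero_smul, add_zero, hga]
  have h1x : g₁ • x = x := by
    rw [hg₁, mul_smul, tv_smul, hax, one_smul, smul_add, hga]
    conv_lhs => rw [← hadef, ← add_assoc, c.addV, zero_add]
  by_cases hg11 : g₁ = 1
  · exact ⟨a, haa, ha0, (eq_inv_of_mul_eq_one_left (hg₁ ▸ hg11 : g * tv c a haa = 1)).trans
      (tv_inv c haa)⟩
  exfalso
  obtain ⟨y₀, hy₀⟩ := exists_pair c hg₁2 hg11
  set y := y₀ + h a y₀ • x with hydef
  have hb : g₁ • y + y = g₁ • y₀ + y₀ := by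
    rw [hydef, smul_add, show g₁ • (h a y₀ • x) = h a y₀ • g₁ • x from
      ((g₁ : UH h) : V ≃ₗ[F] V).map_smul _ _, h1x, add_add_add_comm, c.addV, add_zero]
  generalize hbdef : g₁ • y₀ + y₀ = b at hy₀ hb
  have hbb : h b b = 0 := hbdef ▸ hiso hg₁2 y₀
  have h1b : g₁ • b = b := hbdef ▸ hfix hg₁2 y₀
  have hfixperp : ∀ s : V, g₁ • s = s → h s b = 0 := fun s hs => by
    rw [← hbdef, map_add]
    conv_lhs => arg 1; rw [← hs, isom c]
    exact c.addF _
  have hab : h a b = 0 := hfixperp a h1a
  have hxb : h x b = 0 := hfixperp x h1x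
  have hyb : h y b = 1 := by simp [hydef, hxb, hy₀]
  have hay : h a y = 0 := by simp [hydef, hax, c.addF]
  have hby : h b y = 1 := by rw [c.form.swap y b, hyb, map_one]
  have hbx : h b x = 0 := c.form.comm_zero hxb
  have hba : h b a = 0 := c.form.comm_zero hab
  have hct1 : Commute g₁ (tv c b hbb) := tv_commute_of_fix c g₁ hbb h1b
  set g₂ := g₁ * tv c b hbb with hg₂
  have hg₂2 : g₂ * g₂ = 1 := by
    rw [hg₂, hct1.symm.mul_mul_mul_comm, hg₁2, tv_sq, mul_one]
  have h2a : g₂ • a = a := by rw [hg₂, mul_smul, tv_smul, hba, zero_smul, add_zero, h1a]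
  have h2b : g₂ • b = b := by rw [hg₂, mul_smul, tv_smul, hbb, zero_smul, add_zero, h1b]
  have h2x : g₂ • x = x := by rw [hg₂, mul_smul, tv_smul, hbx, zero_smul, add_zero, h1x]
  have h2y : g₂ • y = y := by
    rw [hg₂, mul_smul, tv_smul, hby, one_smul, smul_add, h1b]
    conv_lhs => rw [← hb, ← add_assoc, c.addV, zero_add]
  -- hyperbolic partners fixed by `g₂`
  obtain ⟨d, hd⟩ := c.form.exists_trace_one
  set a' := x + (d * h x x) • a with ha'def
  have hsa : σ (d * h x x) = σ d * h x x := by rw [map_mul, c.form.σ_self]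
  have ha'a' : h a' a' = 0 := by
    simp [ha'def, haa, hax, hx, hsa]
    linear_combination h x x * hd + h x x * c.two
  have haa' : h a a' = 1 := by simp [ha'def, haa, hax]
  have ha'a : h a' a = 1 := by rw [c.form.swap a a', haa', map_one]
  have hba' : h b a' = 0 := by simp [ha'def, hba, hbx]
  have ha'b : h a' b = 0 := c.form.comm_zero hba'
  set y₁ := y + h a' y • a with hy₁
  have hay₁ : h a y₁ = 0 := by simp [hy₁, haa, hay]
  have hby₁ : h b y₁ = 1 := by simp [hy₁, hba, hby]
  have ha'y₁ : h a' y₁ = 0 := by simp [hy₁, ha'a, c.addF]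
  have hy₁b : h y₁ b = 1 := by rw [c.form.swap b y₁, hby₁, map_one]
  set b' := y₁ + (d * h y₁ y₁) • b with hb'def
  have hsb : σ (d * h y₁ y₁) = σ d * h y₁ y₁ := by rw [map_mul, c.form.σ_self]
  have hb'b' : h b' b' = 0 := by
    simp [hb'def, hbb, hby₁, hy₁b, hsb]
    linear_combination h y₁ y₁ * hd + h y₁ y₁ * c.two
  have hab' : h a b' = 0 := by simp [hb'def, hab, hay₁]
  have hb'a : h b' a = 0 := c.form.comm_zero hab'
  have ha'b' : h a' b' = 0 := by simp [hb'def, ha'b, ha'y₁]
  have hb'a' : h b' a' = 0 := c.form.comm_zero ha'b'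
  have hbb' : h b b' = 1 := by simp [hb'def, hbb, hby₁]
  have hb'b : h b' b = 1 := by rw [c.form.swap b b', hbb', map_one]
  have hlin : ∀ (m : F) (v : V), g₂ • (m • v) = m • g₂ • v := fun m v =>
    ((g₂ : UH h) : V ≃ₗ[F] V).map_smul m v
  have h2a' : g₂ • a' = a' := by rw [ha'def, smul_add, hlin, h2x, h2a]
  have h2y₁ : g₂ • y₁ = y₁ := by rw [hy₁, smul_add, hlin, h2y, h2a]
  have h2b' : g₂ • b' = b' := by rw [hb'def, smul_add, hlin, h2y₁, h2b]
  have q1 : h (a + a') (a + a') = 0 := by simp [haa, ha'a', haa', ha'a, c.two]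
  have q2 : h (b + b') (b + b') = 0 := by simp [hbb, hb'b', hbb', hb'b, c.two]
  have q3 : h (a + b') (a + b') = 0 := by simp [haa, hb'b', hab', hb'a]
  set k := tv c _ q3 * tv c a haa * tv c b' hb'b' * tv c _ q2 * tv c _ q1 with hk
  have hk2 : Commute g₂ k :=
    ((((tv_commute_of_fix c g₂ q3 (by rw [smul_add, h2a, h2b'])).mul_right
      (tv_commute_of_fix c g₂ haa h2a)).mul_right (tv_commute_of_fix c g₂ hb'b' h2b')).mul_right
      (tv_commute_of_fix c g₂ q2 (by rw [smul_add, h2b, h2b']))).mul_right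
      (tv_commute_of_fix c g₂ q1 (by rw [smul_add, h2a, h2a']))
  have r1 : ∀ v : V, a + (a + v) = v := fun v => by rw [← add_assoc, c.addV, zero_add]
  have r2 : ∀ v : V, b + (b + v) = v := fun v => by rw [← add_assoc, c.addV, zero_add]
  have hka : k • a = a' + b' := by
    simp [hk, mul_smul, tv_smul, haa, haa', ha'a, hba, hb'a, hab', hb'a', hb'b', ha'b', hab,
      hbb', hb'b, hba', ha'b, r1]
    abel_nf
    simp [two_zsmul, c.addV]
  have hkb : k • b = b' := by
    simp [hk, mul_smul, tv_smul, haa, haa', ha'a, hba, hb'a, hab', hb'a', hb'b', hbb, ha'b', hab,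
      hbb', hb'b, hba', ha'b, r2]
  have q4 : h (a' + b') (a' + b') = 0 := by simp [ha'a', hb'b', ha'b', hb'a']
  have hgdec : g = g₂ * (tv c b hbb * tv c a haa) := by
    rw [hg₂, mul_assoc g₁, ← mul_assoc (tv c b hbb), tv_sq, one_mul, hg₁, mul_assoc, tv_sq,
      mul_one]
  have hcg : Commute g₂ (tv c b hbb * tv c a haa) :=
    (tv_commute_of_fix c g₂ hbb h2b).mul_right (tv_commute_of_fix c g₂ haa h2a)
  have hconj : k * g * k⁻¹ = g₂ * (tv c b' hb'b' * tv c _ q4) := by
    have e1 := tv_conj c k hbb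
    have e2 := tv_conj c k haa
    simp only [hkb] at e1
    simp only [hka] at e2
    rw [← e1, ← e2, hgdec]
    calc k * (g₂ * (tv c b hbb * tv c a haa)) * k⁻¹
        = k * g₂ * (tv c b hbb * tv c a haa) * k⁻¹ := by group
      _ = g₂ * k * (tv c b hbb * tv c a haa) * k⁻¹ := by rw [hk2.eq]
      _ = _ := by group
  have hP : g * (k * g * k⁻¹) =
      tv c b hbb * tv c a haa * (tv c b' hb'b' * tv c _ q4) := by
    rw [hconj]
    conv_lhs => arg 1; rw [hgdec, hcg.eq]
    rw [mul_assoc, ← mul_assoc g₂ g₂, hg₂2, one_mul]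
  set P := g * (k * g * k⁻¹) with hPdef
  have P1 : P • a = a' + b' + b := by
    simp [hP, mul_smul, tv_smul, haa, haa', ha'a, hba, hb'a, hab', hbb', hba', ha'b', hb'a',
      hb'b', hab]
    abel_nf
    simp [two_zsmul, c.addV]
  have P2 : P • P • a = b' := by
    rw [P1]
    simp [hP, mul_smul, tv_smul, haa, haa', ha'a, hba, hb'a, hab', hbb', hba', ha'b', hb'a',
      hb'b', hab, hbb, ha'a', ha'b, hb'b, c.two]
    abel_nf
    simp [show ∀ v : V, (2 : ℤ) • v = 0 from fun v => by rw [two_zsmul, c.addV],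
      show ∀ v : V, (3 : ℤ) • v = v from fun v => by
        rw [show (3 : ℤ) = 2 + 1 from rfl, add_zsmul, two_zsmul, c.addV, one_zsmul, zero_add],
      show ∀ v : V, (4 : ℤ) • v = 0 from fun v => by
        rw [show (4 : ℤ) = 2 + 2 from rfl, add_zsmul, two_zsmul, c.addV]]
  have P3 : P • b' = b + b' := by
    simp [hP, mul_smul, tv_smul, hab', hbb', ha'b', hb'b', hbb, hab]
    abel
  have hscal : ∀ n : ℕ, (QuotientGroup.mk P : SUH h ⧸ Subgroup.center (SUH h)) ^ n = 1 →
      h b (P ^ n • a) = 0 := fun n hn => by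
    rw [← QuotientGroup.mk_pow] at hn
    obtain ⟨m, -, hm⟩ := (proj_eq_one_iff c _).1 hn
    rw [hm, map_smul, hba, smul_zero]
  rcases hord k with e | e
  · have := hscal 2 e
    rw [show P ^ 2 • a = P • P • a by rw [← mul_smul, pow_two], P2, hbb'] at this
    exact one_ne_zero this
  · have := hscal 3 e
    have e3 : P ^ 3 • a = P • (P • P • a) := by
      rw [← mul_smul, ← mul_smul, pow_succ', pow_two]
      exact congrArg (· • a) (mul_assoc P P P).symm
    rw [e3, P2, P3, map_add, hbb, hbb', zero_add] at this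
    exact one_ne_zero this

end Cfsg.Agent.Transpos.U6
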