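import Cfsg.Agent.Lib.Transpos.FischerLevels
import Cfsg.Agent.Lib.Transpos.Factor
import Cfsg.Agent.Lib.Transpos.UnitarySix

/-!
# Lines in a group of type M(22)

For commuting members `a`, `b`, `c` the members commuting with `a` form a copy of the transvections of
`PSU₆(2)`; the twins of `c` inside the members commuting with `a` and `b` are the other three points
of the line through the images of `b`, `c` (`Line`), and `a b c` is their product (`prod_twins`).
-/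

set_option autoImplicit false

namespace Cfsg.Agent.Transpos

open Cfsg

variable {G : Type*} [Group G] {D : Set G}

/-- `z` is a twin of `c` among the members commuting with `a` and `b`. -/
def Twin (D : Set G) (a b c z : G) : Prop :=
  z ∈ Dc (Dc D a) b ∧ z ≠ c ∧ Commute c z ∧ Same (Dc (Dc D a) b) c z

/-- The lines through `a`: twins come in threes, with the product of the five points central. -/
def Line (D : Set G) (a : G) : Prop :=
  (∀ b ∈ Dc D a, (Dc (Dc D a) b).Nonempty) ∧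
    ∀ b ∈ Dc D a, ∀ c ∈ Dc (Dc D a) b, ∃ f₁ f₂ f₃ : G,
      (Twin D a b c f₁ ∧ Twin D a b c f₂ ∧ Twin D a b c f₃) ∧ (f₁ ≠ f₂ ∧ f₁ ≠ f₃ ∧ f₂ ≠ f₃) ∧
      (∀ z, Twin D a b c z → z = f₁ ∨ z = f₂ ∨ z = f₃) ∧
      ∀ y ∈ Dc D a, Commute y (b * c * f₁ * f₂ * f₃)

theorem Line.conj {g a : G} (hg : Stab D g) (h : Line D a) : Line D (g * a * g⁻¹) := by
  have h1 : Carries g (Dc D a) (Dc D (g * a * g⁻¹)) := hg.carries.dc a
  have pull : ∀ y, g * (g⁻¹ * y * g) * g⁻¹ = y := fun y => by group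
  have push : ∀ y, g⁻¹ * (g * y * g⁻¹) * g = y := fun y => by group
  constructor
  · intro b hb
    obtain ⟨c, hc⟩ := h.1 _ (h1.2 b hb)
    exact ⟨g * c * g⁻¹, pull b ▸ (h1.dc _).1 c hc⟩
  · intro b hb c hc
    have h2 : Carries g (Dc (Dc D a) (g⁻¹ * b * g)) (Dc (Dc D (g * a * g⁻¹)) b) := by
      have := h1.dc (g⁻¹ * b * g); rwa [pull] at this
    obtain ⟨f₁, f₂, f₃, ⟨t1, t2, t3⟩, ⟨n12, n13, n23⟩, hall, hcen⟩ :=
      h.2 _ (h1.2 b hb) _ (h2.2 c hc)
    have tw : ∀ z, Twin D a (g⁻¹ * b * g) (g⁻¹ * c * g) z →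
        Twin D (g * a * g⁻¹) b c (g * z * g⁻¹) := by
      rintro z ⟨hz, hne, hco, hs⟩
      refine ⟨h2.1 z hz, fun e => hne (by rw [← e, push]), ?_, fun x hx => ?_⟩
      · have := (commute_conj_iff g).mpr hco; rwa [pull] at this
      · rw [← pull x, ← pull c, commute_conj_iff, commute_conj_iff]
        exact hs _ (h2.2 x hx)
    refine ⟨_, _, _, ⟨tw _ t1, tw _ t2, tw _ t3⟩,
      ⟨fun e => n12 (mul_left_cancel (mul_right_cancel e)),
        fun e => n13 (mul_left_cancel (mul_right_cancel e)),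
        fun e => n23 (mul_left_cancel (mul_right_cancel e))⟩, ?_, ?_⟩
    · rintro z ⟨hz, hne, hco, hs⟩
      have ht : Twin D a (g⁻¹ * b * g) (g⁻¹ * c * g) (g⁻¹ * z * g) := by
        refine ⟨h2.2 z hz, fun e => hne (by rw [← pull z, e, pull]), ?_, fun x hx => ?_⟩
        · refine (commute_conj_iff g).mp ?_; rwa [pull, pull]
        · rw [← commute_conj_iff g (a := x) (b := g⁻¹ * c * g),
            ← commute_conj_iff g (a := x) (b := g⁻¹ * z * g), pull, pull]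
          exact hs _ (h2.1 x hx)
      rcases hall _ ht with e | e | e <;> simp [← e, mul_assoc]
    · intro y hy
      have := (commute_conj_iff g).mpr (hcen _ (h1.2 y hy))
      rw [pull] at this
      rwa [show g * (g⁻¹ * b * g * (g⁻¹ * c * g) * f₁ * f₂ * f₃) * g⁻¹ =
        b * c * (g * f₁ * g⁻¹) * (g * f₂ * g⁻¹) * (g * f₃ * g⁻¹) by group] at this

section unitary

open ClassicalSimple

variable {F V : Type*} [Field F] [Finite F] [AddCommGroup V] [Module F V] [FiniteDimensional F V]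
  {σ : F →+* F} {h : V →ₛₗ[σ] V →ₗ[F] F} {S : Set G}

/-- The image of every member is a transvection. -/
theorem exists_pt (c : U6.Ctx σ h) (hS : Tr (S \ {1}))
    (ψ : ↥(Subgroup.closure S) →* SUH h ⧸ Subgroup.center (SUH h)) (hψ : Function.Surjective ψ)
    {x : ↥(Subgroup.closure S)} (hxE : (x : G) ∈ S \ {1}) (hβ1 : ψ x ≠ 1) :
    ∃ (v : V) (hv : h v v = 0), v ≠ 0 ∧ ψ x = U6.pt c v hv := by
  have hx2 : x * x = 1 := Subtype.ext (sq_one hS.set hxE)
  have hβ2 : ψ x * ψ x = 1 := by rw [← map_mul, hx2, map_one]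
  obtain ⟨g, hg⟩ := QuotientGroup.mk_surjective (ψ x)
  obtain ⟨a, ha1, ha⟩ := (U6.proj_eq_one_iff c (g * g)).1 (by rw [QuotientGroup.mk_mul, hg, hβ2])
  have ha0 : a ≠ 0 := fun e => by simp [e] at ha1
  have hg3 : QuotientGroup.mk (g * g * g) = ψ x := by
    rw [QuotientGroup.mk_mul, QuotientGroup.mk_mul, hg, hβ2, one_mul]
  have hg6 : (g * g * g) * (g * g * g) = 1 := U6.ext_smul c fun w => by
    rw [show g * g * g * (g * g * g) = (g * g) * ((g * g) * (g * g)) by group, one_smul]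
    calc ((g * g) * ((g * g) * (g * g))) • w = (g * g) • (g * g) • (g * g) • w := by
          simp only [mul_smul]
      _ = a • a • a • w := by rw [ha, ha, ha]
      _ = w := by rw [smul_smul, smul_smul, c.cube a ha0, one_smul]
  obtain ⟨v, hv, hv0, hgv⟩ := U6.exists_eq_tv c hg6
    (fun e => hβ1 (by rw [← hg3, e, QuotientGroup.mk_one])) fun k => by
      obtain ⟨y, hy⟩ := hψ (QuotientGroup.mk k)
      have hy' : (↑(y * x * y⁻¹) : G) ∈ S \ {1} :=
        (hS.stab_closure (g := (y : G)) (by rw [closure_diff_one]; exact y.2) _ hxE).1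
      have he : (QuotientGroup.mk (g * g * g * (k * (g * g * g) * k⁻¹)) :
          SUH h ⧸ Subgroup.center (SUH h)) = ψ (x * (y * x * y⁻¹)) := by
        simp only [map_mul, map_inv, hy, QuotientGroup.mk_mul, QuotientGroup.mk_inv, hg, hβ2, one_mul]
      rw [he, ← map_pow, ← map_pow]
      rcases hS.set.2 _ hxE _ hy' with e | e
      · left; rw [show (x * (y * x * y⁻¹)) ^ 2 = 1 from Subtype.ext e, map_one]
      · right; rw [show (x * (y * x * y⁻¹)) ^ 3 = 1 from Subtype.ext e, map_one]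
  exact ⟨v, hv, hv0, by rw [← hg3, hgv]; rfl⟩

/-- A set of 3-transpositions generating `PSU₆(2)` modulo the centre has lines. -/
theorem line_of_hom (c : U6.Ctx σ h) {d : G} (hSdef : Dc D d = S) (hS : Tr (S \ {1}))
    (h1 : (1 : G) ∉ S) (hact : AllActive (S \ {1})) (hne : S.Nonempty)
    (ψ : ↥(Subgroup.closure S) →* SUH h ⧸ Subgroup.center (SUH h)) (hψ : Function.Surjective ψ)
    (hψπ : ∀ x y, ψ x = ψ y ↔ qpi S x = qpi S y) : Line D d := by
  classical
  have hSS : S \ {1} = S := Set.sdiff_singleton_eq_self h1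
  have hmem1 : ∀ s ∈ S, s ∈ S \ {1} := fun s hs => hSS.symm ▸ hs
  have hcl : ∀ s ∈ S, s ∈ Subgroup.closure S := fun s hs => Subgroup.subset_closure hs
  have hψc : ∀ x y : ↥(Subgroup.closure S), (x : G) ∈ S → (y : G) ∈ S →
      (Commute (ψ x) (ψ y) ↔ Commute (x : G) (y : G)) := fun x y hx hy => by
    rw [← commute_pi_iff hS (hmem1 _ hx) (hmem1 _ hy)]
    show ψ x * ψ y = ψ y * ψ x ↔ qpi S x * qpi S y = qpi S y * qpi S x
    rw [← map_mul, ← map_mul, ← map_mul, ← map_mul]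
    exact hψπ _ _
  have hψinj : ∀ x y : ↥(Subgroup.closure S), (x : G) ∈ S → (y : G) ∈ S → ψ x = ψ y →
      (x : G) = (y : G) := fun x y hx hy e =>
    pi_inj hS (hact _ (hmem1 _ hx)) (hact _ (hmem1 _ hy)) ((hψπ _ _).mp e)
  have hpt : ∀ x : ↥(Subgroup.closure S), (x : G) ∈ S →
      ∃ (v : V) (hv : h v v = 0), v ≠ 0 ∧ ψ x = U6.pt c v hv := fun x hx =>
    exists_pt c hS ψ hψ (hmem1 _ hx) fun e =>
      pi_ne_one (hact _ (hmem1 _ hx)) (((hψπ x 1).mp (by rw [e, map_one])).trans (map_one _))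
  -- every point occurs
  have hsurj : ∀ (v : V) (hv : h v v = 0), v ≠ 0 →
      ∃ x : ↥(Subgroup.closure S), (x : G) ∈ S ∧ ψ x = U6.pt c v hv := by
    intro v hv hv0
    obtain ⟨s, hs⟩ := hne
    obtain ⟨u, hu, hu0, he⟩ := hpt ⟨s, hcl s hs⟩ hs
    obtain ⟨k, hk⟩ := U6.pt_exists_conj c hu hv hu0 hv0
    obtain ⟨y, hy⟩ := hψ k
    refine ⟨y * ⟨s, hcl s hs⟩ * y⁻¹, ?_, by rw [map_mul, map_mul, map_inv, hy, he, hk]⟩
    exact ((hS.stab_closure (g := (y : G)) (by rw [closure_diff_one]; exact y.2) s (hmem1 _ hs)).1).1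
  -- dictionary
  have key : ∀ x y : ↥(Subgroup.closure S), (x : G) ∈ S → (y : G) ∈ S → ∀ u w hu hw,
      ψ x = U6.pt c u hu → ψ y = U6.pt c w hw →
      (Commute (x : G) (y : G) ↔ h u w = 0) := by
    intro x y hx hy u w hu hw ex ey
    rw [← hψc x y hx hy, ex, ey, U6.pt_commute_iff]
  obtain ⟨o, ho0, ho, hso, hso2⟩ := c.exists_omega
  refine ⟨fun b hb => ?_, fun b hb z hz => ?_⟩ <;> rw [hSdef] at hb
  · obtain ⟨u, hu, hu0, eb⟩ := hpt ⟨b, hcl b hb⟩ hb
    obtain ⟨r, hr, hur, hrm⟩ := c.exists_orth hu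
    have hr0 : r ≠ 0 := fun e => hrm 0 (by rw [e, zero_smul])
    obtain ⟨x, hx, ex⟩ := hsurj r hr hr0
    refine ⟨x, hSdef ▸ hx, fun h => ?_, (key _ _ hb hx u r hu hr eb ex).2 hur⟩
    obtain ⟨m, hm⟩ := U6.pt_eq_imp c hu hr hr0 (by
      rw [← ex, ← eb]; exact congrArg ψ (Subtype.ext h.symm))
    exact hrm m hm
  rw [hSdef] at hz ⊢
  obtain ⟨u, hu, hu0, eb⟩ := hpt ⟨b, hcl b hb⟩ hb
  obtain ⟨w, hw, hw0, ez⟩ := hpt ⟨z, hcl z hz.1⟩ hz.1
  have huw : h u w = 0 := (key _ _ hb hz.1 u w hu hw eb ez).1 hz.2.2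
  have hwu := c.form.comm_zero huw
  have hwm : ∀ m : F, w ≠ m • u := fun m hm => by
    have hm0 : m ≠ 0 := fun e => hw0 (by rw [hm, e, zero_smul])
    have e' : ψ ⟨z, hcl z hz.1⟩ = ψ ⟨b, hcl b hb⟩ := by rw [eb, ez, U6.pt_congr c hu hw hm0 hm]
    exact hz.2.1 (hψinj ⟨z, hcl z hz.1⟩ ⟨b, hcl b hb⟩ hz.1 hb e')
  have hindep : ∀ m n : F, m • u + n • w = 0 → m = 0 ∧ n = 0 := fun m n h => by
    have hn : n = 0 := by
      by_contra hn
      refine hwm (-(n⁻¹ * m)) ?_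
      rw [← inv_smul_smul₀ hn w, eq_neg_of_add_eq_zero_right h, smul_neg, smul_smul, neg_smul]
    refine ⟨?_, hn⟩
    rw [hn, zero_smul, add_zero] at h
    exact (smul_eq_zero.1 h).resolve_right hu0
  have hline : ∀ l : F, l ≠ 0 → ∃ (x : ↥(Subgroup.closure S)) (p : h (u + l • w) (u + l • w) = 0),
      (x : G) ∈ S ∧ ψ x = U6.pt c (u + l • w) p ∧ (x : G) ∈ Dc S b ∧ (x : G) ≠ z ∧
      Commute z (x : G) ∧ Same (Dc S b) z (x : G) := by
    intro l hl
    have p : h (u + l • w) (u + l • w) = 0 := by simp [hu, hw, huw, hwu]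
    have p0 : u + l • w ≠ 0 := fun h => hl (hindep 1 l (by rw [one_smul]; exact h)).2
    obtain ⟨x, hx, ex⟩ := hsurj _ p p0
    refine ⟨x, p, hx, ex, ⟨hx, fun h => ?_, (key _ _ hb hx u _ hu p eb ex).2 ?_⟩, fun h => ?_,
      (key _ _ hz.1 hx w _ hw p ez ex).2 ?_, fun y hy => ?_⟩
    · obtain ⟨m, hm⟩ := U6.pt_eq_imp c hu p p0 (by
        rw [← ex, ← eb]; exact congrArg ψ (Subtype.ext h.symm))
      exact hl (hindep (1 - m) l (by rw [sub_smul, one_smul, sub_add_eq_add_sub, hm, sub_self])).2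
    · simp [hu, huw]
    · obtain ⟨m, hm⟩ := U6.pt_eq_imp c hw p p0 (by
        rw [← ex, ← ez]; exact congrArg ψ (Subtype.ext h.symm))
      exact one_ne_zero (hindep 1 (l - m) (by rw [sub_smul, one_smul, ← add_sub_assoc, hm, sub_self])).1
    · simp [hw, hwu]
    · obtain ⟨v, hv, -, ey⟩ := hpt ⟨y, hcl y hy.1⟩ hy.1
      have hvu : h v u = 0 :=
        c.form.comm_zero ((key _ _ hb hy.1 u v hu hv eb ey).1 hy.2.2)
      rw [show (y : G) = ((⟨y, hcl y hy.1⟩ : ↥(Subgroup.closure S)) : G) from rfl]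
      rw [key _ ⟨z, hcl z hz.1⟩ hy.1 hz.1 v w hv hw ey ez, key _ x hy.1 hx v _ hv p ey ex]
      simp [hvu, hl]
  obtain ⟨x₁, p₁, m₁, e₁, t₁⟩ := hline 1 one_ne_zero
  obtain ⟨x₂, p₂, m₂, e₂, t₂⟩ := hline o ho0
  obtain ⟨x₃, p₃, m₃, e₃, t₃⟩ := hline (o * o) (mul_ne_zero ho0 ho0)
  have ho1 : o ≠ 1 := fun h => by subst h; exact one_ne_zero (α := F) (by linear_combination ho - c.two)
  have hdist : ∀ (x y : ↥(Subgroup.closure S)) (l m : F) hl hm, l ≠ 0 →
      ψ x = U6.pt c (u + l • w) hl → ψ y = U6.pt c (u + m • w) hm → l ≠ m → (x : G) ≠ y := by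
    intro x y l m hl hm hl0 ex ey hne h
    have p0 : u + l • w ≠ 0 := fun h => hl0 (hindep 1 l (by rw [one_smul]; exact h)).2
    obtain ⟨n, hn⟩ := U6.pt_eq_imp c hm hl p0 (by rw [← ex, ← ey, Subtype.ext h])
    obtain ⟨h1, h2⟩ := hindep (1 - n) (l - n * m) (by
      linear_combination (norm := module) hn)
    rw [← sub_eq_zero.1 h1, one_mul, sub_eq_zero] at h2
    exact hne h2
  refine ⟨x₁, x₂, x₃, ⟨?_, ?_, ?_⟩,
    ⟨hdist _ _ _ _ p₁ p₂ one_ne_zero e₁ e₂ ho1.symm,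
      hdist _ _ _ _ p₁ p₃ one_ne_zero e₁ e₃ (fun h => ho1 (by linear_combination o * h + c.cube o ho0)),
      hdist _ _ _ _ p₂ p₃ ho0 e₂ e₃ (fun h => ho1 (mul_left_cancel₀ ho0 (by rw [mul_one]; exact h.symm)))⟩,
    ?_, ?_⟩
  · unfold Twin; rw [hSdef]; exact t₁
  · unfold Twin; rw [hSdef]; exact t₂
  · unfold Twin; rw [hSdef]; exact t₃
  · intro t ht
    unfold Twin at ht
    rw [hSdef] at ht
    obtain ⟨⟨htS, htb, hbt⟩, htz, hzt, hs⟩ := ht
    obtain ⟨r, hr, hr0, et⟩ := hpt ⟨t, hcl t htS⟩ htS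
    have hur : h u r = 0 := (key _ _ hb htS u r hu hr eb et).1 hbt
    obtain ⟨m, n, hmn⟩ := c.mem_line_of_twin hu huw hur fun y hy huy hym hwy => by
      have hy0 : y ≠ 0 := fun h => hym 0 (by rw [h, zero_smul])
      obtain ⟨x, hx, ex⟩ := hsurj y hy hy0
      have hxb : (x : G) ∈ Dc S b := by
        refine ⟨hx, fun h => ?_, (key _ _ hb hx u y hu hy eb ex).2 huy⟩
        obtain ⟨k, hk⟩ := U6.pt_eq_imp c hu hy hy0 (by
          rw [← ex, ← eb]; exact congrArg ψ (Subtype.ext h.symm))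
        exact hym k hk
      exact (key _ _ htS hx r y hr hy et ex).1
        (((hs _ hxb).1 ((key _ _ hz.1 hx w y hw hy ez ex).2 hwy).symm).symm)
    have hn : n ≠ 0 := fun h => by
      rw [h, zero_smul, add_zero] at hmn
      have hm : m ≠ 0 := fun e => hr0 (by rw [hmn, e, zero_smul])
      exact htb (hψinj ⟨t, hcl t htS⟩ ⟨b, hcl b hb⟩ htS hb
        (by rw [eb, et, U6.pt_congr c hu hr hm hmn]))
    have hm : m ≠ 0 := fun h => by
      rw [h, zero_smul, zero_add] at hmn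
      exact htz (hψinj ⟨t, hcl t htS⟩ ⟨z, hcl z hz.1⟩ htS hz.1
        (by rw [ez, et, U6.pt_congr c hw hr hn hmn]))
    have hl : m⁻¹ * n ≠ 0 := mul_ne_zero (inv_ne_zero hm) hn
    have hr' : r = m • (u + (m⁻¹ * n) • w) := by
      rw [smul_add, smul_smul, mul_inv_cancel_left₀ hm, hmn]
    have hcases : m⁻¹ * n = 1 ∨ m⁻¹ * n = o ∨ m⁻¹ * n = o * o := by
      have h3 := c.cube _ hl
      generalize m⁻¹ * n = l at h3
      have : (l - 1) * ((l - o) * (l - o * o)) = 0 := by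
        linear_combination h3 - (l * l - l) * ho + (l - 1) * c.cube o ho0
      rcases mul_eq_zero.1 this with h | h
      · exact Or.inl (sub_eq_zero.1 h)
      · exact Or.inr ((mul_eq_zero.1 h).imp sub_eq_zero.1 sub_eq_zero.1)
    rcases hcases with h | h | h <;> rw [h] at hr'
    · exact Or.inl (hψinj ⟨t, hcl t htS⟩ x₁ htS m₁ (by rw [et, e₁, U6.pt_congr c p₁ hr hm hr']))
    · exact Or.inr (Or.inl (hψinj ⟨t, hcl t htS⟩ x₂ htS m₂ (by rw [et, e₂, U6.pt_congr c p₂ hr hm hr'])))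
    · exact Or.inr (Or.inr (hψinj ⟨t, hcl t htS⟩ x₃ htS m₃ (by rw [et, e₃, U6.pt_congr c p₃ hr hm hr'])))
  · intro y hy
    have h : qpi S (⟨b, hcl b hb⟩ * ⟨z, hcl z hz.1⟩ * x₁ * x₂ * x₃) = qpi S 1 := by
      rw [← hψπ, map_mul, map_mul, map_mul, map_mul, map_one, eb, ez, e₁, e₂, e₃]
      exact U6.five_prod c hu hw huw ho hso p₁ p₂ p₃
    exact pi_eq_one (h.trans (map_one _)) ⟨y, hcl y hy⟩

/-- A set of 3-transpositions generating `PSU₆(2)` modulo the centre has lines. -/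
theorem line_of_iso {F : Type} [Field F] [Fintype F] (hF : Fintype.card F = 4) {d : G}
    (hS : Tr (Dc D d \ {1})) (h1 : (1 : G) ∉ Dc D d) (hact : AllActive (Dc D d \ {1}))
    (hne : (Dc D d).Nonempty)
    (e : ↥(Subgroup.closure (Dc D d)) ⧸ Subgroup.center ↥(Subgroup.closure (Dc D d)) ≃* PSU 6 F 2) :
    Line D d := by
  have hF' : Fintype.card F = 2 ^ 2 := by rw [hF]; norm_num
  have hcube : ∀ x : F, x ≠ 0 → x * x * x = 1 := fun x hx => by
    have := FiniteField.pow_card_sub_one_eq_one x hx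
    rw [hF] at this
    rw [← this]; ring
  have htwo : (1 : F) + 1 = 0 := by
    have := Nat.cast_card_eq_zero F
    rw [hF] at this
    refine pow_eq_zero_iff two_ne_zero |>.1 (?_ : ((1 : F) + 1) ^ 2 = 0)
    rw [← this]; push_cast; ring
  have c : U6.Ctx (Forms.qEnd hF') (Forms.hermB hF' 6) :=
    ⟨hermB_isUnitary hF', htwo, fun x hx => by rw [Forms.qEnd_apply, ← hcube x hx]; ring, hcube,
      Module.finrank_fin_fun F⟩
  let f := e.trans (centerQuotientCongr (suEquiv hF'))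
  exact line_of_hom c rfl hS h1 hact hne (f.toMonoidHom.comp (qpi (Dc D d)))
    (f.surjective.comp (QuotientGroup.mk'_surjective _)) fun x y => f.injective.eq_iff

end unitary

/-- In a primitive group of type M(22) every member has lines. -/
theorem line_of_type [Finite G] (hD : IsThreeTranspositionGroup D) (h : IsOfTypeM22 G D) :
    ∀ a ∈ D, Line D a := by
  have h1 : (1 : G) ∉ D := fun h => ne_one hD.1 h rfl
  have hD1 : D \ {1} = D := Set.sdiff_singleton_eq_self h1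
  have hE := tr_of_group hD
  obtain ⟨-, hgood, ha, -, -⟩ := m22_level (hD1.symm ▸ hE) hD.2.2 h
  rw [hD1] at hgood ha
  obtain ⟨-, d, hd, -, -, -, ⟨F, _, _, hF, ⟨e⟩⟩, -⟩ := h
  change ↥(Subgroup.closure (Dc D d)) ⧸ Subgroup.center ↥(Subgroup.closure (Dc D d)) ≃* _ at e
  have ht := Trans.of_conn hE hgood.1 ha
  have hn := NoTwin.of_thin hgood.2 ha
  have h1' : (1 : G) ∉ Dc D d := fun h => h1 h.1
  have hS : Dc D d \ {1} = Dc D d := Set.sdiff_singleton_eq_self h1'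
  have hne : (Dc D d).Nonempty := by
    by_contra hc
    rw [Set.not_nonempty_iff_eq_empty] at hc
    have hdvd : 2 ^ 15 ∣ Nat.card (↥(Subgroup.closure (Dc D d)) ⧸
        Subgroup.center ↥(Subgroup.closure (Dc D d))) := by
      rw [Nat.card_congr e.toEquiv]; exact dvd_card_PSU6 hF
    obtain ⟨x, hx⟩ := exists_active_of_card (E := Dc D d) fun h => by rw [h] at hdvd; norm_num at hdvd
    rw [hc] at hx
    exact hx.1
  have hl : Line D d := line_of_iso hF (hS.symm ▸ hE.dc hd) h1'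
    (by rw [hS]; exact fun x hx => active_Dc ht hn hd hx) hne e
  intro a had
  obtain ⟨g, rfl, hst⟩ := ht d hd a had
  exact hl.conj hst

end Cfsg.Agent.Transpos
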