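import Cfsg.Agent.Lib.Transpos.UnitarySix

/-!
# Involutions in a double cover of `PSU₆(2)`

`exists_invol_lift`: if `ψ : C → PSU₆(2)` is onto with central kernel `{1, z}`, `z² = 1`, every
involution of the image has an involution over it.  The five transvections of a line force lifts of
orthogonal transvections to commute and to be involutions; every involution is such a product.
-/

set_option autoImplicit false

namespace Cfsg.Agent.Transpos.U6

open Cfsg.Agent.ClassicalSimple

variable {F V : Type*} [Field F] [Finite F] [AddCommGroup V] [Module F V] [FiniteDimensional F V]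
  {σ : F →+* F} {h : V →ₛₗ[σ] V →ₗ[F] F}

/-- Orthogonal points off `w'` are moved to each other fixing `w'`. -/
theorem exists_move (c : Ctx σ h) {u w w' : V} (hu : h u u = 0) (hw : h w w = 0) (huw : h u w = 0)
    (huw' : h u w' = 0) (hww' : h w w' = 0) (h1 : ∀ m n : F, w ≠ m • w' + n • u)
    (h2 : ∀ m n : F, u ≠ m • w' + n • w) : ∃ g : SUH h, g • u = w ∧ g • w' = w' := by
  have key : ∀ {p q : V}, (∀ m n : F, q ≠ m • w' + n • p) →
      ∃ t, h w' t = 0 ∧ h p t = 0 ∧ h q t = 1 := fun {p q} hpq => by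
    by_contra hc
    push Not at hc
    have hs := c.mem_span_of_perp ![w', p] (s := q) fun t ht => by
      by_contra hne
      exact hc ((h q t)⁻¹ • t) (by simp [show h w' t = 0 from ht 0]) (by simp [show h p t = 0 from ht 1])
        (by simp [hne])
    rw [Matrix.range_cons, Matrix.range_cons, Matrix.range_empty, Set.union_empty,
      Set.singleton_union, Submodule.mem_span_pair] at hs
    obtain ⟨m, n, e⟩ := hs
    exact hpq m n e.symm
  obtain ⟨t₁, a1, b1, c1⟩ := key h1
  obtain ⟨t₂, a2, b2, c2⟩ := key h2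
  obtain ⟨d, hd⟩ := c.form.exists_trace_one
  set t := t₁ + t₂
  have hut : h u t = 1 := by simp [t, b1, c2]
  have hwt : h w t = 1 := by simp [t, c1, b2]
  have hw't : h w' t = 0 := by simp [t, a1, a2]
  set p := t + (d * h t t) • u
  have htu : h t u = 1 := by rw [c.form.swap u t, hut, map_one]
  have hwu := c.form.comm_zero huw
  have hw'u := c.form.comm_zero huw'
  have hp : h p p = 0 := by
    simp [p, hu, hut, htu, map_mul, c.form.σ_self]
    linear_combination h t t * hd + h t t * c.two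
  have hpu : h p u = 1 := by simp [p, hu, htu]
  have hpw : h p w = 1 := by simp [p, c.form.swap w t, hwt, huw]
  have hpw' : h p w' = 0 := by simp [p, c.form.comm_zero hw't, huw']
  obtain ⟨g, hg, hgu, hfix⟩ := exists_uRoot_map c.form hp hu hw hpu hpw
  have hgS : g ∈ SUH h := by
    have hle : uRootGroup c.form ≤ SUH h := (Subgroup.closure_le _).2 (by
      rintro _ ⟨u', w'', a', k1, k2, k3, rfl⟩
      exact uRootElt_det c.form k1 k2 k3)
    exact hle hg
  exact ⟨⟨g, hgS⟩, hgu, hfix w' hpw' (by simp [huw', hww'])⟩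

/-- A third isotropic point orthogonal to two orthogonal ones and off their line. -/
theorem exists_third (c : Ctx σ h) {u w' : V} (hu : h u u = 0) (hw' : h w' w' = 0)
    (huw' : h u w' = 0) :
    ∃ r, h r r = 0 ∧ h u r = 0 ∧ h w' r = 0 ∧ ∀ m n : F, r ≠ m • w' + n • u := by
  obtain ⟨y, hyu, hyw, hy⟩ : ∃ y, h u y = 0 ∧ h w' y = 0 ∧ ∀ m n : F, y ≠ m • w' + n • u := by
    by_contra hc
    push Not at hc
    let T : V →ₗ[F] F × F := (h u).prod (h w')
    have hle : LinearMap.ker T ≤ Submodule.span F (Set.range ![w', u]) := fun y hy => by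
      have hy' : (h u y, h w' y) = (0, 0) := LinearMap.mem_ker.1 hy
      obtain ⟨m, n, e⟩ := hc y (Prod.ext_iff.1 hy').1 (Prod.ext_iff.1 hy').2
      rw [Matrix.range_cons, Matrix.range_cons, Matrix.range_empty, Set.union_empty,
        Set.singleton_union, Submodule.mem_span_pair]
      exact ⟨m, n, e.symm⟩
    have e1 := LinearMap.finrank_range_add_finrank_ker T
    have e2 := Submodule.finrank_le (LinearMap.range T)
    have e3 := Submodule.finrank_mono hle
    have e4 : Module.finrank F (Submodule.span F (Set.range ![w', u])) ≤ 2 :=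
      (finrank_range_le_card _).trans (by simp)
    rw [c.dim] at e1
    rw [Module.finrank_prod, Module.finrank_self] at e2
    omega
  by_cases hyy : h y y = 0
  · exact ⟨y, hyy, hyu, hyw, hy⟩
  obtain ⟨z, huz, hwz, hyz, hzz⟩ := c.exists_aniso_perp_three (u := u) (w := w') hyy
  have hy1 := c.eq_one (c.form.σ_self y) hyy
  refine ⟨y + z, by simp [hy1, hzz, hyz, c.form.comm_zero hyz, c.two], by simp [hyu, huz],
    by simp [hyw, hwz], fun m n e => hyy ?_⟩
  have := congrArg (h y) e
  simpa [hyz, c.form.comm_zero hyu, c.form.comm_zero hyw] using this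

/-- The standard six-dimensional space over four elements. -/
theorem ctx_of_card {K : Type*} [Field K] [Fintype K] (hK : Fintype.card K = 2 ^ 2) :
    Ctx (Forms.qEnd hK) (Forms.hermB hK 6) := by
  have hcube : ∀ x : K, x ≠ 0 → x * x * x = 1 := fun x hx => by
    have := FiniteField.pow_card_sub_one_eq_one x hx
    rw [hK] at this
    rw [← this]; ring
  refine ⟨hermB_isUnitary hK, ?_, fun x hx => by rw [Forms.qEnd_apply, ← hcube x hx]; ring, hcube,
    Module.finrank_fin_fun K⟩
  have := Nat.cast_card_eq_zero K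
  rw [hK] at this
  refine pow_eq_zero_iff two_ne_zero |>.1 (?_ : ((1 : K) + 1) ^ 2 = 0)
  rw [← this]; push_cast; ring

section cover

variable (c : Ctx σ h) {C : Type*} [Group C] (ψ : C →* SUH h ⧸ Subgroup.center (SUH h))
  (hψ : Function.Surjective ψ) {z : C} (hz : z * z = 1) (hzc : ∀ x, Commute z x)
  (hker : ∀ x, ψ x = 1 → x = 1 ∨ x = z)
include c hψ hz hzc hker

omit c hψ in
theorem eq_or_eq_mul {x y : C} (e : ψ x = ψ y) : x = y ∨ x = y * z := by
  rcases hker (y⁻¹ * x) (by rw [map_mul, map_inv, e, inv_mul_cancel]) with k | k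
  · exact Or.inl (inv_mul_eq_one.1 k).symm
  · exact Or.inr (by rw [← k, mul_inv_cancel_left])

omit c hψ in
theorem commute_of_eq {x y w : C} (e : ψ x = ψ y) (hc : Commute w y) : Commute w x := by
  rcases eq_or_eq_mul ψ hz hzc hker e with rfl | rfl
  exacts [hc, hc.mul_right (hzc w).symm]

omit c hψ in
theorem sq_of_eq {x y : C} (e : ψ x = ψ y) : x * x = y * y := by
  rcases eq_or_eq_mul ψ hz hzc hker e with rfl | rfl
  · rfl
  · rw [(hzc y).mul_mul_mul_comm, hz, mul_one]

omit c hψ in
/-- Lifts of commuting images commute up to `z`, with commutator invariant under the maps `k`. -/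
theorem comm_cases {x y : C} (e : Commute (ψ x) (ψ y)) : x * y = y * x ∨ x * y = y * x * z :=
  eq_or_eq_mul ψ hz hzc hker (by rw [map_mul, map_mul, e.eq])

omit c in
theorem commute_transfer {k : SUH h ⧸ Subgroup.center (SUH h)} {x y x' y' : C}
    (ex : k * ψ x * k⁻¹ = ψ x') (ey : k * ψ y * k⁻¹ = ψ y') (hxy : Commute x y) :
    Commute x' y' := by
  obtain ⟨g, rfl⟩ := hψ k
  rw [← map_inv, ← map_mul, ← map_mul] at ex ey
  have h0 : Commute (g * x * g⁻¹) (g * y * g⁻¹) := hxy.map (MulAut.conj g).toMonoidHom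
  exact (commute_of_eq ψ hz hzc hker ey.symm
    ((commute_of_eq ψ hz hzc hker ex.symm h0.symm).symm))

/-- Lifts of orthogonal transvections commute. -/
theorem lift_commute {u w' : V} (hu : h u u = 0) (hw' : h w' w' = 0) (huw' : h u w' = 0)
    (hind : ∀ m : F, u ≠ m • w') {x y : C}
    (ex : ψ x = pt c u hu) (ey : ψ y = pt c w' hw') : Commute x y := by
  obtain ⟨w, hw, huw, hw'w, hwm⟩ := exists_third c hu hw' huw'
  obtain ⟨o, ho0, ho, hso, -⟩ := c.exists_omega
  have hwu := c.form.comm_zero huw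
  have hww' := c.form.comm_zero hw'w
  have hw'u := c.form.comm_zero huw'
  have iso : ∀ l : F, h (u + l • w) (u + l • w) = 0 := fun l => by simp [hu, hw, huw, hwu]
  have hb : ∀ m n : F, u ≠ m • w' + n • w := fun m n e => by
    by_cases hn : n = 0
    · exact hind m (by rw [e, hn, zero_smul, add_zero])
    · refine hwm (-(n⁻¹ * m)) n⁻¹ ?_
      rw [e, smul_add, inv_smul_smul₀ hn, smul_smul, neg_smul, neg_add_cancel_left]
  -- commutation with the lift of `w'` is the same for all five points
  have same : ∀ (p : V) (hp : h p p = 0), h u p = 0 → h p w' = 0 → (∀ m n : F, p ≠ m • w' + n • u) →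
      (∀ m n : F, u ≠ m • w' + n • p) → ∀ q, ψ q = pt c p hp → (Commute q y ↔ Commute x y) := by
    intro p hp hup hpw' k1 k2 q eq
    obtain ⟨g, hgu, hgw⟩ := exists_move c hu hp hup huw' hpw' k1 k2
    have e1 : (QuotientGroup.mk g : SUH h ⧸ Subgroup.center (SUH h)) * ψ x * (QuotientGroup.mk g)⁻¹ = ψ q := by
      rw [ex, eq]
      have := tv_conj c g hu
      simp only [hgu] at this
      exact congrArg QuotientGroup.mk this
    have e2 : (QuotientGroup.mk g : SUH h ⧸ Subgroup.center (SUH h)) * ψ y * (QuotientGroup.mk g)⁻¹ = ψ y := by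
      rw [ey]
      have := tv_conj c g hw'
      simp only [hgw] at this
      exact congrArg QuotientGroup.mk this
    refine ⟨fun hq => ?_, fun hx => commute_transfer ψ hψ hz hzc hker e1 e2 hx⟩
    refine commute_transfer ψ hψ hz hzc hker (k := (QuotientGroup.mk g)⁻¹) ?_ ?_ hq
    · rw [← e1]; group
    · conv_lhs => rw [← e2]
      group
  obtain ⟨q₂, e₂⟩ := hψ (pt c w hw)
  obtain ⟨q₃, e₃⟩ := hψ (pt c _ (iso 1))
  obtain ⟨q₄, e₄⟩ := hψ (pt c _ (iso o))
  obtain ⟨q₅, e₅⟩ := hψ (pt c _ (iso (o * o)))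
  have hline : ∀ (l : F), l ≠ 0 → ∀ q, ψ q = pt c _ (iso l) → (Commute q y ↔ Commute x y) :=
    fun l hl => same _ (iso l) (by simp [hu, huw]) (by simp [huw', hww'])
      (fun m n e => hwm (l⁻¹ * m) (l⁻¹ * (n - 1)) (by
        rw [← inv_smul_smul₀ hl w, eq_sub_of_add_eq' e]; module))
      (fun m n e => by
        by_cases hn : n = 1
        · subst hn
          refine hwm (-(l⁻¹ * m)) 0 ?_
          have e' : l • w = -(m • w') := by
            rw [one_smul] at e
            rw [eq_neg_iff_add_eq_zero, ← sub_eq_zero.2 e.symm]; abel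
          rw [← inv_smul_smul₀ hl w, e', smul_neg, smul_smul, neg_smul, zero_smul, add_zero]
        · have hn1 : 1 - n ≠ 0 := sub_ne_zero.2 (Ne.symm hn)
          refine hb ((1 - n)⁻¹ * m) ((1 - n)⁻¹ * (n * l)) ?_
          rw [← inv_smul_smul₀ hn1 u, sub_smul, one_smul]
          conv_lhs => rw [sub_eq_of_eq_add (show u = m • w' + n • (l • w) + n • u by
            conv_lhs => rw [e]
            rw [smul_add]; abel)]
          module)
  have hxq : ∀ q, ψ q = pt c w hw → (Commute q y ↔ Commute x y) := same w hw huw hww' hwm hb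
  by_contra hne
  have hcp : ∀ q l (hl : h l l = 0), ψ q = pt c l hl → h l w' = 0 →
      (Commute q y ↔ Commute x y) → q * y = y * q * z := fun q l hl eq hlw k =>
    (comm_cases ψ hz hzc hker (by rw [eq, ey, pt_commute_iff]; exact hlw)).resolve_left
      fun e => hne (k.1 e)
  have two : ∀ {p q : C}, p * y = y * p * z → q * y = y * q * z → Commute (p * q) y := fun {p q} hp hq =>
    calc p * q * y = p * (y * q * z) := by rw [mul_assoc, hq]
      _ = p * y * q * z := by simp only [mul_assoc]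
      _ = y * p * z * q * z := by rw [hp]
      _ = y * p * (z * q) * z := by simp only [mul_assoc]
      _ = y * p * (q * z) * z := by rw [(hzc q).eq]
      _ = y * (p * q) := by simp only [mul_assoc, hz, mul_one]
  have p1 := hcp x u hu ex huw' Iff.rfl
  have p2 := hcp q₂ w hw e₂ hww' (hxq q₂ e₂)
  have hperp : ∀ l : F, h (u + l • w) w' = 0 := fun l => by simp [huw', hww']
  have p3 := hcp q₃ _ _ e₃ (hperp 1) (hline 1 one_ne_zero q₃ e₃)
  have p4 := hcp q₄ _ _ e₄ (hperp o) (hline o ho0 q₄ e₄)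
  have hP : ψ (x * q₂ * (q₃ * q₄) * q₅) = 1 := by
    simp only [map_mul, ex, e₂, e₃, e₄, e₅]
    rw [← five_prod c hu hw huw ho hso (iso 1) (iso o) (iso (o * o))]
    simp only [mul_assoc]
  have hPy : Commute (x * q₂ * (q₃ * q₄) * q₅) y := by
    rcases hker _ hP with e | e <;> rw [e]
    exacts [Commute.one_left y, hzc y]
  have h5 : Commute q₅ y := by
    have h4 := ((two p1 p2).mul_left (two p3 p4)).inv_left.mul_left hPy
    rwa [inv_mul_cancel_left] at h4
  exact hne ((hline _ (mul_ne_zero ho0 ho0) q₅ e₅).1 h5)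

/-- Lifts of transvections are involutions. -/
theorem lift_sq {u : V} (hu : h u u = 0) (hu0 : u ≠ 0) {x : C} (ex : ψ x = pt c u hu) : x * x = 1 := by
  obtain ⟨w, hw, huw, hwm⟩ := c.exists_orth hu
  obtain ⟨o, ho0, ho, hso, -⟩ := c.exists_omega
  have hwu := c.form.comm_zero huw
  have iso : ∀ l : F, h (u + l • w) (u + l • w) = 0 := fun l => by simp [hu, hw, huw, hwu]
  have hindep : ∀ m n : F, m • u + n • w = 0 → m = 0 ∧ n = 0 := fun m n e => by
    have hn : n = 0 := by
      by_contra hn
      refine hwm (-(n⁻¹ * m)) ?_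
      rw [← inv_smul_smul₀ hn w, eq_neg_of_add_eq_zero_right e, smul_neg, smul_smul, neg_smul]
    refine ⟨?_, hn⟩
    rw [hn, zero_smul, add_zero] at e
    exact (smul_eq_zero.1 e).resolve_right hu0
  have hw0 : w ≠ 0 := fun e => hwm 0 (by rw [e, zero_smul])
  have hl0 : ∀ l : F, l ≠ 0 → u + l • w ≠ 0 := fun l hl e => hl (hindep 1 l (by rw [one_smul]; exact e)).2
  have ho1 : o ≠ 1 := fun e => by subst e; exact one_ne_zero (α := F) (by linear_combination ho - c.two)
  obtain ⟨q₂, e₂⟩ := hψ (pt c w hw)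
  obtain ⟨q₃, e₃⟩ := hψ (pt c _ (iso 1))
  obtain ⟨q₄, e₄⟩ := hψ (pt c _ (iso o))
  obtain ⟨q₅, e₅⟩ := hψ (pt c _ (iso (o * o)))
  have sq : ∀ v (hv : h v v = 0), v ≠ 0 → ∀ q, ψ q = pt c v hv → q * q = x * x := by
    intro v hv hv0 q eq
    obtain ⟨k, hk⟩ := pt_exists_conj c hu hv hu0 hv0
    obtain ⟨g, rfl⟩ := hψ k
    rw [sq_of_eq ψ hz hzc hker (x := q) (y := g * x * g⁻¹) (by rw [map_mul, map_mul, map_inv, ex, hk, eq])]
    rcases hker (x * x) (by rw [map_mul, ex, pt, ← QuotientGroup.mk_mul, tv_sq, QuotientGroup.mk_one]) with e | e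
    · rw [show g * x * g⁻¹ * (g * x * g⁻¹) = g * (x * x) * g⁻¹ by group, e]; group
    · rw [show g * x * g⁻¹ * (g * x * g⁻¹) = g * (x * x) * g⁻¹ by group, e, ← (hzc g).eq]; group
  have hp : ∀ l : F, h u (u + l • w) = 0 := fun l => by simp [hu, huw]
  have hpw : ∀ l : F, h w (u + l • w) = 0 := fun l => by simp [hw, hwu]
  have hpp : ∀ l m : F, h (u + l • w) (u + m • w) = 0 := fun l m => by simp [hu, hw, huw, hwu]
  have hum : ∀ l m : F, l ≠ 0 → u ≠ m • (u + l • w) := fun l m hl e => by
    have k := hindep (1 - m) (-(m * l)) (by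
      rw [smul_add, smul_smul] at e
      rw [sub_smul, one_smul, neg_smul]; conv_lhs => arg 1; arg 1; rw [e]
      abel)
    rw [← sub_eq_zero.1 k.1, one_mul, neg_eq_zero] at k
    exact hl k.2
  have hwl : ∀ l m : F, w ≠ m • (u + l • w) := fun l m e => by
    have k := hindep (-m) (1 - m * l) (by
      rw [smul_add, smul_smul] at e
      rw [sub_smul, one_smul, neg_smul]; conv_lhs => arg 2; arg 1; rw [e]
      abel)
    rw [neg_eq_zero.1 k.1, zero_mul, sub_zero] at k
    exact one_ne_zero k.2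
  have hlm : ∀ l l' m : F, l ≠ l' → u + l • w ≠ m • (u + l' • w) := fun l l' m hne e => by
    have k := hindep (1 - m) (l - m * l') (by
      rw [smul_add, smul_smul] at e
      rw [sub_smul, one_smul, sub_smul]
      rw [← sub_eq_zero] at e
      rw [← e]; abel)
    rw [← sub_eq_zero.1 k.1, one_mul] at k
    exact hne (sub_eq_zero.1 k.2)
  have hoo : o * o ≠ 0 := mul_ne_zero ho0 ho0
  have hum' : ∀ m : F, u ≠ m • w := fun m e => one_ne_zero (hindep 1 (-m) (by
    rw [one_smul, neg_smul, e, add_neg_cancel])).1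
  have L : ∀ {a b : V} (ha : h a a = 0) (hb : h b b = 0), h a b = 0 → (∀ m : F, a ≠ m • b) →
      ∀ {p q : C}, ψ p = pt c a ha → ψ q = pt c b hb → Commute p q := by
    intro a b ha hb e e' p q ep eq
    exact lift_commute c ψ hψ hz hzc hker ha hb e e' ep eq
  have c12 := L hu hw huw hum' ex e₂
  have c13 := L hu _ (hp 1) (fun m => hum 1 m one_ne_zero) ex e₃
  have c14 := L hu _ (hp o) (fun m => hum o m ho0) ex e₄
  have c15 := L hu _ (hp _) (fun m => hum _ m hoo) ex e₅
  have c23 := L hw _ (hpw 1) (hwl 1) e₂ e₃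
  have c24 := L hw _ (hpw o) (hwl o) e₂ e₄
  have c25 := L hw _ (hpw _) (hwl _) e₂ e₅
  have c34 := L _ _ (hpp 1 o) (fun m => hlm 1 o m ho1.symm) e₃ e₄
  have c35 := L _ _ (hpp 1 _) (fun m => hlm 1 _ m fun e => ho1 (by linear_combination o * e + c.cube o ho0))
    e₃ e₅
  have c45 := L _ _ (hpp o _) (fun m => hlm o _ m fun e => ho1 (mul_left_cancel₀ ho0 (by rw [mul_one]; exact e.symm)))
    e₄ e₅
  set P := x * q₂ * q₃ * q₄ * q₅ with hPdef
  have hP : ψ P = 1 := by
    simp only [hPdef, map_mul, ex, e₂, e₃, e₄, e₅]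
    exact five_prod c hu hw huw ho hso (iso 1) (iso o) (iso (o * o))
  have hPP : P * P = 1 := by
    rcases hker _ hP with e | e <;> rw [e]
    exacts [one_mul 1, hz]
  rw [hPdef, (((c15.mul_left c25).mul_left c35).mul_left c45).symm.mul_mul_mul_comm,
    ((c14.mul_left c24).mul_left c34).symm.mul_mul_mul_comm,
    (c13.mul_left c23).symm.mul_mul_mul_comm, c12.symm.mul_mul_mul_comm,
    sq w hw hw0 q₂ e₂, sq _ _ (hl0 1 one_ne_zero) q₃ e₃, sq _ _ (hl0 o ho0) q₄ e₄,
    sq _ _ (hl0 _ hoo) q₅ e₅] at hPP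
  have hxx : x * x * (x * x) = 1 := by
    rcases hker (x * x) (by rw [map_mul, ex, pt, ← QuotientGroup.mk_mul, tv_sq, QuotientGroup.mk_one]) with e | e <;>
      rw [e]
    exacts [one_mul 1, hz]
  rwa [hxx, one_mul, hxx, one_mul] at hPP

/-- An involution of `SU` lifts to an element of square 1 commuting with the lifts of fixed transvections. -/
theorem exists_lift (g : SUH h) (hg : g * g = 1) :
    ∃ y : C, ψ y = QuotientGroup.mk g ∧ y * y = 1 ∧
      ∀ (u : V) (hu : h u u = 0), u ≠ 0 → g • u = u → ∀ x, ψ x = pt c u hu → Commute y x := by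
  classical
  have : Finite V := Module.finite_of_finite F
  generalize hn : Nat.card {v : V // g • v ≠ v} = n
  induction n using Nat.strong_induction_on generalizing g with
  | _ n ih =>
    by_cases hg1 : g = 1
    · exact ⟨1, by simp [hg1], one_mul 1, fun _ _ _ _ x _ => Commute.one_left x⟩
    obtain ⟨v, hv⟩ := exists_pair c hg hg1
    have hgg : ∀ w : V, g • g • w = w := fun w => by rw [← mul_smul, hg, one_smul]
    generalize hadef : g • v + v = a at hv
    have hsym : ∀ w : V, h v (g • w) = h (g • v) w := fun w => by rw [← isom c g, hgg]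
    have haa : h a a = 0 := by
      rw [← hadef]
      simp only [map_add, LinearMap.add_apply, isom c, hsym v]
      linear_combination (h v v + h (g • v) v) * c.two
    have hga : g • a = a := by rw [← hadef, smul_add, hgg, add_comm]
    have ha0 : a ≠ 0 := fun e => by simp [e] at hv
    have hav : h a v = 1 := by rw [c.form.swap v a, hv, map_one]
    have hperp : ∀ w : V, g • w = w → h a w = 0 := fun w hw => by
      rw [← hadef, map_add, LinearMap.add_apply, ← hsym, hw, c.addF]
    have hct : Commute g (tv c a haa) := tv_commute_of_fix c g haa hga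
    set g₁ := g * tv c a haa with hg₁
    have hg₁2 : g₁ * g₁ = 1 := by
      rw [hg₁, hct.symm.mul_mul_mul_comm, hg, tv_sq, mul_one]
    have hfix : ∀ w : V, g • w = w → g₁ • w = w := fun w hw => by
      rw [hg₁, mul_smul, tv_smul, hperp w hw, zero_smul, add_zero, hw]
    have h1v : g₁ • v = v := by
      rw [hg₁, mul_smul, tv_smul, hav, one_smul, smul_add, hga]
      conv_lhs => rw [← hadef, ← add_assoc, c.addV, zero_add]
    have hlt : Nat.card {w : V // g₁ • w ≠ w} < n := by
      rw [← hn]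
      change Nat.card ({w : V | g₁ • w ≠ w} : Set V) < Nat.card ({w : V | g • w ≠ w} : Set V)
      rw [Nat.card_coe_set_eq, Nat.card_coe_set_eq]
      refine Set.ncard_lt_ncard ⟨fun w hw e => hw (hfix w e), fun hle => ?_⟩ (Set.toFinite _)
      exact hle (show g • v ≠ v from fun e => ha0 (by rw [← hadef, e, c.addV])) h1v
    obtain ⟨y₁, hy₁, hy₁2, hy₁c⟩ := ih _ hlt g₁ hg₁2 rfl
    obtain ⟨xa, exa⟩ := hψ (pt c a haa)
    have hc1 : Commute y₁ xa := hy₁c a haa ha0 (hfix a hga) xa exa
    refine ⟨y₁ * xa, ?_, ?_, fun u hu hu0 hgu x ex => ?_⟩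
    · rw [map_mul, hy₁, exa, pt, ← QuotientGroup.mk_mul, hg₁, mul_assoc, tv_sq, mul_one]
    · rw [hc1.symm.mul_mul_mul_comm, hy₁2, lift_sq c ψ hψ hz hzc hker haa ha0 exa, mul_one]
    refine (hy₁c u hu hu0 (hfix u hgu) x ex).mul_left ?_
    by_cases hm : ∃ m : F, a = m • u
    · obtain ⟨m, hm⟩ := hm
      have hm0 : m ≠ 0 := fun e => ha0 (by rw [hm, e, zero_smul])
      exact commute_of_eq ψ hz hzc hker (by rw [ex, exa, pt_congr c hu haa hm0 hm]) (Commute.refl xa)
    · exact lift_commute c ψ hψ hz hzc hker haa hu (hperp u hgu) (fun m e => hm ⟨m, e⟩) exa ex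

/-- Every involution of the image has an involution over it. -/
theorem exists_invol_lift {β : SUH h ⧸ Subgroup.center (SUH h)} (hβ : β * β = 1) :
    ∃ y : C, ψ y = β ∧ y * y = 1 := by
  obtain ⟨g, rfl⟩ := QuotientGroup.mk_surjective β
  obtain ⟨a, ha1, ha⟩ := (proj_eq_one_iff c (g * g)).1 (by rw [QuotientGroup.mk_mul, hβ])
  have ha0 : a ≠ 0 := fun e => by simp [e] at ha1
  have hg6 : (g * g * g) * (g * g * g) = 1 := ext_smul c fun w => by
    rw [show g * g * g * (g * g * g) = (g * g) * ((g * g) * (g * g)) by group, one_smul]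
    calc ((g * g) * ((g * g) * (g * g))) • w = (g * g) • (g * g) • (g * g) • w := by
          simp only [mul_smul]
      _ = a • a • a • w := by rw [ha, ha, ha]
      _ = w := by rw [smul_smul, smul_smul, c.cube a ha0, one_smul]
  obtain ⟨y, hy, hy2, -⟩ := exists_lift c ψ hψ hz hzc hker _ hg6
  exact ⟨y, by rw [hy, QuotientGroup.mk_mul, QuotientGroup.mk_mul, hβ, one_mul], hy2⟩

end cover

end Cfsg.Agent.Transpos.U6
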