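import Cfsg.Agent.Lib.Transpos.M22Twins
import Cfsg.Agent.Lib.Transpos.UnitaryCover

/-!
# The members commuting with a member, as points of the unitary space

`Model D a`: a map of the group generated by the members commuting with `a` onto `PSU₆(2)` with
central kernel.  Its members are exactly the isotropic points, commuting being orthogonality.
`Model.frames`: for commuting `b`, `c`, `f` not on a line the plane they span has two further
triples with the same product modulo the kernel.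
-/

set_option autoImplicit false

namespace Cfsg.Agent.Transpos

open Cfsg Cfsg.Agent.ClassicalSimple

variable {G : Type*} [Group G] {D : Set G} {a : G}

/-- A map onto `PSU₆(2)` of the group generated by the members commuting with `a`. -/
structure Model (D : Set G) (a : G) where
  /-- The field of four elements. -/
  F : Type
  [field : Field F]
  [fin : Finite F]
  /-- Its automorphism. -/
  σ : F →+* F
  /-- The hermitian form. -/
  h : (Fin 6 → F) →ₛₗ[σ] (Fin 6 → F) →ₗ[F] F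
  c : U6.Ctx σ h
  /-- The map. -/
  ψ : ↥(Subgroup.closure (Dc D a)) →* SUH h ⧸ Subgroup.center (SUH h)
  surj : Function.Surjective ψ
  ker : ∀ x, ψ x = 1 ↔ x ∈ Subgroup.center ↥(Subgroup.closure (Dc D a))

attribute [instance] Model.field Model.fin

/-- The hypotheses used throughout: a 3-transposition group of type M(22) with connected graph. -/
structure M22 (D : Set G) : Prop where
  grp : IsThreeTranspositionGroup D
  conn : ∀ a ∈ D, ∀ v ∈ D, Relation.ReflTransGen (Fischer.CAdj D) a v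
  trans : ∀ a ∈ D, ∀ b ∈ D, ∃ g : G, g * a * g⁻¹ = b
  line : ∀ a ∈ D, Line D a
  good : ∀ a ∈ D, Conn (Dc D a) ∧ AllActive (Dc D a)
  noTwin : NoTwin D
  noTwin₂ : ∀ a ∈ D, NoTwin (Dc D a)
  center : Subgroup.center G = ⊥
  model : ∀ a ∈ D, (Dc D a).Nonempty ∧ Nonempty (Model D a)

theorem M22.tr (H : M22 D) : Tr D := tr_of_group H.grp

/-- What a group of type M(22) satisfies regardless of the commuting graph. -/
theorem M22.pre_of_type [Finite G] (hD : IsThreeTranspositionGroup D) (h22 : IsOfTypeM22 G D) :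
    (∀ a ∈ D, ∀ b ∈ D, ∃ g : G, g * a * g⁻¹ = b) ∧
      (∀ a ∈ D, Conn (Dc D a) ∧ AllActive (Dc D a)) ∧ NoTwin D ∧ (∀ a ∈ D, NoTwin (Dc D a)) ∧
      ∀ a ∈ D, (Dc D a).Nonempty ∧ Nonempty (Model D a) := by
  have hE := tr_of_group hD
  have hD1 : D \ {1} = D := Set.sdiff_singleton_eq_self fun h => ne_one hD.1 h rfl
  obtain ⟨-, hgood, ha, h2', -⟩ := m22_level (hD1.symm ▸ hE) hD.2.2 h22
  rw [hD1] at hgood ha h2'
  have hn := NoTwin.of_thin hgood.2 ha
  have ht := Trans.of_conn hE hgood.1 ha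
  obtain ⟨-, d, hd, -, -, -, ⟨F, iF, iFt, hF, ⟨e⟩⟩, -⟩ := h22
  have hU : IsSimpleGroup (PSU 6 F 2) :=
    PSU_isSimpleGroup (q := 2) (by rw [hF]; norm_num) (by norm_num) (by norm_num)
  have hg : Good (Dc D d) := good_of_simple (hE.dc hd) (MulEquiv.isSimpleGroup e)
  have hne : (Dc D d).Nonempty := by
    obtain ⟨x, hx⟩ := exists_active_of_card (E := Dc D d) fun h => by
      have h2 := dvd_card_PSU6 (F := F) hF
      rw [← Nat.card_congr e.toEquiv] at h2
      erw [h] at h2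
      norm_num at h2
    exact ⟨x, hx.1⟩
  refine ⟨fun a ha b hb => (ht a ha b hb).imp fun g h => h.1, fun a had => ?_, hn, h2',
    fun a had => ?_⟩
  · obtain ⟨g, hg', hst⟩ := ht d hd a had
    exact ⟨(hg' ▸ hst.carries.dc d).conn hg.1, fun x hx => active_Dc ht hn had hx⟩
  obtain ⟨g, rfl, hst⟩ := ht d hd a had
  have hc := hst.carries.dc d
  have himg : (MulAut.conj g).toMonoidHom '' Dc D d = Dc D (g * d * g⁻¹) := by
    refine Set.Subset.antisymm ?_ fun y hy => ⟨_, hc.2 y hy, ?_⟩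
    · rintro _ ⟨x, hx, rfl⟩
      exact hc.1 x hx
    · show g * (g⁻¹ * y * g) * g⁻¹ = y
      group
  obtain ⟨x, hx⟩ := hne
  refine ⟨⟨_, hc.1 x hx⟩, ?_⟩
  have hF' : Fintype.card F = 2 ^ 2 := by rw [hF]; norm_num
  let f := ((MulAut.conj g).subgroupMap (Subgroup.closure (Dc D d))).trans
    (MulEquiv.subgroupCongr ((MonoidHom.map_closure _ _).trans (congrArg Subgroup.closure himg)))
  let f' := ((centerQuotientCongr f.symm).trans e).trans (centerQuotientCongr (suEquiv hF'))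
  exact ⟨
    { F := F
      σ := Forms.qEnd hF'
      h := Forms.hermB hF' 6
      c := U6.ctx_of_card hF'
      ψ := f'.toMonoidHom.comp (QuotientGroup.mk' _)
      surj := f'.surjective.comp (QuotientGroup.mk'_surjective _)
      ker := fun x => by
        rw [← QuotientGroup.eq_one_iff]
        exact f'.map_eq_one_iff }⟩

/-- A group of type M(22) with connected commuting graph satisfies all of `M22`. -/
theorem M22.of_type [Finite G] (hD : IsThreeTranspositionGroup D) (h22 : IsOfTypeM22 G D)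
    (hconn : ∀ a ∈ D, ∀ v ∈ D, Relation.ReflTransGen (Fischer.CAdj D) a v) : M22 D :=
  let ⟨htr, hgood, hn, h2, hm⟩ := M22.pre_of_type hD h22
  ⟨hD, hconn, htr, line_of_type hD h22, hgood, hn, h2, h22.1, hm⟩

namespace Model

variable (M : Model D a)

/-- `x` is the member over the point `v`. -/
def IsPt (x : G) (v : Fin 6 → M.F) : Prop :=
  ∃ (hx : x ∈ Dc D a) (hv : M.h v v = 0),
    v ≠ 0 ∧ M.ψ ⟨x, Subgroup.subset_closure hx⟩ = U6.pt M.c v hv

variable {M}

theorem IsPt.mem {x : G} {v : Fin 6 → M.F} (h : M.IsPt x v) : x ∈ Dc D a := h.1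

theorem IsPt.iso {x : G} {v : Fin 6 → M.F} (h : M.IsPt x v) : M.h v v = 0 := h.2.1

theorem IsPt.ne_zero {x : G} {v : Fin 6 → M.F} (h : M.IsPt x v) : v ≠ 0 := h.2.2.1

variable (M) (H : M22 D) (ha : a ∈ D)
include M H ha

theorem exists_vec {x : G} (hx : x ∈ Dc D a) : ∃ v, M.IsPt x v := by
  have h1 : (1 : G) ∉ Dc D a := fun h => ne_one H.grp.1 h.1 rfl
  have hS : Dc D a \ {1} = Dc D a := Set.sdiff_singleton_eq_self h1
  have hne : M.ψ ⟨x, Subgroup.subset_closure hx⟩ ≠ 1 := fun e => by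
    obtain ⟨-, y, hy, hxy⟩ := (H.good a ha).2 x hx
    exact hxy (congrArg Subtype.val (Subgroup.mem_center_iff.1 ((M.ker _).1 e)
      ⟨y, Subgroup.subset_closure hy⟩)).symm
  obtain ⟨v, hv, hv0, e⟩ := exists_pt M.c (hS.symm ▸ H.tr.dc ha) M.ψ M.surj
    (x := ⟨x, Subgroup.subset_closure hx⟩) (hS.symm ▸ hx) hne
  exact ⟨v, hx, hv, hv0, e⟩

/-- Conjugation inside the group generated by the members commuting with `a`. -/
theorem conj_mem (y : ↥(Subgroup.closure (Dc D a))) {x : G} (hx : x ∈ Dc D a) :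
    (y : G) * x * (y : G)⁻¹ ∈ Dc D a :=
  ((H.tr.dc ha).stab_closure y.2 x hx).1

theorem exists_mem {v : Fin 6 → M.F} (hv : M.h v v = 0) (h0 : v ≠ 0) : ∃ x, M.IsPt x v := by
  obtain ⟨x, hx⟩ := (H.model a ha).1
  obtain ⟨u, _, hu, hu0, eu⟩ := M.exists_vec H ha hx
  obtain ⟨k, hk⟩ := U6.pt_exists_conj M.c hu hv hu0 h0
  obtain ⟨y, hy⟩ := M.surj k
  refine ⟨_, conj_mem M H ha y hx, hv, h0, ?_⟩
  rw [← hk, ← hy, ← eu, ← map_inv, ← map_mul, ← map_mul]
  rfl

theorem comm_iff {x y : G} {u w : Fin 6 → M.F} (hx : M.IsPt x u) (hy : M.IsPt y w) :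
    Commute x y ↔ M.h u w = 0 := by
  obtain ⟨hx, hu, -, ex⟩ := hx
  obtain ⟨hy, hw, -, ey⟩ := hy
  rw [← U6.pt_commute_iff M.c hu hw, ← ex, ← ey]
  refine ⟨fun h => ((show Commute (⟨x, Subgroup.subset_closure hx⟩ : ↥(Subgroup.closure (Dc D a)))
    ⟨y, Subgroup.subset_closure hy⟩ from Subtype.ext h).map M.ψ), fun h => ?_⟩
  have hS := H.tr.dc ha
  have h1 : (1 : G) ∉ Dc D a := fun h => ne_one H.grp.1 h.1 rfl
  have hS1 : Dc D a \ {1} = Dc D a := Set.sdiff_singleton_eq_self h1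
  refine (commute_pi_iff (hS1.symm ▸ hS) (x := ⟨x, Subgroup.subset_closure hx⟩)
    (y := ⟨y, Subgroup.subset_closure hy⟩) (hS1.symm ▸ hx) (hS1.symm ▸ hy)).1 ?_
  show _ * _ = _ * _
  rw [← map_mul, ← map_mul, QuotientGroup.mk'_eq_mk']
  refine ⟨_, (M.ker _).1 ?_, mul_inv_cancel_left _ _⟩
  rw [map_mul, map_inv, map_mul, map_mul, inv_mul_eq_one]
  exact h.eq

theorem eq_of_smul {x y : G} {u w : Fin 6 → M.F} (hx : M.IsPt x u) (hy : M.IsPt y w) {m : M.F}
    (e : w = m • u) : x = y := by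
  obtain ⟨hx, hu, hu0, ex⟩ := hx
  obtain ⟨hy, hw, hw0, ey⟩ := hy
  have hm : m ≠ 0 := fun h => hw0 (by rw [e, h, zero_smul])
  have he : M.ψ ⟨y, Subgroup.subset_closure hy⟩ = M.ψ ⟨x, Subgroup.subset_closure hx⟩ := by
    rw [ex, ey, U6.pt_congr M.c hu hw hm e]
  have h1 : (1 : G) ∉ Dc D a := fun h => ne_one H.grp.1 h.1 rfl
  have hS1 : Dc D a \ {1} = Dc D a := Set.sdiff_singleton_eq_self h1
  refine pi_inj (hS1.symm ▸ H.tr.dc ha) (x := ⟨x, Subgroup.subset_closure hx⟩)
    (y := ⟨y, Subgroup.subset_closure hy⟩) (hS1.symm ▸ (H.good a ha).2 x hx)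
    (hS1.symm ▸ (H.good a ha).2 y hy) (QuotientGroup.eq.2 ((M.ker _).1 ?_))
  rw [map_mul, map_inv, he, inv_mul_cancel]

omit H ha in
theorem smul_of_eq {x y : G} {u w : Fin 6 → M.F} (hx : M.IsPt x u) (hy : M.IsPt y w) (e : x = y) :
    ∃ m : M.F, w = m • u := by
  subst e
  exact U6.pt_eq_imp M.c hx.iso hy.iso hy.ne_zero (hx.2.2.2.symm.trans hy.2.2.2)

theorem ne_of_ne {x y : G} {u w : Fin 6 → M.F} (hx : M.IsPt x u) (hy : M.IsPt y w) (e : x ≠ y)
    (m : M.F) : w ≠ m • u := fun h => e (eq_of_smul M H ha hx hy h)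

/-- A member on the line of `b`, `c` is a twin of `c`. -/
theorem twin_of_span {b c f : G} {u w r : Fin 6 → M.F} (hb : M.IsPt b u) (hc : M.IsPt c w)
    (hf : M.IsPt f r) (cbf : Commute b f) (ccf : Commute c f) (nfb : f ≠ b) (nfc : f ≠ c)
    {m n : M.F} (e : r = m • u + n • w) : Twin D a b c f := by
  refine ⟨⟨hf.mem, nfb, cbf⟩, nfc, ccf, fun x hx => ?_⟩
  obtain ⟨v, hv⟩ := M.exists_vec H ha hx.1
  have hn : n ≠ 0 := fun h => ne_of_ne M H ha hb hf nfb.symm m (by rw [e, h, zero_smul, add_zero])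
  have hvu : M.h v u = 0 := (comm_iff M H ha hv hb).1 hx.2.2.symm
  rw [comm_iff M H ha hv hc, comm_iff M H ha hv hf, e]
  simp [hvu, hn]

/-- Opposite points with the same perp in the perp of `u` lie on a hyperbolic line with `u`. -/
theorem eq_or_conj {e x y : G} (he : e ∈ Dc D a) (hx : x ∈ Dc D a) (hy : y ∈ Dc D a)
    (hex : ¬ Commute e x) (hey : ¬ Commute e y) (hs : Same (Dc (Dc D a) e) x y) :
    y = x ∨ y = e * x * e := by
  obtain ⟨u, hu⟩ := M.exists_vec H ha he
  obtain ⟨p, hp⟩ := M.exists_vec H ha hx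
  obtain ⟨q, hq⟩ := M.exists_vec H ha hy
  have hup : M.h u p ≠ 0 := fun h => hex ((comm_iff M H ha hu hp).2 h)
  have huq : M.h u q ≠ 0 := fun h => hey ((comm_iff M H ha hu hq).2 h)
  have hiso : ∀ t, M.h t t = 0 → M.h u t = 0 → M.h p t = 0 → M.h q t = 0 := by
    intro t ht hut hpt
    by_cases ht0 : t = 0
    · rw [ht0, map_zero]
    obtain ⟨z, hz⟩ := M.exists_mem H ha ht ht0
    have hzm : z ∈ Dc (Dc D a) e := ⟨hz.mem, fun h => hex ((comm_iff M H ha (h ▸ hz) hp).2
      (M.c.form.comm_zero hpt)), (comm_iff M H ha hu hz).2 hut⟩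
    exact M.c.form.comm_zero ((comm_iff M H ha hz hq).1
      ((hs z hzm).1 ((comm_iff M H ha hz hp).2 (M.c.form.comm_zero hpt))))
  have hall : ∀ t, (∀ i, M.h (![u, p] i) t = 0) → M.h q t = 0 := fun t ht => by
    have hut : M.h u t = 0 := ht 0
    have hpt : M.h p t = 0 := ht 1
    by_cases htt : M.h t t = 0
    · exact hiso t htt hut hpt
    have ht1 := M.c.eq_one (M.c.form.σ_self t) htt
    obtain ⟨z, huz, hpz, htz, hzz⟩ := M.c.exists_aniso_perp_three (u := u) (w := p) htt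
    have key : ∀ l : M.F, l ≠ 0 → M.h q t + l * M.h q z = 0 := fun l hl => by
      have e := hiso (t + l • z) (by
        simp [ht1, hzz, htz, M.c.form.comm_zero htz]
        linear_combination M.c.norm l hl + M.c.two) (by simp [hut, huz]) (by simp [hpt, hpz])
      simpa using e
    obtain ⟨o, ho0, ho, -⟩ := M.c.exists_omega
    have e1 := key 1 one_ne_zero
    have e2 := key o ho0
    have hz0 : (o - 1) * M.h q z = 0 := by linear_combination e2 - e1
    have ho1 : o - 1 ≠ 0 := fun e => by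
      have : o = 1 := sub_eq_zero.1 e
      subst this
      exact one_ne_zero (α := M.F) (by linear_combination ho - M.c.two)
    rw [(mul_eq_zero.1 hz0).resolve_left ho1, mul_zero, add_zero] at e1
    exact e1
  have hsp := M.c.mem_span_of_perp ![u, p] hall
  rw [Matrix.range_cons, Matrix.range_cons, Matrix.range_empty, Set.union_empty,
    Set.singleton_union, Submodule.mem_span_pair] at hsp
  obtain ⟨m, n, e'⟩ := hsp
  have hn : n ≠ 0 := fun h => huq (by rw [← e', h]; simp [hu.iso])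
  by_cases hm : m = 0
  · exact Or.inl (eq_of_smul M H ha hp hq (by rw [← e', hm, zero_smul, zero_add])).symm
  right
  -- the member over `tv u • p`
  have hu2 : e * e = 1 := sq_one H.grp.1 he.1
  have hexe : e * x * e ∈ Dc D a := (H.tr.dc ha).conj e he x hx
  have hiso' : M.h (p + M.h u p • u) (p + M.h u p • u) = 0 := by
    have := U6.isom M.c (U6.tv M.c u hu.iso) p p
    rw [U6.tv_smul, hp.iso] at this
    exact this
  have hpt' : M.IsPt (e * x * e) (p + M.h u p • u) := by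
    obtain ⟨hem, hum, -, ee⟩ := hu
    obtain ⟨hxm, hpm, hp0, ex⟩ := hp
    refine ⟨hexe, hiso', fun h => hup ?_, ?_⟩
    · have := congrArg (M.h u) h
      simpa [hum] using this
    · have h1 : (⟨e * x * e, Subgroup.subset_closure hexe⟩ : ↥(Subgroup.closure (Dc D a))) =
          ⟨e, Subgroup.subset_closure hem⟩ * ⟨x, Subgroup.subset_closure hxm⟩ *
            ⟨e, Subgroup.subset_closure hem⟩⁻¹ :=
        Subtype.ext (by simp [inv_eq H.grp.1 he.1])
      rw [h1, map_mul, map_mul, map_inv, ee, ex]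
      have h2 := U6.tv_conj M.c (U6.tv M.c u hum) hpm
      simp only [U6.tv_smul] at h2
      exact congrArg QuotientGroup.mk h2
  refine (eq_of_smul M H ha hpt' hq (m := n) ?_).symm
  have hqq := hq.iso
  rw [← e'] at hqq ⊢
  simp only [map_add, map_smulₛₗ, LinearMap.add_apply, LinearMap.smul_apply, smul_eq_mul,
    RingHom.id_apply, hu.iso, hp.iso, M.c.form.swap u p, mul_zero, add_zero, zero_add] at hqq
  suffices hmn : m = n * M.h u p by rw [smul_add, smul_smul, ← hmn, add_comm]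
  -- `m` is fixed by the trace condition
  have hb := M.c.norm _ hup
  have hx0 : M.σ m * n * M.h u p ≠ 0 :=
    mul_ne_zero (mul_ne_zero ((map_ne_zero _).2 hm) hn) hup
  have hfix : M.σ (M.σ m * n * M.h u p) = M.σ m * n * M.h u p := by
    simp only [map_mul, M.c.form.invol]
    linear_combination hqq - (M.σ m * n * M.h u p) * M.c.two
  have h1 := M.c.eq_one hfix hx0
  linear_combination (-m) * h1 + (n * M.h u p) * M.c.norm m hm

/-- An isotropic plane: two triples with the same image as `b`, `c`, `f`. -/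
theorem frames {b c f : G} (hb : b ∈ Dc D a) (hc : c ∈ Dc D a) (hf : f ∈ Dc D a) (nbc : b ≠ c)
    (nbf : b ≠ f) (ncf : c ≠ f) (cbc : Commute b c) (cbf : Commute b f) (ccf : Commute c f) :
    Twin D a b c f ∨ ∃ p : Fin 6 → G, Function.Injective p ∧
      (∀ i, p i ∈ Dc D a ∧ p i ≠ b ∧ p i ≠ c ∧ p i ≠ f) ∧ (∀ i j, Commute (p i) (p j)) ∧
      (∀ i, Commute b (p i) ∧ Commute c (p i) ∧ Commute f (p i)) ∧
      (∀ x ∈ Dc D a, Commute x b → Commute x c → Commute x f → ∀ i, Commute x (p i)) ∧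
      ∀ y ∈ Dc D a, Commute y ((b * c * f)⁻¹ * (p 0 * p 1 * p 2)) ∧
        Commute y ((b * c * f)⁻¹ * (p 3 * p 4 * p 5)) := by
  obtain ⟨u, hu⟩ := M.exists_vec H ha hb
  obtain ⟨w, hw⟩ := M.exists_vec H ha hc
  obtain ⟨r, hr⟩ := M.exists_vec H ha hf
  by_cases hspan : ∃ m n : M.F, r = m • u + n • w
  · obtain ⟨m, n, e⟩ := hspan
    exact Or.inl (twin_of_span M H ha hu hw hr cbf ccf nbf.symm ncf.symm e)
  right
  push Not at hspan
  have huw : M.h u w = 0 := (comm_iff M H ha hu hw).1 cbc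
  have hur : M.h u r = 0 := (comm_iff M H ha hu hr).1 cbf
  have hwr : M.h w r = 0 := (comm_iff M H ha hw hr).1 ccf
  have hwu := M.c.form.comm_zero huw
  have hru := M.c.form.comm_zero hur
  have hrw := M.c.form.comm_zero hwr
  have hindep : ∀ α β γ : M.F, α • u + β • w + γ • r = 0 → α = 0 ∧ β = 0 ∧ γ = 0 := by
    intro α β γ e
    have hγ : γ = 0 := by
      by_contra h
      refine hspan (-(γ⁻¹ * α)) (-(γ⁻¹ * β)) ?_
      rw [← inv_smul_smul₀ h r, eq_neg_of_add_eq_zero_right e]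
      module
    rw [hγ, zero_smul, add_zero] at e
    have hβ : β = 0 := by
      by_contra h
      refine ne_of_ne M H ha hu hw nbc (-(β⁻¹ * α)) ?_
      rw [← inv_smul_smul₀ h w, eq_neg_of_add_eq_zero_right e]
      module
    rw [hβ, zero_smul, add_zero] at e
    exact ⟨(smul_eq_zero.1 e).resolve_right hu.ne_zero, hβ, hγ⟩
  have horth : ∀ α β γ α' β' γ' : M.F,
      M.h (α • u + β • w + γ • r) (α' • u + β' • w + γ' • r) = 0 := fun α β γ α' β' γ' => by
    simp [hu.iso, hw.iso, hr.iso, huw, hur, hwr, hwu, hru, hrw]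
  obtain ⟨o, ho0, ho, hso, hso2⟩ := M.c.exists_omega
  let X : Fin 6 → M.F := ![1, o, o * o, 1, o, o * o]
  let Y : Fin 6 → M.F := ![1, o * o, o, o, 1, o * o]
  let V : Fin 6 → (Fin 6 → M.F) := fun i => (1 : M.F) • u + X i • w + Y i • r
  have hV : ∀ i, ∃ x, M.IsPt x (V i) := fun i => M.exists_mem H ha (horth _ _ _ _ _ _)
    fun e => one_ne_zero (hindep _ _ _ e).1
  choose p hp using hV
  have hXY : ∀ i, X i ≠ 0 ∧ Y i ≠ 0 := fun i => by fin_cases i <;> simp [X, Y, ho0]
  have ho1 : o ≠ 1 := fun e => by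
    subst e; exact one_ne_zero (α := M.F) (by linear_combination ho - M.c.two)
  have hoo1 : o * o ≠ 1 := fun e => ho1 (by linear_combination M.c.cube o ho0 - o * e)
  have hoo : o * o ≠ o := fun e => ho1 (mul_left_cancel₀ ho0 (by rw [mul_one]; exact e))
  have hinjXY : ∀ i j, X i = X j → Y i = Y j → i = j := by
    intro i j
    fin_cases i <;> fin_cases j <;>
      simp [X, Y, ho1, ho1.symm, hoo1, hoo1.symm, hoo, hoo.symm]
  have hne : ∀ {z : G} {v : Fin 6 → M.F}, M.IsPt z v → ∀ i, (∀ m : M.F, v ≠ m • V i) → p i ≠ z :=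
    fun hz i hv e => by
      obtain ⟨m, hm⟩ := smul_of_eq M (hp i) hz e
      exact hv m hm
  refine ⟨p, fun i j e => ?_, fun i => ⟨(hp i).mem, ?_, ?_, ?_⟩, fun i j =>
    (comm_iff M H ha (hp i) (hp j)).2 (horth _ _ _ _ _ _), fun i => ⟨(comm_iff M H ha hu (hp i)).2
      (by simp [V, hu.iso, huw, hur]), (comm_iff M H ha hw (hp i)).2 (by simp [V, hw.iso, hwu, hwr]),
      (comm_iff M H ha hr (hp i)).2 (by simp [V, hr.iso, hru, hrw])⟩,
    fun x hx k1 k2 k3 i => ?_, ?_⟩
  · obtain ⟨m, hm⟩ := smul_of_eq M (hp i) (hp j) e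
    obtain ⟨h1, h2, h3⟩ := hindep (1 - m) (X j - m * X i) (Y j - m * Y i) (by
      rw [← sub_eq_zero.2 hm]; simp only [V]; module)
    rw [← sub_eq_zero.1 h1, one_mul] at h2 h3
    exact hinjXY i j (sub_eq_zero.1 h2).symm (sub_eq_zero.1 h3).symm
  · refine hne hu i fun m hm => ?_
    obtain ⟨h1, h2, -⟩ := hindep (1 - m) (-(m * X i)) (-(m * Y i)) (by
      rw [← sub_eq_zero.2 hm]; simp only [V]; module)
    rw [← sub_eq_zero.1 h1, one_mul, neg_eq_zero] at h2
    exact (hXY i).1 h2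
  · refine hne hw i fun m hm => ?_
    obtain ⟨h1, h2, -⟩ := hindep (-m) (1 - m * X i) (-(m * Y i)) (by
      rw [← sub_eq_zero.2 hm]; simp only [V]; module)
    rw [neg_eq_zero.1 h1, zero_mul, sub_zero] at h2
    exact one_ne_zero h2
  · refine hne hr i fun m hm => ?_
    obtain ⟨h1, -, h3⟩ := hindep (-m) (-(m * X i)) (1 - m * Y i) (by
      rw [← sub_eq_zero.2 hm]; simp only [V]; module)
    rw [neg_eq_zero.1 h1, zero_mul, sub_zero] at h3
    exact one_ne_zero h3
  · obtain ⟨v, hv⟩ := M.exists_vec H ha hx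
    refine (comm_iff M H ha hv (hp i)).2 ?_
    simp [V, (comm_iff M H ha hv hu).1 k1, (comm_iff M H ha hv hw).1 k2,
      (comm_iff M H ha hv hr).1 k3]
  -- equal images
  have key : ∀ i j k : Fin 6, X i + X j + X k = 0 → Y i + Y j + Y k = 0 →
      X i * M.σ (Y i) + X j * M.σ (Y j) + X k * M.σ (Y k) = 0 →
      ∀ y ∈ Dc D a, Commute y ((b * c * f)⁻¹ * (p i * p j * p k)) := by
    intro i j k e1 e2 e3 y hy
    have e1' := congrArg M.σ e1
    have e2' := congrArg M.σ e2
    have e3' := congrArg M.σ e3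
    simp only [map_add, map_mul, map_zero, M.c.form.invol] at e1' e2' e3'
    have hX := fun i => M.c.norm _ (hXY i).1
    have hY := fun i => M.c.norm _ (hXY i).2
    have etv : U6.tv M.c u hu.iso * U6.tv M.c w hw.iso * U6.tv M.c r hr.iso =
        U6.tv M.c (V i) (horth _ _ _ _ _ _) * U6.tv M.c (V j) (horth _ _ _ _ _ _) *
          U6.tv M.c (V k) (horth _ _ _ _ _ _) := U6.ext_smul M.c fun t => by
      simp only [mul_smul, U6.tv_smul]
      simp only [V, one_smul, map_add, map_smulₛₗ, LinearMap.add_apply,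
        LinearMap.smul_apply, smul_eq_mul, RingHom.id_apply, hu.iso, hw.iso, hr.iso, huw, hur,
        hwr, hwu, hru, hrw, mul_zero, add_zero, zero_add, smul_add, smul_smul]
      match_scalars
      · ring
      · linear_combination -(M.h u t) * e2 - (M.h r t) * (hY i + hY j + hY k) - (M.h w t) * e3' -
          (M.h r t) * M.c.two
      · linear_combination -(M.h u t) * e1 - (M.h w t) * (hX i + hX j + hX k) - (M.h r t) * e3 -
          (M.h w t) * M.c.two
      · linear_combination -(M.h w t) * e1' - (M.h r t) * e2' - (M.h u t) * M.c.two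
    let el : ∀ {z : G}, z ∈ Dc D a → ↥(Subgroup.closure (Dc D a)) := fun {z} hz =>
      ⟨z, Subgroup.subset_closure hz⟩
    have hker : M.ψ ((el hb * el hc * el hf)⁻¹ * (el (hp i).mem * el (hp j).mem * el (hp k).mem)) = 1 := by
      simp only [map_mul, map_inv, inv_mul_eq_one, el]
      rw [hu.2.2.2, hw.2.2.2, hr.2.2.2, (hp i).2.2.2, (hp j).2.2.2, (hp k).2.2.2]
      exact congrArg QuotientGroup.mk etv
    exact congrArg Subtype.val (Subgroup.mem_center_iff.1 ((M.ker _).1 hker) (el hy))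
  have hs := M.c.two
  refine fun y hy => ⟨key 0 1 2 ?_ ?_ ?_ y hy, key 3 4 5 ?_ ?_ ?_ y hy⟩ <;>
    simp [X, Y, hso, hso2] <;> grind

end Model

end Cfsg.Agent.Transpos
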