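import Cfsg.Agent.Lib.Transpos.M22Auto

/-!
# Outer automorphisms in type M(22)

`M22.outer_two`: two automorphisms preserving the class, neither inner, differ by an inner one.  Adjusted
to fix a member both act on its unitary space by the automorphism of the field, so their product is
linear.
-/

set_option autoImplicit false

namespace Cfsg.Agent.Transpos

open Cfsg Cfsg.Agent.ClassicalSimple

variable {G : Type*} [Group G] [Finite G] {D : Set G}

/-- Two non-inner automorphisms preserving the class differ by an inner one. -/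
theorem M22.outer_two (H : M22 D) {α β : G ≃* G} (hα : Preserves D α) (hβ : Preserves D β)
    (nα : ¬ ∃ y, ∀ g, α g = y * g * y⁻¹) (nβ : ¬ ∃ y, ∀ g, β g = y * g * y⁻¹) :
    ∃ y, ∀ g, α g = y * β g * y⁻¹ := by
  classical
  obtain ⟨a, ha⟩ : ∃ a, a ∈ D := by
    by_contra h
    push Not at h
    refine nα ⟨1, fun g => ?_⟩
    have hg : g ∈ Subgroup.closure D := by rw [H.grp.2.2]; trivial
    rw [show D = ∅ from Set.eq_empty_iff_forall_notMem.2 h, Subgroup.closure_empty,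
      Subgroup.mem_bot] at hg
    rw [hg, map_one, one_mul, one_mul, inv_one]
  obtain ⟨p, hp⟩ := H.trans _ ((hα a).2 ha) a ha
  obtain ⟨q, hq⟩ := H.trans _ ((hβ a).2 ha) a ha
  set α' := α.trans (MulAut.conj p) with hα'd
  set β' := β.trans (MulAut.conj q) with hβ'd
  have hα' : Preserves D α' := hα.trans (preserves_conj H.grp p)
  have hβ' : Preserves D β' := hβ.trans (preserves_conj H.grp q)
  have eα : ∀ g, α g = p⁻¹ * α' g * p := fun g => by
    show α g = p⁻¹ * (p * α g * p⁻¹) * p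
    group
  have eβ : ∀ g, β g = q⁻¹ * β' g * q := fun g => by
    show β g = q⁻¹ * (q * β g * q⁻¹) * q
    group
  have faα : α' a = a := hp
  have faβ : β' a = a := hq
  obtain ⟨M⟩ := (H.model a ha).2
  obtain ⟨Ψα, τα, hΨα, hactα⟩ := M.exists_semi H ha hα' faα
  obtain ⟨Ψβ, τβ, hΨβ, hactβ⟩ := M.exists_semi H ha hβ' faβ
  have hσ : ∀ {γ γ' : G ≃* G} {r : G} {Ψ : (Fin 6 → M.F) → (Fin 6 → M.F)} {τ : M.F ≃+* M.F},
      (¬ ∃ y, ∀ g, γ g = y * g * y⁻¹) → (∀ g, γ g = r⁻¹ * γ' g * r) → Preserves D γ' → γ' a = a →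
      U6.Semi M.h τ Ψ → M.Acts γ' Ψ → ∀ x, τ x = M.σ x := by
    intro γ γ' r Ψ τ nγ eγ hγ' faγ hΨ hact
    refine (U6.aut_eq M.c τ).resolve_left fun hid => nγ ?_
    obtain ⟨z, -, e⟩ := H.inner_of_linear ha M hγ' faγ (Ψ := Ψ)
      ⟨hΨ.add, fun m v => by rw [hΨ.smul, hid, id], fun v w => by rw [hΨ.form, hid, id]⟩ hact
    exact ⟨r⁻¹ * z, fun g => by rw [eγ, e]; group⟩
  have sα := hσ nα eα hα' faα hΨα hactα
  have sβ := hσ nβ eβ hβ' faβ hΨβ hactβ
  -- products of the adjusted ones are linear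
  have hlin : ∀ {γ : G ≃* G} {Ψ : (Fin 6 → M.F) → (Fin 6 → M.F)} {τ : M.F ≃+* M.F},
      Preserves D γ → γ a = a → U6.Semi M.h τ Ψ → M.Acts γ Ψ → (∀ x, τ x = M.σ x) →
      ∃ z, ∀ g, γ (β' g) = z * g * z⁻¹ := by
    intro γ Ψ τ hγ faγ hΨ hact sγ
    obtain ⟨z, -, e⟩ := H.inner_of_linear ha M (φ := β'.trans γ) (hβ'.trans hγ)
      (show γ (β' a) = a by rw [faβ, faγ]) (Ψ := fun u => Ψ (Ψβ u))
      ⟨fun u v => by rw [hΨβ.add, hΨ.add],
        fun m v => by rw [hΨβ.smul, hΨ.smul, sγ, sβ, M.c.form.invol, id],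
        fun v w => by rw [hΨ.form, hΨβ.form, sγ, sβ, M.c.form.invol, id]⟩ (hact.comp hactβ)
    exact ⟨z, e⟩
  obtain ⟨z, hz⟩ := hlin hα' faα hΨα hactα sα
  obtain ⟨w, hw⟩ := hlin hβ' faβ hΨβ hactβ sβ
  refine ⟨p⁻¹ * z * w⁻¹ * q, fun g => ?_⟩
  have e1 : β'.symm g = w⁻¹ * β' g * w := by
    have := hw (β'.symm g)
    rw [β'.apply_symm_apply] at this
    rw [this]; group
  have e2 : α' g = z * β'.symm g * z⁻¹ := by
    rw [← hz (β'.symm g), β'.apply_symm_apply]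
  rw [eα, e2, e1, eβ]
  group

end Cfsg.Agent.Transpos
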