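import Cfsg.Agent.Lib.Transpos.M22OuterSpace
import Cfsg.Agent.Lib.Transpos.M22Auto
import Cfsg.Agent.Lib.Transpos.M22Class

/-!
# Classes of outer involutory automorphisms of a group of type M(22)

An outer involutory automorphism fixing `a` induces a semilinear involution at `a`; whether the form
on its fixed vectors is alternating is read off the number of fixed members commuting with `a`
(63 or fewer).  `M22.outer_conj`: the number determines it up to conjugacy and a factor `a`.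
-/

set_option autoImplicit false

namespace Cfsg.Agent.Transpos

open Cfsg Cfsg.Agent.ClassicalSimple

variable {G : Type*} [Group G] [Finite G] {D : Set G} {a : G}

/-- The members commuting with `a` and fixed by `φ`. -/
def fixedDc (D : Set G) (a : G) (φ : G → G) : Set G := {x | x ∈ Dc D a ∧ φ x = x}

/-- The members fixed by `φ`. -/
def fixedMem (D : Set G) (φ : G → G) : Set G := {x | x ∈ D ∧ φ x = x}

/-- `φ` is an outer involution fixing `a`. -/
structure OuterAt (D : Set G) (a : G) (φ : MulAut G) : Prop where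
  pres : Preserves D φ
  fix : φ a = a
  inv : ∀ x, φ (φ x) = x
  outer : φ ∉ (MulAut.conj : G →* MulAut G).range

namespace M22

variable (H : M22 D)
include H

/-- Every automorphism permutes the members. -/
theorem preserves_aut [Nonempty D] (φ : G ≃* G) : Preserves D φ := by
  obtain ⟨⟨d, hd⟩⟩ := ‹Nonempty D›
  have hcl : IsThreeTranspositionClass (⇑φ '' D) := by
    refine ⟨⟨?_, ?_⟩, ⟨φ d, Set.mem_image_of_mem _ hd, ?_⟩, ?_⟩
    · rintro _ ⟨x, hx, rfl⟩
      rw [← H.grp.1.1 x hx]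
      exact φ.orderOf_eq x
    · rintro _ ⟨x, hx, rfl⟩ _ ⟨y, hy, rfl⟩
      rw [← map_mul, ← map_pow, ← map_pow]
      exact (H.grp.1.2 x hx y hy).imp (fun h => by rw [h, map_one]) (fun h => by rw [h, map_one])
    · refine Set.ext fun z => ⟨?_, fun hz => ?_⟩
      · rintro ⟨x, hx, rfl⟩
        obtain ⟨g, rfl⟩ := H.trans d hd x hx
        exact isConj_iff.2 ⟨φ g, by rw [map_mul, map_mul, map_inv]⟩
      · obtain ⟨g, rfl⟩ := isConj_iff.1 (hz : IsConj (φ d) z)
        refine ⟨φ.symm g * d * (φ.symm g)⁻¹, H.grp.2.1 _ _ hd, ?_⟩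
        rw [map_mul, map_mul, map_inv, φ.apply_symm_apply]
    · rw [show ⇑φ = ⇑φ.toMonoidHom from rfl, ← MonoidHom.map_closure, H.grp.2.2,
        ← MonoidHom.range_eq_map, MonoidHom.range_eq_top.2 φ.surjective]
  have he := H.unique_class H.full' hcl
  exact fun x => ⟨fun h => by
    obtain ⟨y, hy, e⟩ := he.symm.subset h
    exact φ.injective e ▸ hy, fun h => he.subset ⟨x, h, rfl⟩⟩

/-- Conjugate automorphisms fix as many members. -/
theorem card_fixed_eq [Nonempty D] {φ ψ : MulAut G} (h : IsConj φ ψ) :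
    (fixedMem D φ).ncard = (fixedMem D ψ).ncard := by
  obtain ⟨χ, rfl⟩ := isConj_iff.1 h
  have hχ := H.preserves_aut χ
  rw [← Set.ncard_image_of_injective (fixedMem D φ) χ.injective]
  congr 1
  ext y
  constructor
  · rintro ⟨x, ⟨hx, hx'⟩, rfl⟩
    exact ⟨(hχ x).2 hx, by simp [MulAut.mul_apply, hx']⟩
  · rintro ⟨hy, hy'⟩
    refine ⟨χ⁻¹ y, ⟨(hχ _).1 (by rw [MulAut.apply_inv_self]; exact hy), ?_⟩, MulAut.apply_inv_self ..⟩
    have := congrArg (χ⁻¹ : MulAut G) hy'
    rwa [MulAut.mul_apply, MulAut.mul_apply, MulAut.inv_apply_self] at this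

end M22

namespace Model

variable (M : Model D a) (H : M22 D) (ha : a ∈ D)
include M H ha

/-- The isometry at `a` of an outer involution. -/
theorem exists_outer_semi {φ : MulAut G} (hφ : OuterAt D a φ) :
    ∃ Ψ : (Fin 6 → M.F) → (Fin 6 → M.F),
      U6.Semi M.h M.σ Ψ ∧ M.Acts φ Ψ ∧ ∀ u, Ψ (Ψ u) = u := by
  have := Fintype.ofFinite M.F
  obtain ⟨Ψ, τ, hΨ₀, hact⟩ := M.exists_semi H ha hφ.pres hφ.fix
  rcases U6.aut_eq M.c τ with hid | hσ
  · obtain ⟨y, -, hy⟩ := H.inner_of_linear ha M hφ.pres hφ.fix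
      (Ψ := Ψ) ⟨hΨ₀.add, fun m u => by rw [hΨ₀.smul, hid]; rfl,
        fun u v => by rw [hΨ₀.form, hid]; rfl⟩ hact
    exact absurd ⟨y, MulEquiv.ext fun g => (hy g).symm⟩ hφ.outer
  have hΨ : U6.Semi M.h M.σ Ψ := ⟨hΨ₀.add, fun m u => by rw [hΨ₀.smul, hσ],
    fun u v => by rw [hΨ₀.form, hσ]⟩
  refine ⟨Ψ, hΨ, hact, ?_⟩
  let K : (Fin 6 → M.F) →ₗ[M.F] (Fin 6 → M.F) :=
    { toFun := fun u => Ψ (Ψ u)
      map_add' := fun u v => by rw [hΨ.add, hΨ.add]
      map_smul' := fun m u => by rw [hΨ.smul, hΨ.smul, M.c.form.invol]; rfl }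
  obtain ⟨-, g, hg, -⟩ := exists_uh (M := M) K fun u v => by
    show M.h (Ψ (Ψ u)) (Ψ (Ψ v)) = _
    rw [hΨ.form, hΨ.form, M.c.form.invol]
  obtain ⟨l, hl0, hl⟩ := unitary_scalar_of_sameLine M.c.form (by rw [M.c.dim]; norm_num) g
    fun v hv0 hv => by
      obtain ⟨x, hx⟩ := M.exists_mem H ha hv hv0
      obtain ⟨l, hl⟩ := M.smul_of_eq hx ((hact.comp hact) x v hx) (hφ.inv x).symm
      exact ⟨l, by rw [hg]; exact hl.symm⟩
  have e : ∀ u, Ψ (Ψ u) = l • u := fun u => by
    have := hl u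
    rwa [hg] at this
  intro u
  suffices hl1 : l = 1 by rw [e, hl1, one_smul]
  by_cases hl00 : l = 0
  · rw [hl00, mul_zero] at hl0; exact absurd hl0 zero_ne_one
  refine M.c.eq_one ?_ hl00
  obtain ⟨v, hv⟩ : ∃ v : Fin 6 → M.F, v ≠ 0 := ⟨Pi.single 0 1, fun h => by
    simpa using congrFun h 0⟩
  have k1 : Ψ (Ψ (Ψ v)) = l • Ψ v := e (Ψ v)
  rw [e v, hΨ.smul] at k1
  refine smul_left_injective _ (fun h0 => hv ?_) k1
  have k2 := e v
  rw [h0, hΨ.map_zero] at k2
  exact (smul_eq_zero.1 k2.symm).resolve_left hl00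

/-- There are 63 fixed members commuting with `a` exactly if the form is alternating. -/
theorem alt_iff_card {f : G → G} {Ψ : (Fin 6 → M.F) → (Fin 6 → M.F)} (hΨ : U6.Semi M.h M.σ Ψ)
    (hact : M.Acts f Ψ) (h2 : ∀ u, Ψ (Ψ u) = u) :
    (∀ v, Ψ v = v → M.h v v = 0) ↔ (fixedDc D a f).ncard = 63 := by
  classical
  have := Fintype.ofFinite M.F
  have := Module.finite_of_finite M.F (M := Fin 6 → M.F)
  have hc := U6.fixed_card M.c hΨ h2
  set A := {v : Fin 6 → M.F | Ψ v = v} with hA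
  set W := {v : Fin 6 → M.F | Ψ v = v ∧ M.h v v = 0}
  have hWA : W ⊆ A := fun v hv => hv.1
  have hA64 : A.ncard = 64 := by
    rw [← Nat.card_coe_set_eq]; exact hc
  have h0 : (0 : Fin 6 → M.F) ∈ W := ⟨hΨ.map_zero, by simp⟩
  have rep := fun x (hx : x ∈ Dc D a ∧ f x = x) => M.exists_fixed_vec H ha hΨ hact hx.1 hx.2
  have hbij : (fixedDc D a f).ncard = (W \ {0}).ncard := by
    refine Set.ncard_congr (fun x hx => (rep x hx).choose) (fun x hx => ?_)
      (fun x y hx hy e => ?_) fun v hv => ?_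
    · obtain ⟨k1, k2⟩ := (rep x hx).choose_spec
      exact ⟨⟨k2, k1.iso⟩, k1.ne_zero⟩
    · exact Model.eq_of_smul M H ha (rep x hx).choose_spec.1 (e.symm ▸ (rep y hy).choose_spec.1)
        (m := 1) (one_smul _ _).symm
    · obtain ⟨x, hx⟩ := M.exists_mem H ha hv.1.2 hv.2
      have hc : f x = x := (M.fix_iff H ha hact hx).2 ⟨1, one_ne_zero, by rw [one_smul, hv.1.1]⟩
      exact ⟨x, ⟨hx.mem, hc⟩, M.fixed_vec_unique hΨ (rep x ⟨hx.mem, hc⟩).choose_spec.1 hx
        (rep x ⟨hx.mem, hc⟩).choose_spec.2 hv.1.1⟩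
  have h63 := Set.ncard_sdiff_singleton_add_one h0 (Set.toFinite W)
  rw [← hbij] at h63
  constructor
  · intro hall
    have : W = A := Set.Subset.antisymm hWA fun v hv => ⟨hv, hall v hv⟩
    rw [this, hA64] at h63
    omega
  · intro hn v hv
    have : W = A := Set.eq_of_subset_of_ncard_le hWA (by omega) (Set.toFinite _)
    exact (this.symm.subset hv).2

end Model

namespace M22

variable (H : M22 D)
include H

/-- The number of fixed members commuting with `a` determines an outer involution fixing `a` up to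
conjugacy and a factor `a`. -/
theorem outer_conj (ha : a ∈ D) {φ φ' : MulAut G} (hφ : OuterAt D a φ) (hφ' : OuterAt D a φ')
    (ht : (fixedDc D a φ).ncard = 63 ↔ (fixedDc D a φ').ncard = 63) :
    IsConj φ φ' ∨ IsConj φ (φ' * MulAut.conj a) := by
  classical
  obtain ⟨M⟩ := (H.model a ha).2
  have := Fintype.ofFinite M.F
  have := Module.finite_of_finite M.F (M := Fin 6 → M.F)
  obtain ⟨Ψ, hΨ, hact, h2⟩ := M.exists_outer_semi H ha hφ
  obtain ⟨Ψ', hΨ', hact', h2'⟩ := M.exists_outer_semi H ha hφ'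
  obtain ⟨T, hT, hTΨ⟩ := U6.semi_intertwine M.c hΨ h2 hΨ' h2'
    ((M.alt_iff_card H ha hΨ hact h2).trans (ht.trans (M.alt_iff_card H ha hΨ' hact' h2').symm))
  -- the determinant of `T`
  let L : (Fin 6 → M.F) →ₗ[M.F] (Fin 6 → M.F) :=
    { toFun := fun u => Ψ' (Ψ u)
      map_add' := fun u v => by rw [hΨ.add, hΨ'.add]
      map_smul' := fun m u => by rw [hΨ.smul, hΨ'.smul, M.c.form.invol]; rfl }
  have hL : ∀ u v, M.h (L u) (L v) = M.h u v := fun u v => by
    show M.h (Ψ' (Ψ u)) (Ψ' (Ψ v)) = _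
    rw [hΨ'.form, hΨ.form, M.c.form.invol]
  have hLi : LinearMap.det L = 1 := by
    have hp : Preserves D (φ' * φ) := fun x => (hφ'.pres (φ x)).trans (hφ.pres x)
    obtain ⟨y, hy, hinner⟩ := H.inner_of_linear ha M hp
      (show φ' (φ a) = a by rw [hφ.fix, hφ'.fix]) (Ψ := L)
      ⟨map_add L, fun m u => map_smul L m u, fun u v => hL u v⟩ (hact'.comp hact)
    obtain ⟨g, hg⟩ := QuotientGroup.mk_surjective (M.ψ ⟨y, hy⟩)
    have hyact := M.acts_lift H ha ⟨y, hy⟩ hg.symm
    obtain ⟨-, k, hk, -⟩ := Model.exists_uh (M := M) L hL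
    obtain ⟨l, hl0, hl⟩ := unitary_scalar_of_sameLine M.c.form (by rw [M.c.dim]; norm_num)
      ((g : UH M.h)⁻¹ * k) fun v hv0 hv => by
        obtain ⟨x, hx⟩ := M.exists_mem H ha hv hv0
        obtain ⟨l, hl⟩ := M.smul_of_eq (hyact x v hx) ((hact'.comp hact) x v hx) (hinner x).symm
        refine ⟨l, ?_⟩
        rw [mul_smul, hk, show L v = Ψ' (Ψ v) from rfl]
        rw [show Ψ' (Ψ v) = l • ((g : UH M.h) • v) from hl]
        show l • v = (g : UH M.h)⁻¹ • (l • ((g : UH M.h) • v))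
        rw [← smul_comm l ((g : UH M.h)⁻¹), inv_smul_smul]
    have hl00 : l ≠ 0 := fun h => zero_ne_one (by rw [h, mul_zero] at hl0; exact hl0)
    let gl : (Fin 6 → M.F) →ₗ[M.F] (Fin 6 → M.F) := ((g : UH M.h).1 : _ →ₗ[M.F] _)
    have e : L = gl ∘ₗ (l • LinearMap.id) := LinearMap.ext fun u => by
      show L u = (g : UH M.h) • (l • u)
      rw [← hl u, mul_smul, smul_inv_smul, hk]
    have hg1 : LinearMap.det gl = 1 := mem_SUH.1 g.2
    rw [e, LinearMap.det_comp, hg1, one_mul, LinearMap.det_smul, LinearMap.det_id, mul_one,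
      M.c.dim, show l ^ 6 = (l * l * l) * (l * l * l) by ring, M.c.cube l hl00, one_mul]
  have hdT : LinearMap.det T = 1 := by
    let g : (Fin 6 → M.F) →ₗ[M.F] (Fin 6 → M.F) :=
      { toFun := fun u => Ψ (T (Ψ u))
        map_add' := fun u v => by rw [hΨ.add, map_add, hΨ.add]
        map_smul' := fun m u => by rw [hΨ.smul, map_smul, hΨ.smul, M.c.form.invol]; rfl }
    have hg := U6.det_semi_conj M.c.form.invol hΨ h2 T g fun u => rfl
    have e : L ∘ₗ g = T := LinearMap.ext fun u => by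
      show Ψ' (Ψ (Ψ (T (Ψ u)))) = T u
      rw [h2, hTΨ, h2]
    have e' := congrArg LinearMap.det e
    rw [LinearMap.det_comp, hLi, one_mul, hg] at e'
    exact M.c.eq_one e' (Model.exists_uh (M := M) T hT).1
  obtain ⟨-, g, hg, hgS⟩ := Model.exists_uh (M := M) T hT
  obtain ⟨y, hy, hyact⟩ := M.exists_lift H ha ⟨g, hgS hdT⟩
  have hle : Subgroup.closure (Dc D a) ≤ Subgroup.centralizer ({a} : Set G) :=
    (Subgroup.closure_le _).2 fun z hz => Subgroup.mem_centralizer_singleton_iff.2 hz.2.2.eq.symm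
  have hya : Commute y a := Subgroup.mem_centralizer_singleton_iff.1 (hle hy)
  have hcy : MulAut.conj y a = a := by
    rw [MulAut.conj_apply, hya.eq, mul_inv_cancel_right]
  set c := MulAut.conj y
  set χ := (c * φ)⁻¹ * (φ' * c) with hχ
  have hχ' : ∀ z, c (φ (χ z)) = φ' (c z) := fun z => MulAut.apply_inv_self G (c * φ) (φ' (c z))
  have hpc : Preserves D c := preserves_conj H.grp y
  have hp : Preserves D χ := fun x => by
    have h1 : ∀ z, (c * φ) z ∈ D ↔ z ∈ D := fun z => (hpc _).trans (hφ.pres z)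
    rw [← h1 (χ x), MulAut.mul_apply, hχ']
    exact (hφ'.pres _).trans (hpc x)
  have hfa : χ a = a := by
    apply (c * φ).injective
    show c (φ (χ a)) = c (φ a)
    rw [hχ', hcy, hφ'.fix, hφ.fix, hcy]
  have hfix : ∀ x ∈ Dc D a, χ x = x := fun x hx => by
    apply (c * φ).injective
    show c (φ (χ x)) = c (φ x)
    rw [hχ']
    obtain ⟨u, hu⟩ := M.exists_vec H ha hx
    refine Model.eq_of_smul M H ha (hact' _ _ (hyact x u hu)) (hyact _ _ (hact x u hu)) (m := 1) ?_
    show (⟨g, hgS hdT⟩ : SUH M.h) • Ψ u = (1 : M.F) • Ψ' ((⟨g, hgS hdT⟩ : SUH M.h) • u)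
    rw [one_smul]
    show g • Ψ u = Ψ' (g • u)
    rw [hg, hg, hTΨ]
  have hca : c * MulAut.conj a = MulAut.conj a * c := by
    rw [← map_mul, ← map_mul, hya.eq]
  rcases H.eq_id_or_conj hp ha hfa hfix with h | h
  · left
    have e : φ' * c = c * φ := by
      rw [← mul_inv_cancel_left (c * φ) (φ' * c), ← hχ, show χ = 1 from MulEquiv.ext h, mul_one]
    exact isConj_iff.2 ⟨c, by rw [← e, mul_inv_cancel_right]⟩
  · right
    have e : φ' * c = c * φ * MulAut.conj a := by
      rw [← mul_inv_cancel_left (c * φ) (φ' * c), ← hχ, show χ = MulAut.conj a from MulEquiv.ext h]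
    refine isConj_iff.2 ⟨c, ?_⟩
    have ea : MulAut.conj a * MulAut.conj a = 1 := by
      rw [← map_mul, sq_one H.grp.1 ha, map_one]
    symm
    calc φ' * MulAut.conj a = φ' * c * c⁻¹ * MulAut.conj a := by rw [mul_inv_cancel_right]
      _ = c * φ * MulAut.conj a * (c⁻¹ * MulAut.conj a) := by rw [e, mul_assoc]
      _ = c * φ * (MulAut.conj a * MulAut.conj a) * c⁻¹ := by
        rw [show c⁻¹ * MulAut.conj a = MulAut.conj a * c⁻¹ from
          (show Commute c (MulAut.conj a) from hca).inv_left]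
        simp only [mul_assoc]
      _ = c * φ * c⁻¹ := by rw [ea, mul_one]

/-- Every outer involutory automorphism is conjugate to one of four. -/
theorem outer_cases [Nonempty D] (ha : a ∈ D) {r₁ r₂ : MulAut G} (h₁ : OuterAt D a r₁)
    (h₂ : OuterAt D a r₂) (k₁ : (fixedDc D a r₁).ncard = 63) (k₂ : (fixedDc D a r₂).ncard ≠ 63)
    (t : MulAut G) (ht : orderOf t = 2) (hout : t ∉ (MulAut.conj : G →* MulAut G).range) :
    IsConj t r₁ ∨ IsConj t (r₁ * MulAut.conj a) ∨ IsConj t r₂ ∨ IsConj t (r₂ * MulAut.conj a) := by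
  have hinv : ∀ x, t (t x) = x := fun x => by
    have := pow_orderOf_eq_one t
    rw [ht, pow_two] at this
    exact congrArg (fun ψ : MulAut G => ψ x) this
  obtain ⟨d, hd, htd⟩ := H.exists_fixed_of_involutory (H.preserves_aut t) hinv
  obtain ⟨g, rfl⟩ := H.trans a ha d hd
  set c := MulAut.conj g
  have hc : c a = g * a * g⁻¹ := rfl
  have hconj : IsConj t (c⁻¹ * t * c) := isConj_iff.2 ⟨c⁻¹, by rw [inv_inv]⟩
  set t' := c⁻¹ * t * c with ht'
  have h' : OuterAt D a t' := by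
    refine ⟨H.preserves_aut t', ?_, fun x => ?_, ?_⟩
    · rw [ht', MulAut.mul_apply, MulAut.mul_apply, hc, htd, ← hc, MulAut.inv_apply_self]
    · simp only [ht', MulAut.mul_apply, MulAut.apply_inv_self, hinv, MulAut.inv_apply_self]
    · rintro ⟨z, hz⟩
      refine hout ⟨g * z * g⁻¹, ?_⟩
      rw [map_mul, map_mul, map_inv, hz, ht', show MulAut.conj g = c from rfl]
      group
  by_cases h63 : (fixedDc D a t').ncard = 63
  · rcases H.outer_conj ha h' h₁ (iff_of_true h63 k₁) with h | h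
    · exact Or.inl (hconj.trans h)
    · exact Or.inr (Or.inl (hconj.trans h))
  · rcases H.outer_conj ha h' h₂ (iff_of_false h63 k₂) with h | h
    · exact Or.inr (Or.inr (Or.inl (hconj.trans h)))
    · exact Or.inr (Or.inr (Or.inr (hconj.trans h)))

end M22

end Cfsg.Agent.Transpos
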