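import Cfsg.Agent.Lib.Transpos.M22Relators
import Cfsg.Agent.Lib.Transpos.M22Count
import Cfsg.Agent.Lib.Presented.Fi22Pts
import Cfsg.Agent.Lib.Presented.FiOrder

/-!
# An outer automorphism of a group of type M(22)

A pattern of nine members and the same pattern read from the other long arm give two isomorphisms
with the presented Fi22 (`M22.exists_equiv_of_pattern`); their quotient induces on the 3510
transpositions an odd permutation, the generators even ones, so it is not inner (`M22.exists_outer`).
-/

set_option autoImplicit false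
set_option linter.style.haveILetI false
set_option maxRecDepth 20000

namespace Cfsg.Agent.Transpos

open Cfsg Cfsg.Spor Presented Presented.FiIndex Presented.Fi22Pts

namespace FiSwap

/-- The involution of the diagram. -/
def pi (k : ℕ) : ℕ := if k < 7 then 6 - k else k

theorem pi_lt {k : ℕ} (h : k < 9) : pi k < 9 := by unfold pi; split <;> omega

/-- The coset of the transposition onto which the automorphism carries that of coset `i`. -/
noncomputable def img (i : ℕ) : ℕ := D.path ((wrev i).reverse.map pi) 154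

/-- Checks on every coset. -/
noncomputable def ok (i : ℕ) : Bool :=
  Nat.beq (img (img i)) i && Nat.blt (img i) 3510 &&
    (List.range 9).all fun g => Nat.beq (D.actOf (D.actOf i g) g) i && Nat.blt (D.actOf i g) 3510

theorem ok_all : checkFast ok 12 3510 = true := by decide +kernel

theorem spec {i : ℕ} (hi : i < 3510) :
    img (img i) = i ∧ img i < 3510 ∧
      ∀ g < 9, D.actOf (D.actOf i g) g = i ∧ D.actOf i g < 3510 := by
  have h := checkBelow_spec ((checkBelow_fast ok 12 3510).trans ok_all) i hi
  simp only [ok, Bool.and_eq_true, Nat.beq_eq, Nat.blt_eq, List.all_eq_true, List.mem_range] at h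
  exact ⟨h.1.1, h.1.2, h.2⟩

theorem count_img : countRec (fun i => Nat.beq (img i) i) 3510 12 0 = 360 := by decide +kernel

theorem count_gen : ((List.range 9).all fun g =>
    Nat.beq (countRec (fun i => Nat.beq (D.actOf i g) i) 3510 12 0) 694) = true := by decide +kernel

theorem countRec_fixed (f : ℕ → ℕ) (σ : Equiv.Perm (Fin 3510)) (h : ∀ i : Fin 3510, (σ i : ℕ) = f i) :
    Fintype.card (Function.fixedPoints σ) = countRec (fun i => Nat.beq (f i) i) 3510 12 0 := by
  classical
  rw [countRec_eq, countBlock_spec, ← Set.toFinset_card]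
  refine Finset.card_nbij (fun i : Fin 3510 => (i : ℕ)) (fun i hi => ?_) (fun i _ j _ e => Fin.ext e)
    fun n hn => ?_
  · simp only [Set.coe_toFinset, Function.mem_fixedPoints_iff] at hi
    simp only [Finset.coe_filter, Set.mem_ofPred_eq, Finset.mem_Ico, Nat.beq_eq]
    exact ⟨⟨Nat.zero_le _, by omega⟩, i.2, by rw [← h, hi]⟩
  · simp only [Finset.coe_filter, Set.mem_ofPred_eq, Finset.mem_Ico, Nat.beq_eq] at hn
    refine ⟨⟨n, hn.2.1⟩, ?_, rfl⟩
    simp only [Set.coe_toFinset, Function.mem_fixedPoints_iff]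
    exact Fin.ext ((h _).trans hn.2.2)

/-- An involutory map below 3510 as a permutation. -/
theorem perm_of_invol (f : ℕ → ℕ) (h : ∀ i, i < 3510 → f (f i) = i ∧ f i < 3510) :
    ∃ σ : Equiv.Perm (Fin 3510), σ ^ 2 = 1 ∧ ∀ i : Fin 3510, (σ i : ℕ) = f i := by
  let g : Fin 3510 → Fin 3510 := fun i => ⟨f i, (h i i.2).2⟩
  have hg : Function.Involutive g := fun i => Fin.ext (h i i.2).1
  exact ⟨hg.toPerm g, Equiv.ext fun i => by rw [pow_two, Equiv.Perm.mul_apply]; exact hg i, fun i => rfl⟩

theorem center_fi22 : Subgroup.center Fi22 = ⊥ := by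
  haveI := FiOrder.simple_fi22
  refine (Subgroup.center Fi22).normal_of_characteristic.eq_bot_or_eq_top.resolve_right fun h => ?_
  letI : CommGroup Fi22 := { (inferInstance : Group Fi22) with
    mul_comm := fun x y => Subgroup.mem_center_iff.1 (h ▸ Subgroup.mem_top y : y ∈ Subgroup.center Fi22) x }
  haveI := FiOrder.card_le.1
  have := IsSimpleGroup.prime_card (α := Fi22)
  rw [FiOrder.card_fi22] at this
  norm_num at this

theorem wval_single (k : ℕ) : wval gen [k] = gen k := by simp [wval]

theorem gen_conj {k : ℕ} (hk : k < 9) {j : ℕ} (hj : j < 3510) :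
    gen k * tau j * (gen k)⁻¹ = tau (D.actOf j k) := by
  have h := conj_wval (w := [k]) (fun g hg => by
    rw [List.mem_singleton] at hg; subst hg; exact hk) hj
  simpa [wval_single] using h

/-- Elements acting alike on all transpositions are equal. -/
theorem eq_of_conj {x y : Fi22} (h : ∀ j, j < 3510 → x * tau j * x⁻¹ = y * tau j * y⁻¹) : x = y := by
  haveI := FiOrder.simple_fi22
  have hcl : Subgroup.closure (conjugatesOf (gen 0)) = ⊤ := by
    have hn : (Subgroup.normalClosure {gen 0}).Normal := Subgroup.normalClosure_normal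
    rcases hn.eq_bot_or_eq_top with h1 | h1
    · exact absurd (Subgroup.mem_bot.1 (h1 ▸ Subgroup.subset_normalClosure rfl : gen 0 ∈ (⊥ : Subgroup Fi22)))
        FiU6Iso.gen0_ne_one
    · rwa [Subgroup.normalClosure, Group.conjugatesOfSet, Set.biUnion_singleton] at h1
  refine inv_mul_eq_one.1 (Subgroup.mem_bot.1 (center_fi22 ▸ Subgroup.mem_center_iff.2 fun g => ?_)) |>.symm
  have hle : Subgroup.closure (conjugatesOf (gen 0)) ≤ Subgroup.centralizer {y⁻¹ * x} := by
    rw [Subgroup.closure_le]
    intro t ht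
    obtain ⟨j, hj, rfl⟩ := exists_tau ht
    refine Subgroup.mem_centralizer_singleton_iff.2 ?_
    have e := h j hj
    calc tau j * (y⁻¹ * x) = y⁻¹ * (y * tau j * y⁻¹) * x := by group
      _ = y⁻¹ * (x * tau j * x⁻¹) * x := by rw [e]
      _ = y⁻¹ * x * tau j := by group
  exact (Subgroup.mem_centralizer_singleton_iff.1 (hle (hcl ▸ Subgroup.mem_top g)))

theorem act_154 : checkFast (fun j => Nat.beq (tpt 154 j) (D.actOf j 6)) 12 3510 = true := by
  decide +kernel

theorem tau_154 : tau 154 = gen 6 := eq_of_conj fun j hj => by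
  rw [tau_inv, tau_conj (by norm_num) hj, gen_conj (by norm_num) hj]
  have h := checkBelow_spec ((checkBelow_fast _ 12 3510).trans act_154) j hj
  rw [Nat.beq_eq] at h
  rw [h]

/-- No inner automorphism induces the symmetry of the diagram. -/
theorem not_inner (c : Fi22) : ¬ ∀ k < 9, c * gen k * c⁻¹ = gen (pi k) := by
  classical
  intro hc
  have key : ∀ x : Fi22, ∃ σ : Equiv.Perm (Fin 3510), Equiv.Perm.sign σ = 1 ∧
      ∀ i : Fin 3510, x * tau i * x⁻¹ = tau (σ i) := by
    intro x
    have hx : x ∈ Subgroup.closure (gen '' {g | g < 9}) := FiOrder.closure_gens ▸ Subgroup.mem_top x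
    induction hx using Subgroup.closure_induction with
    | mem y hy =>
      obtain ⟨g, hg, rfl⟩ := hy
      obtain ⟨σ, hσ, hval⟩ := perm_of_invol (fun i => D.actOf i g) fun i hi => (spec hi).2.2 g hg
      refine ⟨σ, ?_, fun i => (gen_conj hg i.2).trans (congrArg tau (hval i).symm)⟩
      have h := List.all_eq_true.1 count_gen g (List.mem_range.2 hg)
      rw [Nat.beq_eq] at h
      rw [Equiv.Perm.sign_of_pow_two_eq_one hσ, countRec_fixed (fun i => D.actOf i g) σ hval, h,
        Fintype.card_fin, show (3510 - 694) / 2 = 2 * 704 by norm_num, pow_mul, neg_one_sq, one_pow]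
    | one => exact ⟨1, map_one _, fun i => by simp⟩
    | mul y z _ _ h1 h2 =>
      obtain ⟨σ, hσ, hs⟩ := h1
      obtain ⟨ρ, hρ, hr⟩ := h2
      refine ⟨σ * ρ, by rw [map_mul, hσ, hρ, one_mul], fun i => ?_⟩
      rw [show y * z * tau i * (y * z)⁻¹ = y * (z * tau i * z⁻¹) * y⁻¹ by group, hr, hs]
      rfl
    | inv y _ h1 =>
      obtain ⟨σ, hσ, hs⟩ := h1
      refine ⟨σ⁻¹, by rw [map_inv, hσ, inv_one], fun i => ?_⟩
      have h := hs (σ⁻¹ i)
      rw [Equiv.Perm.coe_inv, Equiv.apply_symm_apply] at h
      rw [← h]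
      group
      rfl
  obtain ⟨σ, hσ, hs⟩ := key c
  have hwv : ∀ w : List ℕ, (∀ g ∈ w, g < 9) → c * wval gen w * c⁻¹ = wval gen (w.map pi) := by
    intro w
    induction w with
    | nil => intro _; simp [wval]
    | cons g w ih =>
      intro hw
      simp only [List.map_cons, wval]
      rw [← ih fun x hx => hw x (List.mem_cons_of_mem g hx), ← hc g (hw g List.mem_cons_self)]
      group
  have hσi : ∀ i : Fin 3510, (σ i : ℕ) = img i := by
    intro i
    refine tau_inj (σ i).2 (spec i.2).2.1 ?_
    have hw : ∀ g ∈ wrev i, g < 9 := (valid_spec i.2).2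
    rw [← hs i, tau_eq, show c * ((wval gen (wrev i))⁻¹ * gen 0 * wval gen (wrev i)) * c⁻¹ =
      (c * wval gen (wrev i) * c⁻¹)⁻¹ * (c * gen 0 * c⁻¹) * (c * wval gen (wrev i) * c⁻¹) by group,
      hwv _ hw, hc 0 (by norm_num), show pi 0 = 6 from rfl, ← tau_154]
    have hmem : ∀ g ∈ ((wrev (i : ℕ)).reverse.map pi), g < D.m := fun g hg => by
      obtain ⟨x, hx, rfl⟩ := List.mem_map.1 hg
      exact pi_lt (hw x (List.mem_reverse.1 hx))
    have h := conj_wval hmem (i := 154) (by norm_num)
    rw [List.map_reverse, wval_reverse, inv_inv, ← List.map_reverse] at h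
    exact h
  have h2 : σ ^ 2 = 1 := Equiv.ext fun i => Fin.ext (by
    rw [pow_two, Equiv.Perm.mul_apply, hσi, hσi, Equiv.Perm.one_apply]
    exact (spec i.2).1)
  rw [Equiv.Perm.sign_of_pow_two_eq_one h2, countRec_fixed img σ hσi, count_img, Fintype.card_fin] at hσ
  rw [show (3510 - 360) / 2 = 2 * 787 + 1 by norm_num, pow_succ, pow_mul, neg_one_sq, one_pow, one_mul] at hσ
  exact absurd hσ (by decide)

end FiSwap

namespace M22

variable {G : Type*} [Group G] [Finite G] {D : Set G}

/-- A pattern gives an isomorphism with the presented group. -/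
theorem exists_equiv_of_pattern (hD : IsThreeTranspositionGroup D) (hprim : IsPrimitiveUnderConj D)
    (h22 : IsOfTypeM22 G D) (P : Pattern D) :
    ∃ e : Fi22 ≃* G, ∀ k, k < 9 →
      e (gen k) = [P.a, P.b, P.c, P.d, P.e, P.f, P.g, P.h, P.i].getD k 1 := by
  classical
  have hspider := P.spider_pow hD hprim h22
  have he7 := P.e7_pow hD hprim h22
  have he7' := P.e7_pow' hD hprim h22
  have hcard : Nat.card G = 64561751654400 := (card_m22 hD hprim h22).trans (by norm_num)
  obtain ⟨a, b, c, d, e, f, g, h, i, ma, mb, mc, md, me, mf, mg, mh, mi, nab, nbc, ncd, nde, ndh, nef,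
    nfg, nhi, cac, cad, cae, caf, cag, cah, cai, cbd, cbe, cbf, cbg, cbh, cbi, cce, ccf, ccg, cch, cci,
    cdf, cdg, cdi, ceg, ceh, cei, cfh, cfi, cgh, cgi⟩ := P
  dsimp only at hspider he7 he7'
  let F : Fi22.Gen → G := fun x => match x with
    | .a => a | .b => b | .c => c | .d => d | .e => e | .f => f | .g => g | .h => h | .i => i
  have hmem : ∀ x, F x ∈ D := fun x => by cases x <;> assumption
  have hpair : ∀ x y, x = y ∨ (coxLabel Fi22.edges x y = 2 ∧ Commute (F x) (F y)) ∨
      (coxLabel Fi22.edges x y = 3 ∧ ¬ Commute (F x) (F y)) := by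
    intro x y
    cases x <;> cases y <;>
      first
        | exact Or.inl rfl
        | exact Or.inr (Or.inl ⟨by decide, by first | assumption | (apply Commute.symm; assumption)⟩)
        | exact Or.inr (Or.inr ⟨by decide, by first | assumption | (intro h'; have := h'.symm; contradiction)⟩)
  have hrels : ∀ r ∈ coxRelators Fi22.edges ∪ {r | r ∈ Fi22.extra}, FreeGroup.lift F r = 1 := by
    rintro r (⟨x, -, y, -, rfl⟩ | hr)
    · rw [map_pow, map_mul, FreeGroup.lift_apply_of, FreeGroup.lift_apply_of]
      rcases hpair x y with rfl | ⟨e', hcm⟩ | ⟨e', hnc⟩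
      · rw [show coxLabel Fi22.edges x x = 1 by simp [coxLabel], pow_one]
        exact sq_one hD.1 (hmem x)
      · rw [e', hcm.mul_pow, pow_two, pow_two, sq_one hD.1 (hmem x), sq_one hD.1 (hmem y), one_mul]
      · rw [e']
        exact (hD.1.2 _ (hmem x) _ (hmem y)).resolve_left fun h2 => hnc (by
          rw [pow_two, mul_eq_one_iff_inv_eq, mul_inv_rev, inv_eq hD.1 (hmem x),
            inv_eq hD.1 (hmem y)] at h2
          exact h2.symm)
    · simp only [Fi22.extra, Set.mem_ofPred_eq, List.mem_cons, List.not_mem_nil, or_false] at hr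
      rcases hr with rfl | rfl | rfl
      · simpa using hspider
      · simpa using he7
      · simpa using he7'
  let ψ : Fi22 →* G := PresentedGroup.toGroup hrels
  haveI := FiOrder.simple_fi22
  haveI := FiOrder.card_le.1
  have hgen : ∀ k, k < 9 → ψ (gen k) = [a, b, c, d, e, f, g, h, i].getD k 1 := fun k hk => by
    have hl : k < gens.length := hk
    rw [gen, genFun, dif_pos hl]
    show PresentedGroup.toGroup hrels (PresentedGroup.of _) = _
    rw [PresentedGroup.toGroup.of]
    interval_cases k <;> rfl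
  have hinj : Function.Injective ψ := by
    rw [← MonoidHom.ker_eq_bot_iff]
    refine (MonoidHom.normal_ker ψ).eq_bot_or_eq_top.resolve_right fun h0 => ?_
    have : ψ (gen 0) = 1 := MonoidHom.mem_ker.1 (h0 ▸ Subgroup.mem_top _)
    rw [hgen 0 (by norm_num)] at this
    exact ne_one hD.1 ma (by simpa using this)
  have hbij : Function.Bijective ψ := (Nat.bijective_iff_injective_and_card ψ).2
    ⟨hinj, FiOrder.card_fi22.trans hcard.symm⟩
  exact ⟨MulEquiv.ofBijective ψ hbij, hgen⟩

/-- A group of type M(22) has an automorphism which is not inner. -/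
theorem exists_outer (hD : IsThreeTranspositionGroup D) (hprim : IsPrimitiveUnderConj D)
    (h22 : IsOfTypeM22 G D) : ∃ φ : MulAut G, φ ∉ (MulAut.conj : G →* MulAut G).range := by
  obtain ⟨P⟩ := exists_pattern hD hprim h22
  obtain ⟨e, he⟩ := exists_equiv_of_pattern hD hprim h22 P
  obtain ⟨e', he'⟩ := exists_equiv_of_pattern hD hprim h22 P.swap
  refine ⟨e.symm.trans e', fun ⟨c, hc⟩ => FiSwap.not_inner (e.symm c) fun k hk => e.injective ?_⟩
  rw [map_mul, map_mul, map_inv, e.apply_symm_apply]
  have h1 := congrArg (fun φ : MulAut G => φ (e (gen k))) hc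
  simp only [MulAut.conj_apply, MulEquiv.trans_apply, e.symm_apply_apply] at h1
  rw [h1, he' k hk, he (FiSwap.pi k) (FiSwap.pi_lt hk)]
  interval_cases k <;> rfl

end M22

end Cfsg.Agent.Transpos
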