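import Cfsg.Agent.Lib.Transpos.UnitarySemi
import Cfsg.Agent.Lib.Forms.SympTwo

/-!
# Semilinear involutions of the six dimensional unitary space over four elements

The fixed vectors of a semilinear involutory isometry carry a non-degenerate symmetric form over two
elements; if two of these forms are both alternating or both not, a linear isometry intertwines the
involutions (`U6.semi_intertwine`).
-/

set_option autoImplicit false

namespace Cfsg.Agent.Transpos.U6

open Cfsg Cfsg.Agent.ClassicalSimple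

variable {F V : Type*} [Field F] [AddCommGroup V] [Module F V]
  {σ : F →+* F} {h : V →ₛₗ[σ] V →ₗ[F] F} (c : Ctx σ h)
include c

omit c in
/-- The fixed vectors. -/
def fixedSub {Ψ : V → V} (hΨ : Semi h σ Ψ) : AddSubgroup V where
  carrier := {v | Ψ v = v}
  add_mem' := fun {x y} hx hy => show Ψ (x + y) = x + y by rw [hΨ.add, hx, hy]
  zero_mem' := hΨ.map_zero
  neg_mem' := fun {x} hx => by
    show Ψ (-x) = -x
    rw [← neg_one_smul F x, hΨ.smul, hx, map_neg, map_one]

/-- The scalar product of fixed vectors is 0 or 1. -/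
theorem fixed_prod {Ψ : V → V} (hΨ : Semi h σ Ψ) {u v : V} (hu : Ψ u = u) (hv : Ψ v = v) :
    h u v = 0 ∨ h u v = 1 := by
  by_cases h0 : h u v = 0
  · exact Or.inl h0
  · refine Or.inr (c.eq_one ?_ h0)
    rw [← hΨ.form, hu, hv]

/-- Every vector is `x + o • y` with fixed `x`, `y`. -/
theorem decomp {o : F} (ho : o * o + o + 1 = 0) (hso : σ o = o * o) {Ψ : V → V} (hΨ : Semi h σ Ψ)
    (h2 : ∀ x, Ψ (Ψ x) = x) (v : V) :
    Ψ (v + Ψ v) = v + Ψ v ∧ Ψ (v + o • (v + Ψ v)) = v + o • (v + Ψ v) := by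
  have hfix : Ψ (v + Ψ v) = v + Ψ v := by rw [hΨ.add, h2, add_comm]
  refine ⟨hfix, ?_⟩
  rw [hΨ.sum, hfix, hso, show o * o = o + 1 by linear_combination ho - (o + 1) * c.two, add_smul,
    one_smul, show Ψ v + (o • (v + Ψ v) + (v + Ψ v)) = v + o • (v + Ψ v) + (Ψ v + Ψ v) by abel,
    c.addV, add_zero]

/-- Fixed vectors with the same type of form: the involutions are intertwined by a linear isometry. -/
theorem semi_intertwine [Finite F] [FiniteDimensional F V] {Ψ Ψ' : V → V} (hΨ : Semi h σ Ψ)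
    (h2 : ∀ x, Ψ (Ψ x) = x) (hΨ' : Semi h σ Ψ') (h2' : ∀ x, Ψ' (Ψ' x) = x)
    (ht : (∀ v, Ψ v = v → h v v = 0) ↔ ∀ v, Ψ' v = v → h v v = 0) :
    ∃ T : V →ₗ[F] V, (∀ u v, h (T u) (T v) = h u v) ∧ ∀ v, Ψ' (T v) = T (Ψ v) := by
  classical
  haveI : Fact (Nat.Prime 2) := ⟨Nat.prime_two⟩
  have := Module.finite_of_finite F (M := V)
  obtain ⟨o, ho0, ho, hso, hso2⟩ := c.exists_omega
  -- the form on the fixed vectors
  let q : F → ZMod 2 := fun x => if x = 0 then 0 else 1
  have hq : ∀ x : F, q x = 0 ↔ x = 0 := fun x => by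
    by_cases h0 : x = 0 <;> simp [q, h0]
  have key : ∀ {Φ : V → V} (hΦ : Semi h σ Φ) (hΦ2 : ∀ x, Φ (Φ x) = x),
      letI : Module (ZMod 2) ↥(fixedSub hΦ) := AddCommGroup.zmodModule fun x => Subtype.ext (by
        rw [two_nsmul]; exact c.addV _)
      ∃ β : LinearMap.BilinForm (ZMod 2) ↥(fixedSub hΦ), (∀ x y, β x y = q (h x.1 y.1)) ∧
        (∀ x y, β x y = β y x) ∧ (∀ x, (∀ y, β x y = 0) → x = 0) ∧
        Module.finrank (ZMod 2) ↥(fixedSub hΦ) = 6 := by
    intro Φ hΦ hΦ2
    letI : Module (ZMod 2) ↥(fixedSub hΦ) := AddCommGroup.zmodModule fun x => Subtype.ext (by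
      rw [two_nsmul]; exact c.addV _)
    have qadd : ∀ u v w z : V, Φ u = u → Φ v = v → Φ w = w → Φ z = z →
        q (h u v + h w z) = q (h u v) + q (h w z) := by
      intro u v w z hu hv hw hz
      rcases fixed_prod c hΦ hu hv with e | e <;> rcases fixed_prod c hΦ hw hz with e' | e' <;>
        simp [q, e, e', c.addF] <;> rfl
    let row : ↥(fixedSub hΦ) → (↥(fixedSub hΦ) →ₗ[ZMod 2] ZMod 2) := fun x =>
      (AddMonoidHom.mk' (fun y : ↥(fixedSub hΦ) => q (h x.1 y.1)) fun y z => by
        rw [AddSubgroup.coe_add, map_add]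
        exact qadd _ _ _ _ x.2 y.2 x.2 z.2).toZModLinearMap 2
    let β : LinearMap.BilinForm (ZMod 2) ↥(fixedSub hΦ) :=
      (AddMonoidHom.mk' row fun x y => LinearMap.ext fun z => by
        show q (h (x + y).1 z.1) = q (h x.1 z.1) + q (h y.1 z.1)
        rw [AddSubgroup.coe_add, map_add, LinearMap.add_apply]
        exact qadd _ _ _ _ x.2 z.2 y.2 z.2).toZModLinearMap 2
    have hβ : ∀ x y, β x y = q (h x.1 y.1) := fun x y => rfl
    refine ⟨β, hβ, fun x y => ?_, fun x hx => ?_, ?_⟩
    · rw [hβ, hβ, c.form.swap x.1 y.1]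
      rcases fixed_prod c hΦ x.2 y.2 with e | e <;> simp [e]
    · refine Subtype.ext (c.form.sep _ fun v => ?_)
      obtain ⟨f1, f2⟩ := decomp c ho hso hΦ hΦ2 v
      have z1 := (hq _).1 ((hβ x ⟨_, f1⟩).symm.trans (hx _))
      have z2 := (hq _).1 ((hβ x ⟨_, f2⟩).symm.trans (hx _))
      rw [map_add, map_smul, z1, smul_zero, add_zero] at z2
      exact z2
    · haveI : Finite ↥(fixedSub hΦ) := Subtype.finite
      have e := Module.natCard_eq_pow_finrank (K := ZMod 2) (V := ↥(fixedSub hΦ))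
      rw [Nat.card_zmod, show Nat.card ↥(fixedSub hΦ) = 2 ^ 6 from
        (fixed_card c hΦ hΦ2).trans (by norm_num)] at e
      exact (Nat.pow_right_injective le_rfl e).symm
  letI : Module (ZMod 2) ↥(fixedSub hΨ) := AddCommGroup.zmodModule fun x => Subtype.ext (by
    rw [two_nsmul]; exact c.addV _)
  letI : Module (ZMod 2) ↥(fixedSub hΨ') := AddCommGroup.zmodModule fun x => Subtype.ext (by
    rw [two_nsmul]; exact c.addV _)
  obtain ⟨β, hβ, hS, hB, hr⟩ := key hΨ h2
  obtain ⟨β', hβ', hS', hB', hr'⟩ := key hΨ' h2'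
  haveI : Finite ↥(fixedSub hΨ) := Subtype.finite
  haveI : Finite ↥(fixedSub hΨ') := Subtype.finite
  obtain ⟨e, he⟩ := Forms.SympTwo.exists_isometry hS hB hS' hB' (hr.trans hr'.symm)
    ⟨fun k v => by rw [hβ']; exact (hq _).2 ((ht.1 fun w hw => (hq _).1 ((hβ ⟨w, hw⟩ ⟨w, hw⟩).symm.trans
      (k _))) v.1 v.2),
    fun k v => by rw [hβ]; exact (hq _).2 ((ht.2 fun w hw => (hq _).1 ((hβ' ⟨w, hw⟩ ⟨w, hw⟩).symm.trans
      (k _))) v.1 v.2)⟩
  have hh : ∀ x y : ↥(fixedSub hΨ), h (e x).1 (e y).1 = h x.1 y.1 := fun x y => by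
    have k := he x y
    rw [hβ, hβ'] at k
    rcases fixed_prod c hΨ x.2 y.2 with a | a <;>
      rcases fixed_prod c hΨ' (e x).2 (e y).2 with b | b <;> simp [q, a, b] at k ⊢
  -- the extension
  let A : V → ↥(fixedSub hΨ) := fun v => ⟨v + o • (v + Ψ v), (decomp c ho hso hΨ h2 v).2⟩
  let B : V → ↥(fixedSub hΨ) := fun v => ⟨v + Ψ v, (decomp c ho hso hΨ h2 v).1⟩
  let T₀ : V → V := fun v => (e (A v)).1 + o • (e (B v)).1
  have e0 : ∀ v, (A v).1 + o • (B v).1 = v := fun v => by
    simp only [A, B, add_assoc, c.addV, add_zero]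
  have hoo : o * o = o + 1 := by linear_combination ho - (o + 1) * c.two
  have hAadd : ∀ u v, A (u + v) = A u + A v ∧ B (u + v) = B u + B v := fun u v => by
    constructor <;> refine Subtype.ext ?_ <;>
      simp only [A, B, AddSubgroup.coe_add, hΨ.add] <;> module
  have hT0add : ∀ u v, T₀ (u + v) = T₀ u + T₀ v := fun u v => by
    simp only [T₀, (hAadd u v).1, (hAadd u v).2, map_add, AddSubgroup.coe_add, smul_add]
    abel
  have hTo : ∀ v, A (o • v) = B v ∧ B (o • v) = A v + B v := fun v => by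
    constructor <;> refine Subtype.ext ?_ <;>
      simp only [A, B, AddSubgroup.coe_add, hΨ.smul, hso, hoo, smul_add, smul_smul, add_smul, one_smul]
    · rw [show o • v + (o • v + v + (o • Ψ v + Ψ v + o • Ψ v)) =
        v + Ψ v + ((o • v + o • v) + (o • Ψ v + o • Ψ v)) by abel, c.addV, c.addV, add_zero, add_zero]
    · abel_nf
      rw [two_zsmul, c.addV, add_zero]
  have hT0o : ∀ v, T₀ (o • v) = o • T₀ v := fun v => by
    simp only [T₀, (hTo v).1, (hTo v).2, map_add, AddSubgroup.coe_add, smul_add, smul_smul, hoo,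
      add_smul, one_smul]
    abel
  let T : V →ₗ[F] V :=
    { toFun := T₀
      map_add' := hT0add
      map_smul' := fun m v => by
        show T₀ (m • v) = m • T₀ v
        rcases univ c ho m with rfl | rfl | rfl | rfl
        · rw [zero_smul, zero_smul]
          have k := hT0add 0 0
          rw [add_zero] at k
          exact left_eq_add.1 k
        · rw [one_smul, one_smul]
        · exact hT0o v
        · rw [← smul_smul, hT0o, hT0o, smul_smul] }
  refine ⟨T, fun u v => ?_, fun v => ?_⟩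
  · conv_rhs => rw [← e0 u, ← e0 v]
    show h (T₀ u) (T₀ v) = _
    simp only [T₀, map_add, map_smulₛₗ, LinearMap.add_apply, LinearMap.smul_apply, smul_eq_mul,
      RingHom.id_apply, hh]
  · have hP : A (Ψ v) = A v + B v ∧ B (Ψ v) = B v := by
      constructor <;> refine Subtype.ext ?_
      · simp only [A, B, AddSubgroup.coe_add, h2, add_comm (Ψ v) v]
        rw [show v + o • (v + Ψ v) + (v + Ψ v) = Ψ v + o • (v + Ψ v) + (v + v) by abel, c.addV,
          add_zero]
      · simp only [B, h2, add_comm (Ψ v) v]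
    show Ψ' (T₀ v) = T₀ (Ψ v)
    simp only [T₀, hP.1, hP.2, map_add, AddSubgroup.coe_add]
    rw [hΨ'.sum, hso, hoo, add_smul, one_smul, (e (A v)).2, (e (B v)).2]
    abel

omit c in
/-- Conjugating a linear map by a semilinear involution applies the field automorphism to its
determinant. -/
theorem det_semi_conj [FiniteDimensional F V] {Ψ : V → V} (hσ : ∀ x, σ (σ x) = x)
    (hΨ : Semi h σ Ψ) (h2 : ∀ x, Ψ (Ψ x) = x) (f g : V →ₗ[F] V) (hg : ∀ u, g u = Ψ (f (Ψ u))) :
    LinearMap.det g = σ (LinearMap.det f) := by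
  let b := Module.finBasis F V
  let L := b.equivFun
  let P : V → V := fun u => L.symm fun i => σ (L u i)
  have hP2 : ∀ u, P (P u) = u := fun u => by simp [P, hσ]
  have hPs : ∀ (m : F) u, P (m • u) = σ m • P u := fun m u => by
    apply L.injective; funext i; simp [P]
  have hPa : ∀ u v, P (u + v) = P u + P v := fun u v => by
    apply L.injective; funext i; simp [P]
  let T : V →ₗ[F] V :=
    { toFun := fun u => Ψ (P u)
      map_add' := fun u v => by rw [hPa, hΨ.add]
      map_smul' := fun m u => by rw [hPs, hΨ.smul, hσ]; rfl }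
  let T' : V →ₗ[F] V :=
    { toFun := fun u => P (Ψ u)
      map_add' := fun u v => by rw [hΨ.add, hPa]
      map_smul' := fun m u => by rw [hΨ.smul, hPs, hσ]; rfl }
  let M := LinearMap.toMatrix b b f
  let R := Matrix.toLin b b (M.map σ)
  have hR : ∀ u, R u = P (f (P u)) := fun u => by
    apply L.injective
    funext i
    have e1 : L (R u) = (M.map σ).mulVec (L u) := by
      have := LinearMap.toMatrix_mulVec_repr b b R u
      rw [show LinearMap.toMatrix b b R = M.map σ from LinearMap.toMatrix_toLin b b _] at this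
      exact this.symm
    have e2 : L (f (P u)) = M.mulVec (L (P u)) :=
      (LinearMap.toMatrix_mulVec_repr b b f (P u)).symm
    rw [e1]
    simp only [P, L.apply_symm_apply]
    rw [show L (f (L.symm fun i => σ (L u i))) = L (f (P u)) from rfl, e2,
      RingHom.map_mulVec]
    simp [P, hσ, Function.comp_def]
  have hg' : g = T ∘ₗ R ∘ₗ T' := LinearMap.ext fun u => by
    show g u = Ψ (P (R (P (Ψ u))))
    rw [hR, hP2, hP2, hg]
  have hTT : T ∘ₗ T' = LinearMap.id := LinearMap.ext fun u => by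
    show Ψ (P (P (Ψ u))) = u
    rw [hP2, h2]
  have e := congrArg LinearMap.det hTT
  rw [LinearMap.det_comp, LinearMap.det_id] at e
  rw [hg', LinearMap.det_comp, LinearMap.det_comp, mul_left_comm, e, mul_one,
    LinearMap.det_toLin, ← LinearMap.det_toMatrix b f, RingHom.map_det]
  rfl

end Cfsg.Agent.Transpos.U6
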