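import Cfsg.Agent.Lib.Transpos.M22PairNormalizer
import Cfsg.Agent.Lib.Presented.Order
import Cfsg.Agent.Lib.Presented.Data.O7Tower

/-!
# The common members of two non-commuting members, further counts

`M22.exists_commute_clique`: a common member outside six pairwise commuting ones commutes with one of
them (two common commuting members have twelve further ones commuting with both).
`M22.no_path`: no four common members form a path together with a non-commuting pair commuting with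
all of them, as the centraliser of `a`, `b` and such a pair has order 648.
-/

set_option autoImplicit false
set_option maxRecDepth 8000
set_option linter.style.haveILetI false
set_option linter.unusedSimpArgs false
set_option linter.unusedSectionVars false

namespace Cfsg.Agent.Transpos

open Cfsg Cfsg.Agent.ClassicalSimple

namespace U6

variable {F V : Type*} [Field F] [AddCommGroup V] [Module F V]
  {σ : F →+* F} {h : V →ₛₗ[σ] V →ₗ[F] F}

/-- Three orthogonal hyperbolic pairs. -/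
structure Frame3 (h : V →ₛₗ[σ] V →ₗ[F] F) (u w : Fin 3 → V) : Prop where
  uu : ∀ i j, h (u i) (u j) = 0
  ww : ∀ i j, h (w i) (w j) = 0
  uw : ∀ i j, i ≠ j → h (u i) (w j) = 0
  ne : ∀ i, h (u i) (w i) ≠ 0

variable (c : Ctx σ h)
include c

theorem Frame3.li {u w : Fin 3 → V} (fr : Frame3 h u w) :
    LinearIndependent F (Sum.elim u w) := by
  refine Fintype.linearIndependent_iff.2 fun g hg => ?_
  rw [Fintype.sum_sum_type] at hg
  simp only [Sum.elim_inl, Sum.elim_inr] at hg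
  rintro (i | i)
  · have e := congrArg (h (w i)) hg
    simp only [map_add, map_sum, map_smul, map_zero, fr.ww, smul_eq_mul, mul_zero,
      Finset.sum_const_zero, add_zero] at e
    rw [Finset.sum_eq_single i (fun j _ hj => by rw [c.form.comm_zero (fr.uw j i hj), mul_zero])
      (by simp)] at e
    exact (mul_eq_zero.1 e).resolve_right fun e' => fr.ne i (c.form.comm_zero e')
  · have e := congrArg (h (u i)) hg
    simp only [map_add, map_sum, map_smul, map_zero, fr.uu, smul_eq_mul, mul_zero,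
      Finset.sum_const_zero, zero_add] at e
    rw [Finset.sum_eq_single i (fun j _ hj => by rw [fr.uw i j hj.symm, mul_zero]) (by simp)] at e
    exact (mul_eq_zero.1 e).resolve_right (fr.ne i)

/-- Only zero is orthogonal to three hyperbolic pairs. -/
theorem Frame3.eq_zero {u w : Fin 3 → V} (fr : Frame3 h u w) {v : V} (hu : ∀ i, h (u i) v = 0)
    (hw : ∀ i, h (w i) v = 0) : v = 0 := by
  haveI := c.fd
  have hspan := (fr.li c).span_eq_top_of_card_eq_finrank
    (by rw [c.dim, Fintype.card_sum, Fintype.card_fin])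
  refine c.form.sep _ fun y => ?_
  have hy : y ∈ Submodule.span F (Set.range (Sum.elim u w)) := hspan ▸ Submodule.mem_top
  induction hy using Submodule.span_induction with
  | mem x hx =>
    obtain ⟨i, rfl⟩ := hx
    rcases i with i | i
    exacts [c.form.comm_zero (hu i), c.form.comm_zero (hw i)]
  | zero => exact map_zero _
  | add p q _ _ hp hq => rw [map_add, hp, hq, add_zero]
  | smul m p _ hp => rw [map_smul, hp, smul_zero]

end U6

namespace U6.Ctx

variable {F : Type} [Field F] {σ : F →+* F}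
  {h : (Fin 6 → F) →ₛₗ[σ] (Fin 6 → F) →ₗ[F] F} (c : U6.Ctx σ h)
include c

/-- A pair and an isotropic vector in its perp extend to three hyperbolic pairs. -/
theorem exists_frame3 {A C Q : Fin 6 → F} (hA : h A A = 0) (hC : h C C = 0) (hQ : h Q Q = 0)
    (hAC : h A C ≠ 0) (hAQ : h A Q = 0) (hCQ : h C Q = 0) (hQ0 : Q ≠ 0) :
    ∃ G e f, U6.Frame3 h ![A, Q, e] ![C, G, f] ∧ h e f = 1 := by
  haveI : FiniteDimensional F (Fin 6 → F) := c.fd
  obtain ⟨G, -, hG, hAG, hCG, hQG⟩ := c.exists_off_pair hA hC hQ hAC hAQ hCQ hQ0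
  obtain ⟨e, he0, he, hP⟩ := U6.exists_iso_perp c ![A, C, Q, G]
  have hAe : h A e = 0 := hP 0
  have hCe : h C e = 0 := hP 1
  have hQe : h Q e = 0 := hP 2
  have hGe : h G e = 0 := hP 3
  have cz := @c.form.comm_zero
  have pr : ∀ {m : Fin 4 → F}, ∑ i, m i • ![A, C, Q, G] i = 0 →
      m 0 = 0 ∧ m 1 = 0 ∧ m 2 = 0 ∧ m 3 = 0 := fun {m} hm => by
    simp only [Fin.sum_univ_four] at hm
    have k1 := congrArg (h A) hm
    have k2 := congrArg (h C) hm
    have k3 := congrArg (h Q) hm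
    have k4 := congrArg (h G) hm
    simp [hA, hC, hQ, hG, hAQ, hCQ, hAG, hCG, cz hAQ, cz hCQ, cz hAG, cz hCG] at k1 k2 k3 k4
    exact ⟨k2.resolve_right fun e => hAC (cz e), k1.resolve_right hAC,
      k4.resolve_right fun e => hQG (cz e), k3.resolve_right hQG⟩
  have hli : LinearIndependent F ![A, C, Q, G] := Fintype.linearIndependent_iff.2 fun m hm i => by
    obtain ⟨a, b, d, g⟩ := pr hm
    fin_cases i <;> assumption
  have hns : e ∉ Submodule.span F (Set.range ![A, C, Q, G]) := fun hm => by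
    obtain ⟨m, hm⟩ := (Submodule.mem_span_range_iff_exists_fun F).1 hm
    refine he0 ?_
    have k : ∀ x, h x e = h x (∑ i, m i • ![A, C, Q, G] i) := fun x => by rw [hm]
    have k1 := k A
    have k2 := k C
    have k3 := k Q
    have k4 := k G
    simp [Fin.sum_univ_four, hA, hC, hQ, hG, hAQ, hCQ, hAG, hCG, cz hAQ, cz hCQ, cz hAG, cz hCG,
      hAe, hCe, hQe, hGe] at k1 k2 k3 k4
    rw [← hm, Fin.sum_univ_four, k2.resolve_right fun e => hAC (cz e), k1.resolve_right hAC,
      k4.resolve_right fun e => hQG (cz e), k3.resolve_right hQG]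
    simp
  obtain ⟨z, hz, hPz, hez, -⟩ := U6.exists_mid c ![A, C, Q, G] hli he he hP hns hns
  refine ⟨G, e, (h e z)⁻¹ • z, ⟨?_, ?_, ?_, ?_⟩, by rw [map_smul, smul_eq_mul, inv_mul_cancel₀ hez]⟩
  · intro i j
    fin_cases i <;> fin_cases j <;> simp [hA, hQ, he, hAQ, hAe, hQe, cz hAQ, cz hAe, cz hQe]
  · have hCz : h C z = 0 := hPz 1
    have hGz : h G z = 0 := hPz 3
    intro i j
    fin_cases i <;> fin_cases j <;> simp [hC, hG, hz, hCG, hCz, hGz, cz hCG, cz hCz, cz hGz]
  · have hAz : h A z = 0 := hPz 0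
    have hQz : h Q z = 0 := hPz 2
    intro i j hij
    fin_cases i <;> fin_cases j <;>
      first
        | exact absurd rfl hij
        | simp [hAG, hAz, cz hCQ, hQz, cz hCe, cz hGe]
  · intro i
    fin_cases i <;> simp [hAC, hQG, hez]

end U6.Ctx

namespace Presented'

/-- Elements satisfying the relations of the path `3 – 0 – 1 – 2` have `(s₃ s₀ s₁ s₂) ^ 5 = 1`. -/
theorem path_four_pow_five {P : Type*} [Group P] {u₁ u₂ u₃ u₄ : P} (q₁ : u₁ * u₁ = 1)
    (q₂ : u₂ * u₂ = 1) (q₃ : u₃ * u₃ = 1) (q₄ : u₄ * u₄ = 1) (e₁ : (u₁ * u₂) ^ 3 = 1)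
    (e₂ : (u₂ * u₃) ^ 3 = 1) (e₃ : (u₃ * u₄) ^ 3 = 1) (c₁ : Commute u₁ u₃) (c₂ : Commute u₁ u₄)
    (c₃ : Commute u₂ u₄) : (u₁ * u₂ * u₃ * u₄) ^ 5 = 1 := by
  classical
  let s : ℕ → P := fun k => [u₂, u₃, u₄, u₁].getD k 1
  let D := Presented.O7T120.cert
  have sq : ∀ {x y : P}, x * x = 1 → y * y = 1 → Commute x y → (x * y) ^ 2 = 1 := fun hx hy hc => by
    rw [hc.mul_pow, pow_two, pow_two, hx, hy, one_mul]
  have sw : ∀ {x y : P}, (x * y) ^ 3 = 1 → (y * x) ^ 3 = 1 := fun {x y} e => by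
    rw [show y * x = x⁻¹ * (x * y) * x by group, show x⁻¹ * (x * y) * x = x⁻¹ * (x * y) * x⁻¹⁻¹ by
      rw [inv_inv], conj_pow, e, mul_one, mul_inv_cancel]
  have hs : ∀ g, g < D.m → s g * s g = 1 := fun g hg => by
    change g < 4 at hg
    interval_cases g <;> assumption
  have hR : ∀ w ∈ D.words.take D.nR, Presented.wval s w = 1 := by
    rw [show D.words.take D.nR = [[0, 0], [1, 1], [2, 2], [3, 3], [1, 0, 1, 0, 1, 0], [2, 0, 2, 0],
      [3, 0, 3, 0, 3, 0], [2, 1, 2, 1, 2, 1], [3, 1, 3, 1], [3, 2, 3, 2]] by decide +kernel]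
    intro w hw
    simp only [List.mem_cons, List.not_mem_nil, or_false] at hw
    have k1 := sw e₁
    have k4 := sq q₂ q₄ c₃
    have k5 := sq q₃ q₁ c₁.symm
    have k6 := sq q₄ q₁ c₂.symm
    rcases hw with rfl | rfl | rfl | rfl | rfl | rfl | rfl | rfl | rfl | rfl <;>
      simp only [Presented.wval, s, List.getD_cons_zero, List.getD_cons_succ, one_mul, ← mul_assoc] <;>
      simp only [pow_succ, pow_zero, one_mul, ← mul_assoc] at e₂ e₃ k1 k4 k5 k6 ⊢ <;>
      assumption
  obtain ⟨c, hc0, hc⟩ := Presented.CosetCert.exists_cosets (s := s)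
    Presented.O7T120.cert_nodesOK (⊥ : Subgroup P)
  have hK : ∀ w ∈ D.words.drop D.nR, Presented.wval s w ∈ (⊥ : Subgroup P) := by
    rw [show D.words.drop D.nR = [] by decide +kernel]
    simp
  have good := fun i g (hi : i < D.N) (hg : g < D.m) (_ : D.rankOf i g < 2 ^ D.rw) =>
    Presented.CosetCert.edge_good Presented.O7T120.cert_edgesOK Presented.O7T120.cert_nodesOK ⊥ hs hR
      hK hc0 hc _ i g hi hg D.rankOf_lt
  have hw : D.walk (2 ^ D.rw) (List.replicate 5 [2, 1, 0, 3]).flatten 0 = 0 := by decide +kernel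
  have h1 := Presented.CosetCert.walk_spec (s := s) Presented.O7T120.cert_edgesOK (⊥ : Subgroup P)
    (2 ^ D.rw) c good _ hw (by decide +kernel)
  rw [hc0, MulAction.Quotient.smul_mk, smul_eq_mul, mul_one, QuotientGroup.eq, mul_one,
    Subgroup.mem_bot, inv_eq_one, Presented.wval_replicate] at h1
  simpa [Presented.wval, s] using h1

end Presented'

variable {G : Type*} [Group G] {D : Set G}

namespace M22

variable [Finite G] (H : M22 D) {a b : G} (ha : a ∈ D) (hb : b ∈ D) (hab : ¬ Commute a b)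
include H ha hb hab

/-- Two commuting common members have twelve further ones commuting with both. -/
theorem ncard_common_two {p q : G} (hp : p ∈ Dc D a ∩ Dc D b) (hq : q ∈ Dc D a ∩ Dc D b)
    (hpq : q ∈ Dc D p) :
    {x | x ∈ Dc D a ∩ Dc D b ∧ x ∈ Dc D p ∧ x ∈ Dc D q}.ncard = 12 := by
  classical
  obtain ⟨M⟩ := (H.model p hp.1.1).2
  haveI : Finite M.F := M.fin
  obtain ⟨A, C, hA, hC, hAC⟩ := H.exists_pair_vecs ha hb hab hp M
  obtain ⟨Q, hQ⟩ := M.exists_vec H hp.1.1 hpq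
  have cm := fun {x y : G} {u v : Fin 6 → M.F} (hu : M.IsPt x u) (hv : M.IsPt y v) =>
    Model.comm_iff M H hp.1.1 hu hv
  have hAQ := (cm hA hQ).1 hq.1.2.2
  have hCQ := (cm hC hQ).1 hq.2.2.2
  obtain ⟨g, e, f, fr, hef⟩ := M.c.exists_frame3 hA.iso hC.iso hQ.iso hAC hAQ hCQ hQ.ne_zero
  have cz := @M.c.form.comm_zero
  have hee : M.h e e = 0 := fr.uu 2 2
  have hff : M.h f f = 0 := fr.ww 2 2
  have hAe : M.h A e = 0 := fr.uu 0 2
  have hAf : M.h A f = 0 := fr.uw 0 2 (by decide)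
  have hCe : M.h C e = 0 := cz (fr.uw 2 0 (by decide))
  have hCf : M.h C f = 0 := fr.ww 0 2
  have hQe : M.h Q e = 0 := fr.uu 1 2
  have hQf : M.h Q f = 0 := fr.uw 1 2 (by decide)
  have hge : M.h g e = 0 := cz (fr.uw 2 1 (by decide))
  have hgf : M.h g f = 0 := fr.ww 1 2
  have hgQ : M.h g Q ≠ 0 := fun k => fr.ne 1 (cz k)
  have hfe : M.h f e = 1 := by rw [M.c.form.swap e f, hef, map_one]
  set S := {x | x ∈ Dc D a ∩ Dc D b ∧ x ∈ Dc D p ∧ x ∈ Dc D q} with hSdef
  have h0 := three_mul_ncard M H hp.1.1 S fun x hx => hx.2.1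
  set W0 := {v | ∃ x ∈ S, M.IsPt x v} with hW0
  let z : Fin 3 → Fin 6 → M.F := ![e, f, e + f]
  have hzP : ∀ i, M.h (z i) (z i) = 0 ∧ M.h A (z i) = 0 ∧ M.h C (z i) = 0 ∧ M.h Q (z i) = 0 := by
    intro i
    fin_cases i <;> simp [z, hee, hff, hAe, hAf, hCe, hCf, hQe, hQf, hef, hfe, M.c.two]
  have hzef : ∀ i, M.h f (z i) ≠ 0 ∨ M.h e (z i) ≠ 0 := by
    intro i
    fin_cases i <;> simp [z, hee, hff, hef, hfe]
  have hmem : ∀ (m : M.F) (i : Fin 3) (t : {t : M.F // t ≠ 0}), m • Q + t.1 • z i ∈ W0 := by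
    intro m i t
    obtain ⟨ziso, zA, zC, zQ⟩ := hzP i
    have hne : m • Q + t.1 • z i ≠ 0 := fun k => by
      have k1 := congrArg (M.h e) k
      have k2 := congrArg (M.h f) k
      simp [cz hQe, cz hQf] at k1 k2
      rcases hzef i with k' | k'
      exacts [k' (k2.resolve_left t.2), k' (k1.resolve_left t.2)]
    obtain ⟨x, hx⟩ := M.exists_mem H hp.1.1 (v := m • Q + t.1 • z i)
      (by simp [hQ.iso, ziso, zQ, cz zQ]) hne
    have k1 : M.h A (m • Q + t.1 • z i) = 0 := by simp [hAQ, zA]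
    have k2 : M.h C (m • Q + t.1 • z i) = 0 := by simp [hCQ, zC]
    have k3 : M.h Q (m • Q + t.1 • z i) = 0 := by simp [hQ.iso, zQ]
    refine ⟨x, ⟨⟨⟨hx.mem.1, fun k => hab (k ▸ ((cm hC hx).2 k2).symm), (cm hA hx).2 k1⟩,
      ⟨hx.mem.1, fun k => hab (k ▸ (cm hA hx).2 k1), (cm hC hx).2 k2⟩⟩, hx.mem,
      ⟨hx.mem.1, fun k => ?_, (cm hQ hx).2 k3⟩⟩, hx⟩
    obtain ⟨n, hn⟩ := Model.smul_of_eq M hQ hx k.symm
    rcases hzef i with k' | k'
    · have k4 := congrArg (M.h f) hn
      simp [cz hQf] at k4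
      exact k' (k4.resolve_left t.2)
    · have k4 := congrArg (M.h e) hn
      simp [cz hQe] at k4
      exact k' (k4.resolve_left t.2)
  have hbij : Function.Bijective (fun x : M.F × Fin 3 × {t : M.F // t ≠ 0} =>
      (⟨x.1 • Q + x.2.2.1 • z x.2.1, hmem x.1 x.2.1 x.2.2⟩ : W0)) := by
    constructor
    · rintro ⟨m, i, t, ht⟩ ⟨n, j, s, hs⟩ k
      have k' : m • Q + t • z i = n • Q + s • z j := congrArg Subtype.val k
      have k1 := congrArg (M.h g) k'
      have k2 := congrArg (M.h e) k'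
      have k3 := congrArg (M.h f) k'
      fin_cases i <;> fin_cases j <;>
        simp [z, hgQ, hge, hgf, cz hQe, cz hQf, hee, hff, hef, hfe, ht, hs, ht.symm, hs.symm]
          at k1 k2 k3 ⊢ <;>
        simp_all
    · rintro ⟨v, x, hx, hv⟩
      have hAv : M.h A v = 0 := (cm hA hv).1 hx.1.1.2.2
      have hCv : M.h C v = 0 := (cm hC hv).1 hx.1.2.2.2
      have hQv : M.h Q v = 0 := (cm hQ hv).1 hx.2.2.2.2
      set m := M.h g v * (M.h g Q)⁻¹ with hm
      set r := M.h f v with hr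
      set s := M.h e v with hs
      have hdec : v = m • Q + (r • e + s • f) := by
        refine sub_eq_zero.1 (U6.Frame3.eq_zero M.c fr ?_ ?_) <;> intro i <;> fin_cases i
        · simp [hAv, hA.iso, hAQ, hAe, hAf]
        · simp [hQv, hQ.iso, hQe, hQf]
        · simp [hee, hef, cz hQe, ← hs]
        · simp [hCv, hCQ, hCe, hCf]
        · simp [hge, hgf, hm, hgQ]
        · simp [hff, hfe, cz hQf, ← hr]
      have hrs : r ≠ 0 ∨ s ≠ 0 := by
        by_contra k
        simp only [not_or, not_not] at k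
        refine hx.2.2.2.1 (Model.eq_of_smul M H hp.1.1 hQ hv (m := m) ?_).symm
        rw [hdec, k.1, k.2]
        simp
      have hiso := hv.iso
      rw [hdec] at hiso
      simp [hQ.iso, hQe, hQf, cz hQe, cz hQf, hee, hff, hef, hfe] at hiso
      by_cases hr0 : r = 0
      · exact ⟨(m, 1, ⟨s, hrs.resolve_left (not_not.2 hr0)⟩),
          Subtype.ext (show m • Q + s • f = v by rw [hdec, hr0, zero_smul, zero_add])⟩
      by_cases hs0 : s = 0
      · exact ⟨(m, 0, ⟨r, hr0⟩),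
          Subtype.ext (show m • Q + r • e = v by rw [hdec, hs0, zero_smul, add_zero])⟩
      have hfix : M.σ (M.σ r * s) = M.σ r * s := by
        rw [map_mul, M.c.form.invol]
        linear_combination hiso - M.σ r * s * M.c.two
      have h1 := M.c.eq_one hfix (mul_ne_zero ((map_ne_zero _).2 hr0) hs0)
      have hsr : s = r := by linear_combination r * h1 - s * M.c.norm r hr0
      exact ⟨(m, 2, ⟨r, hr0⟩),
        Subtype.ext (show m • Q + r • (e + f) = v by rw [hdec, hsr, smul_add])⟩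
  have h2 := Nat.card_eq_of_bijective _ hbij
  rw [Nat.card_prod, Nat.card_prod, Nat.card_fin, M.c.card_ne_zero_field, M.c.card_field,
    Nat.card_coe_set_eq, ← h0] at h2
  omega

variable (hD : IsThreeTranspositionGroup D) (hprim : IsPrimitiveUnderConj D) (h22 : IsOfTypeM22 G D)
include hD hprim h22

/-- A common member outside six pairwise commuting ones commutes with one of them. -/
theorem exists_commute_clique (E : Finset G) (hE : ∀ x ∈ E, x ∈ Dc D a ∩ Dc D b) (hcard : E.card = 6)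
    (hc : ∀ x ∈ E, ∀ y ∈ E, Commute x y) {f : G} (hf : f ∈ Dc D a ∩ Dc D b) (hfE : f ∉ E) :
    ∃ x ∈ E, Commute f x := by
  classical
  haveI : Fintype G := Fintype.ofFinite G
  by_contra hno
  simp only [not_exists, not_and] at hno
  set X := (Dc D a ∩ Dc D b).toFinset \ E with hX
  set j : G → ℕ := fun x => (E.filter fun e => x ∈ Dc D e).card with hj
  have hPc : (Dc D a ∩ Dc D b).toFinset.card = 126 := by
    rw [← Set.ncard_eq_toFinset_card']; exact (pair_data hD hprim h22 ha hb hab).1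
  have hEP : E ⊆ (Dc D a ∩ Dc D b).toFinset := fun x hx => Set.mem_toFinset.2 (hE x hx)
  have hXc : X.card = 120 := by rw [hX, Finset.card_sdiff_of_subset hEP, hPc, hcard]
  have one : ∀ e ∈ E, (X.filter fun x => x ∈ Dc D e).card = 40 := by
    intro e he
    have h1 : (X.filter fun x => x ∈ Dc D e) ∪ E.erase e =
        {x | x ∈ Dc D a ∩ Dc D b ∧ x ∈ Dc D e}.toFinset := by
      ext x
      simp only [hX, Finset.mem_union, Finset.mem_filter, Finset.mem_sdiff, Set.mem_toFinset,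
        Finset.mem_erase, Set.mem_ofPred_eq]
      constructor
      · rintro (⟨⟨h, -⟩, h'⟩ | ⟨h, h'⟩)
        exacts [⟨h, h'⟩, ⟨hE x h', (hE x h').1.1, h, hc e he x h'⟩]
      · rintro ⟨h, h'⟩
        by_cases hxE : x ∈ E
        exacts [Or.inr ⟨h'.2.1, hxE⟩, Or.inl ⟨⟨h, hxE⟩, h'⟩]
    have hdis : Disjoint (X.filter fun x => x ∈ Dc D e) (E.erase e) :=
      Finset.disjoint_left.2 fun x hx hx' =>
        (Finset.mem_sdiff.1 (Finset.mem_filter.1 hx).1).2 (Finset.mem_of_mem_erase hx')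
    have h2 := congrArg Finset.card h1
    rw [Finset.card_union_of_disjoint hdis, Finset.card_erase_of_mem he, hcard,
      ← Set.ncard_eq_toFinset_card', H.ncard_common_dc ha hb hab (hE e he)] at h2
    omega
  have two : ∀ pq ∈ E.offDiag, (X.filter fun x => x ∈ Dc D pq.1 ∧ x ∈ Dc D pq.2).card = 8 := by
    rintro ⟨p, q⟩ hpq
    obtain ⟨hp, hq, hne⟩ := Finset.mem_offDiag.1 hpq
    have h1 : (X.filter fun x => x ∈ Dc D p ∧ x ∈ Dc D q) ∪ (E.erase p).erase q =
        {x | x ∈ Dc D a ∩ Dc D b ∧ x ∈ Dc D p ∧ x ∈ Dc D q}.toFinset := by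
      ext x
      simp only [hX, Finset.mem_union, Finset.mem_filter, Finset.mem_sdiff, Set.mem_toFinset,
        Finset.mem_erase, Set.mem_ofPred_eq]
      constructor
      · rintro (⟨⟨h, -⟩, h'⟩ | ⟨h, h', h''⟩)
        exacts [⟨h, h'⟩, ⟨hE x h'', ⟨(hE x h'').1.1, h', hc p hp x h''⟩,
          (hE x h'').1.1, h, hc q hq x h''⟩]
      · rintro ⟨h, h', h''⟩
        by_cases hxE : x ∈ E
        exacts [Or.inr ⟨h''.2.1, h'.2.1, hxE⟩, Or.inl ⟨⟨h, hxE⟩, h', h''⟩]
    have hdis : Disjoint (X.filter fun x => x ∈ Dc D p ∧ x ∈ Dc D q) ((E.erase p).erase q) :=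
      Finset.disjoint_left.2 fun x hx hx' =>
        (Finset.mem_sdiff.1 (Finset.mem_filter.1 hx).1).2
          (Finset.mem_of_mem_erase (Finset.mem_of_mem_erase hx'))
    have h2 := congrArg Finset.card h1
    rw [Finset.card_union_of_disjoint hdis, Finset.card_erase_of_mem
      (Finset.mem_erase.2 ⟨hne.symm, hq⟩), Finset.card_erase_of_mem hp, hcard,
      ← Set.ncard_eq_toFinset_card',
      H.ncard_common_two ha hb hab (hE p hp) (hE q hq) ⟨(hE q hq).1.1, hne.symm, hc p hp q hq⟩] at h2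
    show (X.filter fun x => x ∈ Dc D p ∧ x ∈ Dc D q).card = 8
    omega
  have s1 : ∑ x ∈ X, j x = 240 := by
    rw [hj]
    simp only [Finset.card_filter]
    rw [Finset.sum_comm]
    simp only [← Finset.card_filter]
    rw [Finset.sum_congr rfl one, Finset.sum_const, hcard]
    rfl
  have s2 : ∑ x ∈ X, (j x * j x - j x) = 240 := by
    have k : ∀ x, j x * j x - j x =
        (E.offDiag.filter fun pq => x ∈ Dc D pq.1 ∧ x ∈ Dc D pq.2).card := fun x => by
      rw [hj, ← Finset.offDiag_card]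
      congr 1
      ext ⟨p, q⟩
      simp only [Finset.mem_offDiag, Finset.mem_filter]
      tauto
    simp only [k, Finset.card_filter]
    rw [Finset.sum_comm]
    simp only [← Finset.card_filter]
    rw [Finset.sum_congr rfl two, Finset.sum_const, Finset.offDiag_card, hcard]
    rfl
  have s3 : ∀ x, 3 * j x ≤ (j x * j x - j x) + 4 := fun x => by
    have k : 4 * j x ≤ j x * j x + 4 := by nlinarith [sq_nonneg ((j x : ℤ) - 2)]
    have k' : j x ≤ j x * j x := Nat.le_mul_self _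
    omega
  have hfX : f ∈ X := Finset.mem_sdiff.2 ⟨Set.mem_toFinset.2 hf, hfE⟩
  have hjf : j f = 0 := Finset.card_eq_zero.2
    (Finset.filter_eq_empty_iff.2 fun e he h => hno e he h.2.2.symm)
  have h3 : 3 * ∑ x ∈ X, j x < ∑ x ∈ X, ((j x * j x - j x) + 4) := by
    rw [Finset.mul_sum]
    exact Finset.sum_lt_sum (fun x _ => s3 x) ⟨f, hfX, by simp [hjf]⟩
  rw [Finset.sum_add_distrib, Finset.sum_const, hXc, s1, s2] at h3
  simp at h3

/-- No path of four common members with a non-commuting pair commuting with all of them. -/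
theorem no_path {u₁ u₂ u₃ u₄ p q : G} (h₁ : u₁ ∈ Dc D a ∩ Dc D b) (h₂ : u₂ ∈ Dc D a ∩ Dc D b)
    (h₃ : u₃ ∈ Dc D a ∩ Dc D b) (h₄ : u₄ ∈ Dc D a ∩ Dc D b) (hp : p ∈ Dc D a ∩ Dc D b)
    (hq : q ∈ Dc D a ∩ Dc D b) (n₁ : ¬ Commute u₁ u₂) (n₂ : ¬ Commute u₂ u₃) (n₃ : ¬ Commute u₃ u₄)
    (c₁ : Commute u₁ u₃) (c₂ : Commute u₁ u₄) (c₃ : Commute u₂ u₄) (hpq : ¬ Commute p q)
    (hpu : ∀ u ∈ [u₁, u₂, u₃, u₄], Commute p u ∧ Commute q u) : False := by
  classical
  haveI : Fintype G := Fintype.ofFinite G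
  set P := Dc D a ∩ Dc D b with hP
  set K := Subgroup.centralizer ({a, b} : Set G) with hK
  have hK' : K = Subgroup.centralizer ({a} : Set G) ⊓ Subgroup.centralizer ({b} : Set G) := by
    ext x
    simp only [hK, Subgroup.mem_inf, Subgroup.mem_centralizer_iff, Set.mem_insert_iff,
      Set.mem_singleton_iff, forall_eq_or_imp, forall_eq]
  have hKcard : Nat.card ↥K = 6531840 := hK' ▸ (pair_data hD hprim h22 ha hb hab).2.2
  have hPcard : P.ncard = 126 := (pair_data hD hprim h22 ha hb hab).1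
  have fix : ∀ {k : G} {x : G}, k ∈ K → (x = a ∨ x = b) → k * x * k⁻¹ = x := fun {k x} hk hx =>
    mul_inv_eq_iff_eq_mul.2 (Subgroup.mem_centralizer_iff.1 hk x (by simpa using hx)).symm
  have hconj : ∀ k ∈ K, ∀ x ∈ P, k * x * k⁻¹ ∈ P := fun k hk x hx => conj_common hD hk hx
  have nb : ∀ x ∈ P, {y | y ∈ P ∧ ¬ Commute x y}.ncard = 80 := by
    intro x hx
    have h1 := Set.ncard_inter_add_ncard_sdiff_eq_ncard P {y | ¬ Commute x y}
    have h2 : P \ {y | ¬ Commute x y} = insert x {f | f ∈ P ∧ f ∈ Dc D x} := by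
      ext y
      constructor
      · intro hy
        by_cases h : y = x
        · exact Or.inl h
        · exact Or.inr ⟨hy.1, hy.1.1.1, h, not_not.1 hy.2⟩
      · rintro (rfl | hy)
        exacts [⟨hx, fun h => h (Commute.refl _)⟩, ⟨hy.1, fun h => h hy.2.2.2⟩]
    rw [h2, Set.ncard_insert_of_notMem fun h => h.2.2.1 rfl, H.ncard_common_dc ha hb hab hx,
      hPcard] at h1
    have : P ∩ {y | ¬ Commute x y} = {y | y ∈ P ∧ ¬ Commute x y} := rfl
    rw [this] at h1
    omega
  have h1 := card_eq_orbit_mul K p P (fun k hk => hconj k hk p hp) fun o ho => by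
    obtain ⟨y, hy, hyo⟩ : {y | y ∈ P ∧ ¬ Commute o y}.Nonempty :=
      Set.nonempty_of_ncard_ne_zero (by rw [nb o ho]; norm_num)
    obtain ⟨k, hk, e, -⟩ := pair_transitive hD hprim h22 ha hb hab hp hq hpq ho hy hyo
    exact ⟨k, hk, e⟩
  set L := K ⊓ Subgroup.centralizer ({p} : Set G) with hL
  have h2 := card_eq_orbit_mul L q {y | y ∈ P ∧ ¬ Commute p y} (fun k hk => ⟨hconj k hk.1 q hq, by
      have e : k * p * k⁻¹ = p :=
        mul_inv_eq_iff_eq_mul.2 (Subgroup.mem_centralizer_singleton_iff.1 hk.2)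
      exact fun h => hpq ((commute_conj_iff k).1 (e.symm ▸ h))⟩) fun o ho => by
    obtain ⟨k, hk, e, e'⟩ := pair_transitive hD hprim h22 ha hb hab hp hq hpq hp ho.1 ho.2
    exact ⟨k, ⟨hk, Subgroup.mem_centralizer_singleton_iff.2 (mul_inv_eq_iff_eq_mul.1 e)⟩, e'⟩
  rw [hKcard, hPcard] at h1
  rw [nb p hp] at h2
  have hsq := fun {x : G} (hx : x ∈ P) => sq_one hD.1 hx.1.1
  have h3 := fun {x y : G} (hx : x ∈ P) (hy : y ∈ P) (h : ¬ Commute x y) =>
    pow_three_of_not_commute hD.1 hx.1.1 hy.1.1 h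
  have h5 := Presented'.path_four_pow_five (hsq h₁) (hsq h₂) (hsq h₃) (hsq h₄) (h3 h₁ h₂ n₁)
    (h3 h₂ h₃ n₂) (h3 h₃ h₄ n₃) c₁ c₂ c₃
  set x := u₁ * u₂ * u₃ * u₄ with hx
  have hx1 : x ≠ 1 := by
    intro e
    refine n₁ ?_
    have e' : u₁ * u₂ = u₄ * u₃ := by
      rw [eq_inv_of_mul_eq_one_left (show u₁ * u₂ * (u₃ * u₄) = 1 by rw [← mul_assoc]; exact e),
        mul_inv_rev, inv_eq hD.1 h₃.1.1, inv_eq hD.1 h₄.1.1]
    have cc : Commute u₁ (u₁ * u₂) := by rw [e']; exact c₂.mul_right c₁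
    have := ((Commute.refl u₁).inv_right.mul_right cc)
    rwa [inv_mul_cancel_left] at this
  have hxmem : x ∈ L ⊓ Subgroup.centralizer ({q} : Set G) := by
    have key : ∀ u ∈ [u₁, u₂, u₃, u₄], u ∈ P → u ∈ L ⊓ Subgroup.centralizer ({q} : Set G) :=
      fun u hu huP => ⟨⟨common_le_centralizer huP,
        Subgroup.mem_centralizer_singleton_iff.2 (hpu u hu).1.symm.eq⟩,
        Subgroup.mem_centralizer_singleton_iff.2 (hpu u hu).2.symm.eq⟩
    exact mul_mem (mul_mem (mul_mem (key u₁ (by simp) h₁) (key u₂ (by simp) h₂))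
      (key u₃ (by simp) h₃)) (key u₄ (by simp) h₄)
  haveI : Fact (Nat.Prime 5) := ⟨by norm_num⟩
  have hord : orderOf x = 5 := orderOf_eq_prime h5 hx1
  have hdvd : orderOf x ∣ Nat.card ↥(L ⊓ Subgroup.centralizer ({q} : Set G)) :=
    Subgroup.orderOf_coe (⟨x, hxmem⟩ : ↥(L ⊓ Subgroup.centralizer ({q} : Set G))) ▸
      orderOf_dvd_natCard _
  rw [hord] at hdvd
  obtain ⟨m, hm⟩ := hdvd
  rw [h2, hm] at h1
  omega

end M22

end Cfsg.Agent.Transpos
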