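/-
Coordinates at an isotropic point of the six-dimensional unitary space over four elements: the residue at the
point is the four-dimensional space with the standard form, its isotropic points are the 45 coded points, and
the isometries fixing all of them have the shape of elements of the radical.
-/
import Cfsg.Agent.Lib.Transpos.M22Points
import Cfsg.Agent.Lib.Transpos.OrthSixMinus

set_option autoImplicit false

namespace Cfsg.Agent.Transpos.U6

open Cfsg Cfsg.Agent.ClassicalSimple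

/-- Sum in the field of four elements, coded as `0, 1, o, o²`. -/
def add4 : Fin 4 → Fin 4 → Fin 4 := ![![0, 1, 2, 3], ![1, 0, 3, 2], ![2, 3, 0, 1], ![3, 2, 1, 0]]

/-- Product. -/
def mul4 : Fin 4 → Fin 4 → Fin 4 := ![![0, 0, 0, 0], ![0, 1, 2, 3], ![0, 2, 3, 1], ![0, 3, 1, 2]]

/-- Conjugation. -/
def cj4 : Fin 4 → Fin 4 := ![0, 1, 3, 2]

/-- The standard form on four coded coordinates. -/
def herm4 (a b : Fin 4 → Fin 4) : Fin 4 :=
  add4 (add4 (mul4 (cj4 (a 0)) (b 0)) (mul4 (cj4 (a 1)) (b 1)))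
    (add4 (mul4 (cj4 (a 2)) (b 2)) (mul4 (cj4 (a 3)) (b 3)))

/-- The coordinates of the coded points. -/
def point (i : Fin 45) (k : Fin 4) : Fin 4 := Fin.ofNat 4 (O6.ptT.getD i.1 0 / 4 ^ k.1)

theorem adj_point : ∀ i j, O6.adj i j = true ↔ herm4 (point i) (point j) = 0 := by decide +kernel

theorem point_normal : ∀ v : Fin 4 → Fin 4, v ≠ 0 → herm4 v v = 0 →
    ∃ i m, m ≠ 0 ∧ ∀ k, v k = mul4 m (point i k) := by decide +kernel

theorem point_unique : ∀ i j m, m ≠ 0 → (∀ k, point j k = mul4 m (point i k)) → i = j := by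
  decide +kernel

theorem point_ne_zero : ∀ i, ∃ k, point i k ≠ 0 := by decide +kernel

theorem adj_ext : ∀ i j, (∀ k, O6.adj i k = O6.adj j k) → i = j := by decide +kernel

theorem exists_triangle : ∀ i j, O6.adj i j = true → i ≠ j →
    ∃ k, O6.adj i k = true ∧ O6.adj j k = false := by decide +kernel

theorem exists_adj : ∀ i, ∃ j, O6.adj i j = true ∧ j ≠ i := by decide +kernel

variable {F : Type} [Field F] {σ : F →+* F}
  {h : (Fin 6 → F) →ₛₗ[σ] (Fin 6 → F) →ₗ[F] F} (c : Ctx σ h)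

/-- A generator of the multiplicative group. -/
noncomputable def om : F := c.exists_omega.choose

theorem om_spec : om c ≠ 0 ∧ om c * om c + om c + 1 = 0 ∧ σ (om c) = om c * om c ∧ σ (om c * om c) = om c :=
  c.exists_omega.choose_spec

/-- The value of a code. -/
noncomputable def val : Fin 4 → F := ![0, 1, om c, om c * om c]

theorem val_zero : val c 0 = 0 := rfl

theorem val_one : val c 1 = 1 := rfl

theorem val_mul (a b : Fin 4) : val c (mul4 a b) = val c a * val c b := by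
  have h3 := c.cube _ (om_spec c).1
  fin_cases a <;> fin_cases b <;> simp [val, mul4] <;> grind

theorem val_cj (a : Fin 4) : σ (val c a) = val c (cj4 a) := by
  fin_cases a <;> simp [val, cj4, (om_spec c).2.2.1, ← map_mul, (om_spec c).2.2.2]

theorem val_eq_zero {a : Fin 4} : val c a = 0 ↔ a = 0 := by
  fin_cases a <;> simp [val, (om_spec c).1]

theorem val_add (a b : Fin 4) : val c (add4 a b) = val c a + val c b := by
  have h2 := c.two
  have ho := (om_spec c).2.1
  fin_cases a <;> fin_cases b <;> simp [val, add4] <;> grind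

theorem val_injective : Function.Injective (val c) := fun a b e => by
  have h0 : val c (add4 a b) = 0 := by rw [val_add, e, c.addF]
  have key : ∀ a b, add4 a b = 0 → a = b := by decide
  exact key a b ((val_eq_zero c).1 h0)

theorem val_surjective : Function.Surjective (val c) := by
  classical
  haveI : Finite F := Nat.finite_of_card_ne_zero (by rw [c.card_field]; norm_num)
  haveI : Fintype F := Fintype.ofFinite F
  exact ((Fintype.bijective_iff_injective_and_card _).2 ⟨val_injective c, by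
    rw [Fintype.card_fin, ← Nat.card_eq_fintype_card, c.card_field]⟩).2

/-- A hyperbolic pair with an orthonormal basis of its perp. -/
structure Frame (h : (Fin 6 → F) →ₛₗ[σ] (Fin 6 → F) →ₗ[F] F) (p : Fin 6 → F) where
  /-- The partner. -/
  q : Fin 6 → F
  /-- The orthonormal vectors. -/
  e : Fin 4 → Fin 6 → F
  pp : h p p = 0
  pq : h p q = 1
  qq : h q q = 0
  pe : ∀ i, h p (e i) = 0
  qe : ∀ i, h q (e i) = 0
  ee : ∀ i j, h (e i) (e j) = if i = j then 1 else 0

include c in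
theorem exists_frame {p : Fin 6 → F} (hp : h p p = 0) (hp0 : p ≠ 0) : Nonempty (Frame h p) := by
  classical
  haveI : Finite F := Nat.finite_of_card_ne_zero (by rw [c.card_field]; norm_num)
  obtain ⟨e, he⟩ := c.exists_coords
  obtain ⟨o, ho0, ho, hso, hso2⟩ := c.exists_omega
  set P : Fin 6 → F := e.symm ![1, 1, 0, 0, 0, 0]
  set Q : Fin 6 → F := e.symm ![o, o * o, 0, 0, 0, 0]
  let E : Fin 4 → Fin 6 → F := fun i => e.symm (Pi.single (Fin.natAdd 2 i) 1)
  have hsq : ∀ x : F, x ^ 2 = σ x := fun x => by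
    rcases eq_or_ne x 0 with rfl | hx
    · simp
    · exact mul_right_cancel₀ hx ((by rw [pow_two]; exact c.cube x hx : x ^ 2 * x = 1).trans (c.norm x hx).symm)
  have hh : ∀ x y, h (e.symm x) (e.symm y) = ∑ i, y i * x i ^ 2 := fun x y => by
    rw [he, hermForm]; simp
  have hPP : h P P = 0 := by simp [P, hh, Fin.sum_univ_six, c.two]
  have hP0 : P ≠ 0 := fun e0 => by
    have := congrArg (fun v => e v 0) e0
    simp [P] at this
  obtain ⟨g, hg⟩ : ∃ g : SUH h, g • P = p := by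
    have h3 : 3 ≤ Module.finrank F (Fin 6 → F) := by rw [c.dim]; norm_num
    obtain ⟨g, hg, hgu⟩ := uRoot_trans c.form h3 hP0 hp0 hPP hp
    have hgS : g ∈ SUH h := by
      have hle : uRootGroup c.form ≤ SUH h := (Subgroup.closure_le _).2 (by
        rintro _ ⟨u', w', a', h1, h2, h3, rfl⟩
        exact uRootElt_det c.form h1 h2 h3)
      exact hle hg
    exact ⟨⟨g, hgS⟩, hgu⟩
  have e3 := c.cube o ho0
  refine ⟨{ q := g • Q, e := fun i => g • E i, pp := hp, pq := ?_, qq := ?_, pe := ?_, qe := ?_, ee := ?_ }⟩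
  · rw [← hg, isom c]
    simp [P, Q, hh, Fin.sum_univ_six]
    linear_combination ho - c.two
  · rw [isom c]
    simp [Q, hh, Fin.sum_univ_six]
    linear_combination (o * o * o) * e3 + (o * o * o) * c.two
  · intro i
    rw [← hg, isom c]
    fin_cases i <;> simp [P, E, hh, Fin.sum_univ_six]
  · intro i
    rw [isom c]
    fin_cases i <;> simp [Q, E, hh, Fin.sum_univ_six]
  · intro i j
    rw [isom c]
    fin_cases i <;> fin_cases j <;> simp [E, hh, Fin.sum_univ_six]

namespace Frame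

variable {p : Fin 6 → F} (Φ : Frame h p)

/-- The six basis vectors. -/
def vec : Fin 6 → Fin 6 → F := ![p, Φ.e 0, Φ.e 1, Φ.e 2, Φ.e 3, Φ.q]

/-- The residual coordinates. -/
def co (v : Fin 6 → F) (i : Fin 4) : F := h (Φ.e i) v

include c in
theorem ep (i : Fin 4) : h (Φ.e i) p = 0 := c.form.comm_zero (Φ.pe i)

include c in
theorem eq' (i : Fin 4) : h (Φ.e i) Φ.q = 0 := c.form.comm_zero (Φ.qe i)

include c in
theorem qp : h Φ.q p = 1 := by rw [c.form.swap p Φ.q, Φ.pq, map_one]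

include c in
theorem linearIndependent_vec : LinearIndependent F Φ.vec := by
  rw [Fintype.linearIndependent_iff]
  intro g hg
  simp only [vec, Fin.sum_univ_six, Matrix.cons_val_zero, Matrix.cons_val_one, Matrix.cons_val] at hg
  have a5 : g 5 = 0 := by simpa [Φ.pp, Φ.pq, Φ.pe] using congrArg (h p) hg
  have a0 : g 0 = 0 := by simpa [qp c Φ, Φ.qq, Φ.qe] using congrArg (h Φ.q) hg
  have a1 : g 1 = 0 := by simpa [Φ.ee, ep c Φ, eq' c Φ] using congrArg (h (Φ.e 0)) hg
  have a2 : g 2 = 0 := by simpa [Φ.ee, ep c Φ, eq' c Φ] using congrArg (h (Φ.e 1)) hg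
  have a3 : g 3 = 0 := by simpa [Φ.ee, ep c Φ, eq' c Φ] using congrArg (h (Φ.e 2)) hg
  have a4 : g 4 = 0 := by simpa [Φ.ee, ep c Φ, eq' c Φ] using congrArg (h (Φ.e 3)) hg
  intro i
  fin_cases i
  exacts [a0, a1, a2, a3, a4, a5]

include c in
/-- The basis of the frame. -/
noncomputable def basis : Module.Basis (Fin 6) F (Fin 6 → F) :=
  basisOfLinearIndependentOfCardEqFinrank (linearIndependent_vec c Φ) (by rw [Fintype.card_fin, c.dim])

theorem coe_basis : ⇑(basis c Φ) = Φ.vec := coe_basisOfLinearIndependentOfCardEqFinrank _ _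

include c in
theorem decomp (v : Fin 6 → F) : v = h Φ.q v • p + h p v • Φ.q + ∑ i, Φ.co v i • Φ.e i := by
  set r := v - (h Φ.q v • p + h p v • Φ.q + ∑ i, Φ.co v i • Φ.e i) with hr
  suffices r = 0 from sub_eq_zero.1 this
  have h1 : ∀ k, h (Φ.vec k) r = 0 := by
    intro k
    fin_cases k <;>
      simp [vec, hr, co, Φ.pp, Φ.pq, Φ.pe, Φ.qq, Φ.qe, qp c Φ, ep c Φ, eq' c Φ, Φ.ee, map_sum,
        Fin.sum_univ_four]
  refine c.form.sep _ fun x => c.form.comm_zero ?_
  rw [← (basis c Φ).sum_repr x, coe_basis c Φ]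
  simp [map_sum, map_smulₛₗ, h1]

include c in
theorem form_perp {v w : Fin 6 → F} (hv : h p v = 0) (hw : h p w = 0) :
    h v w = ∑ i, σ (Φ.co v i) * Φ.co w i := by
  conv_lhs => rw [decomp c Φ v, decomp c Φ w]
  simp [hv, hw, Φ.pp, Φ.pe, ep c Φ, Φ.ee, map_sum, Fin.sum_univ_four]

/-- `v` lies over the coded point `i`. -/
def Over (v : Fin 6 → F) (i : Fin 45) : Prop := ∃ m : F, m ≠ 0 ∧ ∀ k, Φ.co v k = m * val c (point i k)

theorem val_herm4 (a b : Fin 4 → Fin 4) :
    val c (herm4 a b) = ∑ k, σ (val c (a k)) * val c (b k) := by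
  simp [herm4, val_add, val_mul, val_cj, Fin.sum_univ_four, add_assoc]

theorem exists_over {v : Fin 6 → F} (hv : h v v = 0) (hp : h p v = 0) (h0 : ∃ k, Φ.co v k ≠ 0) :
    ∃ i, Φ.Over c v i := by
  choose a ha using fun k => val_surjective c (Φ.co v k)
  have hne : a ≠ 0 := fun e => by
    obtain ⟨k, hk⟩ := h0
    exact hk (by rw [← ha, e]; rfl)
  have hiso : herm4 a a = 0 := (val_eq_zero c).1 (by
    rw [val_herm4 c, ← hv, form_perp c Φ hp hp]
    simp only [ha])
  obtain ⟨i, m, hm, hi⟩ := point_normal a hne hiso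
  exact ⟨i, val c m, fun e => hm ((val_eq_zero c).1 e), fun k => by rw [← ha, hi, val_mul]⟩

theorem over_unique {v : Fin 6 → F} {i j : Fin 45} (hi : Φ.Over c v i) (hj : Φ.Over c v j) : i = j := by
  obtain ⟨m, hm, hi⟩ := hi
  obtain ⟨n, hn, hj⟩ := hj
  obtain ⟨l, hl⟩ := val_surjective c (n⁻¹ * m)
  have hl0 : l ≠ 0 := fun e => mul_ne_zero (inv_ne_zero hn) hm (by rw [← hl, e, val_zero])
  refine point_unique i j l hl0 fun k => val_injective c ?_
  rw [val_mul, hl, mul_assoc, ← hi, hj, inv_mul_cancel_left₀ hn]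

theorem adj_iff {v w : Fin 6 → F} {i j : Fin 45} (hv : h p v = 0) (hw : h p w = 0)
    (hi : Φ.Over c v i) (hj : Φ.Over c w j) : O6.adj i j = true ↔ h v w = 0 := by
  obtain ⟨m, hm, hi⟩ := hi
  obtain ⟨n, hn, hj⟩ := hj
  have e : h v w = σ m * n * val c (herm4 (point i) (point j)) := by
    rw [val_herm4 c, form_perp c Φ hv hw, Finset.mul_sum]
    refine Finset.sum_congr rfl fun k _ => ?_
    rw [hi, hj, map_mul]
    ring
  rw [adj_point, e, mul_eq_zero, ← val_eq_zero c]
  exact ⟨Or.inr, fun h => h.resolve_left (mul_ne_zero ((map_ne_zero σ).2 hm) hn)⟩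

/-- The vector over a coded point. -/
noncomputable def rep (i : Fin 45) : Fin 6 → F := ∑ k, val c (point i k) • Φ.e k

theorem co_rep (i : Fin 45) (k : Fin 4) : Φ.co (Φ.rep c i) k = val c (point i k) := by
  simp [co, rep, map_sum, Φ.ee]

theorem p_rep (i : Fin 45) : h p (Φ.rep c i) = 0 := by simp [rep, map_sum, Φ.pe]

theorem rep_iso (i : Fin 45) : h (Φ.rep c i) (Φ.rep c i) = 0 := by
  rw [form_perp c Φ (p_rep c Φ i) (p_rep c Φ i)]
  simp only [co_rep c Φ]
  rw [← val_herm4 c, (adj_point i i).1 (O6.adj_refl i), val_zero]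

theorem rep_over (i : Fin 45) : Φ.Over c (Φ.rep c i) i :=
  ⟨1, one_ne_zero, fun k => by rw [co_rep c Φ, one_mul]⟩

/-- The shape of an element of the radical, up to a scalar. -/
def Rad (t : (Fin 6 → F) →ₗ[F] (Fin 6 → F)) (φ : Fin 4 → F) (z : F) : Prop :=
  ∃ m : F, m ≠ 0 ∧ t p = m • p ∧ (∀ i, t (Φ.e i) = m • (Φ.e i + φ i • p)) ∧
    t Φ.q = m • (Φ.q + ∑ i, σ (φ i) • Φ.e i + z • p)

/-- The parameters which occur. -/
def RadParam (φ : Fin 4 → F) (z : F) : Prop := z + σ z = ∑ i, σ (φ i) * φ i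

include c in
/-- An isometry fixing every isotropic point of the residue. -/
theorem exists_rad (t : (Fin 6 → F) →ₗ[F] (Fin 6 → F)) (ht : ∀ x y, h (t x) (t y) = h x y)
    (hdet : LinearMap.det t = 1) {μ : F} (hμ : t p = μ • p)
    (hfix : ∀ v, h v v = 0 → h p v = 0 → ∃ m : F, ∀ k, Φ.co (t v) k = m * Φ.co v k) :
    ∃ φ z, Φ.Rad t φ z ∧ RadParam (σ := σ) φ z := by
  classical
  set A : Fin 4 → Fin 4 → F := fun j k => Φ.co (t (Φ.e j)) k with hA
  -- two coordinates
  have two : ∀ i j, i ≠ j → ∀ l : F, l ≠ 0 → ∃ m : F, ∀ k,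
      A i k + l * A j k = m * ((if k = i then 1 else 0) + l * (if k = j then 1 else 0)) := by
    intro i j hij l hl
    obtain ⟨m, hm⟩ := hfix (Φ.e i + l • Φ.e j) (by
      simp [Φ.ee, hij, hij.symm]
      linear_combination c.norm l hl + c.two) (by simp [Φ.pe])
    exact ⟨m, fun k => by simpa [co, hA, Φ.ee] using hm k⟩
  have off : ∀ i j, i ≠ j → ∀ k, k ≠ i → k ≠ j → A j k = 0 := by
    intro i j hij k hki hkj
    obtain ⟨o, ho0, ho, -, -⟩ := c.exists_omega
    obtain ⟨m, hm⟩ := two i j hij 1 one_ne_zero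
    obtain ⟨n, hn⟩ := two i j hij o ho0
    have e1 := hm k
    have e2 := hn k
    simp only [hki, hkj, if_false, mul_zero, add_zero, one_mul] at e1 e2
    have ho1 : o - 1 ≠ 0 := fun e => one_ne_zero (α := F) (by
      rw [sub_eq_zero.1 e] at ho; linear_combination ho - c.two)
    exact (mul_eq_zero.1 (show (o - 1) * A j k = 0 by linear_combination e2 - e1)).resolve_left ho1
  have hdiag : ∀ j k, j ≠ k → A j k = 0 := by
    intro j k hjk
    have : ∀ j k : Fin 4, j ≠ k → ∃ i, i ≠ j ∧ k ≠ i := by decide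
    obtain ⟨i, hi, hki⟩ := this j k hjk
    exact off i j hi k hki hjk.symm
  have hsame : ∀ i, A i i = A 0 0 := by
    intro i
    rcases eq_or_ne i 0 with rfl | hi
    · rfl
    obtain ⟨m, hm⟩ := two 0 i hi.symm 1 one_ne_zero
    have e1 := hm 0
    have e2 := hm i
    simp [hi, hi.symm, hdiag i 0 hi, hdiag 0 i hi.symm] at e1 e2
    rw [e1, e2]
  set m := A 0 0 with hmdef
  have hμ0 : μ ≠ 0 := fun e => by
    have := congrArg (h (t Φ.q)) hμ
    rw [ht, qp c Φ, e, zero_smul, map_zero] at this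
    exact one_ne_zero this
  have hnμ := c.norm μ hμ0
  have hpe : ∀ j, h p (t (Φ.e j)) = 0 := fun j => by
    have := ht p (Φ.e j)
    rw [hμ, Φ.pe, map_smulₛₗ, LinearMap.smul_apply, smul_eq_mul, mul_eq_zero] at this
    exact this.resolve_left ((map_ne_zero σ).2 hμ0)
  have he : ∀ j, t (Φ.e j) = m • Φ.e j + h Φ.q (t (Φ.e j)) • p := fun j => by
    conv_lhs => rw [decomp c Φ (t (Φ.e j))]
    rw [hpe j, zero_smul, add_zero, add_comm]
    congr 1
    refine (Finset.sum_eq_single j (fun b _ hb => ?_) fun hb => absurd (Finset.mem_univ j) hb).trans ?_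
    · rw [show Φ.co (t (Φ.e j)) b = A j b from rfl, hdiag j b hb.symm, zero_smul]
    · rw [show Φ.co (t (Φ.e j)) j = A j j from rfl, hsame]
  have hm0 : m ≠ 0 := fun e => by
    have := ht (Φ.e 0) (Φ.e 0)
    rw [he, e, zero_smul, zero_add] at this
    simp [Φ.pp, Φ.ee] at this
  have hnm := c.norm m hm0
  have hpq : h p (t Φ.q) = μ := by
    have := ht p Φ.q
    rw [hμ, Φ.pq, map_smulₛₗ, LinearMap.smul_apply, smul_eq_mul] at this
    linear_combination μ * this - h p (t Φ.q) * hnμ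
  -- the determinant
  have hμm : μ = m := by
    have hrep : ∀ v : Fin 6 → F, ∀ i, (basis c Φ).repr v i =
        (![h Φ.q v, Φ.co v 0, Φ.co v 1, Φ.co v 2, Φ.co v 3, h p v] : Fin 6 → F) i := by
      intro v i
      have : v = ∑ k, (![h Φ.q v, Φ.co v 0, Φ.co v 1, Φ.co v 2, Φ.co v 3, h p v] : Fin 6 → F) k •
          basis c Φ k := by
        conv_lhs => rw [decomp c Φ v]
        simp [coe_basis c Φ, vec, Fin.sum_univ_six, Fin.sum_univ_four]
        abel
      conv_lhs => rw [this, (basis c Φ).repr_sum_self]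
    have hup : (LinearMap.toMatrix (basis c Φ) (basis c Φ) t).BlockTriangular id := by
      intro i j hij
      change j < i at hij
      rw [LinearMap.toMatrix_apply, hrep, coe_basis c Φ]
      fin_cases j <;> fin_cases i <;> first
        | exact absurd hij (by decide)
        | (simp [vec, hμ, hpe, co, ep c Φ, Φ.pp]; done)
        | (simp [vec, co]; exact hdiag _ _ (by decide))
    have hd : ∀ i, LinearMap.toMatrix (basis c Φ) (basis c Φ) t i i = ![μ, m, m, m, m, μ] i := by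
      intro i
      rw [LinearMap.toMatrix_apply, hrep, coe_basis c Φ]
      fin_cases i <;> first
        | (simp [vec, hμ, hpq, qp c Φ]; done)
        | (simp [vec]; exact hsame _)
    have e := hdet
    rw [← LinearMap.det_toMatrix (basis c Φ), Matrix.det_of_isUpperTriangular hup] at e
    simp only [hd, Fin.prod_univ_six, Matrix.cons_val_zero, Matrix.cons_val_one, Matrix.cons_val] at e
    have h1 := c.cube μ hμ0
    have h2 := c.cube m hm0
    linear_combination (-μ) * e + (m * m * m * m) * h1 + m * h2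
  subst hμm
  obtain ⟨φ, hφ⟩ : ∃ φ : Fin 4 → F, ∀ j, h Φ.q (t (Φ.e j)) = m * φ j :=
    ⟨fun j => m⁻¹ * h Φ.q (t (Φ.e j)), fun j => by rw [mul_inv_cancel_left₀ hm0]⟩
  have hco : ∀ j, Φ.co (t Φ.q) j = m * σ (φ j) := by
    intro j
    have := ht (Φ.e j) Φ.q
    rw [he j, eq' c Φ j, hφ, map_add, LinearMap.add_apply, map_smulₛₗ, map_smulₛₗ, LinearMap.smul_apply,
      LinearMap.smul_apply, smul_eq_mul, smul_eq_mul, hpq, map_mul] at this
    change h (Φ.e j) (t Φ.q) = _
    linear_combination m * this - h (Φ.e j) (t Φ.q) * hnm - m * σ (φ j) * hnm + (m * σ (φ j)) * (0 : F) -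
      (m * σ (φ j)) * c.two
  have hq : t Φ.q = m • (Φ.q + ∑ i, σ (φ i) • Φ.e i + (m⁻¹ * h Φ.q (t Φ.q)) • p) := by
    conv_lhs => rw [decomp c Φ (t Φ.q)]
    simp only [hpq, hco, smul_add, Finset.smul_sum, smul_smul, mul_inv_cancel_left₀ hm0]
    abel
  refine ⟨φ, m⁻¹ * h Φ.q (t Φ.q), ⟨m, hm0, hμ, fun j => by rw [he, hφ, smul_add, smul_smul], hq⟩, ?_⟩
  have := ht Φ.q Φ.q
  rw [hq, Φ.qq] at this
  generalize m⁻¹ * h Φ.q (t Φ.q) = z at this ⊢
  simp [Φ.pp, Φ.pq, Φ.qq, Φ.pe, Φ.qe, qp c Φ, ep c Φ, eq' c Φ, Φ.ee, c.form.invol, Fin.sum_univ_four] at this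
  rw [RadParam, Fin.sum_univ_four]
  linear_combination this -
    (z + σ z + (σ (φ 0) * φ 0 + σ (φ 1) * φ 1 + σ (φ 2) * φ 2 + σ (φ 3) * φ 3)) * hnm -
    (σ (φ 0) * φ 0 + σ (φ 1) * φ 1 + σ (φ 2) * φ 2 + σ (φ 3) * φ 3) * c.two

theorem Rad.mul {t t' : (Fin 6 → F) →ₗ[F] (Fin 6 → F)} {φ φ' : Fin 4 → F} {z z' : F}
    (h1 : Φ.Rad t φ z) (h2 : Φ.Rad t' φ' z') :
    Φ.Rad (t ∘ₗ t') (fun i => φ i + φ' i) (z + z' + ∑ i, σ (φ' i) * φ i) := by
  obtain ⟨m, hm, hp, he, hq⟩ := h1
  obtain ⟨m', hm', hp', he', hq'⟩ := h2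
  refine ⟨m' * m, mul_ne_zero hm' hm, by rw [LinearMap.comp_apply, hp', map_smul, hp, smul_smul], fun i => ?_, ?_⟩
  · rw [LinearMap.comp_apply, he', map_smul, map_add, map_smul, hp, he]
    module
  · rw [LinearMap.comp_apply, hq', map_smul, map_add, map_add, map_smul, hp, hq, map_sum]
    simp only [map_smul, he, map_add, Fin.sum_univ_four]
    module

theorem Rad.unique {t t' : (Fin 6 → F) →ₗ[F] (Fin 6 → F)} {a : F} (e : ∀ x, t x = a • t' x)
    {φ φ' : Fin 4 → F} {z z' : F} (h1 : Φ.Rad t φ z) (h2 : Φ.Rad t' φ' z') (c : Ctx σ h) :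
    φ = φ' ∧ z = z' := by
  obtain ⟨m, hm, hp, he, hq⟩ := h1
  obtain ⟨m', hm', hp', he', hq'⟩ := h2
  have hp0 : p ≠ 0 := fun e0 => by
    have := congrArg (fun v => h v Φ.q) e0
    simp [Φ.pq] at this
  have hmm : m = a * m' := smul_left_injective F hp0 (by
    show m • p = (a * m') • p
    rw [← hp, e, hp', smul_smul])
  refine ⟨funext fun i => ?_, ?_⟩
  · have := congrArg (h Φ.q) (e (Φ.e i))
    rw [he, he', smul_smul, ← hmm] at this
    simpa [Φ.qe, qp c Φ, hm] using this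
  · have := congrArg (h Φ.q) (e Φ.q)
    rw [hq, hq', smul_smul, ← hmm] at this
    simpa [Φ.qq, Φ.qe, qp c Φ, map_sum, hm] using this

include c in
theorem Rad.eq_smul {t t' : (Fin 6 → F) →ₗ[F] (Fin 6 → F)}
    {φ : Fin 4 → F} {z : F} (h1 : Φ.Rad t φ z) (h2 : Φ.Rad t' φ z) :
    ∃ a : F, a ≠ 0 ∧ ∀ x, t x = a • t' x := by
  obtain ⟨m, hm, hp, he, hq⟩ := h1
  obtain ⟨m', hm', hp', he', hq'⟩ := h2
  refine ⟨m * m'⁻¹, mul_ne_zero hm (inv_ne_zero hm'), fun x => ?_⟩
  rw [decomp c Φ x]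
  simp only [map_add, map_smul, map_sum, hp, hp', he, he', hq, hq', smul_add, smul_smul, Finset.smul_sum]
  congr 1
  all_goals simp only [Fin.sum_univ_four]
  all_goals match_scalars <;> field_simp

end Frame

end Cfsg.Agent.Transpos.U6
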