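/-
The centraliser of a product of two commuting members in type M(22) acts on the 45 classes of twins; the kernel
`E` is the product of a member and an extraspecial group of order `2 ^ 9`, and the action is that of the
orthogonal group of minus type in dimension six over two elements.
-/
import Cfsg.Agent.Lib.Transpos.M22PairCentralizer
import Cfsg.Agent.Lib.Transpos.PairFrame

set_option autoImplicit false
set_option linter.style.haveILetI false

namespace Cfsg.Agent.Transpos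

open Cfsg Cfsg.Agent.ClassicalSimple

variable {G : Type*} [Group G] {D : Set G}

namespace M22

/-- The centraliser of the product. -/
abbrev CP (p q : G) : Subgroup G := Subgroup.centralizer ({p * q} : Set G)

theorem perm_of_mem_CP (H : M22 D) {p q : G} (hp : p ∈ D) (hq : q ∈ Dc D p) {c : G} (hc : c ∈ CP p q) :
    (c * p * c⁻¹ = p ∧ c * q * c⁻¹ = q) ∨ (c * p * c⁻¹ = q ∧ c * q * c⁻¹ = p) := by
  rw [Subgroup.mem_centralizer_singleton_iff] at hc
  have he : c * p * c⁻¹ * (c * q * c⁻¹) = p * q := by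
    rw [show c * p * c⁻¹ * (c * q * c⁻¹) = c * (p * q) * c⁻¹ by group, hc, mul_inv_cancel_right]
  rcases mem_of_prod_two H.tr H.noTwin₂ (H.conj_mem c hp) (H.conj_mem c hq.1) hp hq.1
    (fun h => hq.2.1 (mul_left_cancel (mul_right_cancel h)).symm) hq.2.1.symm
    ((commute_conj_iff c).2 hq.2.2) hq.2.2 he with h | h
  · rw [h] at he
    exact Or.inl ⟨h, mul_left_cancel he⟩
  · rw [h] at he
    exact Or.inr ⟨h, mul_left_cancel (he.trans hq.2.2.eq)⟩

theorem J_le_CP {p q : G} : J p q ≤ CP p q := fun k hk => by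
  rw [Subgroup.mem_centralizer_singleton_iff]
  exact ((mem_J.1 hk).1.mul_right (mem_J.1 hk).2).eq

theorem conj_common (H : M22 D) {p q : G} (hp : p ∈ D) (hq : q ∈ Dc D p) {c : G} (hc : c ∈ CP p q) {y : G}
    (hy : y ∈ Dc (Dc D p) q) : c * y * c⁻¹ ∈ Dc (Dc D p) q := by
  have := (((stab_of_normal H.grp c).carries.dc p).dc q).1 y hy
  rcases perm_of_mem_CP H hp hq hc with ⟨e1, e2⟩ | ⟨e1, e2⟩
  · rwa [e1, e2] at this
  · rw [e1, e2] at this
    exact dc_dc_symm this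

section

variable (H : M22 D) {p q : G} (hp : p ∈ D) (hq : q ∈ Dc D p) (M : Model D p) {U : Fin 6 → M.F}
  (hU : M.IsPt q U) (Φ : U6.Frame M.h U)

/-- The member `y` lies over the coded point `i`. -/
def AtPt (y : G) (i : Fin 45) : Prop := ∃ V, M.IsPt y V ∧ Φ.Over M.c V i

include H hp hU

theorem exists_atPt {y : G} (hy : y ∈ Dc (Dc D p) q) : ∃ i, AtPt M Φ y i := by
  obtain ⟨V, hV⟩ := M.exists_vec H hp hy.1
  have ho := M.out_of_mem H hp hU hV hy
  obtain ⟨i, hi⟩ := Φ.exists_over M.c hV.iso ho.1 (by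
    by_contra h0
    push Not at h0
    refine ho.2.2 (M.h Φ.q V) ?_
    conv_lhs => rw [Φ.decomp M.c V]
    simp [ho.1, h0])
  exact ⟨i, V, hV, hi⟩

theorem atPt_unique {y : G} {i j : Fin 45} (hi : AtPt M Φ y i) (hj : AtPt M Φ y j) : i = j := by
  obtain ⟨V, hV, hi⟩ := hi
  obtain ⟨W, hW, hj⟩ := hj
  obtain ⟨m, hm⟩ := M.smul_of_eq hV hW rfl
  have hm0 : m ≠ 0 := fun e => hW.ne_zero (by rw [hm, e, zero_smul])
  obtain ⟨n, hn, hi⟩ := hi
  refine Φ.over_unique M.c (v := W) ⟨m * n, mul_ne_zero hm0 hn, fun k => ?_⟩ hj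
  rw [hm, U6.Frame.co, map_smul, smul_eq_mul, mul_assoc]
  exact congrArg (m * ·) (hi k)

theorem out_rep (i : Fin 45) : M.Out U (Φ.rep M.c i) := by
  refine ⟨Φ.p_rep M.c i, Φ.rep_iso M.c i, fun m e => ?_⟩
  obtain ⟨k, hk⟩ := U6.point_ne_zero i
  have e' := congrArg (fun v => Φ.co v k) e
  simp only [U6.Frame.co, map_smul, Φ.ep M.c k, smul_zero] at e'
  exact hk ((U6.val_eq_zero M.c).1 ((Φ.co_rep M.c i k).symm.trans e'))

theorem exists_mem_atPt (i : Fin 45) : ∃ y, y ∈ Dc (Dc D p) q ∧ AtPt M Φ y i := by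
  obtain ⟨y, hy, hyS⟩ := M.pt_of_out H hp hU (out_rep H hp M hU Φ i)
  exact ⟨y, hyS, _, hy, Φ.rep_over M.c i⟩

theorem atPt_adj {y z : G} (hy : y ∈ Dc (Dc D p) q) (hz : z ∈ Dc (Dc D p) q) {i j : Fin 45}
    (hi : AtPt M Φ y i) (hj : AtPt M Φ z j) : O6.adj i j = true ↔ Commute y z := by
  obtain ⟨V, hV, hi⟩ := hi
  obtain ⟨W, hW, hj⟩ := hj
  rw [M.comm_iff H hp hV hW, Φ.adj_iff M.c (M.out_of_mem H hp hU hV hy).1
    (M.out_of_mem H hp hU hW hz).1 hi hj]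

include hq

/-- The image of a coded point. -/
noncomputable def img (c : ↥(CP p q)) (i : Fin 45) : Fin 45 :=
  (exists_atPt H hp M hU Φ (conj_common H hp hq c.2 (exists_mem_atPt H hp M hU Φ i).choose_spec.1)).choose

theorem atPt_img (c : ↥(CP p q)) {y : G} (hy : y ∈ Dc (Dc D p) q) {i : Fin 45} (hi : AtPt M Φ y i) :
    AtPt M Φ ((c : G) * y * (c : G)⁻¹) (img H hp hq M hU Φ c i) := by
  obtain ⟨y₀, hy₀S, hy₀⟩ : ∃ y₀, y₀ ∈ Dc (Dc D p) q ∧ AtPt M Φ y₀ i ∧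
      AtPt M Φ ((c : G) * y₀ * (c : G)⁻¹) (img H hp hq M hU Φ c i) :=
    ⟨_, (exists_mem_atPt H hp M hU Φ i).choose_spec.1, (exists_mem_atPt H hp M hU Φ i).choose_spec.2,
      (exists_atPt H hp M hU Φ
        (conj_common H hp hq c.2 (exists_mem_atPt H hp M hU Φ i).choose_spec.1)).choose_spec⟩
  obtain ⟨j, hj⟩ := exists_atPt H hp M hU Φ (conj_common H hp hq c.2 hy)
  suffices j = img H hp hq M hU Φ c i from this ▸ hj
  refine U6.adj_ext _ _ fun k => ?_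
  obtain ⟨z, hzS, hz⟩ := exists_mem_atPt H hp M hU Φ k
  have hz' : (c : G)⁻¹ * z * (c : G) ∈ Dc (Dc D p) q := by
    have := conj_common H hp hq (inv_mem c.2) hzS
    rwa [inv_inv] at this
  obtain ⟨l, hl⟩ := exists_atPt H hp M hU Φ hz'
  have e : ∀ x, Commute ((c : G) * x * (c : G)⁻¹) z ↔ Commute x ((c : G)⁻¹ * z * (c : G)) := fun x => by
    conv_lhs => rw [show z = (c : G) * ((c : G)⁻¹ * z * (c : G)) * (c : G)⁻¹ by group]
    exact commute_conj_iff (c : G)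
  rw [Bool.eq_iff_iff, atPt_adj H hp M hU Φ (conj_common H hp hq c.2 hy) hzS hj hz,
    atPt_adj H hp M hU Φ (conj_common H hp hq c.2 hy₀S) hzS hy₀.2 hz, e, e,
    ← atPt_adj H hp M hU Φ hy hz' hi hl, ← atPt_adj H hp M hU Φ hy₀S hz' hy₀.1 hl]

theorem img_one (i : Fin 45) : img H hp hq M hU Φ 1 i = i := by
  obtain ⟨y, hy, hi⟩ := exists_mem_atPt H hp M hU Φ i
  refine atPt_unique H hp M hU Φ ?_ hi
  have := atPt_img H hp hq M hU Φ 1 hy hi
  rwa [OneMemClass.coe_one, one_mul, inv_one, mul_one] at this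

theorem img_mul (c d : ↥(CP p q)) (i : Fin 45) :
    img H hp hq M hU Φ (c * d) i = img H hp hq M hU Φ c (img H hp hq M hU Φ d i) := by
  obtain ⟨y, hy, hi⟩ := exists_mem_atPt H hp M hU Φ i
  refine atPt_unique H hp M hU Φ (atPt_img H hp hq M hU Φ (c * d) hy hi) ?_
  have := atPt_img H hp hq M hU Φ c (conj_common H hp hq d.2 hy) (atPt_img H hp hq M hU Φ d hy hi)
  rw [Subgroup.coe_mul]
  rwa [show (c : G) * d * y * ((c : G) * d)⁻¹ = (c : G) * ((d : G) * y * (d : G)⁻¹) * (c : G)⁻¹ by group]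

theorem img_adj (c : ↥(CP p q)) (i j : Fin 45) :
    O6.adj (img H hp hq M hU Φ c i) (img H hp hq M hU Φ c j) = O6.adj i j := by
  obtain ⟨y, hy, hi⟩ := exists_mem_atPt H hp M hU Φ i
  obtain ⟨z, hz, hj⟩ := exists_mem_atPt H hp M hU Φ j
  rw [Bool.eq_iff_iff, atPt_adj H hp M hU Φ hy hz hi hj,
    atPt_adj H hp M hU Φ (conj_common H hp hq c.2 hy) (conj_common H hp hq c.2 hz)
      (atPt_img H hp hq M hU Φ c hy hi) (atPt_img H hp hq M hU Φ c hz hj), commute_conj_iff]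

/-- The action on the coded points. -/
noncomputable def act45 : ↥(CP p q) →* ↥O6.autGraph :=
  MonoidHom.mk' (fun c => ⟨⟨img H hp hq M hU Φ c, img H hp hq M hU Φ c⁻¹,
      fun i => by rw [← img_mul, inv_mul_cancel, img_one],
      fun i => by rw [← img_mul, mul_inv_cancel, img_one]⟩, img_adj H hp hq M hU Φ c⟩)
    fun c d => Subtype.ext (Equiv.ext fun i => img_mul H hp hq M hU Φ c d i)

theorem mem_ker_iff {c : ↥(CP p q)} :
    c ∈ (act45 H hp hq M hU Φ).ker ↔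
      ∀ y i, y ∈ Dc (Dc D p) q → AtPt M Φ y i → AtPt M Φ ((c : G) * y * (c : G)⁻¹) i := by
  constructor
  · intro hc y i hy hi
    have e : img H hp hq M hU Φ c i = i :=
      congrArg (fun π : ↥O6.autGraph => π.1 i) (MonoidHom.mem_ker.1 hc)
    exact e ▸ atPt_img H hp hq M hU Φ c hy hi
  · intro h
    refine MonoidHom.mem_ker.2 (Subtype.ext (Equiv.ext fun i => ?_))
    obtain ⟨y, hy, hi⟩ := exists_mem_atPt H hp M hU Φ i
    exact atPt_unique H hp M hU Φ (atPt_img H hp hq M hU Φ c hy hi) (h y i hy hi)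

theorem act45_transitive [Finite G] (i j : Fin 45) : ∃ c, (act45 H hp hq M hU Φ c).1 i = j := by
  obtain ⟨y, hy, hi⟩ := exists_mem_atPt H hp M hU Φ i
  obtain ⟨z, hz, hj⟩ := exists_mem_atPt H hp M hU Φ j
  obtain ⟨g, e1, e2, e3⟩ := H.conj_triple hp hq hy hp hq hz
  refine ⟨⟨g, J_le_CP (mem_J.2 ⟨mul_inv_eq_iff_eq_mul.1 e1, mul_inv_eq_iff_eq_mul.1 e2⟩)⟩,
    atPt_unique H hp M hU Φ (atPt_img H hp hq M hU Φ _ hy hi) ?_⟩
  show AtPt M Φ (g * y * g⁻¹) j
  rw [e3]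
  exact hj

theorem mem_J_of_ker [Finite G] {c : ↥(CP p q)} (hc : c ∈ (act45 H hp hq M hU Φ).ker) :
    (c : G) ∈ J p q := by
  rcases perm_of_mem_CP H hp hq c.2 with ⟨e1, e2⟩ | ⟨e1, e2⟩
  · exact mem_J.2 ⟨mul_inv_eq_iff_eq_mul.1 e1, mul_inv_eq_iff_eq_mul.1 e2⟩
  exfalso
  refine H.swap_false hp hq M hU e1 e2 fun W hW m y hy => ?_
  have hyS := M.mem_of_out H hp hU hy (hW.add M hU m)
  obtain ⟨i, V', hV', hi⟩ := exists_atPt H hp M hU Φ hyS
  obtain ⟨Z, hZ, n, hn, hZi⟩ := (mem_ker_iff H hp hq M hU Φ).1 hc y i hyS ⟨V', hV', hi⟩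
  obtain ⟨a, ha⟩ := M.smul_of_eq hV' hy rfl
  obtain ⟨l, hl, hli⟩ := hi
  have ha0 : a ≠ 0 := fun e => hy.ne_zero (by rw [ha, e, zero_smul])
  have hZS := conj_common H hp hq c.2 hyS
  have hUZ := (M.out_of_mem H hp hU hZ hZS).1
  have hco : ∀ k, Φ.co Z k = n * (a * l)⁻¹ * Φ.co W k := by
    intro k
    have e : Φ.co W k = a * l * U6.val M.c (U6.point i k) := by
      have := congrArg (fun v => Φ.co v k) ha
      simp only [U6.Frame.co, map_add, map_smul, Φ.ep M.c k, smul_eq_mul, mul_zero, add_zero] at this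
      change M.h (Φ.e k) W = _
      rw [this, mul_assoc]
      exact congrArg (a * ·) (hli k)
    rw [hZi, e, mul_assoc n, inv_mul_cancel_left₀ (mul_ne_zero ha0 hl)]
  set b := n * (a * l)⁻¹ with hb
  have hb0 : b ≠ 0 := mul_ne_zero hn (inv_ne_zero (mul_ne_zero ha0 hl))
  refine ⟨M.h Φ.q (b⁻¹ • Z) - M.h Φ.q W, ?_⟩
  have hd := Φ.decomp M.c (b⁻¹ • Z)
  have hd' := Φ.decomp M.c W
  have hsum : ∑ k, Φ.co (b⁻¹ • Z) k • Φ.e k = ∑ k, Φ.co W k • Φ.e k :=
    Finset.sum_congr rfl fun k _ => by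
      rw [U6.Frame.co, map_smul, smul_eq_mul,
        show M.h (Φ.e k) Z = b * Φ.co W k from hco k, inv_mul_cancel_left₀ hb0]
  have h0 : M.h U (b⁻¹ • Z) = 0 := by rw [map_smul, hUZ, smul_zero]
  rw [h0, zero_smul, add_zero, hsum] at hd
  rw [hW.1, zero_smul, add_zero] at hd'
  have he : b⁻¹ • Z = W + (M.h Φ.q (b⁻¹ • Z) - M.h Φ.q W) • U := by
    linear_combination (norm := module) hd - hd'
  exact he ▸ hZ.smul (inv_ne_zero hb0)

omit H hp hq hU in
/-- The linear map of an element. -/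
def lin (g : SUH M.h) : (Fin 6 → M.F) →ₗ[M.F] (Fin 6 → M.F) :=
  (((g : UH M.h) : (Fin 6 → M.F) ≃ₗ[M.F] (Fin 6 → M.F)) : (Fin 6 → M.F) →ₗ[M.F] (Fin 6 → M.F))

omit H hp hq hU in
theorem lin_apply (g : SUH M.h) (x : Fin 6 → M.F) : lin M g x = g • x := rfl

omit H hp hq hU in
theorem lin_mul (g g' : SUH M.h) : lin M (g * g') = lin M g ∘ₗ lin M g' :=
  LinearMap.ext fun x => mul_smul g g' x

omit H hp hq hU in
/-- The parameters of an element fixing all classes. -/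
def HasPar (k : G) (φ : Fin 4 → M.F) (z : M.F) : Prop :=
  ∃ (hk : k ∈ Subgroup.closure (Dc D p)) (g : SUH M.h),
    QuotientGroup.mk g = M.ψ ⟨k, hk⟩ ∧ Φ.Rad (lin M g) φ z

theorem exists_par [Finite G] {c : ↥(CP p q)} (hc : c ∈ (act45 H hp hq M hU Φ).ker) :
    ∃ φ z, HasPar M Φ (c : G) φ z ∧ U6.Frame.RadParam (σ := M.σ) φ z := by
  obtain ⟨hk', g, hg, e⟩ := exists_rep H hp M hU (mem_J_of_ker H hp hq M hU Φ hc)
  obtain ⟨a, -, ha⟩ := hg
  obtain ⟨φ, z, h1, h2⟩ := Φ.exists_rad M.c (lin M g) (fun x y => U6.isom M.c g x y)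
    ((mem_SUH).1 g.2) (μ := a) ha (fun v hv hUv => by
      by_cases h0 : ∀ k, Φ.co v k = 0
      · refine ⟨0, fun k => ?_⟩
        have hv' : v = M.h Φ.q v • U := by
          conv_lhs => rw [Φ.decomp M.c v]
          simp [hUv, h0]
        rw [zero_mul, hv', map_smul, lin_apply, ha, U6.Frame.co, map_smul, map_smul, Φ.ep M.c k, smul_zero,
          smul_zero]
      push Not at h0
      have hout : M.Out U v := ⟨hUv, hv, fun m e => by
        obtain ⟨k, hk⟩ := h0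
        exact hk (by rw [U6.Frame.co, e, map_smul, Φ.ep M.c k, smul_zero])⟩
      obtain ⟨y, hy, hyS⟩ := M.pt_of_out H hp hU hout
      obtain ⟨i, hi⟩ := Φ.exists_over M.c hv hUv h0
      obtain ⟨W, hW, n, hn, hni⟩ := (mem_ker_iff H hp hq M hU Φ).1 hc y i hyS ⟨v, hy, hi⟩
      obtain ⟨b, hb⟩ := M.smul_of_eq hW (M.acts_lift H hp ⟨c, hk'⟩ e.symm y v hy) rfl
      obtain ⟨m, hm, hmi⟩ := hi
      refine ⟨b * n * m⁻¹, fun k => ?_⟩
      rw [hmi, lin_apply, U6.Frame.co, show g • v = b • W from hb, map_smul, smul_eq_mul]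
      rw [show M.h (Φ.e k) W = Φ.co W k from rfl, hni, mul_assoc (b * n), inv_mul_cancel_left₀ hm,
        mul_assoc])
  exact ⟨φ, z, ⟨hk', g, e, h1⟩, h2⟩

omit H hp hq hU in
theorem HasPar.mul {k k' : G} {φ φ' : Fin 4 → M.F} {z z' : M.F} (h : HasPar M Φ k φ z)
    (h' : HasPar M Φ k' φ' z') :
    HasPar M Φ (k * k') (fun i => φ i + φ' i) (z + z' + ∑ i, M.σ (φ' i) * φ i) := by
  obtain ⟨hk, g, e, hr⟩ := h
  obtain ⟨hk', g', e', hr'⟩ := h'
  refine ⟨mul_mem hk hk', g * g', ?_, ?_⟩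
  · rw [QuotientGroup.mk_mul, e, e', ← map_mul]
    rfl
  · rw [lin_mul]
    exact hr.mul Φ hr'

omit H hp hq hU in
theorem HasPar.unique {k : G} {φ φ' : Fin 4 → M.F} {z z' : M.F} (h : HasPar M Φ k φ z)
    (h' : HasPar M Φ k φ' z') : φ = φ' ∧ z = z' := by
  obtain ⟨hk, g, e, hr⟩ := h
  obtain ⟨hk', g', e', hr'⟩ := h'
  obtain ⟨a, -, ha⟩ := (U6.proj_eq_one_iff M.c (g'⁻¹ * g)).1 (by
    rw [QuotientGroup.mk_mul, QuotientGroup.mk_inv, e, e', inv_mul_cancel])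
  refine hr.unique (a := a) Φ (fun x => ?_) hr' M.c
  have := congrArg (fun v => g' • v) (ha x)
  rw [mul_smul, smul_inv_smul] at this
  rw [lin_apply, this, ← lin_apply, map_smul]

omit hq hU in
theorem HasPar.eq {k k' : G} {φ : Fin 4 → M.F} {z : M.F} (h : HasPar M Φ k φ z)
    (h' : HasPar M Φ k' φ z) : k⁻¹ * k' ∈ Subgroup.zpowers p := by
  obtain ⟨hk, g, e, hr⟩ := h
  obtain ⟨hk', g', e', hr'⟩ := h'
  obtain ⟨a, ha0, ha⟩ := hr'.eq_smul M.c Φ hr
  have h1 : M.ψ (⟨k, hk⟩⁻¹ * ⟨k', hk'⟩) = 1 := by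
    rw [map_mul, map_inv, ← e, ← e', ← QuotientGroup.mk_inv, ← QuotientGroup.mk_mul]
    refine (U6.proj_eq_one_iff M.c _).2 ⟨a, M.c.norm a ha0, fun x => ?_⟩
    rw [mul_smul, inv_smul_eq_iff]
    rw [show g • (a • x) = a • g • x from
      ((g : UH M.h) : (Fin 6 → M.F) ≃ₗ[M.F] (Fin 6 → M.F)).map_smul a x]
    exact ha x
  have h2 := (M.ker _).1 h1
  rw [H.center_eq hp, Subgroup.mem_subgroupOf] at h2
  exact h2

omit hq hU in
theorem hasPar_p : HasPar M Φ p 0 0 := by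
  refine ⟨H.mem_closure_dc hp, 1, ?_, ⟨1, one_ne_zero, ?_, ?_, ?_⟩⟩
  · rw [QuotientGroup.mk_one]
    exact ((M.ker _).2 (by rw [H.center_eq hp, Subgroup.mem_subgroupOf]; exact Subgroup.mem_zpowers p)).symm
  all_goals simp [lin_apply]

omit H hp hq in
theorem hasPar_q : HasPar M Φ q 0 1 := by
  refine ⟨Subgroup.subset_closure hU.mem, U6.tv M.c U hU.iso, hU.2.2.2.symm, ⟨1, one_ne_zero, ?_, ?_, ?_⟩⟩
  all_goals simp [lin_apply, U6.tv_smul, hU.iso, Φ.pe, Φ.pq]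

omit hq in
/-- The product of the members over two points of a line through `q`. -/
theorem hasPar_line {φ : Fin 4 → M.F} (hφ : φ ≠ 0) (hN : ∑ i, M.σ (φ i) * φ i = 0) :
    ∃ y y', y ∈ Dc (Dc D p) q ∧ y' ∈ Dc (Dc D p) q ∧ Commute y y' ∧ HasPar M Φ (y * y') φ 1 := by
  set W := ∑ i, M.σ (φ i) • Φ.e i with hW
  have hUW : M.h U W = 0 := by simp [hW, map_sum, Φ.pe]
  have hco : ∀ j, M.h (Φ.e j) W = M.σ (φ j) := fun j => by simp [hW, map_sum, Φ.ee]
  have hWe : ∀ j, M.h W (Φ.e j) = φ j := fun j => by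
    rw [M.c.form.swap (Φ.e j) W, hco, M.c.form.invol]
  have hWW : M.h W W = 0 := by
    rw [Φ.form_perp M.c hUW hUW]
    simp only [U6.Frame.co, hco, M.c.form.invol]
    rw [← hN]
    exact Finset.sum_congr rfl fun i _ => mul_comm _ _
  have hout : M.Out U W := ⟨hUW, hWW, fun m e => hφ (funext fun j => by
    have := hco j
    rw [e, map_smul, Φ.ep M.c j, smul_zero] at this
    exact (map_eq_zero M.σ).1 this.symm)⟩
  obtain ⟨y, hy, hyS⟩ := M.pt_of_out H hp hU hout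
  have hout' := hout.add M hU 1
  rw [one_smul] at hout'
  obtain ⟨y', hy', hyS'⟩ := M.pt_of_out H hp hU hout'
  have hWU : M.h W U = 0 := M.c.form.comm_zero hUW
  have hqW : M.h Φ.q W = 0 := by simp [hW, map_sum, Φ.qe]
  have hWq : M.h W Φ.q = 0 := M.c.form.comm_zero hqW
  refine ⟨y, y', hyS, hyS', (M.comm_iff H hp hy hy').2 (by simp [hWW, hWU]),
    mul_mem (Subgroup.subset_closure hy.mem) (Subgroup.subset_closure hy'.mem),
    U6.tv M.c W hy.iso * U6.tv M.c (W + U) hy'.iso, ?_, ⟨1, one_ne_zero, ?_, fun j => ?_, ?_⟩⟩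
  · rw [QuotientGroup.mk_mul]
    exact ((congrArg₂ (· * ·) hy.2.2.2 hy'.2.2.2).symm.trans (map_mul M.ψ _ _).symm)
  · rw [lin_apply, mul_smul, U6.tv_smul, U6.tv_smul]
    simp [hWU, hU.iso]
  · rw [lin_apply, mul_smul, U6.tv_smul, U6.tv_smul]
    simp only [map_add, LinearMap.add_apply, map_smul, smul_eq_mul, hWe, Φ.pe, hWW, hWU, add_zero, mul_zero,
      one_smul]
    rw [smul_add, add_assoc, add_assoc, add_comm (φ j • U), ← add_assoc (φ j • W), M.c.addV, zero_add]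
  · rw [lin_apply, mul_smul, U6.tv_smul, U6.tv_smul]
    simp only [map_add, LinearMap.add_apply, map_smul, smul_eq_mul, hWq, Φ.pq, hWW, hWU, add_zero, zero_add,
      mul_zero, one_smul, zero_smul]
    rw [hW]
    abel

end

end M22

end Cfsg.Agent.Transpos
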