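/-
The generalised Fitting subgroup of the centraliser of a product of two commuting members in type M(22):
a group of order two times an extraspecial group of order `2 ^ 9`, with quotient `GO⁻₆(2)`.
-/
import Cfsg.Agent.Lib.Transpos.M22PairOrth
import Cfsg.Agent.Lib.Balance.CharP
import Cfsg.Agent.Lib.PGroup.SymplecticType
import Cfsg.Agent.Lib.TI.Extraspecial
import Cfsg.Agent.Lib.Forms.QuadOrder

set_option autoImplicit false
set_option linter.style.haveILetI false
set_option maxHeartbeats 1000000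

namespace Cfsg.Agent.Transpos

open Cfsg Cfsg.Agent.ClassicalSimple
open scoped commutatorElement

theorem card_isometry_orth_six_minus :
    Nat.card (isometryGroup (ZMod 2) O6.Q6) = 51840 := by
  have hab : ∀ z₁ z₂ : ZMod 2, z₁ ^ 2 + 1 * z₁ * z₂ + 1 * z₂ ^ 2 = 0 → z₁ = 0 ∧ z₂ = 0 := by decide
  rw [Forms.card_isometryGroup (Forms.quadMinus 2 (ZMod 2) 1 1) (fun v => Forms.quadMinus_apply v),
    Forms.card_isomQ_quadMinus 2 hab, ZMod.card]
  norm_num [Finset.prod_range_succ]

/-- A group with squares in a central subgroup has its commutators there. -/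
theorem commutator_mem_of_sq {P : Type*} [Group P] (Z : Subgroup P) (hZ : Z ≤ Subgroup.center P)
    (h : ∀ x : P, x * x ∈ Z) (a b : P) : ⁅a, b⁆ ∈ Z := by
  have ha := Subgroup.mem_center_iff.1 (hZ (Z.inv_mem (h a))) b⁻¹
  have e : ⁅a, b⁆ = a * b * (a * b) * (a * a)⁻¹ * (b * b)⁻¹ := by
    rw [commutatorElement_def]
    calc a * b * a⁻¹ * b⁻¹ = a * b * (a * b) * (b⁻¹ * (a * a)⁻¹) * b⁻¹ := by group
      _ = a * b * (a * b) * ((a * a)⁻¹ * b⁻¹) * b⁻¹ := by rw [ha]
      _ = _ := by group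
  rw [e]
  exact Z.mul_mem (Z.mul_mem (h _) (Z.inv_mem (h a))) (Z.inv_mem (h b))

/-- Squares in a central subgroup of order two not containing a central involution `a`, and nothing else
central but the four elements: the group is `⟨a⟩` times an extraspecial group. -/
theorem exists_split {P : Type*} [Group P] [Finite P] {a j : P} (ha : a ∈ Subgroup.center P)
    (hj : j ∈ Subgroup.center P) (ha2 : a * a = 1) (hj2 : j * j = 1) (ha1 : a ≠ 1) (hj1 : j ≠ 1) (haj : a ≠ j)
    (hsq : ∀ x : P, x * x = 1 ∨ x * x = j)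
    (hcen : ∀ x ∈ Subgroup.center P, x = 1 ∨ x = a ∨ x = j ∨ x = a * j) (hcard : Nat.card P = 1024) :
    ∃ E₀ : Subgroup P, Nat.card E₀ = 512 ∧ IsExtraspecial 2 ↥E₀ ∧
      Nonempty (P ≃* Multiplicative (ZMod 2) × ↥E₀) := by
  classical
  set Z := Subgroup.zpowers j with hZdef
  have hZc : Z ≤ Subgroup.center P := Subgroup.zpowers_le.2 hj
  have hsqZ : ∀ x : P, x * x ∈ Z := fun x => by
    rcases hsq x with e | e <;> rw [e]
    exacts [Z.one_mem, Subgroup.mem_zpowers j]
  have hoj : orderOf j = 2 := orderOf_eq_prime (by rw [pow_two, hj2]) hj1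
  have hoa : orderOf a = 2 := orderOf_eq_prime (by rw [pow_two, ha2]) ha1
  have mem2 : ∀ {b : P}, b * b = 1 → ∀ {x}, x ∈ Subgroup.zpowers b → x = 1 ∨ x = b := by
    intro b hb x hx
    obtain ⟨n, rfl⟩ := Subgroup.mem_zpowers_iff.1 hx
    rcases Int.even_or_odd n with ⟨m, rfl⟩ | ⟨m, rfl⟩
    · exact Or.inl (by rw [← two_mul, zpow_mul, zpow_two, hb, one_zpow])
    · exact Or.inr (by rw [zpow_add_one, zpow_mul, zpow_two, hb, one_zpow, one_mul])
  have haZ : a ∉ Z := fun h => (mem2 hj2 h).elim ha1 haj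
  obtain ⟨E₀, hmax⟩ := Set.Finite.exists_maximal (s := {H : Subgroup P | Z ≤ H ∧ a ∉ H}) (Set.toFinite _)
    ⟨Z, le_rfl, haZ⟩
  obtain ⟨hZE, haE⟩ := hmax.prop
  have hcomm := commutator_mem_of_sq Z hZc hsqZ
  have hnor : E₀.Normal := ⟨fun n hn g => by
    have e : g * n * g⁻¹ = ⁅g, n⁆ * n := by rw [commutatorElement_def]; group
    rw [e]
    exact E₀.mul_mem (hZE (hcomm g n)) hn⟩
  have hsplit : ∀ g : P, g ∈ E₀ ∨ a * g ∈ E₀ := by
    intro g
    by_contra hg
    push Not at hg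
    have h1 : a ∈ E₀ ⊔ Subgroup.zpowers g := by
      by_contra h2
      have := hmax.le_of_ge (y := E₀ ⊔ Subgroup.zpowers g) ⟨hZE.trans le_sup_left, h2⟩ le_sup_left
      exact hg.1 (this (Subgroup.mem_sup_right (Subgroup.mem_zpowers g)))
    obtain ⟨e, he, y, hy, hey⟩ := Subgroup.mem_sup_of_normal_left.1 h1
    obtain ⟨n, rfl⟩ := Subgroup.mem_zpowers_iff.1 hy
    rcases Int.even_or_odd n with ⟨m, rfl⟩ | ⟨m, rfl⟩
    · refine haE (hey ▸ E₀.mul_mem he ?_)
      rw [← two_mul, zpow_mul, zpow_two]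
      exact E₀.zpow_mem (hZE (hsqZ g)) m
    · refine hg.2 ?_
      rw [← hey, zpow_add_one, zpow_mul, zpow_two,
        show e * ((g * g) ^ m * g) * g = e * (g * g) ^ m * (g * g) by group]
      exact E₀.mul_mem (E₀.mul_mem he (E₀.zpow_mem (hZE (hsqZ g)) m)) (hZE (hsqZ g))
  let f : ↥(Subgroup.zpowers a) × ↥E₀ →* P := MonoidHom.noncommCoprod (Subgroup.zpowers a).subtype E₀.subtype
    fun x y => (Subgroup.mem_center_iff.1 (Subgroup.zpowers_le.2 ha x.2) y).symm
  have hf : Function.Bijective f := by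
    refine ⟨(injective_iff_map_eq_one f).2 ?_, fun g => ?_⟩
    · rintro ⟨⟨x, hx⟩, ⟨y, hy⟩⟩ h
      have e : x * y = 1 := h
      rcases mem2 ha2 hx with rfl | rfl
      · rw [one_mul] at e
        simp [e]
      · refine absurd ?_ haE
        rw [eq_inv_of_mul_eq_one_left e]
        exact E₀.inv_mem hy
    · rcases hsplit g with h | h
      · exact ⟨(1, ⟨g, h⟩), one_mul g⟩
      · exact ⟨(⟨a, Subgroup.mem_zpowers a⟩, ⟨a * g, h⟩), by
          show a * (a * g) = g
          rw [← mul_assoc, ha2, one_mul]⟩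
  have hza : Nat.card ↥(Subgroup.zpowers a) = 2 := by rw [Nat.card_zpowers, hoa]
  have hE0 : Nat.card E₀ = 512 := by
    have := Nat.card_eq_of_bijective f hf
    rw [Nat.card_prod, hza, hcard] at this
    omega
  have hcenE : ∀ x : ↥E₀, x ∈ Subgroup.center ↥E₀ → (x : P) = 1 ∨ (x : P) = j := by
    intro x hx
    have hxc : (x : P) ∈ Subgroup.center P := Subgroup.mem_center_iff.2 fun g => by
      rcases hsplit g with h | h
      · exact congrArg Subtype.val (Subgroup.mem_center_iff.1 hx ⟨g, h⟩)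
      · have h1 : a * g * (x : P) = (x : P) * (a * g) :=
          congrArg Subtype.val (Subgroup.mem_center_iff.1 hx ⟨a * g, h⟩)
        rw [← mul_assoc (x : P), Subgroup.mem_center_iff.1 ha (x : P), mul_assoc, mul_assoc] at h1
        exact mul_left_cancel h1
    rcases hcen _ hxc with h | h | h | h
    · exact Or.inl h
    · exact absurd (h ▸ x.2) haE
    · exact Or.inr h
    · refine absurd ?_ haE
      rw [show a = (x : P) * j by rw [h, mul_assoc, hj2, mul_one]]
      exact E₀.mul_mem x.2 (hZE (Subgroup.mem_zpowers j))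
  have hjE : j ∈ E₀ := hZE (Subgroup.mem_zpowers j)
  have hcE : Subgroup.center ↥E₀ = Z.subgroupOf E₀ := by
    ext x
    rw [Subgroup.mem_subgroupOf]
    refine ⟨fun hx => ?_, fun hx => Subgroup.mem_center_iff.2 fun y =>
      Subtype.ext (Subgroup.mem_center_iff.1 (hZc hx) y)⟩
    rcases hcenE x hx with h | h <;> rw [h]
    exacts [Z.one_mem, Subgroup.mem_zpowers j]
  haveI : Fact (Nat.Prime 2) := ⟨Nat.prime_two⟩
  have hc2 : Nat.card ↥(Subgroup.center ↥E₀) = 2 := by
    rw [hcE, Nat.card_congr (Subgroup.subgroupOfEquivOfLe hZE).toEquiv, hZdef, Nat.card_zpowers, hoj]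
  refine ⟨E₀, hE0, PGroup.isExtraspecial_of (IsPGroup.of_card (n := 9) hE0) hc2 (fun h => ?_) (fun x y => ?_)
    (fun x => ?_), ⟨(MulEquiv.ofBijective f hf).symm.trans (MulEquiv.prodCongr ?_ (MulEquiv.refl _))⟩⟩
  · rw [h, Subgroup.card_top, hE0] at hc2
    omega
  · rw [hcE, Subgroup.mem_subgroupOf]
    exact hcomm x y
  · rw [hcE, Subgroup.mem_subgroupOf, Subgroup.coe_pow, pow_two]
    exact hsqZ x
  · exact mulEquivOfPrimeCardEq (p := 2) hza (by
      rw [Nat.card_congr Multiplicative.toAdd, Nat.card_zmod])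

variable {G : Type*} [Group G] [Finite G] {D : Set G}

namespace M22

/-- The order of the centraliser of a product of two members. -/
theorem card_CP (hD : IsThreeTranspositionGroup D) (hprim : IsPrimitiveUnderConj D) (h22 : IsOfTypeM22 G D)
    {p q : G} (hp : p ∈ D) (hq : q ∈ Dc D p) : Nat.card ↥(CP p q) = 53084160 := by
  obtain ⟨_, H, -⟩ := m22_of_primitive hD hprim h22
  obtain ⟨M⟩ := (H.model p hp).2
  have hKcard : Nat.card ↥(J p q) = 26542080 := by
    have h1 := card_eq_orbit_mul (Subgroup.centralizer ({p} : Set G)) q (Dc D p)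
      (fun k hk => by
        have hkp : k * p * k⁻¹ = p :=
          mul_inv_eq_iff_eq_mul.2 (Subgroup.mem_centralizer_singleton_iff.1 hk)
        have := ((stab_of_normal hD k).carries.dc p).1 q hq
        rwa [hkp] at this)
      (fun o ho => by
        obtain ⟨y, -, hyc, e⟩ := M.exists_conj H hp hq ho
        exact ⟨y, Subgroup.mem_centralizer_singleton_iff.2 hyc.eq, e⟩)
    have e : Subgroup.centralizer ({p} : Set G) ⊓ Subgroup.centralizer ({q} : Set G) = J p q := by
      ext x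
      rw [Subgroup.mem_inf, Subgroup.mem_centralizer_singleton_iff, Subgroup.mem_centralizer_singleton_iff,
        mem_J]
      rfl
    rw [e, card_centralizer_member hD hprim h22 hp, H.ncard_dc hp] at h1
    omega
  obtain ⟨s, s1, s2⟩ := H.conj_pair hp hq hq.1 (mem_dc_symm hp hq)
  have hs : s ∈ CP p q := by
    rw [Subgroup.mem_centralizer_singleton_iff]
    exact mul_inv_eq_iff_eq_mul.1 (by
      rw [show s * (p * q) * s⁻¹ = s * p * s⁻¹ * (s * q * s⁻¹) by group, s1, s2, hq.2.2.eq])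
  have h := card_eq_orbit_mul (CP p q) p {p, q}
    (fun k hk => by
      rcases perm_of_mem_CP H hp hq hk with ⟨e, -⟩ | ⟨e, -⟩
      · exact Or.inl e
      · exact Or.inr e)
    (fun o ho => by
      rcases ho with rfl | rfl
      · exact ⟨1, one_mem _, by simp⟩
      · exact ⟨s, hs, s1⟩)
  rw [Set.ncard_pair hq.2.1.symm] at h
  have e : CP p q ⊓ Subgroup.centralizer ({p} : Set G) = J p q := by
    ext x
    refine ⟨fun hx => ?_, fun hx => ⟨J_le_CP hx, Subgroup.mem_centralizer_singleton_iff.2 (mem_J.1 hx).1.eq⟩⟩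
    have hxp := Subgroup.mem_centralizer_singleton_iff.1 hx.2
    rcases perm_of_mem_CP H hp hq hx.1 with ⟨-, e⟩ | ⟨e, -⟩
    · exact mem_J.2 ⟨hxp, mul_inv_eq_iff_eq_mul.1 e⟩
    · exact absurd (e.symm.trans (mul_inv_eq_iff_eq_mul.2 hxp)) hq.2.1
  rw [h, e, hKcard]

section

variable (H : M22 D) {p q : G} (hp : p ∈ D) (hq : q ∈ Dc D p) (M : Model D p) {U : Fin 6 → M.F}
  (hU : M.IsPt q U) (Φ : U6.Frame M.h U)

omit [Finite G] in
theorem norm_fixed (φ : Fin 4 → M.F) : M.σ (∑ i, M.σ (φ i) * φ i) = ∑ i, M.σ (φ i) * φ i := by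
  rw [map_sum]
  exact Finset.sum_congr rfl fun i _ => by rw [map_mul, M.c.form.invol, mul_comm]

omit [Finite G] in
theorem exists_radParam (φ : Fin 4 → M.F) : ∃ z, U6.Frame.RadParam (σ := M.σ) φ z := by
  obtain ⟨d, hd⟩ := M.c.form.exists_trace_one
  refine ⟨d * ∑ i, M.σ (φ i) * φ i, ?_⟩
  rw [U6.Frame.RadParam, map_mul, norm_fixed M]
  linear_combination (∑ i, M.σ (φ i) * φ i) * hd

omit [Finite G] in
theorem card_radParam :
    Nat.card {x : (Fin 4 → M.F) × M.F // U6.Frame.RadParam (σ := M.σ) x.1 x.2} ≤ 512 := by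
  classical
  choose z0 hz0 using exists_radParam M
  haveI : Fintype M.F := Fintype.ofFinite M.F
  let f : {x : (Fin 4 → M.F) × M.F // U6.Frame.RadParam (σ := M.σ) x.1 x.2} → (Fin 4 → M.F) × Bool :=
    fun x => (x.1.1, decide (x.1.2 = z0 x.1.1))
  have hf : Function.Injective f := by
    rintro ⟨⟨φ, z⟩, h1⟩ ⟨⟨φ', z'⟩, h2⟩ e
    simp only [f, Prod.mk.injEq, decide_eq_decide] at e
    obtain ⟨rfl, e⟩ := e
    suffices z = z' by subst this; rfl
    by_cases hz : z = z0 φ
    · exact hz.trans (e.1 hz).symm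
    have key : ∀ w, U6.Frame.RadParam (σ := M.σ) φ w → w ≠ z0 φ → w - z0 φ = 1 := fun w hw hne => by
      refine M.c.eq_one ?_ (sub_ne_zero.2 hne)
      have h0 := hz0 φ
      rw [U6.Frame.RadParam] at hw h0
      rw [map_sub]
      linear_combination hw - h0 - (w - z0 φ) * M.c.two
    have a1 := key z h1 hz
    have a2 := key z' h2 fun h => hz (e.2 h)
    linear_combination a1 - a2
  refine (Nat.card_le_card_of_injective f hf).trans (le_of_eq ?_)
  rw [Nat.card_prod, Nat.card_pi, Finset.prod_const, M.c.card_field, Finset.card_univ, Fintype.card_fin,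
    Nat.card_eq_fintype_card, Fintype.card_bool]
  norm_num

omit [Finite G] in
include H hp in
theorem zpowers_member {x : G} (hx : x ∈ Subgroup.zpowers p) : x = 1 ∨ x = p := by
  have hp2 : p * p = 1 := sq_one H.grp.1 hp
  obtain ⟨n, rfl⟩ := Subgroup.mem_zpowers_iff.1 hx
  rcases Int.even_or_odd n with ⟨m, rfl⟩ | ⟨m, rfl⟩
  · exact Or.inl (by rw [← two_mul, zpow_mul, zpow_two, hp2, one_zpow])
  · exact Or.inr (by rw [zpow_add_one, zpow_mul, zpow_two, hp2, one_zpow, one_mul])

omit [Finite G] in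
include H hp in
theorem HasPar.fibre {k k' : G} {φ : Fin 4 → M.F} {z : M.F} (h : HasPar M Φ k φ z) (h' : HasPar M Φ k' φ z) :
    k' = k ∨ k' = k * p := by
  rcases zpowers_member H hp (HasPar.eq H hp M Φ h h') with e | e
  · exact Or.inl (inv_mul_eq_one.1 e).symm
  · exact Or.inr (by rw [← e, mul_inv_cancel_left])

omit [Finite G] in
include H hp hq hU in
/-- The elements with parameter zero. -/
theorem zero_par {k : G} {z : M.F} (h : HasPar M Φ k 0 z)
    (hv : U6.Frame.RadParam (σ := M.σ) (0 : Fin 4 → M.F) z) : k = 1 ∨ k = p ∨ k = q ∨ k = p * q := by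
  have hp2 : p * p = 1 := sq_one H.grp.1 hp
  simp [U6.Frame.RadParam] at hv
  have hfix : M.σ z = z := by linear_combination hv - z * M.c.two
  by_cases hz : z = 0
  · subst hz
    rcases HasPar.fibre H hp M Φ (hasPar_p H hp M Φ) h with e | e
    · exact Or.inr (Or.inl e)
    · exact Or.inl (e.trans hp2)
  · rw [M.c.eq_one hfix hz] at h
    rcases HasPar.fibre H hp M Φ (hasPar_q M hU Φ) h with e | e
    · exact Or.inr (Or.inr (Or.inl e))
    · exact Or.inr (Or.inr (Or.inr (e.trans hq.2.2.eq.symm)))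

include H hp hq hU

/-- The kernel of the action. -/
noncomputable abbrev PK : Subgroup ↥(CP p q) := (act45 H hp hq M hU Φ).ker

/-- The kernel has order `2 ^ 10`, every parameter occurs and the action is onto. -/
theorem ker_count (hC : Nat.card ↥(CP p q) = 53084160) :
    Nat.card ↥(PK H hp hq M hU Φ) = 1024 ∧
      Function.Surjective (O6.toIsometry.comp (act45 H hp hq M hU Φ)) ∧
      ∀ φ z, U6.Frame.RadParam (σ := M.σ) φ z →
        ∃ k ∈ PK H hp hq M hU Φ, HasPar M Φ ((k : ↥(CP p q)) : G) φ z := by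
  classical
  set E := PK H hp hq M hU Φ with hE
  set ρ := O6.toIsometry.comp (act45 H hp hq M hU Φ) with hρ
  have hker : ρ.ker = E := MonoidHom.ker_comp_of_injective _ _ O6.toIsometry_injective
  have hpar : ∀ k ∈ E, ∃ φ z, HasPar M Φ ((k : ↥(CP p q)) : G) φ z ∧ U6.Frame.RadParam (σ := M.σ) φ z :=
    fun k hk => exists_par H hp hq M hU Φ hk
  choose φf zf hP hv using hpar
  let P : ↥E → {x : (Fin 4 → M.F) × M.F // U6.Frame.RadParam (σ := M.σ) x.1 x.2} :=
    fun k => ⟨(φf k.1 k.2, zf k.1 k.2), hv k.1 k.2⟩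
  let r := fun x => Function.invFun P x
  have hr : ∀ k, P (r (P k)) = P k := fun k => Function.invFun_eq ⟨k, rfl⟩
  let g : ↥E → Set.range P × Bool := fun k => (⟨P k, k, rfl⟩, decide (k = r (P k)))
  have hg : Function.Injective g := by
    intro k k' e
    simp only [g, Prod.mk.injEq, decide_eq_decide] at e
    obtain ⟨e1, e2⟩ := e
    replace e1 : P k = P k' := congrArg Subtype.val e1
    by_cases hk : k = r (P k)
    · exact hk.trans ((congrArg r e1).trans (e2.1 hk).symm)
    have hk' : k' ≠ r (P k') := fun h => hk (e2.2 h)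
    have off : ∀ k : ↥E, k ≠ r (P k) → ((k : ↥(CP p q)) : G) = ((r (P k) : ↥E) : G) * p := by
      intro k hk
      have h1 := hP (r (P k)).1 (r (P k)).2
      have e := congrArg Subtype.val (hr k)
      simp only [P, Prod.mk.injEq] at e
      rw [e.1, e.2] at h1
      rcases HasPar.fibre H hp M Φ h1 (hP k.1 k.2) with h | h
      · exact absurd (Subtype.ext (Subtype.ext h)) hk
      · exact h
    refine Subtype.ext (Subtype.ext ((off k hk).trans ?_))
    rw [off k' hk', e1]
  have hrange : Nat.card ↥ρ.range ≤ 51840 := by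
    rw [← card_isometry_orth_six_minus]
    exact Subgroup.card_le_card_group _
  have hmul : Nat.card ↥(CP p q) = Nat.card ↥ρ.range * Nat.card ↥E := by
    rw [← hker, Subgroup.card_eq_card_quotient_mul_card_subgroup ρ.ker]
    congr 1
    exact Nat.card_congr (QuotientGroup.quotientKerEquivRange ρ).toEquiv
  have hElow : 1024 ≤ Nat.card ↥E := by
    by_contra h
    have := Nat.mul_le_mul hrange (by omega : Nat.card ↥E ≤ 1023)
    omega
  have hEup := Nat.card_le_card_of_injective g hg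
  rw [Nat.card_prod, Nat.card_eq_fintype_card (α := Bool), Fintype.card_bool] at hEup
  have hTle := card_radParam M
  have hRT : Nat.card ↥(Set.range P) ≤
      Nat.card {x : (Fin 4 → M.F) × M.F // U6.Frame.RadParam (σ := M.σ) x.1 x.2} :=
    Nat.card_le_card_of_injective Subtype.val Subtype.val_injective
  have hEcard : Nat.card ↥E = 1024 := by omega
  refine ⟨hEcard, MonoidHom.range_eq_top.1 (Subgroup.eq_top_of_le_card _ ?_), fun φ z h => ?_⟩
  · rw [card_isometry_orth_six_minus]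
    rw [hC, hEcard] at hmul
    omega
  · have hu : Set.range P = Set.univ := Set.eq_of_subset_of_ncard_le (Set.subset_univ _) (by
      rw [Set.ncard_univ, ← Nat.card_coe_set_eq]; omega) (Set.toFinite _)
    obtain ⟨k, hk⟩ := (Set.eq_univ_iff_forall.1 hu) ⟨(φ, z), h⟩
    have := congrArg Subtype.val hk
    simp only [P, Prod.mk.injEq] at this
    exact ⟨k.1, k.2, this.1 ▸ this.2 ▸ hP k.1 k.2⟩

/-- The four elements. -/
theorem sq_four {k : G} (h : k = 1 ∨ k = p ∨ k = q ∨ k = p * q) : k * k = 1 := by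
  have hp2 : p * p = 1 := sq_one H.grp.1 hp
  have hq2 : q * q = 1 := sq_one H.grp.1 hq.1
  rcases h with rfl | rfl | rfl | rfl
  exacts [one_mul 1, hp2, hq2, by rw [hq.2.2.symm.mul_mul_mul_comm, hp2, hq2, one_mul]]

/-- Squares in the kernel. -/
theorem ker_sq {k : ↥(CP p q)} (hk : k ∈ PK H hp hq M hU Φ) :
    (k : G) * k = 1 ∨ (k : G) * k = p * q := by
  have hpq : Commute p q := hq.2.2
  have hp2 : p * p = 1 := sq_one H.grp.1 hp
  have hq2 : q * q = 1 := sq_one H.grp.1 hq.1
  have hsq0 : ∀ k ∈ PK H hp hq M hU Φ,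
      ((k : ↥(CP p q)) : G) * k = 1 ∨ (k : G) * k = q ∨ (k : G) * k = p * q := by
    intro k hk
    obtain ⟨φ, z, h, hv⟩ := exists_par H hp hq M hU Φ hk
    by_cases hφ : φ = 0
    · subst hφ
      exact Or.inl (sq_four H hp hq M hU (zero_par H hp hq M hU Φ h hv))
    by_cases hN0 : ∑ i, M.σ (φ i) * φ i = 0
    · left
      obtain ⟨y, y', hy, hy', cyy, hy2⟩ := hasPar_line H hp M hU Φ hφ hN0
      have hyy : y * y' * (y * y') = 1 := by
        rw [cyy.symm.mul_mul_mul_comm, sq_one H.grp.1 hy.1.1, sq_one H.grp.1 hy'.1.1, one_mul]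
      have cp : Commute (y * y') p := hy.1.2.2.symm.mul_left hy'.1.2.2.symm
      have cq : Commute (y * y') q := hy.2.2.symm.mul_left hy'.2.2.symm
      rw [U6.Frame.RadParam, hN0] at hv
      have hfix : M.σ z = z := by linear_combination hv - z * M.c.two
      obtain ⟨v, hv2, cv, he⟩ : ∃ v, v * v = 1 ∧ Commute (y * y') v ∧ (k : G) = y * y' * v := by
        by_cases hz : z = 0
        · subst hz
          have h0 := hy2.mul M Φ (hasPar_q M hU Φ)
          simp only [Pi.zero_apply, add_zero, map_zero, zero_mul, Finset.sum_const_zero, M.c.two] at h0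
          rcases HasPar.fibre H hp M Φ h0 h with e | e
          · exact ⟨q, hq2, cq, e⟩
          · exact ⟨q * p, by rw [hpq.mul_mul_mul_comm, hq2, hp2, one_mul], cq.mul_right cp, by
              rw [e, mul_assoc]⟩
        · rw [M.c.eq_one hfix hz] at h
          rcases HasPar.fibre H hp M Φ hy2 h with e | e
          · exact ⟨1, one_mul 1, Commute.one_right _, by rw [e, mul_one]⟩
          · exact ⟨p, hp2, cp, e⟩
      rw [he, cv.symm.mul_mul_mul_comm, hyy, hv2, one_mul]
    · have hN1 : ∑ i, M.σ (φ i) * φ i = 1 := M.c.eq_one (norm_fixed M φ) hN0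
      have h2 := h.mul M Φ h
      simp only [M.c.addF, hN1, zero_add] at h2
      rcases HasPar.fibre H hp M Φ (hasPar_q M hU Φ) h2 with e | e
      · exact Or.inr (Or.inl e)
      · exact Or.inr (Or.inr (e.trans hpq.eq.symm))
  obtain ⟨s, s1, s2⟩ := H.conj_pair hp hq hq.1 (mem_dc_symm hp hq)
  have hs : s ∈ CP p q := by
    rw [Subgroup.mem_centralizer_singleton_iff]
    exact mul_inv_eq_iff_eq_mul.1 (by
      rw [show s * (p * q) * s⁻¹ = s * p * s⁻¹ * (s * q * s⁻¹) by group, s1, s2, hpq.eq])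
  rcases hsq0 k hk with e | e | e
  · exact Or.inl e
  · exfalso
    have hk' := (MonoidHom.normal_ker (act45 H hp hq M hU Φ)).conj_mem k hk ⟨s, hs⟩
    have e' : s * k * s⁻¹ * (s * k * s⁻¹) = p := by
      calc s * (k : G) * s⁻¹ * (s * k * s⁻¹) = s * ((k : G) * k) * s⁻¹ := by group
        _ = p := by rw [e, s2]
    have h' : s * k * s⁻¹ * (s * k * s⁻¹) = 1 ∨ s * k * s⁻¹ * (s * k * s⁻¹) = q ∨
        s * k * s⁻¹ * (s * k * s⁻¹) = p * q := hsq0 _ hk'
    rw [e'] at h'
    rcases h' with h | h | h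
    · exact ne_one H.grp.1 hp h
    · exact hq.2.1 h.symm
    · exact ne_one H.grp.1 hq.1 (left_eq_mul.1 h)
  · exact Or.inr e

theorem mem_ker_of_commute {v : G} (hv : v ∈ CP p q) (h : ∀ y ∈ Dc (Dc D p) q, Commute v y) :
    (⟨v, hv⟩ : ↥(CP p q)) ∈ PK H hp hq M hU Φ := by
  refine (mem_ker_iff H hp hq M hU Φ).2 fun y i hy hi => ?_
  show AtPt M Φ (v * y * v⁻¹) i
  rwa [(h y hy).eq, mul_inv_cancel_right]

theorem p_mem_ker : (⟨p, J_le_CP (mem_J.2 ⟨Commute.refl _, hq.2.2⟩)⟩ : ↥(CP p q)) ∈ PK H hp hq M hU Φ :=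
  mem_ker_of_commute H hp hq M hU Φ _ fun _ hy => hy.1.2.2

theorem q_mem_ker :
    (⟨q, J_le_CP (mem_J.2 ⟨hq.2.2.symm, Commute.refl _⟩)⟩ : ↥(CP p q)) ∈ PK H hp hq M hU Φ :=
  mem_ker_of_commute H hp hq M hU Φ _ fun _ hy => hy.2.2

/-- The kernel contains its centraliser. -/
theorem centralizer_ker_le (hC : Nat.card ↥(CP p q) = 53084160) :
    Subgroup.centralizer (PK H hp hq M hU Φ : Set ↥(CP p q)) ≤ PK H hp hq M hU Φ := by
  classical
  obtain ⟨-, -, witness⟩ := ker_count H hp hq M hU Φ hC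
  intro x hx
  have hx' : ∀ k ∈ PK H hp hq M hU Φ, Commute ((k : ↥(CP p q)) : G) (x : G) := fun k hk =>
    congrArg Subtype.val (Subgroup.mem_centralizer_iff.1 hx k hk)
  have hxJ : (x : G) ∈ J p q := mem_J.2
    ⟨(hx' _ (p_mem_ker H hp hq M hU Φ)).symm, (hx' _ (q_mem_ker H hp hq M hU Φ)).symm⟩
  obtain ⟨hxc, g, hgs, eg⟩ := exists_rep H hp M hU hxJ
  obtain ⟨a, ha0, ha⟩ := hgs
  have hperp := fun v hv => U6.perp_of_stab (show g ∈ U6.stab M.h U from ⟨a, ha0, ha⟩) (x := v) hv
  have hsm : ∀ (g : SUH M.h) (b : M.F) w, g • (b • w) = b • g • w := fun g b w =>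
    ((g : UH M.h) : (Fin 6 → M.F) ≃ₗ[M.F] (Fin 6 → M.F)).map_smul b w
  have key : ∀ φ z, U6.Frame.RadParam (σ := M.σ) φ z → ∀ v, M.h U v = 0 →
      ∑ i, Φ.co (g • v) i * φ i = a * ∑ i, Φ.co v i * φ i := by
    intro φ z hv v hUv
    obtain ⟨k, hk, hkc, t, et, m, hm, tU, te, -⟩ := witness φ z hv
    obtain ⟨l, -, hl⟩ := (U6.proj_eq_one_iff M.c ((t * g)⁻¹ * (g * t))).1 (by
      rw [QuotientGroup.mk_mul, QuotientGroup.mk_inv, QuotientGroup.mk_mul, QuotientGroup.mk_mul, eg, et,
        inv_mul_eq_one, ← map_mul, ← map_mul]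
      exact congrArg M.ψ (Subtype.ext (hx' k hk).eq))
    have hl' : ∀ w, g • t • w = l • t • g • w := fun w => by
      have e1 := congrArg (fun u => (t * g) • u) (hl w)
      rw [mul_smul ((t * g)⁻¹) (g * t) w, smul_inv_smul] at e1
      rw [← mul_smul, e1, hsm, mul_smul]
    have tt : ∀ w, M.h U w = 0 → t • w = m • (w + (∑ i, Φ.co w i * φ i) • U) := fun w hw => by
      have hd := Φ.decomp M.c w
      rw [hw, zero_smul, add_zero] at hd
      rw [← lin_apply M t]
      conv_lhs => rw [hd]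
      conv_rhs => arg 2; arg 1; rw [hd]
      rw [map_add, map_smul, map_sum, tU]
      simp only [map_smul, te, Fin.sum_univ_four]
      module
    have tU' : t • U = m • U := tU
    have hl1 : l = 1 := by
      have e1 := hl' U
      rw [tU', hsm, ha, hsm, tU', smul_smul, smul_smul, smul_smul] at e1
      have := smul_left_injective M.F hU.ne_zero e1
      refine (mul_right_cancel₀ (mul_ne_zero hm ha0) ?_).symm
      rw [one_mul]
      linear_combination this
    have e1 := hl' v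
    rw [hl1, one_smul, tt v hUv, hsm, smul_add, hsm, ha, tt (g • v) (hperp v hUv)] at e1
    have e2 := smul_right_injective _ hm e1
    rw [add_right_inj, smul_smul] at e2
    rw [← smul_left_injective M.F hU.ne_zero e2, mul_comm]
  have hfix : ∀ v, M.h U v = 0 → ∀ i, Φ.co (g • v) i = a * Φ.co v i := fun v hv i => by
    obtain ⟨z, hz⟩ := exists_radParam M (Pi.single i 1)
    have := key (Pi.single i 1) z hz v hv
    simpa [Pi.single_apply] using this
  refine (mem_ker_iff H hp hq M hU Φ).2 fun y i hy hi => ?_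
  obtain ⟨V, hV, n, hn, hni⟩ := hi
  refine ⟨g • V, M.acts_lift H hp ⟨x, hxc⟩ eg.symm y V hV, a * n, mul_ne_zero ha0 hn, fun k => ?_⟩
  rw [hfix V (M.out_of_mem H hp hU hV hy).1, hni, mul_assoc]

/-- The kernel is the largest normal 2-subgroup. -/
theorem pCore_CP (hC : Nat.card ↥(CP p q) = 53084160) : pCore 2 ↥(CP p q) = PK H hp hq M hU Φ := by
  classical
  haveI : Fact (Nat.Prime 2) := ⟨Nat.prime_two⟩
  have hEp : IsPGroup 2 ↥(PK H hp hq M hU Φ) :=
    IsPGroup.of_card (n := 10) (ker_count H hp hq M hU Φ hC).1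
  refine le_antisymm ?_ (le_sSup ⟨MonoidHom.normal_ker _, hEp⟩)
  set N := pCore 2 ↥(CP p q) with hN'
  have hNn : N.Normal := Components.pCore_normal' 2
  have hNp : IsPGroup 2 ↥N := Components.isPGroup_pCore' 2
  letI : MulAction ↥N (Fin 45) := MulAction.compHom (Fin 45)
    ((O6.autGraph.subtype.comp (act45 H hp hq M hU Φ)).comp N.subtype)
  have h45 : ¬ 2 ∣ Nat.card (Fin 45) := by rw [Nat.card_fin]; norm_num
  obtain ⟨i₀, hi₀⟩ := hNp.nonempty_fixed_point_of_prime_not_dvd_card (Fin 45) h45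
  intro n hn
  refine MonoidHom.mem_ker.2 (Subtype.ext (Equiv.ext fun j => ?_))
  obtain ⟨c, rfl⟩ := act45_transitive H hp hq M hU Φ i₀ j
  have h := hi₀ ⟨c⁻¹ * n * c, by simpa using hNn.conj_mem n hn c⁻¹⟩
  change (act45 H hp hq M hU Φ (c⁻¹ * n * c)).1 i₀ = i₀ at h
  show (act45 H hp hq M hU Φ n).1 ((act45 H hp hq M hU Φ c).1 i₀) = (act45 H hp hq M hU Φ c).1 i₀
  conv_rhs => rw [← h, ← Equiv.Perm.mul_apply, ← Subgroup.coe_mul, ← map_mul, ← mul_assoc, ← mul_assoc,
    mul_inv_cancel, one_mul]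
  rw [← Equiv.Perm.mul_apply, ← Subgroup.coe_mul, ← map_mul]

/-- The centre of the kernel. -/
theorem ker_center (hC : Nat.card ↥(CP p q) = 53084160) {x : ↥(PK H hp hq M hU Φ)}
    (hx : x ∈ Subgroup.center ↥(PK H hp hq M hU Φ)) :
    ((x : ↥(CP p q)) : G) = 1 ∨ ((x : ↥(CP p q)) : G) = p ∨ ((x : ↥(CP p q)) : G) = q ∨
      ((x : ↥(CP p q)) : G) = p * q := by
  classical
  obtain ⟨-, -, witness⟩ := ker_count H hp hq M hU Φ hC
  obtain ⟨φ, z, h, hv⟩ := exists_par H hp hq M hU Φ x.2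
  have hφ : φ = 0 := by
    funext i
    obtain ⟨o, ho0, ho, hso, -⟩ := M.c.exists_omega
    have key : ∀ l : M.F, M.σ l * φ i = M.σ (φ i) * l := by
      intro l
      obtain ⟨w, hw⟩ := exists_radParam M (Pi.single i l)
      obtain ⟨k, hk, h'⟩ := witness (Pi.single i l) w hw
      have e1 := h.mul M Φ h'
      have e2 := h'.mul M Φ h
      rw [show ((x : ↥(CP p q)) : G) * (k : G) = (k : G) * ((x : ↥(CP p q)) : G) from
        congrArg (fun u : ↥(PK H hp hq M hU Φ) => ((u : ↥(CP p q)) : G))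
          (Subgroup.mem_center_iff.1 hx ⟨k, hk⟩).symm] at e1
      have := (e1.unique M Φ e2).2
      simp [Pi.single_apply, apply_ite M.σ, ite_mul, mul_ite] at this
      linear_combination this
    have k1 := key 1
    have k2 := key o
    rw [map_one, one_mul, mul_one] at k1
    rw [hso, ← k1] at k2
    show φ i = 0
    linear_combination k2 - φ i * ho + (φ i + φ i * o) * M.c.two
  subst hφ
  exact zero_par H hp hq M hU Φ h hv

end

/-- The shape of the centraliser of a product of two members. -/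
theorem pair_fitting (hD : IsThreeTranspositionGroup D) (hprim : IsPrimitiveUnderConj D)
    (h22 : IsOfTypeM22 G D) {p q : G} (hp : p ∈ D) (hq : q ∈ Dc D p)
    [(generalizedFittingSubgroup ↥(CP p q)).Normal] :
    (∃ E₀ : Subgroup ↥(generalizedFittingSubgroup ↥(CP p q)), Nat.card E₀ = 2 ^ 9 ∧ IsExtraspecial 2 ↥E₀ ∧
      Nonempty (↥(generalizedFittingSubgroup ↥(CP p q)) ≃* Multiplicative (ZMod 2) × ↥E₀)) ∧
      Nonempty (↥(CP p q) ⧸ generalizedFittingSubgroup ↥(CP p q) ≃* isometryGroup (ZMod 2) O6.Q6) := by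
  classical
  obtain ⟨_, H, -⟩ := m22_of_primitive hD hprim h22
  obtain ⟨M⟩ := (H.model p hp).2
  obtain ⟨U, hU⟩ := M.exists_vec H hp hq
  obtain ⟨Φ⟩ := U6.exists_frame M.c hU.iso hU.ne_zero
  haveI : Fact (Nat.Prime 2) := ⟨Nat.prime_two⟩
  have hC := card_CP hD hprim h22 hp hq
  obtain ⟨hEcard, hρs, -⟩ := ker_count H hp hq M hU Φ hC
  have hcore := pCore_CP H hp hq M hU Φ hC
  have hF : generalizedFittingSubgroup ↥(CP p q) = PK H hp hq M hU Φ := by
    rw [Balance.generalizedFitting_eq_pCore (p := 2)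
      (by rw [hcore]; exact centralizer_ker_le H hp hq M hU Φ hC), hcore]
  refine ⟨?_, ⟨(QuotientGroup.quotientMulEquivOfEq
      (hF.trans (MonoidHom.ker_comp_of_injective _ _ O6.toIsometry_injective).symm)).trans
    (QuotientGroup.quotientKerEquivOfSurjective _ hρs)⟩⟩
  rw [hF]
  have hpE := p_mem_ker H hp hq M hU Φ
  have hqE := q_mem_ker H hp hq M hU Φ
  have hpq : Commute p q := hq.2.2
  have hp2 : p * p = 1 := sq_one H.grp.1 hp
  set E := PK H hp hq M hU Φ with hEdef
  have hjE := E.mul_mem hpE hqE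
  have hcong : ∀ (u v : ↥E), ((u : ↥(CP p q)) : G) = ((v : ↥(CP p q)) : G) → u = v := fun u v h =>
    Subtype.ext (Subtype.ext h)
  have cen : ∀ u : ↥E, ((u : ↥(CP p q)) : G) = p ∨ ((u : ↥(CP p q)) : G) = p * q →
      u ∈ Subgroup.center ↥E := by
    intro u h
    refine Subgroup.mem_center_iff.2 fun x => hcong _ _ ?_
    have hJ := mem_J.1 (mem_J_of_ker H hp hq M hU Φ x.2)
    show ((x : ↥(CP p q)) : G) * ((u : ↥(CP p q)) : G) = ((u : ↥(CP p q)) : G) * ((x : ↥(CP p q)) : G)
    rcases h with h | h <;> rw [h]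
    exacts [hJ.1.eq, (hJ.1.mul_right hJ.2).eq]
  refine exists_split (P := ↥E) (a := ⟨_, hpE⟩) (j := ⟨_, hjE⟩) (cen _ (Or.inl rfl)) (cen _ (Or.inr rfl))
    (hcong _ _ hp2) (hcong _ _ (sq_four H hp hq M hU (Or.inr (Or.inr (Or.inr rfl))))) ?_ ?_ ?_ ?_ ?_ hEcard
  · exact fun e => ne_one H.grp.1 hp (congrArg (fun u : ↥E => ((u : ↥(CP p q)) : G)) e)
  · intro e
    have e' : p * q = 1 := congrArg (fun u : ↥E => ((u : ↥(CP p q)) : G)) e
    exact hq.2.1 ((eq_inv_of_mul_eq_one_right e').trans (inv_eq H.grp.1 hp))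
  · exact fun e => ne_one H.grp.1 hq.1
      (left_eq_mul.1 (congrArg (fun u : ↥E => ((u : ↥(CP p q)) : G)) e))
  · intro x
    rcases ker_sq H hp hq M hU Φ x.2 with h | h
    exacts [Or.inl (hcong _ _ h), Or.inr (hcong _ _ h)]
  · intro x hx
    rcases ker_center H hp hq M hU Φ hC hx with e | e | e | e
    · exact Or.inl (hcong _ _ e)
    · exact Or.inr (Or.inl (hcong _ _ e))
    · exact Or.inr (Or.inr (Or.inr (hcong _ _ (by
        show ((x : ↥(CP p q)) : G) = p * (p * q)
        rw [e, ← mul_assoc, hp2, one_mul]))))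
    · exact Or.inr (Or.inr (Or.inl (hcong _ _ e)))

end M22

end Cfsg.Agent.Transpos
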