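import Cfsg.Agent.Lib.Transpos.M22PairCentralizer

/-!
# Elements fixing two commuting members and all their common commuting members in type M(22)

They lie in the group generated by the two members.
-/

set_option autoImplicit false
set_option linter.style.haveILetI false
set_option linter.unusedSectionVars false

namespace Cfsg.Agent.Transpos

open Cfsg Cfsg.Agent.ClassicalSimple

variable {G : Type*} [Group G] {D : Set G}

namespace M22

variable [Finite G] (H : M22 D) {p q : G} (hp : p ∈ D) (M : Model D p) {U : Fin 6 → M.F} (hU : M.IsPt q U)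
  [Fintype M.F] (A : U6.Adapt M.c U)
include H hp hU A

/-- An element commuting with all common commuting members is in `⟨p, q⟩`. -/
theorem fixed_mem_pair {k : ↥(J p q)} (hk : ∀ y ∈ Dc (Dc D p) q, Commute (k : G) y) :
    (k : G) ∈ Subgroup.closure ({p, q} : Set G) := by
  classical
  obtain ⟨hk', e⟩ := rep_spec H hp M hU k
  set g := rep H hp M hU k with hg
  obtain ⟨a, ha0, ha⟩ := g.2
  have hsm : ∀ (m : M.F) x, g.1 • (m • x) = m • g.1 • x := fun m x =>
    ((g.1 : UH M.h) : (Fin 6 → M.F) ≃ₗ[M.F] (Fin 6 → M.F)).map_smul m x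
  have eig : ∀ W, M.Out U W → ∃ m : M.F, g.1 • W = m • W := fun W hW => by
    obtain ⟨y, hy, hyL⟩ := M.pt_of_out H hp hU hW
    have hfix : (k : G) * y * (k : G)⁻¹ = y := by
      exact mul_inv_eq_iff_eq_mul.2 (hk y hyL).eq
    exact M.smul_of_eq hy (M.acts_lift H hp ⟨k, hk'⟩ e.symm y W hy) hfix.symm
  have same : ∀ W, M.Out U W → g.1 • W = a • W := fun W hW => by
    obtain ⟨m, hm⟩ := eig W hW
    have hW1 : M.Out U (W + (1 : M.F) • U) := hW.add M hU 1
    obtain ⟨n, hn⟩ := eig _ hW1
    rw [one_smul, smul_add, hm, ha] at hn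
    obtain ⟨e1, e2⟩ := hW.coef hU.ne_zero (s := m - n) (t := a - n) (by
      rw [← sub_eq_zero.2 hn]; module)
    rw [hm, sub_eq_zero.1 e1, ← sub_eq_zero.1 e2]
  obtain ⟨o, ho0, ho, hso, -⟩ := M.c.exists_omega
  have basis : ∀ j : Fin 4, g.1 • A.incl (Pi.single j 1) = a • A.incl (Pi.single j 1) := by
    intro j
    obtain ⟨i, hij⟩ : ∃ i : Fin 4, i ≠ j := exists_ne j
    set x := A.incl (Pi.single i 1)
    set y := A.incl (Pi.single j 1)
    have hxy : ∀ {i j : Fin 4}, M.h (A.incl (Pi.single i 1)) (A.incl (Pi.single j 1)) =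
        if i = j then 1 else 0 := by
      intro i j
      rw [A.h_proj (A.U_incl _) (A.U_incl _), A.proj_incl, A.proj_incl,
        Finset.sum_eq_single j (fun b _ hb => by simp [Pi.single_eq_of_ne hb]) (by simp),
        Pi.single_eq_same, mul_one]
      by_cases h : i = j
      · subst h; simp
      · rw [if_neg h, Pi.single_eq_of_ne (Ne.symm h), map_zero]
    have hout : ∀ b : M.F, M.σ b * b = 1 → M.Out U (x + b • y) := fun b hb => by
      refine ⟨by simp [x, y, A.U_incl], ?_, fun m e => ?_⟩
      · simp [x, y, hxy, hij, hij.symm]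
        linear_combination hb + M.c.two
      · have := congrArg (fun v => A.proj v i) e
        simp [x, y, A.proj_incl, A.proj_U, Pi.single_eq_of_ne hij] at this
    have e1 := same _ (hout 1 (by rw [map_one, mul_one]))
    have e2 := same _ (hout o (M.c.norm o ho0))
    rw [smul_add, hsm] at e1 e2
    have h3 : (1 + o) • (g.1 • y) = (1 + o) • (a • y) := by
      have h4 : (g.1 • x + (1 : M.F) • g.1 • y) + (g.1 • x + o • g.1 • y) =
          a • (x + (1 : M.F) • y) + a • (x + o • y) := by rw [e1, e2]
      rw [show (1 + o) • (g.1 • y) = (g.1 • x + (1 : M.F) • g.1 • y) + (g.1 • x + o • g.1 • y) by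
        rw [add_add_add_comm, M.c.addV, zero_add, add_smul], h4]
      rw [smul_add, smul_add, add_add_add_comm, M.c.addV, zero_add]
      module
    have h1o : (1 : M.F) + o ≠ 0 := fun e0 => ho0 (by
      have : o * (1 + o) = 0 := by rw [e0, mul_zero]
      exfalso
      exact one_ne_zero (α := M.F) (by linear_combination ho - this))
    calc g.1 • y = (1 + o)⁻¹ • ((1 + o) • (g.1 • y)) := (inv_smul_smul₀ h1o _).symm
      _ = a • y := by rw [h3, inv_smul_smul₀ h1o]
  refine mem_pair_of_scalar H hp M hU A e (a := a) fun x hx => ?_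
  rw [A.decomp hx, smul_add, hsm, ha, smul_add, smul_comm a]
  congr 1
  conv_lhs => rw [pi_eq_sum_univ' (A.proj x), map_sum]
  conv_rhs => rw [pi_eq_sum_univ' (A.proj x), map_sum]
  rw [Finset.smul_sum, Finset.smul_sum]
  refine Finset.sum_congr rfl fun j _ => ?_
  rw [map_smul, hsm, basis, smul_comm]


end M22

end Cfsg.Agent.Transpos
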