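import Cfsg.Agent.Lib.Transpos.M22Pairs
import Cfsg.Agent.Lib.Fischer.RankThree

/-!
# The normaliser of the product of two non-commuting members and its conjugates in the joint centraliser

* `exists_s3Hom`: two non-commuting members generate a copy of `Perm (Fin 3)`.
* `sup_eq_normalizer`: `N(⟨a d⟩) = ⟨a, d⟩ C(a, d)`.
* `common_eq`: the members centralising `a d` are the common members of `a` and `d`.
* `pair_transitive`: `C(a, d)` is transitive on ordered pairs of non-commuting common members.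
-/

set_option autoImplicit false
set_option linter.style.haveILetI false

namespace Cfsg.Agent.Transpos

open Cfsg Cfsg.Agent.ClassicalSimple Equiv

section Reach

variable {α : Type*} [Finite α]

/-- Two classes only, as each point has a class of size more than a third. -/
theorem reach_or {S : Set α} {R : α → α → Prop} (hR : Equivalence R) {n : ℕ}
    (hbig : ∀ x ∈ S, n ≤ {y | y ∈ S ∧ R x y}.ncard) (hS : S.ncard < 3 * n) {x y z : α}
    (hx : x ∈ S) (hy : y ∈ S) (hz : z ∈ S) (hxy : ¬ R x y) : R x z ∨ R y z := by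
  by_contra h
  simp only [not_or] at h
  set A := fun x => {y | y ∈ S ∧ R x y} with hA
  have hd : ∀ {u v}, ¬ R u v → Disjoint (A u) (A v) := fun {u v} huv =>
    Set.disjoint_left.2 fun w hw hw' => huv (hR.trans hw.2 (hR.symm hw'.2))
  have h1 : Disjoint (A x ∪ A y) (A z) := Set.disjoint_union_left.2 ⟨hd h.1, hd h.2⟩
  have h2 : (A x ∪ A y ∪ A z).ncard ≤ S.ncard := by
    refine Set.ncard_le_ncard ?_ (Set.toFinite _)
    rintro w ((hw | hw) | hw) <;> exact hw.1
  rw [Set.ncard_union_eq h1, Set.ncard_union_eq (hd hxy)] at h2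
  have k1 : n ≤ (A x).ncard := hbig x hx
  have k2 : n ≤ (A y).ncard := hbig y hy
  have k3 : n ≤ (A z).ncard := hbig z hz
  omega

end Reach

/-- A normal solvable subgroup is trivial when all abelian normal subgroups are. -/
theorem eq_bot_of_no_abelian {G : Type*} [Group G]
    (h : ∀ A : Subgroup G, A.Normal → (∀ x ∈ A, ∀ y ∈ A, Commute x y) → A = ⊥)
    (N : Subgroup G) [N.Normal] (hs : Group.IsSolvable ↥N) : N = ⊥ := by
  obtain ⟨⟨n, hn⟩⟩ := hs
  have key : derivedSeries ↥N 0 = ⊥ := by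
    induction n with
    | zero => exact hn
    | succ n ih =>
      refine ih ((Subgroup.map_eq_bot_iff_of_injective _ N.subtype_injective).1 (h _ inferInstance ?_))
      rintro _ ⟨x, hx, rfl⟩ _ ⟨y, hy, rfl⟩
      rw [derivedSeries_succ, Subgroup.commutator_eq_bot_iff_le_centralizer] at hn
      exact (show Commute x y from (Subgroup.mem_centralizer_iff.1 (hn hx) y hy).symm).map N.subtype
  rw [derivedSeries_zero] at key
  rw [← Subgroup.range_subtype N, MonoidHom.range_eq_map, key, Subgroup.map_bot]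

/-- The standard embedding of `Perm (Fin 3)` in `Perm (Fin 4)`. -/
noncomputable def s3ToS4 : Perm (Fin 3) →* Perm (Fin 4) :=
  Equiv.Perm.extendDomainHom (Fin.castLEquiv (show 3 ≤ 4 by norm_num))

theorem s3ToS4_swap : s3ToS4 (swap 0 1) = swap 0 1 ∧ s3ToS4 (swap 1 2) = swap 1 2 := by
  constructor <;> refine Equiv.ext fun i => ?_ <;> fin_cases i <;>
    simp [s3ToS4, Equiv.Perm.extendDomainHom, Equiv.Perm.extendDomain, Equiv.Perm.subtypeCongr] <;>
    decide

theorem perm_three_gen :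
    Subgroup.closure ({swap 0 1, swap 1 2} : Set (Perm (Fin 3))) = ⊤ := by
  have key : ∀ σ : Perm (Fin 3), σ = 1 ∨ σ = swap 0 1 ∨ σ = swap 1 2 ∨ σ = swap 0 1 * swap 1 2 ∨
      σ = swap 1 2 * swap 0 1 ∨ σ = swap 0 1 * swap 1 2 * swap 0 1 := by decide
  refine (Subgroup.eq_top_iff' _).2 fun σ => ?_
  have h1 : swap (0 : Fin 3) 1 ∈ Subgroup.closure ({swap 0 1, swap 1 2} : Set (Perm (Fin 3))) :=
    Subgroup.subset_closure (Or.inl rfl)
  have h2 : swap (1 : Fin 3) 2 ∈ Subgroup.closure ({swap 0 1, swap 1 2} : Set (Perm (Fin 3))) :=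
    Subgroup.subset_closure (Or.inr rfl)
  rcases key σ with rfl | rfl | rfl | rfl | rfl | rfl
  exacts [one_mem _, h1, h2, mul_mem h1 h2, mul_mem h2 h1, mul_mem (mul_mem h1 h2) h1]

variable {G : Type*} [Group G] [Finite G] {D : Set G}

omit [Finite G] in
/-- Two non-commuting members generate a copy of `Perm (Fin 3)`. -/
theorem exists_s3Hom (hD : IsThreeTranspositionGroup D) {a d : G} (ha : a ∈ D) (hd : d ∈ D)
    (hnc : ¬ Commute a d) : ∃ ψ : Perm (Fin 3) →* G, Function.Injective ψ ∧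
      ψ (swap 0 1) = a ∧ ψ (swap 1 2) = d ∧ ψ.range = Subgroup.closure ({a, d} : Set G) := by
  have aa := sq_one hD.1 ha
  have hb := braid_of_pow_three aa (sq_one hD.1 hd) (mul_pow_three hD ha hd hnc)
  have h : S4Rel a d a := ⟨aa, sq_one hD.1 hd, aa, hb, hb.symm, rfl⟩
  set ψ := (s4Hom h).comp s3ToS4 with hψ
  have e1 : ψ (swap 0 1) = a := by
    rw [hψ, MonoidHom.comp_apply, s3ToS4_swap.1]; exact s4Hom_gen h 0
  have e2 : ψ (swap 1 2) = d := by
    rw [hψ, MonoidHom.comp_apply, s3ToS4_swap.2]; exact s4Hom_gen h 1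
  refine ⟨ψ, (injective_iff_map_eq_one ψ).2 fun σ hσ => ?_, e1, e2, ?_⟩
  · by_contra hne
    have key : ∀ σ : Perm (Fin 3), σ ≠ 1 →
        ∃ g : Perm (Fin 3), g * σ * g⁻¹ = swap 0 1 ∨ g * σ * g⁻¹ = swap 0 1 * swap 1 2 := by decide
    obtain ⟨g, hg | hg⟩ := key σ hne
    · have := congrArg ψ hg
      rw [map_mul, map_mul, hσ, mul_one, ← map_mul, mul_inv_cancel, map_one, e1] at this
      exact hnc (this ▸ Commute.one_left d)
    · have := congrArg ψ hg
      rw [map_mul, map_mul, hσ, mul_one, ← map_mul, mul_inv_cancel, map_one, map_mul, e1, e2] at this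
      exact hnc (mul_eq_one_iff_eq_inv.1 this.symm ▸ (Commute.refl d).inv_left)
  · rw [MonoidHom.range_eq_map, ← perm_three_gen, MonoidHom.map_closure, Set.image_pair, e1, e2]

omit [Finite G] in
theorem mem_centralizer_pair {a d k : G} :
    k ∈ Subgroup.centralizer ({a, d} : Set G) ↔ Commute k a ∧ Commute k d := by
  simp only [Subgroup.mem_centralizer_iff, Set.mem_insert_iff, Set.mem_singleton_iff, forall_eq_or_imp,
    forall_eq]
  exact ⟨fun h => ⟨h.1.symm, h.2.symm⟩, fun h => ⟨h.1.symm, h.2.symm⟩⟩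

omit [Finite G] in
/-- Two non-commuting members generate a group meeting their joint centraliser trivially. -/
theorem closure_inf_centralizer (hD : IsThreeTranspositionGroup D) {a d : G} (ha : a ∈ D) (hd : d ∈ D)
    (hnc : ¬ Commute a d) :
    Subgroup.closure ({a, d} : Set G) ⊓ Subgroup.centralizer ({a, d} : Set G) = ⊥ := by
  obtain ⟨ψ, hψ, e1, e2, hr⟩ := exists_s3Hom hD ha hd hnc
  refine (Subgroup.eq_bot_iff_forall _).2 fun s ⟨hs, hc⟩ => ?_
  rw [← hr] at hs
  obtain ⟨σ, rfl⟩ := hs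
  obtain ⟨c1, c2⟩ := mem_centralizer_pair.1 hc
  rw [← e1] at c1
  rw [← e2] at c2
  have key : ∀ σ : Perm (Fin 3), σ * swap 0 1 = swap 0 1 * σ → σ * swap 1 2 = swap 1 2 * σ → σ = 1 := by
    decide
  rw [key σ (hψ (by rw [map_mul, map_mul]; exact c1.eq)) (hψ (by rw [map_mul, map_mul]; exact c2.eq)),
    map_one]

variable (hD : IsThreeTranspositionGroup D) (hprim : IsPrimitiveUnderConj D) (h22 : IsOfTypeM22 G D)
include hD hprim h22

omit [Finite G] hprim h22 in
/-- Both generators invert the product. -/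
theorem inverts_pair {a d : G} (ha : a ∈ D) (hd : d ∈ D) :
    a * (a * d) * a = d * a ∧ d * (a * d) * d = d * a :=
  ⟨by rw [← mul_assoc a a d, sq_one hD.1 ha, one_mul],
    by rw [mul_assoc d (a * d) d, mul_assoc a d d, sq_one hD.1 hd, mul_one]⟩

/-- The normaliser of the subgroup generated by the product. -/
theorem sup_eq_normalizer {a d : G} (ha : a ∈ D) (hd : d ∈ D) (hnc : ¬ Commute a d) :
    Subgroup.closure ({a, d} : Set G) ⊔ Subgroup.centralizer ({a, d} : Set G) =
      Subgroup.normalizer ((Subgroup.zpowers (a * d) : Subgroup G) : Set G) := by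
  obtain ⟨_, H, -⟩ := m22_of_primitive hD hprim h22
  have xinv : (a * d)⁻¹ = d * a := by rw [mul_inv_rev, inv_eq hD.1 ha, inv_eq hD.1 hd]
  have hmem : ∀ g : G, g * (a * d) * g⁻¹ = a * d ∨ g * (a * d) * g⁻¹ = (a * d)⁻¹ →
      g ∈ Subgroup.normalizer ((Subgroup.zpowers (a * d) : Subgroup G) : Set G) := fun g hg => by
    rw [Subgroup.mem_normalizer_iff_map_conj_eq, MonoidHom.map_zpowers]
    rcases hg with e | e
    · exact congrArg Subgroup.zpowers e
    · exact (congrArg Subgroup.zpowers e).trans (Subgroup.zpowers_inv (g := a * d))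
  refine le_antisymm (sup_le ((Subgroup.closure_le _).2 ?_) fun g hg => hmem g (Or.inl ?_)) fun g hg => ?_
  · rintro y (rfl | rfl) <;> refine hmem _ (Or.inr ?_) <;> rw [xinv, inv_eq hD.1 ‹_›]
    exacts [(inverts_pair hD ha hd).1, (inverts_pair hD ha hd).2]
  · obtain ⟨c1, c2⟩ := mem_centralizer_pair.1 hg
    rw [(c1.mul_right c2).eq, mul_inv_cancel_right]
  · obtain ⟨k, hk⟩ : ∃ k : ℤ, (a * d) ^ k = g * (a * d) * g⁻¹ := Subgroup.mem_zpowers_iff.1
      ((Subgroup.mem_normalizer_iff.1 hg (a * d)).1 (Subgroup.mem_zpowers _))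
    have x3 : (a * d) ^ 3 = 1 := mul_pow_three hD ha hd hnc
    have hne : a * d ≠ 1 := fun e => hnc (by
      rw [mul_eq_one_iff_eq_inv.1 e]; exact (Commute.refl d).inv_left)
    have hk' : g * (a * d) * g⁻¹ = a * d ∨ g * (a * d) * g⁻¹ = (a * d)⁻¹ := by
      rw [← hk, zpow_eq_zpow_emod' k x3]
      have h0 : k % (3 : ℕ) = 0 ∨ k % (3 : ℕ) = 1 ∨ k % (3 : ℕ) = 2 := by omega
      rcases h0 with h | h | h <;> rw [h]
      · exfalso
        refine hne ?_
        rw [zpow_eq_zpow_emod' k x3, h, zpow_zero] at hk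
        simpa using hk.symm
      · exact Or.inl (zpow_one _)
      · right
        rw [show (2 : ℤ) = (2 : ℕ) from rfl, zpow_natCast, pow_two]
        exact eq_inv_of_mul_eq_one_left (by rw [← x3, pow_succ, pow_two])
    have hinv : ∀ y : G, y ∈ D → y * (a * d) * y = d * a →
        g * y * g⁻¹ * (a * d) * (g * y * g⁻¹) = d * a := by
      intro y hy e
      have e' : g * y * g⁻¹ * (g * (a * d) * g⁻¹) * (g * y * g⁻¹) = (g * (a * d) * g⁻¹)⁻¹ := by
        rw [show g * y * g⁻¹ * (g * (a * d) * g⁻¹) * (g * y * g⁻¹) = g * (y * (a * d) * y) * g⁻¹ by group,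
          e, ← xinv]
        group
      rcases hk' with h | h <;> rw [h] at e'
      · rwa [xinv] at e'
      · have e2 := congrArg (fun z => z⁻¹) e'
        simp only [mul_inv_rev (g * y * g⁻¹ * (a * d)⁻¹), mul_inv_rev (g * y * g⁻¹) (a * d)⁻¹,
          inv_eq hD.1 (H.conj_mem g hy), inv_inv] at e2
        rw [← xinv, ← e2]
        group
    obtain ⟨hi1, hi2⟩ := inverts_pair hD ha hd
    have h1 := inverts_eq hD hprim h22 ha hd hnc (H.conj_mem g ha) (hinv a ha hi1)
    have h2 := inverts_eq hD hprim h22 ha hd hnc (H.conj_mem g hd) (hinv d hd hi2)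
    have hne' : g * a * g⁻¹ ≠ g * d * g⁻¹ := fun e =>
      hnc (mul_left_cancel (mul_right_cancel e) ▸ Commute.refl a)
    obtain ⟨ψ, -, e1, e2, hr⟩ := exists_s3Hom hD ha hd hnc
    have e3 : ψ (swap 0 1 * swap 1 2 * swap 0 1) = a * d * a := by rw [map_mul, map_mul, e1, e2]
    let w : Fin 3 → Perm (Fin 3) := ![swap 0 1, swap 1 2, swap 0 1 * swap 1 2 * swap 0 1]
    have conv : ∀ {y}, y = a ∨ y = d ∨ y = a * d * a → ∃ i, ψ (w i) = y := by
      rintro y (rfl | rfl | rfl)
      exacts [⟨0, e1⟩, ⟨1, e2⟩, ⟨2, e3⟩]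
    obtain ⟨i₁, hσ₁⟩ := conv h1
    obtain ⟨i₂, hσ₂⟩ := conv h2
    have key : ∀ i j : Fin 3, i ≠ j →
        ∃ τ : Perm (Fin 3), τ * swap 0 1 * τ⁻¹ = w i ∧ τ * swap 1 2 * τ⁻¹ = w j := by decide
    obtain ⟨τ, t1, t2⟩ := key i₁ i₂ fun e => hne' (by rw [← hσ₁, ← hσ₂, e])
    rw [← t1, map_mul, map_mul, e1, map_inv] at hσ₁
    rw [← t2, map_mul, map_mul, e2, map_inv] at hσ₂
    have fix : ∀ {y}, ψ τ * y * (ψ τ)⁻¹ = g * y * g⁻¹ → Commute ((ψ τ)⁻¹ * g) y := fun {y} e => by
      show (ψ τ)⁻¹ * g * y = y * ((ψ τ)⁻¹ * g)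
      rw [show y * ((ψ τ)⁻¹ * g) = (ψ τ)⁻¹ * (ψ τ * y * (ψ τ)⁻¹) * g by group, e]
      group
    rw [show g = ψ τ * ((ψ τ)⁻¹ * g) by group]
    exact Subgroup.mul_mem_sup (hr ▸ ⟨τ, rfl⟩) (mem_centralizer_pair.2 ⟨fix hσ₁, fix hσ₂⟩)

/-- The members centralising `a d`. -/
theorem common_eq {a d : G} (ha : a ∈ D) (hd : d ∈ D) (hnc : ¬ Commute a d) :
    D ∩ (Subgroup.centralizer ((Subgroup.zpowers (a * d) : Subgroup G) : Set G) : Set G) =
      Dc D a ∩ Dc D d := by
  obtain ⟨_, H, -⟩ := m22_of_primitive hD hprim h22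
  ext z
  have hcz : z ∈ Subgroup.centralizer ((Subgroup.zpowers (a * d) : Subgroup G) : Set G) ↔
      Commute z (a * d) := by
    rw [Subgroup.zpowers_eq_closure, Subgroup.centralizer_closure, Subgroup.mem_centralizer_singleton_iff]
    rfl
  rw [Set.mem_inter_iff, SetLike.mem_coe, hcz]
  constructor
  · rintro ⟨hz, hc⟩
    have zz := sq_one hD.1 hz
    have ca : Commute z a := by
      have e : z * a * z * (a * d) * (z * a * z) = d * a := by
        have e0 : z * (a * d) * z = a * d := by rw [hc.eq, mul_assoc, zz, mul_one]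
        have e1 : z * (d * a) * z = d * a := by
          have := congrArg (fun w => w⁻¹) e0
          simp only [mul_inv_rev, inv_eq hD.1 hz, inv_eq hD.1 ha, inv_eq hD.1 hd] at this
          rwa [← mul_assoc] at this
        rw [show z * a * z * (a * d) * (z * a * z) = z * a * (z * (a * d) * z) * a * z by group, e0,
          show z * a * (a * d) * a * z = z * (a * (a * d) * a) * z by group, (inverts_pair hD ha hd).1,
          e1]
      rcases inverts_eq hD hprim h22 ha hd hnc (H.tr.conj z hz a ha) e with h | h | h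
      · show z * a = a * z
        conv_rhs => rw [← h]
        rw [mul_assoc (z * a), zz, mul_one]
      · -- `z a z = d` gives `z d z = a`, so `z` inverts `a d`
        exfalso
        have e0 : z * (a * d) * z = d * a := by
          rw [← h, show z * (a * (z * a * z)) * z = z * a * z * a * (z * z) by group, zz, mul_one]
        rw [hc.eq, mul_assoc, zz, mul_one] at e0
        exact hnc e0
      · -- `z a z = a d a`: then `z` is `d`
        exfalso
        by_cases hc' : Commute z a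
        · refine hnc ?_
          rw [hc'.eq, mul_assoc, zz, mul_one] at h
          have e0 : a * d = 1 := mul_right_cancel (h.symm.trans (one_mul a).symm)
          rw [mul_eq_one_iff_eq_inv.1 e0]
          exact (Commute.refl d).inv_left
        · rw [← braid_of_pow_three zz (sq_one hD.1 ha) (mul_pow_three hD hz ha hc')] at h
          obtain rfl : z = d := mul_left_cancel (mul_right_cancel h)
          have := hc.mul_right (Commute.refl z)
          rw [mul_assoc, zz, mul_one] at this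
          exact hc' this
    have cd : Commute z d := by
      have := ca.mul_right hc
      rwa [← mul_assoc, sq_one hD.1 ha, one_mul] at this
    exact ⟨⟨hz, fun e => hnc (e ▸ cd), ca.symm⟩, hz, fun e => hnc (e ▸ ca).symm, cd.symm⟩
  · exact fun h => ⟨h.1.1, h.1.2.2.symm.mul_right h.2.2.2.symm⟩

/-- Some common member commutes with `b` and not with `e`. -/
theorem exists_apart {a d b e : G} (ha : a ∈ D) (hd : d ∈ D) (hnc : ¬ Commute a d)
    (hb : b ∈ Dc D a ∩ Dc D d) (he : e ∈ Dc D a ∩ Dc D d) (hbe : ¬ Commute b e) :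
    ∃ f ∈ Dc D a ∩ Dc D d, f ≠ b ∧ Commute f b ∧ ¬ Commute f e := by
  obtain ⟨_, H, -⟩ := m22_of_primitive hD hprim h22
  obtain ⟨f, hf, hfb⟩ := H.exists_adj ha hd hnc hb
  by_cases hfe : Commute f e
  · obtain ⟨g, g', ⟨hg, hgb, -⟩, ⟨hg', hgb', -⟩, hline⟩ :=
      H.exists_line_common ha hd hnc hb hf hfb
    have hef : e ∈ Dc D f := ⟨he.1.1, fun e' => hbe (e' ▸ hfb.2.2), hfe⟩
    by_cases h1 : Commute e g
    · exact ⟨g', hg', hgb'.2.1, hgb'.2.2.symm, fun h2 => hbe (hline e hef h1 h2.symm).symm⟩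
    · exact ⟨g, hg, hgb.2.1, hgb.2.2.symm, fun h => h1 h.symm⟩
  · exact ⟨f, hf, hfb.2.1, hfb.2.2.symm, hfe⟩

omit [Finite G] hprim h22 in
theorem conj_common {a d k z : G} (hk : k ∈ Subgroup.centralizer ({a, d} : Set G))
    (hz : z ∈ Dc D a ∩ Dc D d) : k * z * k⁻¹ ∈ Dc D a ∩ Dc D d := by
  obtain ⟨c1, c2⟩ := mem_centralizer_pair.1 hk
  have ea : k * a * k⁻¹ = a := by rw [c1.eq, mul_inv_cancel_right]
  have ed : k * d * k⁻¹ = d := by rw [c2.eq, mul_inv_cancel_right]
  exact ⟨ea ▸ (stab_of_normal hD k).carries.dc a |>.1 z hz.1,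
    ed ▸ (stab_of_normal hD k).carries.dc d |>.1 z hz.2⟩

omit [Finite G] hprim h22 in
/-- The conjugate of `b e` by `f` does not commute with `b e`, when `b f` is the only commuting pair. -/
theorem not_commute_conj {b e f : G} (hb : b ∈ D) (he : e ∈ D) (hf : f ∈ D) (hne : f ≠ b)
    (cfb : Commute f b) (hbe : ¬ Commute b e) (hfe : ¬ Commute f e) :
    ¬ Commute (b * e) (f * (b * e) * f) := by
  intro hc
  have bb := sq_one hD.1 hb
  have ee := sq_one hD.1 he
  have ff := sq_one hD.1 hf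
  have b1 : e * b * e = b * e * b := braid_of_pow_three bb ee (mul_pow_three hD hb he hbe)
  have b2 : e * f * e = f * e * f := braid_of_pow_three ff ee (mul_pow_three hD hf he hfe)
  have e1 : f * (b * e) * f = b * (e * f * e) := by
    rw [b2, ← mul_assoc f b e, cfb.eq]; group
  have e2 : b * e * (b * e) = e * b := by
    rw [show b * e * (b * e) = b * (e * b * e) by group, b1,
      show b * (b * e * b) = b * b * (e * b) by group, bb, one_mul]
  have h := hc.eq
  rw [e1, show b * e * (b * (e * f * e)) = b * e * (b * e) * (f * e) by group, e2,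
    show b * (e * f * e) * (b * e) = b * e * f * (e * b * e) by group, b1,
    show b * e * f * (b * e * b) = b * e * (f * b) * e * b by group, cfb.eq,
    show b * e * (b * f) * e * b = b * e * b * f * e * b by group, ← b1,
    show e * b * e * f * e * b = e * b * (e * f * e) * b by group, b2, mul_assoc (e * b) (f * e * f) b] at h
  have h' := mul_left_cancel h
  rw [mul_assoc, left_eq_mul] at h'
  exact hne (mul_eq_one_iff_eq_inv.1 h' |>.trans (inv_eq hD.1 hb))

omit [Finite G] hD hprim h22 in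
theorem common_le_centralizer {a d z : G} (hz : z ∈ Dc D a ∩ Dc D d) :
    z ∈ Subgroup.centralizer ({a, d} : Set G) :=
  mem_centralizer_pair.2 ⟨hz.1.2.2.symm, hz.2.2.2.symm⟩

/-- No abelian normal subgroup in the joint centraliser. -/
theorem no_abelian_normal {a d : G} (ha : a ∈ D) (hd : d ∈ D) (hnc : ¬ Commute a d)
    (A : Subgroup ↥(Subgroup.centralizer ({a, d} : Set G))) (hN : A.Normal)
    (hA : ∀ x ∈ A, ∀ y ∈ A, Commute x y) : A = ⊥ := by
  obtain ⟨_, H, -⟩ := m22_of_primitive hD hprim h22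
  let J := Subgroup.centralizer ({a, d} : Set G)
  obtain ⟨hKJ, hzc, -⟩ := closure_common hD hprim h22 ha hd hnc
  set A' := A.map J.subtype with hA'
  have cA : ∀ x ∈ A', ∀ y ∈ A', Commute x y := by
    rintro _ ⟨x, hx, rfl⟩ _ ⟨y, hy, rfl⟩
    exact (hA x hx y hy).map J.subtype
  have nA : ∀ k ∈ J, ∀ x ∈ A', k * x * k⁻¹ ∈ A' := by
    rintro k hk _ ⟨x, hx, rfl⟩
    exact ⟨⟨k, hk⟩ * x * ⟨k, hk⟩⁻¹, hN.conj_mem x hx ⟨k, hk⟩, rfl⟩
  have edge : ∀ b ∈ Dc D a ∩ Dc D d, ∀ e ∈ Dc D a ∩ Dc D d, ¬ Commute b e → b * e ∉ A' := by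
    intro b hb e he hbe hmem
    obtain ⟨f, hf, hfne, hfb, hfe⟩ := exists_apart hD hprim h22 ha hd hnc hb he hbe
    have h2 := nA f (common_le_centralizer hf) _ hmem
    rw [inv_eq hD.1 hf.1.1] at h2
    exact not_commute_conj hD hb.1.1 he.1.1 hf.1.1 hfne hfb hbe hfe
      (cA _ hmem _ h2)
  by_contra hne
  obtain ⟨α, hα, hα1⟩ := (Subgroup.bot_or_exists_ne_one A).resolve_left hne
  obtain ⟨b, hb, hαb⟩ : ∃ b ∈ Dc D a ∩ Dc D d, ¬ Commute (α : G) b := by
    by_contra h
    simp only [not_exists, not_and, not_not] at h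
    refine hα1 (Subtype.ext ?_)
    have hαK : (α : G) ∈ Subgroup.closure (Dc D a ∩ Dc D d) := by
      rw [hKJ]; exact α.2
    have hc : (⟨α, hαK⟩ : ↥(Subgroup.closure (Dc D a ∩ Dc D d))) ∈ Subgroup.center _ := by
      refine Subgroup.mem_center_iff.2 fun y => Subtype.ext ?_
      have hy : (y : G) ∈ Subgroup.centralizer ({(α : G)} : Set G) :=
        (Subgroup.closure_le _).2 (fun z hz => Subgroup.mem_centralizer_singleton_iff.2 (h z hz).eq.symm)
          y.2
      exact Subgroup.mem_centralizer_singleton_iff.1 hy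
    rw [hzc, Subgroup.mem_bot] at hc
    exact congrArg (fun k : ↥(Subgroup.closure (Dc D a ∩ Dc D d)) => (k : G)) hc
  set e := (α : G) * b * (α : G)⁻¹ with hedef
  have he : e ∈ Dc D a ∩ Dc D d := conj_common hD α.2 hb
  have hbe' : b * e ∈ A' := by
    have h1 := nA b (common_le_centralizer hb) _ ⟨α, hα, rfl⟩
    rw [inv_eq hD.1 hb.1.1] at h1
    have := mul_mem h1 (inv_mem (⟨α, hα, rfl⟩ : (α : G) ∈ A'))
    rw [hedef, show b * ((α : G) * b * (α : G)⁻¹) = b * (α : G) * b * (α : G)⁻¹ by group]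
    exact this
  have hne' : e ≠ b := fun k => hαb (mul_inv_eq_iff_eq_mul.1 k)
  by_cases hbe : Commute b e
  · obtain ⟨f, hf, hfe, hfb⟩ := H.exists_opp_common ha hd hnc he hb ⟨hb.1.1, hne'.symm, hbe.symm⟩
    have ff := sq_one hD.1 hf.1.1
    have h2 := nA f (common_le_centralizer hf) _ hbe'
    have h3 := mul_mem h2 hbe'
    have ef : f * e = e * f := hfe.2.2.symm.eq
    have e4 : f * (b * e) * f⁻¹ * (b * e) = f * b * f * b := by
      rw [inv_eq hD.1 hf.1.1, show f * (b * e) * f = f * b * (e * f) by group, ← ef,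
        hbe.eq, show f * b * (f * e) * (e * b) = f * b * f * (e * e) * b by group,
        sq_one hD.1 he.1.1, mul_one]
    rw [e4] at h3
    refine edge (f * b * f) ?_ b hb ?_ h3
    · have := conj_common hD (common_le_centralizer hf) hb
      rwa [inv_eq hD.1 hf.1.1] at this
    · intro k
      have hb' := braid_of_pow_three ff (sq_one hD.1 hb.1.1) (mul_pow_three hD hf.1.1 hb.1.1 hfb)
      have k' := k.eq
      rw [← hb', show b * f * b * b = b * f * (b * b) by group, sq_one hD.1 hb.1.1, mul_one,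
        show b * (b * f * b) = b * b * (f * b) by group, sq_one hD.1 hb.1.1, one_mul] at k'
      exact hfb k'.symm
  · exact edge b hb e he hbe hbe'

/-- The joint centraliser is transitive on ordered pairs of non-commuting common members. -/
theorem pair_transitive {a d b c b' c' : G} (ha : a ∈ D) (hd : d ∈ D) (hnc : ¬ Commute a d)
    (hb : b ∈ Dc D a ∩ Dc D d) (hc : c ∈ Dc D a ∩ Dc D d) (hbc : ¬ Commute b c)
    (hb' : b' ∈ Dc D a ∩ Dc D d) (hc' : c' ∈ Dc D a ∩ Dc D d) (hbc' : ¬ Commute b' c') :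
    ∃ k ∈ Subgroup.centralizer ({a, d} : Set G), k * b * k⁻¹ = b' ∧ k * c * k⁻¹ = c' := by
  classical
  obtain ⟨_, H, -⟩ := m22_of_primitive hD hprim h22
  set J := Subgroup.centralizer ({a, d} : Set G) with hJ
  set S := Dc D a ∩ Dc D d with hS
  set E : Set ↥J := {k | (k : G) ∈ S} with hE
  have hSJ : ∀ z ∈ S, z ∈ J := fun z hz => common_le_centralizer hz
  have comm : ∀ {x y : ↥J}, Commute x y ↔ Commute (x : G) (y : G) := fun {x y} =>
    ⟨fun h => h.map J.subtype, fun h => Subtype.ext h⟩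
  have hord : ∀ x ∈ S, ∀ y ∈ S, (x * y) ^ 2 = 1 ∨ (x * y) ^ 3 = 1 := fun x hx y hy =>
    hD.1.2 x hx.1.1 y hy.1.1
  have tset : Fischer.TSet E := by
    refine ⟨fun x hx => Subtype.ext (sq_one hD.1 hx.1.1), fun x hx e => ?_, fun x hx y hy => ?_,
      fun g x hx => conj_common hD g.2 hx⟩
    · have h2 := hD.1.1 (x : G) hx.1.1
      rw [congrArg Subtype.val e, Subgroup.coe_one, orderOf_one] at h2
      norm_num at h2
    · rcases hord _ hx _ hy with h | h
      · exact Or.inl (Subtype.ext h)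
      · exact Or.inr (Subtype.ext h)
  have hcard : S.ncard = 126 := (pair_data hD hprim h22 ha hd hnc).1
  have hnb : ∀ x ∈ S, {y | y ∈ S ∧ Commute x y}.ncard = 46 := by
    intro x hx
    have e : {y | y ∈ S ∧ Commute x y} = insert x {f | f ∈ S ∧ f ∈ Dc D x} := by
      ext y
      constructor
      · intro hy
        by_cases h : y = x
        · exact Or.inl h
        · exact Or.inr ⟨hy.1, hy.1.1.1, h, hy.2⟩
      · rintro (rfl | hy)
        exacts [⟨hx, Commute.refl y⟩, ⟨hy.1, hy.2.2.2⟩]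
    rw [e, Set.ncard_insert_of_notMem fun h => h.2.2.1 rfl, H.ncard_common_dc ha hd hnc hx]
  have both : ∀ x ∈ S, ∀ y ∈ S, ∃ z ∈ S, ¬ Commute x z ∧ ¬ Commute z y := by
    intro x hx y hy
    by_contra h
    simp only [not_exists, not_and, not_not] at h
    have h1 : S ⊆ {z | z ∈ S ∧ Commute x z} ∪ {z | z ∈ S ∧ Commute y z} := fun z hz => by
      by_cases k : Commute x z
      · exact Or.inl ⟨hz, k⟩
      · exact Or.inr ⟨hz, (h z hz k).symm⟩
    have h2 := (Set.ncard_le_ncard h1 (Set.toFinite _)).trans (Set.ncard_union_le _ _)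
    rw [hcard, hnb x hx, hnb y hy] at h2
    norm_num at h2
  have tcls : Fischer.TClass E := by
    refine ⟨tset, fun x hx y hy => ?_, ?_, ⟨⟨b, hSJ b hb⟩, hb⟩⟩
    · obtain ⟨z, hz, hxz, hzy⟩ := both x hx y hy
      obtain ⟨s1, -⟩ := tset.edge_swap hx (show (⟨z, hSJ z hz⟩ : ↥J) ∈ E from hz)
        fun k => hxz (comm.1 k)
      obtain ⟨s2, -⟩ := tset.edge_swap (show (⟨z, hSJ z hz⟩ : ↥J) ∈ E from hz) hy
        fun k => hzy (comm.1 k)
      refine ⟨⟨z, hSJ z hz⟩ * y * ⟨z, hSJ z hz⟩ * (x * ⟨z, hSJ z hz⟩ * x), ?_⟩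
      set A := (⟨z, hSJ z hz⟩ : ↥J) * y * ⟨z, hSJ z hz⟩
      set B := x * (⟨z, hSJ z hz⟩ : ↥J) * x
      rw [show A * B * x * (A * B)⁻¹ = A * (B * x * B⁻¹) * A⁻¹ by group, s1, s2]
    · refine top_unique fun k _ => ?_
      have hk : (k : G) ∈ Subgroup.closure S := by rw [(closure_common hD hprim h22 ha hd hnc).1]; exact k.2
      have : (k : G) ∈ (Subgroup.closure E).map J.subtype := by
        rw [MonoidHom.map_closure]
        exact Subgroup.closure_mono (fun z hz => by exact ⟨⟨z, hSJ z hz⟩, hz, rfl⟩) hk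
      obtain ⟨k', hk', e⟩ := this
      rwa [← Subtype.ext e]
  have hsol : ∀ N : Subgroup ↥J, N.Normal → Group.IsSolvable ↥N → N ≤ commutator ↥J → N = ⊥ :=
    fun N hN hs _ => haveI := hN
      eq_bot_of_no_abelian (fun A hA hc => no_abelian_normal hD hprim h22 ha hd hnc A hA hc) N hs
  let R := Relation.ReflTransGen (Fischer.CAdj E)
  have hconn : ∀ x ∈ E, ∀ y ∈ E, R x y := by
    let P : E → E → Prop := fun u v => R u.1 v.1
    have mem_of : ∀ {u v : ↥J}, u ∈ E → R u v → v ∈ E := fun {u v} hu h => by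
      rcases Relation.ReflTransGen.cases_tail h with e | ⟨_, -, e⟩
      · exact e ▸ hu
      · exact e.1
    have symm' : ∀ {u v : ↥J}, u ∈ E → R u v → R v u := fun {u v} hu h => by
      induction h with
      | refl => exact Relation.ReflTransGen.refl
      | tail hr hs ih => exact (Relation.ReflTransGen.single ⟨mem_of hu hr, hs.2.symm⟩).trans ih
    have hP : Equivalence P := ⟨fun u => Relation.ReflTransGen.refl, fun {u v} h => symm' u.2 h,
      fun h h' => h.trans h'⟩
    have cconj : ∀ (g : ↥J) {u v : ↥J}, R u v → R (g * u * g⁻¹) (g * v * g⁻¹) := fun g {u v} h =>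
      h.lift (fun w => g * w * g⁻¹) fun p q hs => ⟨tset.conj g q hs.1, hs.2.conj g⟩
    intro x hx y hy
    by_contra hxy
    have hcE : (Set.univ : Set E).ncard < 3 * 46 := by
      have e : (Set.univ : Set E).ncard ≤ S.ncard := Set.ncard_le_ncard_of_injOn
        (fun w => (w.1 : G)) (fun w _ => w.2) (fun u _ v _ e => Subtype.ext (Subtype.ext e))
        (Set.toFinite _)
      omega
    have hbig : ∀ u ∈ (Set.univ : Set E), 46 ≤ {v | v ∈ (Set.univ : Set E) ∧ P u v}.ncard := by
      intro u _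
      rw [← hnb _ u.2]
      refine Set.ncard_le_ncard_of_injOn (fun z => if hz : z ∈ S then ⟨⟨z, hSJ z hz⟩, hz⟩ else u)
        (fun z hz => ⟨trivial, ?_⟩) (fun z hz w hw e => ?_) (Set.toFinite _)
      · simp only [dif_pos hz.1]
        exact Relation.ReflTransGen.single ⟨hz.1, comm.2 hz.2⟩
      · simp only [dif_pos hz.1, dif_pos hw.1] at e
        exact congrArg (fun w : E => ((w : ↥J) : G)) e
    have hnxy : ¬ Commute x y := fun k => hxy (Relation.ReflTransGen.single ⟨hy, k⟩)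
    have hzE := tset.conj_mem hy hx
    have yy := tset.sq y hy
    have xx := tset.sq x hx
    have hbr := tset.braid hy hx fun k => hnxy k.symm
    rcases reach_or hP hbig hcE (x := ⟨x, hx⟩) (y := ⟨y, hy⟩) (z := ⟨_, hzE⟩) trivial trivial trivial
      hxy with h | h
    · have h' : R (x * x * x⁻¹) (x * (y * x * y) * x⁻¹) := cconj x h
      rw [mul_inv_cancel_right, tset.inv_eq hx, hbr, Fischer.invol_conj_invol xx] at h'
      exact hxy h'
    · have h' : R (y * y * y⁻¹) (y * (y * x * y) * y⁻¹) := cconj y h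
      rw [mul_inv_cancel_right, tset.inv_eq hy, Fischer.invol_conj_invol yy] at h'
      exact hxy (symm' hy h')
  have nb : ∀ {x y : ↥J}, y ∈ E → ¬ Commute (x : G) (y : G) → y ∈ Fischer.nbr E x :=
    fun {x y} hy h => ⟨hy, fun k => h (comm.1 k)⟩
  obtain ⟨g, hg⟩ := tcls.trans ⟨b, hSJ b hb⟩ hb ⟨b', hSJ b' hb'⟩ hb'
  have gb : (g : G) * b * (g : G)⁻¹ = b' := congrArg Subtype.val hg
  set c1 : ↥J := g * ⟨c, hSJ c hc⟩ * g⁻¹ with hc1
  have n1 : ¬ Commute b' (c1 : G) := by
    rw [← gb]; exact fun k => hbc ((commute_conj_iff (g : G)).1 k)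
  obtain ⟨k, k1, k2⟩ := Fischer.nbr_transitive tcls hsol hconn (a := ⟨b', hSJ b' hb'⟩) hb'
    (nb (y := c1) (tset.conj g _ hc) n1) (nb (y := ⟨c', hSJ c' hc'⟩) hc' hbc')
  refine ⟨((k * g : ↥J) : G), (k * g).2, ?_, ?_⟩
  · have := congrArg Subtype.val k1
    simp only [Subgroup.coe_mul, InvMemClass.coe_inv, mul_inv_rev] at this ⊢
    rw [← this, ← gb]; group
  · have := congrArg Subtype.val k2
    simp only [hc1, Subgroup.coe_mul, InvMemClass.coe_inv, mul_inv_rev] at this ⊢
    rw [← this]; group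

end Cfsg.Agent.Transpos
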