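import Cfsg.Agent.Lib.Transpos.M22Count
import Cfsg.Agent.Lib.Transpos.M22Triples
import Cfsg.Agent.Lib.Transpos.UnitaryMove
import Cfsg.Agent.Lib.Transpos.S4

/-!
# Non-commuting members and the points over a member commuting with both

* `M22.inverts_mem`: of the members commuting with `b`, only three invert `a d`.
* `M22.exists_adj` / `M22.exists_opp_common`: members commuting with `a`, `d`, `b` on and off the perp of `b`.
* `M22.ncard_common_dc`: there are 45 of them commuting with `b`; `M22.common_clique_le`: width six.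
-/

set_option autoImplicit false
set_option linter.style.haveILetI false

namespace Cfsg.Agent.Transpos

open Cfsg Cfsg.Agent.ClassicalSimple

namespace U6.Ctx

variable {F : Type} [Field F] {σ : F →+* F}
  {h : (Fin 6 → F) →ₛₗ[σ] (Fin 6 → F) →ₗ[F] F} (c : U6.Ctx σ h)
include c

theorem sigma_eq {x : F} : σ x = x * x := by
  rcases eq_or_ne x 0 with rfl | h0
  · simp
  · exact mul_right_cancel₀ h0 ((c.norm x h0).trans (c.cube x h0).symm)

theorem finrank_le_three [Finite F] {T : Submodule F (Fin 6 → F)}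
    (hT : ∀ v ∈ T, ∀ w ∈ T, h v w = 0) : Module.finrank F T ≤ 3 := by
  haveI : Fintype F := Fintype.ofFinite _
  haveI : Finite (Module.Dual F (Fin 6 → F)) := Finite.of_injective _ DFunLike.coe_injective
  let f : T → T.dualAnnihilator := fun t => ⟨h t.1,
    (Submodule.mem_dualAnnihilator _).2 fun w hw => hT t.1 t.2 w hw⟩
  have hf : Function.Injective f := fun s t e => by
    refine Subtype.ext (sub_eq_zero.1 (c.form.sep _ fun y => ?_))
    have e' : h s.1 = h t.1 := congrArg Subtype.val e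
    simp [e']
  have h4 := Nat.card_le_card_of_injective f hf
  rw [Module.natCard_eq_pow_finrank (K := F) (V := T),
    Module.natCard_eq_pow_finrank (K := F) (V := T.dualAnnihilator), c.card_field] at h4
  have h5 := Subspace.finrank_add_finrank_dualAnnihilator_eq T
  rw [Module.finrank_fin_fun] at h5
  have := (Nat.pow_le_pow_iff_right (by norm_num : 1 < 4)).1 h4
  omega

theorem pair_indep {u w : Fin 6 → F} (hu : h u u = 0) (hw : h w w = 0) (huw : h u w ≠ 0) :
    LinearIndependent F ![u, w] := by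
  refine LinearIndependent.pair_iff.2 fun m n e => ?_
  have e1 := congrArg (h u) e
  have e2 := congrArg (h w) e
  simp only [map_add, map_smul, map_zero, hu, hw, smul_eq_mul, mul_zero, zero_add, add_zero] at e1 e2
  exact ⟨(mul_eq_zero.1 e2).resolve_right fun e => huw (c.form.comm_zero e),
    (mul_eq_zero.1 e1).resolve_right huw⟩

theorem notMem_pair_span {u w r : Fin 6 → F} (hu : h u u = 0) (hw : h w w = 0) (huw : h u w ≠ 0)
    (hur : h u r = 0) (hwr : h w r = 0) (hr0 : r ≠ 0) :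
    r ∉ Submodule.span F (Set.range ![u, w]) := fun hr => by
  obtain ⟨f, rfl⟩ := (Submodule.mem_span_range_iff_exists_fun F).1 hr
  simp [Fin.sum_univ_two, hu, hw] at hur hwr
  rcases hur with e | e
  · rcases hwr with e' | e'
    · exact hr0 (by simp [Fin.sum_univ_two, e, e'])
    · exact huw (c.form.comm_zero e')
  · exact huw e

/-- An isotropic vector in the perp of `u`, `w` pairing with `r`. -/
theorem exists_off_pair {u w r : Fin 6 → F} (hu : h u u = 0) (hw : h w w = 0) (hr : h r r = 0)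
    (huw : h u w ≠ 0) (hur : h u r = 0) (hwr : h w r = 0) (hr0 : r ≠ 0) :
    ∃ z, z ≠ 0 ∧ h z z = 0 ∧ h u z = 0 ∧ h w z = 0 ∧ h r z ≠ 0 := by
  haveI : FiniteDimensional F (Fin 6 → F) := c.fd
  have hns := c.notMem_pair_span hu hw huw hur hwr hr0
  obtain ⟨z, hz, hP, hrz, -⟩ := U6.exists_mid c ![u, w] (c.pair_indep hu hw huw) hr (w := r) hr
    (by intro i; fin_cases i <;> assumption) hns hns
  exact ⟨z, fun e => hrz (by rw [e, map_zero]), hz, hP 0, hP 1, hrz⟩

/-- An isotropic vector in the perp of `u`, `w`, `r`, not a multiple of `r`. -/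
theorem exists_on_pair {u w r : Fin 6 → F} (hu : h u u = 0) (hw : h w w = 0) (hr : h r r = 0)
    (huw : h u w ≠ 0) (hur : h u r = 0) (hwr : h w r = 0) (hr0 : r ≠ 0) :
    ∃ z, z ≠ 0 ∧ h z z = 0 ∧ h u z = 0 ∧ h w z = 0 ∧ h r z = 0 ∧ ∀ m : F, z ≠ m • r := by
  haveI : FiniteDimensional F (Fin 6 → F) := c.fd
  obtain ⟨g, -, -, -, -, hrg⟩ := c.exists_off_pair hu hw hr huw hur hwr hr0
  obtain ⟨z, hz0, hz, hP⟩ := U6.exists_iso_perp c ![u, w, r, g]
  refine ⟨z, hz0, hz, hP 0, hP 1, hP 2, fun m e => ?_⟩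
  have e1 : h g z = 0 := hP 3
  rw [e, map_smul, smul_eq_mul, mul_eq_zero] at e1
  rcases e1 with e1 | e1
  · exact hz0 (by rw [e, e1, zero_smul])
  · exact hrg (c.form.comm_zero e1)

end U6.Ctx

variable {G : Type*} [Group G] {D : Set G}

theorem mul_pow_three (hD : IsThreeTranspositionGroup D) {a d : G} (ha : a ∈ D) (hd : d ∈ D)
    (hnc : ¬ Commute a d) : (a * d) ^ 3 = 1 := by
  rcases hD.1.2 a ha d hd with h | h
  · refine absurd ?_ hnc
    rw [pow_two] at h
    have := inv_eq_of_mul_eq_one_right h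
    rw [mul_inv_rev, inv_eq hD.1 ha, inv_eq hD.1 hd] at this
    exact this.symm
  · exact h

namespace Model

variable {b : G} (M : Model D b) (H : M22 D) (hb : b ∈ D)
include M H hb

/-- No point with three non-zero pairings inverts the product of two members. -/
theorem no_invert {a d y : G} {u w v : Fin 6 → M.F} (hu : M.IsPt a u) (hw : M.IsPt d w)
    (hv : M.IsPt y v) (huw : M.h u w = 1) (h1 : M.h u v ≠ 0) (h2 : M.h w v ≠ 0)
    (h3 : M.h (u + w) v ≠ 0) : y * (a * d) * y ≠ d * a := by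
  intro hinv
  classical
  have hwu : M.h w u = 1 := by rw [M.c.form.swap u w, huw, map_one]
  set α := M.h u v with hα
  set β := M.h w v with hβ
  have hsum : α + β ≠ 0 := by simpa [map_add] using h3
  set v' := v + β • u + α • w with hv'
  have huv' : M.h u v' = 0 := by
    simp only [hv', map_add, map_smul, smul_eq_mul, hu.iso, huw, mul_zero, add_zero, mul_one]
    exact M.c.addF α
  have hwv' : M.h w v' = 0 := by
    simp only [hv', map_add, map_smul, smul_eq_mul, hw.iso, hwu, mul_zero, add_zero, mul_one]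
    exact M.c.addF β
  have hvu : M.h v u = α * α := by rw [M.c.form.swap u v, M.c.sigma_eq]
  have hvw : M.h v w = β * β := by rw [M.c.form.swap w v, M.c.sigma_eq]
  have hvv' : M.h v v' = α * β * (α + β) := by
    simp only [hv', map_add, map_smul, smul_eq_mul, hv.iso, hvu, hvw]
    ring
  have hne : M.h v' v' ≠ 0 := by
    have e : M.h v' v' = M.h v v' := by
      nth_rewrite 1 [hv']
      simp only [map_add, map_smulₛₗ, LinearMap.add_apply, LinearMap.smul_apply, huv', hwv',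
        smul_zero, add_zero]
    rw [e, hvv']
    exact mul_ne_zero (mul_ne_zero h1 h2) hsum
  obtain ⟨s, hus, hws, hv's, hss⟩ := M.c.exists_aniso_perp_three (u := u) (w := w) hne
  have hn1 : M.h v' v' = 1 := M.c.eq_one (M.c.form.σ_self v') hne
  set p := v' + s with hp
  have hup : M.h u p = 0 := by rw [hp, map_add, huv', hus, add_zero]
  have hwp : M.h w p = 0 := by rw [hp, map_add, hwv', hws, add_zero]
  have hpp : M.h p p = 0 := by
    simp only [hp, map_add, LinearMap.add_apply, hn1, hv's, M.c.form.comm_zero hv's, hss, zero_add,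
      add_zero]
    exact M.c.two
  set δ := M.h v p with hδ
  have hδ0 : δ ≠ 0 := by
    have e' : ∀ z, M.h u z = 0 → M.h w z = 0 → M.h v' z = M.h v z := fun z h1' h2' => by
      rw [hv']
      simp only [map_add, map_smulₛₗ, LinearMap.add_apply, LinearMap.smul_apply, h1', h2', smul_zero,
        add_zero]
    have e : δ = M.h v' p := (e' p hup hwp).symm
    rw [e, hp, map_add, hn1, hv's, add_zero]
    exact one_ne_zero
  obtain ⟨P, hP⟩ := M.exists_mem H hb hpp fun e => hδ0 (by rw [hδ, e, map_zero])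
  have hyy : y * y = 1 := sq_one H.grp.1 hv.mem.1
  have hai : a⁻¹ = a := inv_eq H.grp.1 hu.mem.1
  have hdi : d⁻¹ = d := inv_eq H.grp.1 hw.mem.1
  have cPa : Commute P a := ((Model.comm_iff M H hb hu hP).2 hup).symm
  have cPd : Commute P d := ((Model.comm_iff M H hb hw hP).2 hwp).symm
  have key : (a * d) * (y * P * y⁻¹) * (a * d)⁻¹ = y * P * y⁻¹ := by
    have hyi : y⁻¹ = y := inv_eq_of_mul_eq_one_right hyy
    have e1 : a * d * y = y * (d * a) := by
      calc a * d * y = y * y * (a * d) * y := by rw [hyy, one_mul]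
        _ = y * (y * (a * d) * y) := by group
        _ = y * (d * a) := by rw [hinv]
    have e2 : y * (a * d)⁻¹ = (a * d) * y := by
      rw [e1, mul_inv_rev, hai, hdi]
    calc a * d * (y * P * y⁻¹) * (a * d)⁻¹ = (a * d * y) * P * (y * (a * d)⁻¹) := by rw [hyi]; group
      _ = y * (d * a) * P * (a * d * y) := by rw [← e1, e2]
      _ = y * ((d * a) * P * (d * a)⁻¹) * y := by rw [mul_inv_rev, hai, hdi]; group
      _ = y * P * y⁻¹ := by rw [((cPd.mul_right cPa).symm).eq, mul_inv_cancel_right, hyi]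
  set q := p + δ • v with hq
  have hQ : M.IsPt (y * P * y⁻¹) q := acts_tv M H hb hv P p hP
  have hQ' := ((acts_tv M H hb hu).comp (acts_tv M H hb hw)) _ _ hQ
  simp only at hQ'
  rw [show a * (d * (y * P * y⁻¹) * d⁻¹) * a⁻¹ = a * d * (y * P * y⁻¹) * (a * d)⁻¹ by group,
    key] at hQ'
  obtain ⟨k, hk⟩ := smul_of_eq M hQ hQ' rfl
  have hpu : M.h p u = 0 := M.c.form.comm_zero hup
  have hpw : M.h p w = 0 := M.c.form.comm_zero hwp
  have hpv : M.h p v ≠ 0 := fun e => hδ0 (M.c.form.comm_zero e)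
  have e0 := congrArg (M.h p) hk
  simp only [hq, map_add, map_smul, smul_eq_mul, hpp, hpu, hpw, zero_add, mul_zero, add_zero] at e0
  have hk1 : k = 1 := (mul_eq_right₀ (mul_ne_zero hδ0 hpv)).1 e0.symm
  subst hk1
  have e1 := congrArg (M.h u) hk
  simp only [hq, map_add, map_smul, smul_eq_mul, one_smul, hu.iso, huw, hup, hwp, ← hα, ← hβ,
    zero_add, mul_zero, add_zero, mul_one] at e1
  exact mul_ne_zero hδ0 h2 (by linear_combination e1)

end Model

namespace M22

variable (H : M22 D)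
include H

/-- A member commuting with `y` and inverting `y z` is `y`. -/
theorem eq_of_inverts_commute {y z y' : G} (hy : y ∈ D) (hz : z ∈ D) (hy' : y' ∈ D)
    (hnc : ¬ Commute y z) (hc : Commute y' y) (hinv : y' * (y * z) * y' = z * y) : y' = y := by
  have hT := H.grp.1
  have yy := sq_one hT hy
  have zz := sq_one hT hz
  have y'y' := sq_one hT hy'
  have e1 : y' * z * y' = y * z * y := by
    calc y' * z * y' = y * (y * (y' * z * y')) := by rw [← mul_assoc y y, yy, one_mul]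
      _ = y * (y * y' * (z * y')) := by group
      _ = y * (y' * y * (z * y')) := by rw [hc.symm.eq]
      _ = y * (y' * (y * z) * y') := by group
      _ = y * z * y := by rw [hinv]; group
  have hnc' : ¬ Commute y' z := fun h => hnc (by
    rw [h.eq, mul_assoc, y'y', mul_one] at e1
    calc y * z = y * z * (y * y) := by rw [yy, mul_one]
      _ = (y * z * y) * y := by group
      _ = z * y := by rw [← e1])
  have b1 : y' * z * y' = z * y' * z :=
    braid_of_pow_three zz y'y' (mul_pow_three H.grp hz hy' fun h => hnc' h.symm)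
  have b2 : y * z * y = z * y * z :=
    braid_of_pow_three zz yy (mul_pow_three H.grp hz hy fun h => hnc h.symm)
  rw [b1, b2] at e1
  exact mul_left_cancel (mul_right_cancel e1)

/-- Of the members commuting with `b`, only `a`, `d`, `a d a` invert `a d`. -/
theorem inverts_mem {b a d y : G} (hb : b ∈ D) (ha : a ∈ Dc D b) (hd : d ∈ Dc D b) (hy : y ∈ Dc D b)
    (hnc : ¬ Commute a d) (hinv : y * (a * d) * y = d * a) : y = a ∨ y = d ∨ y = a * d * a := by
  by_contra hne
  simp only [not_or] at hne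
  obtain ⟨n1, n2, n3⟩ := hne
  have hT := H.grp.1
  have aa := sq_one hT ha.1
  have dd := sq_one hT hd.1
  have yy := sq_one hT hy.1
  have e3 : (a * d) ^ 3 = 1 := mul_pow_three H.grp ha.1 hd.1 hnc
  have hd' : a * d * a ∈ D := H.tr.conj a ha.1 d hd.1
  have hb3 : d * a * d = a * d * a := braid_of_pow_three aa dd e3
  have c1 : ¬ Commute y a := fun h => n1 (H.eq_of_inverts_commute ha.1 hd.1 hy.1 hnc h hinv)
  have hinv' : y * (d * a) * y = a * d := by
    rw [← hinv, show y * (y * (a * d) * y) * y = y * y * (a * d) * (y * y) by group, yy, one_mul,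
      mul_one]
  have c2 : ¬ Commute y d := fun h =>
    n2 (H.eq_of_inverts_commute hd.1 ha.1 hy.1 (fun k => hnc k.symm) h hinv')
  have c3 : ¬ Commute y (a * d * a) := by
    intro h
    have ex : a * d * a * a = a * d := by rw [mul_assoc, aa, mul_one]
    have ey : a * (a * d * a) = d * a := by
      rw [show a * (a * d * a) = a * a * (d * a) by group, aa, one_mul]
    refine n3 (H.eq_of_inverts_commute hd' ha.1 hy.1 (fun k => hnc ?_) h (by rw [ex, ey]; exact hinv))
    have := k.eq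
    rw [ex, ey] at this
    exact this
  obtain ⟨M⟩ := (H.model b hb).2
  obtain ⟨u, hu⟩ := M.exists_vec H hb ha
  obtain ⟨w₀, hw₀⟩ := M.exists_vec H hb hd
  obtain ⟨v, hv⟩ := M.exists_vec H hb hy
  have hne0 : M.h u w₀ ≠ 0 := fun h => hnc ((Model.comm_iff M H hb hu hw₀).2 h)
  have hw := hw₀.smul (inv_ne_zero hne0)
  set w := (M.h u w₀)⁻¹ • w₀ with hwdef
  have huw : M.h u w = 1 := by rw [hwdef, map_smul, smul_eq_mul, inv_mul_cancel₀ hne0]
  have hd'pt := M.acts_tv H hb hu d w hw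
  simp only [huw, one_smul, inv_eq hT ha.1] at hd'pt
  refine Model.no_invert M H hb hu hw hv huw (fun h => c1 ((Model.comm_iff M H hb hu hv).2 h).symm)
    (fun h => c2 ((Model.comm_iff M H hb hw hv).2 h).symm) (fun h => c3 ?_) hinv
  exact ((Model.comm_iff M H hb hd'pt hv).2 (by rw [add_comm]; exact h)).symm

variable {a d b : G} (ha : a ∈ D) (hd : d ∈ D) (hnc : ¬ Commute a d) (hb : b ∈ Dc D a ∩ Dc D d)
include ha hd hnc hb

/-- The vectors of `a`, `d` at a member commuting with both. -/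
theorem exists_pair_vecs (M : Model D b) : ∃ A C, M.IsPt a A ∧ M.IsPt d C ∧ M.h A C ≠ 0 := by
  obtain ⟨A, hA⟩ := M.exists_vec H hb.1.1 (mem_dc_symm ha hb.1)
  obtain ⟨C, hC⟩ := M.exists_vec H hb.1.1 (mem_dc_symm hd hb.2)
  exact ⟨A, C, hA, hC, fun h => hnc ((Model.comm_iff M H hb.1.1 hA hC).2 h)⟩

/-- A further common member commuting with `b`. -/
theorem exists_adj : ∃ f ∈ Dc D a ∩ Dc D d, f ∈ Dc D b := by
  obtain ⟨M⟩ := (H.model b hb.1.1).2
  obtain ⟨A, C, hA, hC, hAC⟩ := H.exists_pair_vecs ha hd hnc hb M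
  obtain ⟨z, hz0, hz, hPz⟩ := U6.exists_iso_perp M.c ![A, C, A, C]
  obtain ⟨f, hf⟩ := M.exists_mem H hb.1.1 hz hz0
  have h1 : M.h A z = 0 := hPz 0
  have h2 : M.h C z = 0 := hPz 1
  exact ⟨f, ⟨⟨hf.mem.1, fun e => hnc (e ▸ ((Model.comm_iff M H hb.1.1 hC hf).2 h2).symm),
    (Model.comm_iff M H hb.1.1 hA hf).2 h1⟩, ⟨hf.mem.1, fun e => hnc (e ▸
      (Model.comm_iff M H hb.1.1 hA hf).2 h1), (Model.comm_iff M H hb.1.1 hC hf).2 h2⟩⟩, hf.mem⟩

variable {f : G} (hf : f ∈ Dc D a ∩ Dc D d) (hfb : f ∈ Dc D b)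
include hf hfb

/-- For commuting common members a further one commutes with `b` and not with `f`. -/
theorem exists_opp_common : ∃ g ∈ Dc D a ∩ Dc D d, g ∈ Dc D b ∧ ¬ Commute g f := by
  obtain ⟨M⟩ := (H.model b hb.1.1).2
  obtain ⟨A, C, hA, hC, hAC⟩ := H.exists_pair_vecs ha hd hnc hb M
  obtain ⟨B, hB⟩ := M.exists_vec H hb.1.1 hfb
  have cm := fun {x y : G} {p q : Fin 6 → M.F} (hp : M.IsPt x p) (hq : M.IsPt y q) =>
    Model.comm_iff M H hb.1.1 hp hq
  obtain ⟨z, hz0, hz, hAz, hCz, hBz⟩ := M.c.exists_off_pair hA.iso hC.iso hB.iso hAC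
    ((cm hA hB).1 hf.1.2.2) ((cm hC hB).1 hf.2.2.2) hB.ne_zero
  obtain ⟨g, hg⟩ := M.exists_mem H hb.1.1 hz hz0
  exact ⟨g, ⟨⟨hg.mem.1, fun e => hnc (e ▸ ((cm hC hg).2 hCz).symm), (cm hA hg).2 hAz⟩,
    ⟨hg.mem.1, fun e => hnc (e ▸ (cm hA hg).2 hAz), (cm hC hg).2 hCz⟩⟩, hg.mem,
    fun h => hBz ((cm hB hg).1 h.symm)⟩

/-- Two more common members commuting with `b` and `f`, whose points make a line with that of `b` at `f`. -/
theorem exists_line_common : ∃ g g' : G, (g ∈ Dc D a ∩ Dc D d ∧ g ∈ Dc D b ∧ g ∈ Dc D f) ∧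
    (g' ∈ Dc D a ∩ Dc D d ∧ g' ∈ Dc D b ∧ g' ∈ Dc D f) ∧
    ∀ e ∈ Dc D f, Commute e g → Commute e g' → Commute e b := by
  obtain ⟨M⟩ := (H.model f hf.1.1).2
  obtain ⟨A, C, hA, hC, hAC⟩ := H.exists_pair_vecs ha hd hnc hf M
  obtain ⟨B, hB⟩ := M.exists_vec H hf.1.1 (mem_dc_symm hb.1.1 hfb)
  have cm := fun {x y : G} {p q : Fin 6 → M.F} (hp : M.IsPt x p) (hq : M.IsPt y q) =>
    Model.comm_iff M H hf.1.1 hp hq
  have hAB := (cm hA hB).1 hb.1.2.2
  have hCB := (cm hC hB).1 hb.2.2.2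
  obtain ⟨z, hz0, hz, hAz, hCz, hBz, hzm⟩ := M.c.exists_on_pair hA.iso hC.iso hB.iso hAC hAB hCB
    hB.ne_zero
  obtain ⟨g, hg⟩ := M.exists_mem H hf.1.1 hz hz0
  have hiso : M.h (B + z) (B + z) = 0 := by simp [hB.iso, hz, hBz, M.c.form.comm_zero hBz]
  obtain ⟨g', hg'⟩ := M.exists_mem H hf.1.1 hiso fun e => hzm (-1) (by
    rw [neg_one_smul]; exact eq_neg_of_add_eq_zero_right e)
  have mk : ∀ {k : G} {p : Fin 6 → M.F}, M.IsPt k p → M.h A p = 0 → M.h C p = 0 → M.h B p = 0 →
      k ≠ b → k ∈ Dc D a ∩ Dc D d ∧ k ∈ Dc D b ∧ k ∈ Dc D f := fun {k p} hk h1 h2 h3 hkb =>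
    ⟨⟨⟨hk.mem.1, fun e => hnc (e ▸ ((cm hC hk).2 h2).symm), (cm hA hk).2 h1⟩,
      ⟨hk.mem.1, fun e => hnc (e ▸ (cm hA hk).2 h1), (cm hC hk).2 h2⟩⟩,
      ⟨hk.mem.1, hkb, (cm hB hk).2 h3⟩, hk.mem⟩
  refine ⟨g, g', mk hg hAz hCz hBz ?_, mk hg' (by simp [hAB, hAz]) (by simp [hCB, hCz])
    (by simp [hB.iso, hBz]) ?_, fun e he h1 h2 => ?_⟩
  · intro e'
    obtain ⟨m, hm⟩ := Model.smul_of_eq M hB hg e'.symm
    exact hzm m hm
  · intro e'
    obtain ⟨m, hm⟩ := Model.smul_of_eq M hB hg' e'.symm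
    exact hzm (m - 1) (by rw [sub_smul, one_smul, ← hm]; abel)
  · obtain ⟨E, hE⟩ := M.exists_vec H hf.1.1 he
    have e1 := (cm hE hg').1 h2
    rw [map_add, (cm hE hg).1 h1, add_zero] at e1
    exact (cm hE hB).2 e1

omit hf hfb

/-- 45 of the common members of `a` and `d` commute with a given one. -/
theorem ncard_common_dc [Finite G] : {f | f ∈ Dc D a ∩ Dc D d ∧ f ∈ Dc D b}.ncard = 45 := by
  classical
  obtain ⟨M⟩ := (H.model b hb.1.1).2
  haveI : Finite M.F := M.fin
  obtain ⟨A, C, hA, hC, hAC⟩ := H.exists_pair_vecs ha hd hnc hb M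
  have hab : a ∈ Dc D b := mem_dc_symm ha hb.1
  have cm := fun {x y : G} {p q : Fin 6 → M.F} (hp : M.IsPt x p) (hq : M.IsPt y q) =>
    Model.comm_iff M H hb.1.1 hp hq
  set Q := {f | f ∈ Dc D a ∩ Dc D d ∧ f ∈ Dc D b} with hQdef
  have h0 := three_mul_ncard M H hb.1.1 Q fun f hf => hf.2
  have h1 := three_mul_ncard M H hb.1.1 (Dc (Dc D b) a) fun f hf => hf.1
  rw [H.ncard_dc_dc hb.1.1 hab] at h1
  set W0 := {v | ∃ x ∈ Q, M.IsPt x v} with hW0
  set W1 := {v | ∃ x ∈ Dc (Dc D b) a, M.IsPt x v} with hW1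
  have key : ∀ v ∈ W0, M.h v v = 0 ∧ v ≠ 0 ∧ M.h A v = 0 ∧ M.h C v = 0 := by
    rintro v ⟨x, hx, hv⟩
    exact ⟨hv.iso, hv.ne_zero, (cm hA hv).1 hx.1.1.2.2, (cm hC hv).1 hx.1.2.2.2⟩
  have hCA : M.h C A ≠ 0 := fun e => hAC (M.c.form.comm_zero e)
  have hmap : ∀ v : W0, ∀ m : M.F, v.1 + m • A ∈ W1 := fun v m => by
    obtain ⟨hvv, hv0, hAv, hCv⟩ := key v.1 v.2
    have hiso : M.h (v.1 + m • A) (v.1 + m • A) = 0 := by
      simp [hvv, hA.iso, hAv, M.c.form.comm_zero hAv]
    obtain ⟨x, hx⟩ := M.exists_mem H hb.1.1 hiso fun e => hv0 (by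
      have e' := congrArg (M.h C) e
      simp [hCv, hCA] at e'
      simpa [e'] using e)
    have hxa : x ≠ a := by
      intro e'
      obtain ⟨k, hk⟩ := Model.smul_of_eq M hA hx e'.symm
      have e2 := congrArg (M.h C) hk
      simp only [map_add, map_smul, hCv, zero_add, smul_eq_mul] at e2
      exact hv0 (add_eq_right.1 (hk.trans (by rw [mul_right_cancel₀ hCA e2])))
    exact ⟨x, ⟨hx.mem, hxa, (cm hA hx).2 (by simp [hAv, hA.iso])⟩, hx⟩
  have hbij : Function.Bijective
      (fun p : W0 × M.F => (⟨p.1.1 + p.2 • A, hmap p.1 p.2⟩ : W1)) := by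
    constructor
    · rintro ⟨v, m⟩ ⟨v', m'⟩ e
      have e' : v.1 + m • A = v'.1 + m' • A := congrArg Subtype.val e
      have e2 := congrArg (M.h C) e'
      simp only [map_add, map_smul, (key v.1 v.2).2.2.2, (key v'.1 v'.2).2.2.2, zero_add,
        smul_eq_mul] at e2
      obtain rfl : m = m' := mul_right_cancel₀ hCA e2
      exact Prod.ext (Subtype.ext (add_right_cancel e')) rfl
    · rintro ⟨v, x, hx, hv⟩
      have hAv : M.h A v = 0 := (cm hA hv).1 hx.2.2
      set m := M.h C v * (M.h C A)⁻¹ with hm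
      have hz : M.h (v - m • A) (v - m • A) = 0 := by
        simp [hv.iso, hA.iso, hAv, M.c.form.comm_zero hAv]
      have hz0 : v - m • A ≠ 0 := fun e => hx.2.1
        (Model.eq_of_smul M H hb.1.1 hA hv (sub_eq_zero.1 e)).symm
      obtain ⟨z, hzpt⟩ := M.exists_mem H hb.1.1 hz hz0
      have hA' : M.h A (v - m • A) = 0 := by simp [hAv, hA.iso]
      have hC' : M.h C (v - m • A) = 0 := by
        rw [map_sub, map_smul, hm, smul_eq_mul, mul_assoc, inv_mul_cancel₀ hCA, mul_one, sub_self]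
      refine ⟨(⟨v - m • A, z, ⟨⟨⟨hzpt.mem.1, fun e => hnc (e ▸ ((cm hC hzpt).2 hC').symm),
        (cm hA hzpt).2 hA'⟩, ⟨hzpt.mem.1, fun e => hnc (e ▸ (cm hA hzpt).2 hA'),
        (cm hC hzpt).2 hC'⟩⟩, hzpt.mem⟩, hzpt⟩, m), Subtype.ext (sub_add_cancel v _)⟩
  have h2 := Nat.card_eq_of_bijective _ hbij
  rw [Nat.card_prod, Nat.card_coe_set_eq, Nat.card_coe_set_eq, M.c.card_field, ← h0, ← h1] at h2
  omega

/-- At most six common members of `a` and `d` commute pairwise. -/
theorem common_clique_le [Finite G] (E : Set G) (hE : E ⊆ Dc D a ∩ Dc D d)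
    (hc : ∀ p ∈ E, ∀ q ∈ E, Commute p q) (hbE : b ∈ E) : E.ncard ≤ 6 := by
  classical
  obtain ⟨M⟩ := (H.model b hb.1.1).2
  haveI : Finite M.F := M.fin
  obtain ⟨A, C, hA, hC, hAC⟩ := H.exists_pair_vecs ha hd hnc hb M
  have cm := fun {x y : G} {p q : Fin 6 → M.F} (hp : M.IsPt x p) (hq : M.IsPt y q) =>
    Model.comm_iff M H hb.1.1 hp hq
  have hsub : E \ {b} ⊆ Dc D b := fun x hx => ⟨(hE hx.1).1.1, hx.2, hc b hbE x hx.1⟩
  have h0 := three_mul_ncard M H hb.1.1 (E \ {b}) hsub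
  set W := {v | ∃ x ∈ E \ {b}, M.IsPt x v} with hW
  set T := Submodule.span M.F (insert A W) with hT
  have hWW : ∀ v ∈ insert A W, ∀ w ∈ insert A W, M.h v w = 0 := by
    have hAW : ∀ w ∈ W, M.h A w = 0 := by
      rintro w ⟨x, hx, hw⟩
      exact (cm hA hw).1 (hE hx.1).1.2.2
    rintro v (rfl | hv) w (rfl | hw)
    · exact hA.iso
    · exact hAW w hw
    · exact M.c.form.comm_zero (hAW v hv)
    · obtain ⟨x, hx, hv⟩ := hv
      obtain ⟨y, hy, hw⟩ := hw
      exact (cm hv hw).1 (hc x hx.1 y hy.1)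
  have hTT : ∀ v ∈ T, ∀ w ∈ T, M.h v w = 0 := by
    have h1 : ∀ v ∈ insert A W, ∀ w ∈ T, M.h v w = 0 := fun v hv => by
      intro w hw
      induction hw using Submodule.span_induction with
      | mem w hw => exact hWW v hv w hw
      | zero => exact map_zero _
      | add p q _ _ hp hq => rw [map_add, hp, hq, add_zero]
      | smul m p _ hp => rw [map_smul, hp, smul_zero]
    intro v hv w hw
    induction hv using Submodule.span_induction with
    | mem v hv => exact h1 v hv w hw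
    | zero => rw [map_zero, LinearMap.zero_apply]
    | add p q _ _ hp hq => rw [map_add, LinearMap.add_apply, hp, hq, add_zero]
    | smul m p _ hp => rw [map_smulₛₗ, LinearMap.smul_apply, hp, smul_zero]
  set T0 := T ⊓ LinearMap.ker (M.h C) with hT0
  have hlt : T0 < T := lt_of_le_of_ne inf_le_left fun e => hAC (M.c.form.comm_zero (by
    have h : A ∈ T0 := e.symm ▸ Submodule.subset_span (Set.mem_insert A W)
    exact h.2))
  have h3 := M.c.finrank_le_three hTT
  have h4 := Submodule.finrank_lt_finrank_of_lt hlt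
  have h5 : W.ncard ≤ ((T0 : Set (Fin 6 → M.F)) \ {0}).ncard := by
    refine Set.ncard_le_ncard (fun v hv => ⟨⟨Submodule.subset_span (Or.inr hv), ?_⟩, ?_⟩)
      (Set.toFinite _)
    · obtain ⟨x, hx, hv'⟩ := hv
      exact LinearMap.mem_ker.2 ((cm hC hv').1 (hE hx.1).2.2.2)
    · obtain ⟨x, -, hv'⟩ := hv
      exact hv'.ne_zero
  rw [Set.ncard_sdiff_singleton_of_mem T0.zero_mem] at h5
  haveI : Fintype M.F := Fintype.ofFinite _
  have h6 : (T0 : Set (Fin 6 → M.F)).ncard ≤ 16 := by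
    rw [← Nat.card_coe_set_eq]
    show Nat.card ↥T0 ≤ _
    rw [Module.natCard_eq_pow_finrank (K := M.F) (V := T0), M.c.card_field]
    exact (Nat.pow_le_pow_right (by norm_num) (by omega : Module.finrank M.F T0 ≤ 2)).trans (by norm_num)
  have h7 := Set.ncard_sdiff_singleton_of_mem hbE
  omega

end M22

end Cfsg.Agent.Transpos
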