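import Cfsg.Agent.Lib.Transpos.M22Model

/-!
# Products of commuting members in type M(22)

* `M22.eq_one_or_eq`: only `1` and `a` commute with `a` and with all members commuting with `a`.
* `M22.exists_short`: a product of pairwise commuting members is one of at most three distinct ones.
* `M22.exists_odd`: four commuting members have the product of three; so `G` is perfect.
-/

set_option autoImplicit false

namespace Cfsg.Agent.Transpos

open Cfsg Cfsg.Agent.ClassicalSimple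

variable {G : Type*} [Group G] {D : Set G}

theorem mem_dc_symm {a b : G} (ha : a ∈ D) (hb : b ∈ Dc D a) : a ∈ Dc D b :=
  ⟨ha, hb.2.1.symm, hb.2.2.symm⟩

namespace M22

variable (H : M22 D)
include H

theorem conj_mem (g : G) {x : G} (hx : x ∈ D) : g * x * g⁻¹ ∈ D := H.grp.2.1 g x hx

/-- A member commuting with `b` but not with `a`. -/
theorem exists_opp {a b : G} (ha : a ∈ D) (hb : b ∈ Dc D a) : ∃ x ∈ Dc D b, ¬ Commute a x := by
  obtain ⟨M⟩ := (H.model b hb.1).2
  obtain ⟨u, hu⟩ := M.exists_vec H hb.1 (mem_dc_symm ha hb)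
  obtain ⟨z, hz, h1, -⟩ := unitary_exists_nonorth M.c.form hu.ne_zero hu.ne_zero hu.iso hu.iso
  obtain ⟨x, hx⟩ := M.exists_mem H hb.1 hz fun e => h1 (by rw [e, map_zero])
  exact ⟨x, hx.mem, fun h => h1 ((M.comm_iff H hb.1 hu hx).1 h)⟩

/-- Only `1` and `a` commute with `a` and all members commuting with `a`. -/
theorem eq_one_or_eq {a z : G} (ha : a ∈ D) (hza : Commute z a)
    (hzA : ∀ y ∈ Dc D a, Commute z y) : z = 1 ∨ z = a := by
  obtain ⟨b, hb⟩ := (H.model a ha).1
  have hab := mem_dc_symm ha hb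
  obtain ⟨M⟩ := (H.model b hb.1).2
  obtain ⟨x, hx, hax⟩ := H.exists_opp ha hb
  have hzb : z * b * z⁻¹ = b := by rw [(hzA b hb).eq, mul_inv_cancel_right]
  have hza' : z * a * z⁻¹ = a := by rw [hza.eq, mul_inv_cancel_right]
  have hy : z * x * z⁻¹ ∈ Dc D b := by
    have := ((stab_of_normal H.grp z).carries.dc b).1 x hx
    rwa [hzb] at this
  have hay : ¬ Commute a (z * x * z⁻¹) := fun h => hax (by
    rw [← hza'] at h; exact (commute_conj_iff z).1 h)
  have hs : Same (Dc (Dc D b) a) x (z * x * z⁻¹) := fun w hw => by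
    have hwz : z * w * z⁻¹ = w := by
      rw [(hzA w ⟨hw.1.1, hw.2.1, hw.2.2⟩).eq, mul_inv_cancel_right]
    conv_rhs => rw [← hwz]
    exact (commute_conj_iff z).symm
  -- an element fixing everything is central
  have key : ∀ k, Commute k a → (∀ y ∈ Dc D a, Commute k y) → Commute k x → k = 1 := by
    intro k ka kA kx
    have hmem : ∀ {p : G}, Commute k p → p ∈ Subgroup.centralizer ({k} : Set G) :=
      fun h => Subgroup.mem_centralizer_singleton_iff.2 h.eq.symm
    obtain ⟨y₀, hy₀, hy₀x⟩ :=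
      exists_not_commute H.grp H.conn H.line H.good ha hb hx hax
    have hall : D ⊆ Subgroup.centralizer ({k} : Set G) := fun v hv =>
      mem_of_two H.grp H.good _ ha hb (hmem ka) (fun y hy => hmem (kA y hy)) hx (hmem kx)
        hax hy₀ hy₀x (H.conn a ha v hv)
    have hc : k ∈ Subgroup.center G := Subgroup.mem_center_iff.2 fun g =>
      (Subgroup.mem_centralizer_singleton_iff.1
        (((Subgroup.closure_le _).2 hall) (H.grp.2.2 ▸ Subgroup.mem_top g)))
    rwa [H.center, Subgroup.mem_bot] at hc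
  have ha2 : a * a = 1 := sq_one H.grp.1 ha
  rcases M.eq_or_conj H hb.1 hab hx hy hax hay hs with e | e
  · exact Or.inl (key z hza hzA (mul_inv_eq_iff_eq_mul.1 e))
  · right
    have hk := key (a * z) ((Commute.refl a).mul_left hza)
      (fun y hy => hy.2.2.mul_left (hzA y hy)) (by
        show a * z * x = x * (a * z)
        rw [mul_assoc, mul_inv_eq_iff_eq_mul.1 e, ← mul_assoc, ← mul_assoc, ← mul_assoc, ha2, one_mul,
          mul_assoc])
    rw [← mul_mul_cancel H.grp.1 ha z, hk, mul_one]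

/-- The line relation: `a` times two of its commuting members is the product of their twins. -/
theorem triple {a b c : G} (ha : a ∈ D) (hb : b ∈ Dc D a) (hc : c ∈ Dc (Dc D a) b) :
    ∃ f₁ f₂ f₃ : G, (Twin D a b c f₁ ∧ Twin D a b c f₂ ∧ Twin D a b c f₃) ∧
      (f₁ ≠ f₂ ∧ f₁ ≠ f₃ ∧ f₂ ≠ f₃) ∧ (∀ z, Twin D a b c z → z = f₁ ∨ z = f₂ ∨ z = f₃) ∧
      f₁ * f₂ * f₃ = a * b * c :=
  exists_triple H.grp H.conn H.line H.good H.noTwin H.center ha hb hc

omit H in
theorem twin_commute {a b c f g : G} (hf : Twin D a b c f) (hg : Twin D a b c g) : Commute f g :=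
  (hg.2.2.2 f hf.1).1 ((hf.2.2.2 f hf.1).2 (Commute.refl _))

/-- `a` is in the group generated by the members commuting with it. -/
theorem mem_closure_dc {a : G} (ha : a ∈ D) : a ∈ Subgroup.closure (Dc D a) := by
  obtain ⟨b, hb⟩ := (H.model a ha).1
  obtain ⟨c, hc⟩ := (H.line a ha).1 b hb
  obtain ⟨f₁, f₂, f₃, ⟨t1, t2, t3⟩, -, -, he⟩ := H.triple ha hb hc
  have hm : ∀ {y}, y ∈ Dc D a → y ∈ Subgroup.closure (Dc D a) := fun h => Subgroup.subset_closure h
  have h : f₁ * f₂ * f₃ * c * b ∈ Subgroup.closure (Dc D a) :=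
    mul_mem (mul_mem (mul_mem (mul_mem (hm t1.1.1) (hm t2.1.1)) (hm t3.1.1)) (hm hc.1)) (hm hb)
  rwa [show f₁ * f₂ * f₃ * c * b = a by
    rw [he, mul_assoc (a * b), sq_one H.grp.1 hc.1.1, mul_one, mul_assoc, sq_one H.grp.1 hb.1, mul_one]] at h

/-- Four commuting distinct members: at most three with the same product. -/
theorem reduce_four {a b c f : G} (ha : a ∈ D) (hb : b ∈ Dc D a) (hc : c ∈ Dc D a) (hf : f ∈ Dc D a)
    (nbc : b ≠ c) (nbf : b ≠ f) (ncf : c ≠ f) (cbc : Commute b c) (cbf : Commute b f)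
    (ccf : Commute c f) :
    (∃ g k : G, g ∈ D ∧ k ∈ D ∧ a * b * c * f = g * k ∧ (g ≠ k ∧ Commute g k) ∧
      ∀ x ∈ D, Commute x a → Commute x b → Commute x c → Commute x f → Commute x g ∧ Commute x k) ∨
    ∃ g k l : G, g ∈ Dc D a ∧ k ∈ Dc D a ∧ l ∈ Dc D a ∧ a * b * c * f = g * k * l ∧
      ((g ≠ k ∧ g ≠ l ∧ k ≠ l) ∧ Commute g k ∧ Commute g l ∧ Commute k l) ∧
      ∀ x ∈ D, Commute x a → Commute x b → Commute x c → Commute x f →
        Commute x g ∧ Commute x k ∧ Commute x l := by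
  obtain ⟨M⟩ := (H.model a ha).2
  have hcb : c ∈ Dc (Dc D a) b := ⟨hc, nbc.symm, cbc⟩
  rcases M.frames H ha hb hc hf nbc nbf ncf cbc cbf ccf with ht | ⟨p, hinj, hp, hpp, hbcf, hcom, hprod⟩
  · left
    obtain ⟨f₁, f₂, f₃, ⟨t1, t2, t3⟩, ⟨n12, n13, n23⟩, hall, he⟩ := H.triple ha hb hcb
    have hcz : ∀ {z}, Twin D a b c z → ∀ x ∈ D, Commute x a → Commute x b → Commute x c →
        Commute x z := by
      intro z hz x hx k1 k2 k3
      by_cases e1 : x = a
      · subst e1; exact hz.1.1.2.2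
      by_cases e2 : x = b
      · subst e2; exact hz.1.2.2
      exact (hz.2.2.2 x ⟨⟨hx, e1, k1.symm⟩, e2, k2.symm⟩).1 k3
    have k12 := twin_commute t1 t2
    have k13 := twin_commute t1 t3
    have k23 := twin_commute t2 t3
    have hsq : ∀ {y}, Twin D a b c y → y * y = 1 := fun h => sq_one H.grp.1 h.1.1.1
    rcases hall f ht with e | e | e <;> subst e
    · exact ⟨f₂, f₃, t2.1.1.1, t3.1.1.1, by
        rw [← he, mul_assoc f f₂ f₃, (k12.mul_right k13).eq, mul_assoc, hsq t1, mul_one], ⟨n23, k23⟩, fun x hx k1 k2 k3 _ =>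
          ⟨hcz t2 x hx k1 k2 k3, hcz t3 x hx k1 k2 k3⟩⟩
    · exact ⟨f₁, f₃, t1.1.1.1, t3.1.1.1, by
        rw [← he, mul_assoc (f₁ * f), ← k23.eq, ← mul_assoc, mul_assoc f₁, hsq t2, mul_one], ⟨n13, k13⟩,
        fun x hx k1 k2 k3 _ => ⟨hcz t1 x hx k1 k2 k3, hcz t3 x hx k1 k2 k3⟩⟩
    · exact ⟨f₁, f₂, t1.1.1.1, t2.1.1.1, by
        rw [← he, mul_assoc (f₁ * f₂), hsq t3, mul_one], ⟨n12, k12⟩,
        fun x hx k1 k2 k3 _ => ⟨hcz t1 x hx k1 k2 k3, hcz t2 x hx k1 k2 k3⟩⟩
  right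
  have hca : ∀ {y}, y ∈ Dc D a → Commute a y := fun h => h.2.2
  have hcas : ∀ i j k, Commute ((b * c * f)⁻¹ * (p i * p j * p k)) a := fun i j k =>
    ((((hca hb).mul_right (hca hc)).mul_right (hca hf)).inv_right.mul_right
      (((hca (hp i).1).mul_right (hca (hp j).1)).mul_right (hca (hp k).1))).symm
  have hsol : ∀ i j k, i ≠ j → i ≠ k → j ≠ k → a * b * c * f = p i * p j * p k →
      ∃ g k l : G, g ∈ Dc D a ∧ k ∈ Dc D a ∧ l ∈ Dc D a ∧ a * b * c * f = g * k * l ∧
        ((g ≠ k ∧ g ≠ l ∧ k ≠ l) ∧ Commute g k ∧ Commute g l ∧ Commute k l) ∧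
        ∀ x ∈ D, Commute x a → Commute x b → Commute x c → Commute x f →
          Commute x g ∧ Commute x k ∧ Commute x l := fun i j k nij nik njk e =>
    ⟨p i, p j, p k, (hp i).1, (hp j).1, (hp k).1, e,
      ⟨⟨hinj.ne nij, hinj.ne nik, hinj.ne njk⟩, hpp i j, hpp i k, hpp j k⟩,
      fun x hx k1 k2 k3 k4 => by
        by_cases e1 : x = a
        · subst e1; exact ⟨hca (hp i).1, hca (hp j).1, hca (hp k).1⟩
        exact ⟨hcom x ⟨hx, e1, k1.symm⟩ k2 k3 k4 i, hcom x ⟨hx, e1, k1.symm⟩ k2 k3 k4 j,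
          hcom x ⟨hx, e1, k1.symm⟩ k2 k3 k4 k⟩⟩
  have hz : ∀ i j k, (∀ y ∈ Dc D a, Commute y ((b * c * f)⁻¹ * (p i * p j * p k))) →
      b * c * f = p i * p j * p k ∨ a * b * c * f = p i * p j * p k := fun i j k h =>
    (H.eq_one_or_eq ha (hcas i j k) fun y hy => (h y hy).symm).imp inv_mul_eq_one.1 fun e => by
      rw [inv_mul_eq_iff_eq_mul] at e
      rw [e, ← (((hca hb).mul_right (hca hc)).mul_right (hca hf)).eq]
      simp only [mul_assoc]
  have h012 := hz 0 1 2 fun y hy => (hprod y hy).1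
  have h345 := hz 3 4 5 fun y hy => (hprod y hy).2
  rcases h012 with e | e
  swap; · exact hsol 0 1 2 (by decide) (by decide) (by decide) e
  rcases h345 with e' | e'
  swap; · exact hsol 3 4 5 (by decide) (by decide) (by decide) e'
  exfalso
  -- three triples with the same product
  have h2 := H.noTwin₂
  have nab : ∀ {x y : G}, Commute x y → Commute y x := fun h => h.symm
  have tw : ∀ i j k, i ≠ j → i ≠ k → j ≠ k → b * c * f = p i * p j * p k → Twin D b c f (p i) := by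
    intro i j k nij nik njk he
    rcases mem_or_twin H.tr h2 hb.1 hc.1 hf.1 (hp i).1.1 (hp j).1.1 (hp k).1.1 nbc nbf ncf cbc cbf ccf
      (hinj.ne nij) (hinj.ne nik) (hinj.ne njk) (hpp i j) (hpp i k) (hpp j k) he with (h | h | h) | h
    exacts [absurd h.symm (hp i).2.1, absurd h.symm (hp j).2.1, absurd h.symm (hp k).2.1, h]
  obtain ⟨g₁, g₂, g₃, -, -, hall, -⟩ := (H.line b hb.1).2 c ⟨hc.1, nbc.symm, cbc⟩ f
    ⟨⟨hf.1, nbf.symm, cbf⟩, ncf.symm, ccf⟩
  have rot : ∀ i j k, p i * p j * p k = p j * p i * p k ∧ p i * p j * p k = p k * p i * p j :=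
    fun i j k => ⟨by rw [(hpp i j).eq], ((hpp i k).mul_left (hpp j k)).eq.trans (mul_assoc _ _ _).symm⟩
  have hmem : ∀ i, p i = g₁ ∨ p i = g₂ ∨ p i = g₃ := by
    intro i
    fin_cases i
    · exact hall _ (tw 0 1 2 (by decide) (by decide) (by decide) e)
    · exact hall _ (tw 1 0 2 (by decide) (by decide) (by decide) (e.trans (rot 0 1 2).1))
    · exact hall _ (tw 2 0 1 (by decide) (by decide) (by decide) (e.trans (rot 0 1 2).2))
    · exact hall _ (tw 3 4 5 (by decide) (by decide) (by decide) e')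
    · exact hall _ (tw 4 3 5 (by decide) (by decide) (by decide) (e'.trans (rot 3 4 5).1))
    · exact hall _ (tw 5 3 4 (by decide) (by decide) (by decide) (e'.trans (rot 3 4 5).2))
  have h6 : (Set.range p).ncard = 6 := by
    rw [Set.ncard_range_of_injective hinj, Nat.card_fin]
  have h3 : (Set.range p).ncard ≤ 3 := by
    refine (Set.ncard_le_ncard (t := ({g₁, g₂, g₃} : Set G)) ?_ (Set.toFinite _)).trans ?_
    · rintro _ ⟨i, rfl⟩
      simpa using hmem i
    · exact (Set.ncard_insert_le _ _).trans (Nat.succ_le_succ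
        ((Set.ncard_insert_le _ _).trans (by rw [Set.ncard_singleton])))
  omega

/-- A product of pairwise commuting members is one of at most three distinct ones. -/
theorem exists_short (L : List G) (hL : ∀ x ∈ L, x ∈ D) (hc : ∀ x ∈ L, ∀ y ∈ L, Commute x y) :
    ∃ l : List G, l.Nodup ∧ l.length ≤ 3 ∧ (∀ x ∈ l, x ∈ D) ∧ (∀ x ∈ l, ∀ y ∈ l, Commute x y) ∧
      l.prod = L.prod := by
  classical
  generalize hn : L.length = n
  induction n using Nat.strong_induction_on generalizing L with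
  | _ n ih =>
    by_cases hnd : L.Nodup
    swap
    · obtain ⟨x, hx⟩ := List.exists_duplicate_iff_not_nodup.2 hnd
      have hx1 : x ∈ L := hx.mem
      have hx2 : x ∈ L.erase x := by
        rw [← List.one_le_count_iff, List.count_erase_self]
        have := List.duplicate_iff_two_le_count.1 hx
        omega
      have hperm : L.Perm (x :: x :: (L.erase x).erase x) :=
        (List.perm_cons_erase hx1).trans ((List.perm_cons_erase hx2).cons x)
      have hprod : L.prod = ((L.erase x).erase x).prod := by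
        rw [hperm.prod_eq' (List.pairwise_of_forall_mem_list hc), List.prod_cons, List.prod_cons,
          mul_mul_cancel H.grp.1 (hL x hx1)]
      have hsub : ∀ y ∈ (L.erase x).erase x, y ∈ L := fun y hy =>
        hperm.mem_iff.2 (List.mem_cons_of_mem _ (List.mem_cons_of_mem _ hy))
      have hlen := hperm.length_eq
      simp only [List.length_cons] at hlen
      obtain ⟨l, h1, h2, h3, h4, h5⟩ := ih _ (by omega) ((L.erase x).erase x)
        (fun y hy => hL y (hsub y hy)) (fun y hy z hz => hc y (hsub y hy) z (hsub z hz)) rfl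
      exact ⟨l, h1, h2, h3, h4, h5.trans hprod.symm⟩
    by_cases hlen : L.length ≤ 3
    · exact ⟨L, hnd, hlen, hL, hc, rfl⟩
    match L, hlen with
    | [], h | [_], h | [_, _], h | [_, _, _], h => simp at h
    | a :: b :: c :: f :: rest, _ =>
      simp only [List.nodup_cons, List.mem_cons, not_or] at hnd
      obtain ⟨⟨nab, nac, naf, -⟩, ⟨nbc, nbf, -⟩, ⟨ncf, -⟩, -⟩ := hnd
      have C : ∀ {x y}, x ∈ a :: b :: c :: f :: rest → y ∈ a :: b :: c :: f :: rest → Commute x y :=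
        fun hx hy => hc _ hx _ hy
      have ha := hL a (by simp)
      have hb : b ∈ Dc D a := ⟨hL b (by simp), Ne.symm nab, C (by simp) (by simp)⟩
      have hcm : c ∈ Dc D a := ⟨hL c (by simp), Ne.symm nac, C (by simp) (by simp)⟩
      have hf : f ∈ Dc D a := ⟨hL f (by simp), Ne.symm naf, C (by simp) (by simp)⟩
      simp only [List.length_cons] at hn
      have fin : ∀ new : List G, new.length ≤ 3 → (∀ x ∈ new, x ∈ D) →
          (∀ x ∈ new, ∀ y ∈ new, Commute x y) → a * b * c * f = new.prod →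
          (∀ x ∈ D, Commute x a → Commute x b → Commute x c → Commute x f →
            ∀ y ∈ new, Commute x y) →
          ∃ l : List G, l.Nodup ∧ l.length ≤ 3 ∧ (∀ x ∈ l, x ∈ D) ∧
            (∀ x ∈ l, ∀ y ∈ l, Commute x y) ∧ l.prod = (a :: b :: c :: f :: rest).prod := by
        intro new h1 h2 h3 h4 h5
        obtain ⟨l, k1, k2, k3, k4, k5⟩ := ih _ (by simp only [List.length_append]; omega) (new ++ rest)
          (fun x hx => (List.mem_append.1 hx).elim (h2 x) fun h => hL x (by simp [h]))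
          (fun x hx y hy => by
            have hr : ∀ z ∈ rest, ∀ w ∈ new, Commute z w := fun z hz w hw =>
              h5 z (hL z (by simp [hz])) (C (by simp [hz]) (by simp)) (C (by simp [hz]) (by simp))
                (C (by simp [hz]) (by simp)) (C (by simp [hz]) (by simp)) w hw
            rcases List.mem_append.1 hx with hx | hx <;> rcases List.mem_append.1 hy with hy | hy
            exacts [h3 x hx y hy, (hr y hy x hx).symm, hr x hx y hy, C (by simp [hx]) (by simp [hy])])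
          rfl
        exact ⟨l, k1, k2, k3, k4, k5.trans (by simp [List.prod_append, ← h4, mul_assoc])⟩
      rcases H.reduce_four ha hb hcm hf nbc nbf ncf (C (by simp) (by simp)) (C (by simp) (by simp))
          (C (by simp) (by simp)) with ⟨g, k, hg, hk, he, ⟨-, cgk⟩, hx⟩ | ⟨g, k, l, hg, hk, hl, he, ⟨-, c1, c2, c3⟩, hx⟩
      · refine fin [g, k] (by simp) (by simp [hg, hk]) ?_ (by rw [he]; simp [mul_assoc]) fun x h1 h2 h3 h4 h5 => ?_
        · simp [cgk, cgk.symm]
        · simpa using hx x h1 h2 h3 h4 h5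
      · refine fin [g, k, l] (by simp) (by simp [hg.1, hk.1, hl.1]) ?_ (by rw [he]; simp [mul_assoc])
          fun x h1 h2 h3 h4 h5 => ?_
        · simp [c1, c1.symm, c2, c2.symm, c3, c3.symm]
        · simpa using hx x h1 h2 h3 h4 h5

/-- Five commuting distinct members do not multiply to `1`. -/
theorem five_ne_one {a b c f s : G} (ha : a ∈ D) (hb : b ∈ Dc D a) (hc : c ∈ Dc D a)
    (hf : f ∈ Dc D a) (hs : s ∈ Dc D a) (nbc : b ≠ c) (nbf : b ≠ f) (ncf : c ≠ f)
    (cbc : Commute b c) (cbf : Commute b f) (ccf : Commute c f) (cbs : Commute b s)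
    (ccs : Commute c s) (cfs : Commute f s) : a * b * c * f * s ≠ 1 := by
  intro h
  have hs' : a * b * c * f = s := by rw [eq_inv_of_mul_eq_one_left h, inv_eq H.grp.1 hs.1]
  rcases H.reduce_four ha hb hc hf nbc nbf ncf cbc cbf ccf with
    ⟨g, k, hg, hk, he, ⟨ngk, cgk⟩, hx⟩ |
    ⟨g, k, l, hg, hk, hl, he, ⟨⟨ngk, ngl, nkl⟩, cgk, cgl, ckl⟩, hx⟩
  · obtain ⟨ksg, ksk⟩ := hx s hs.1 hs.2.2.symm cbs.symm ccs.symm cfs.symm
    rw [hs'] at he
    have hsk : k ≠ s := fun h => ne_one H.grp.1 hg (mul_eq_right.1 (h ▸ he).symm)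
    have hsg : s ≠ g := fun h => ne_one H.grp.1 hk (mul_eq_left.1 (h ▸ he).symm)
    refine H.noTwin₂ g hg k ⟨hk, ngk.symm, cgk⟩ s ⟨hs.1, hsg, ksg.symm⟩ hsk ksk.symm fun x hx => ?_
    constructor
    · intro k1
      rw [he]; exact hx.2.2.symm.mul_right k1
    · intro k1
      rw [show k = g * s by rw [he, mul_mul_cancel H.grp.1 hg]]
      exact hx.2.2.symm.mul_right k1
  · obtain ⟨ksg, ksk, ksl⟩ := hx s hs.1 hs.2.2.symm cbs.symm ccs.symm cfs.symm
    rw [hs'] at he
    have hsl : s ≠ l := fun h => ngk (by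
      rw [← inv_eq H.grp.1 hk.1]; exact eq_inv_of_mul_eq_one_left (mul_eq_right.1 (h ▸ he).symm))
    have hsg : s ≠ g := fun h => nkl (by
      rw [← inv_eq H.grp.1 hl.1]
      exact eq_inv_of_mul_eq_one_left (mul_eq_left.1 (show g * (k * l) = g by
        rw [← mul_assoc, ← he, h])))
    have e2 : g * k = s * l := by rw [he, mul_assoc, sq_one H.grp.1 hl.1, mul_one]
    exact (mem_of_prod_two H.tr H.noTwin₂ hg.1 hk.1 hs.1 hl.1 ngk hsl cgk ksl e2).elim hsg.symm ngl

/-- Two commuting members do not have the product of three. -/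
theorem pair_ne_triple {g k l p q : G} (hp : p ∈ D) (hq : q ∈ Dc D p) (hg : g ∈ D) (hk : k ∈ Dc D g)
    (hl : l ∈ Dc D g) (nkl : k ≠ l) (ckl : Commute k l) (hpc : Commute p g ∧ Commute p k ∧ Commute p l)
    (hqc : Commute q g ∧ Commute q k ∧ Commute q l) : g * k * l ≠ p * q := by
  intro h
  have pm : ∀ {x y z : G}, x ∈ D → y ∈ D → z ∈ D → x ≠ y → Commute x y → Commute z x → Commute z y →
      x * y ≠ z := by
    intro x y z hx hy hz hxy cxy czx czy e
    have hxz : z ≠ x := fun h => ne_one H.grp.1 hy (mul_eq_left.1 (e.trans h))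
    have hyz : y ≠ z := fun h => ne_one H.grp.1 hx (mul_eq_right.1 (e.trans h.symm))
    refine H.noTwin₂ x hx y ⟨hy, hxy.symm, cxy⟩ z ⟨hz, hxz, czx.symm⟩ hyz czy.symm fun w hw => ?_
    constructor
    · intro k1; rw [← e]; exact hw.2.2.symm.mul_right k1
    · intro k1
      rw [show y = x * z by rw [← e, mul_mul_cancel H.grp.1 hx]]
      exact hw.2.2.symm.mul_right k1
  by_cases e1 : p = g
  · exact pm hk.1 hl.1 hq.1 nkl ckl hqc.2.1 hqc.2.2
      (mul_left_cancel (a := g) (by rw [← mul_assoc, h, e1]))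
  by_cases e2 : p = k
  · exact pm hg hl.1 hq.1 hl.2.1.symm hl.2.2 hqc.1 hqc.2.2
      (mul_left_cancel (a := k) (by rw [← mul_assoc, hk.2.2.symm.eq, h, e2]))
  by_cases e3 : p = l
  · exact pm hg hk.1 hq.1 hk.2.1.symm hk.2.2 hqc.1 hqc.2.1
      (mul_left_cancel (a := l) (by rw [(hl.2.2.symm.mul_right ckl.symm).eq, h, e3]))
  refine H.five_ne_one hg hk hl ⟨hp, e1, hpc.1.symm⟩ ⟨hq.1, fun e => ?_, hqc.1.symm⟩ nkl
    (Ne.symm e2) (Ne.symm e3) ckl hpc.2.1.symm hpc.2.2.symm hqc.2.1.symm hqc.2.2.symm hq.2.2 ?_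
  · exact pm hk.1 hl.1 hp nkl ckl hpc.2.1 hpc.2.2
      (mul_left_cancel (a := g) (by rw [← mul_assoc, h, e, hpc.1.eq]))
  · rw [h, mul_assoc (p * q), mul_assoc p q, ← mul_assoc q p q, ← hq.2.2.eq, mul_assoc p q q,
      sq_one H.grp.1 hq.1, mul_one, sq_one H.grp.1 hp]

/-- Seven members: four with the product of three, all commuting, the fourth off the line. -/
theorem exists_seven [Nonempty D] : ∃ a b c f g k l : G, a ∈ D ∧
    (b ∈ Dc D a ∧ c ∈ Dc D a ∧ f ∈ Dc D a) ∧ (g ∈ Dc D a ∧ k ∈ Dc D a ∧ l ∈ Dc D a) ∧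
    (b ≠ c ∧ b ≠ f ∧ c ≠ f ∧ g ≠ k ∧ g ≠ l ∧ k ≠ l) ∧
    (Commute b c ∧ Commute b f ∧ Commute c f) ∧ (Commute g k ∧ Commute g l ∧ Commute k l) ∧
    a * b * c * f = g * k * l ∧
    ∀ x ∈ D, Commute x a → Commute x b → Commute x c → Commute x f →
      Commute x g ∧ Commute x k ∧ Commute x l := by
  obtain ⟨⟨a, ha⟩⟩ := ‹Nonempty D›
  obtain ⟨M⟩ := (H.model a ha).2
  obtain ⟨b, hb⟩ := (H.model a ha).1
  obtain ⟨u, hu⟩ := M.exists_vec H ha hb
  obtain ⟨w, hw, huw, hwm⟩ := M.c.exists_orth hu.iso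
  obtain ⟨r, hr, hur, hwr, hrm⟩ := U6.exists_third M.c hu.iso hw huw
  have hw0 : w ≠ 0 := fun e => hwm 0 (by rw [e, zero_smul])
  have hr0 : r ≠ 0 := fun e => hrm 0 0 (by rw [e, zero_smul, zero_smul, add_zero])
  obtain ⟨c, hc⟩ := M.exists_mem H ha hw hw0
  obtain ⟨f, hf⟩ := M.exists_mem H ha hr hr0
  have nbc : b ≠ c := fun e => by
    obtain ⟨m, hm⟩ := M.smul_of_eq hu hc e; exact hwm m hm
  have nbf : b ≠ f := fun e => by
    obtain ⟨m, hm⟩ := M.smul_of_eq hu hf e
    exact hrm 0 m (by rw [hm, zero_smul, zero_add])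
  have ncf : c ≠ f := fun e => by
    obtain ⟨m, hm⟩ := M.smul_of_eq hc hf e
    exact hrm m 0 (by rw [hm, zero_smul, add_zero])
  have cbc := (M.comm_iff H ha hu hc).2 huw
  have cbf := (M.comm_iff H ha hu hf).2 hur
  have ccf := (M.comm_iff H ha hc hf).2 hwr
  rcases H.reduce_four ha hb hc.mem hf.mem nbc nbf ncf cbc cbf ccf with
    ⟨g, k, hg, hk, he, ⟨-, cgk⟩, hx⟩ | ⟨g, k, l, hg, hk, hl, he, ⟨hne, hcs⟩, hx⟩
  · exfalso
    -- then `f` would be a twin, hence on the line of `b`, `c`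
    have hga : Commute g a ∧ Commute g b ∧ Commute g c ∧ Commute g f := by
      refine ⟨((hx a ha (Commute.refl a) hb.2.2 hc.mem.2.2 hf.mem.2.2).1).symm,
        ((hx b hb.1 hb.2.2.symm (Commute.refl b) cbc cbf).1).symm,
        ((hx c hc.mem.1 hc.mem.2.2.symm cbc.symm (Commute.refl c) ccf).1).symm,
        ((hx f hf.mem.1 hf.mem.2.2.symm cbf.symm ccf.symm (Commute.refl f)).1).symm⟩
    obtain ⟨t, htw, ht, hut, hwt, hrt⟩ : ∃ t, t ≠ 0 ∧ M.h t t = 0 ∧ M.h u t = 0 ∧ M.h w t = 0 ∧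
        M.h r t ≠ 0 := by
      by_contra hno
      push Not at hno
      obtain ⟨m, n, e⟩ := M.c.mem_line_of_twin hu.iso huw hur fun y hy huy _ hwy => by
        by_cases hy0 : y = 0
        · rw [hy0, map_zero]
        · exact hno y hy0 hy huy hwy
      exact hrm n m (by rw [e, add_comm])
    obtain ⟨x, hx'⟩ := M.exists_mem H ha ht htw
    have kxa : Commute x a := hx'.mem.2.2.symm
    have kxb := (M.comm_iff H ha hx' hu).2 (M.c.form.comm_zero hut)
    have kxc := (M.comm_iff H ha hx' hc).2 (M.c.form.comm_zero hwt)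
    have kxf : ¬ Commute x f := fun h => hrt (M.c.form.comm_zero ((M.comm_iff H ha hx' hf).1 h))
    have kabc : Commute x (a * b * c) := (kxa.mul_right kxb).mul_right kxc
    -- `a b c = g k f`
    have e3 : a * b * c = g * k * f := by
      rw [← he, mul_assoc (a * b * c), sq_one H.grp.1 hf.mem.1, mul_one]
    have nfg : ∀ {p q}, p ∈ D → q ∈ D → Commute p q → g * k = p * q → p ≠ f := by
      intro p q hp hq cpq e h
      subst h
      have e4 : a * b * c = q := by
        rw [e3, e, cpq.eq, mul_assoc, sq_one H.grp.1 hp, mul_one]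
      have habc := commute_three H.grp.1 ha hb.1 hc.mem.1 hq hb.2.1.symm hc.mem.2.1.symm nbc
        hb.2.2 hc.mem.2.2 cbc (by rw [e4])
      have hm : a * b = q * c := by rw [← e4, mul_assoc, sq_one H.grp.1 hc.mem.1, mul_one]
      by_cases hqc : q = c
      · rw [hqc, sq_one H.grp.1 hc.mem.1] at hm
        exact hb.2.1 (by rw [eq_inv_of_mul_eq_one_left hm, inv_eq H.grp.1 hb.1])
      rcases mem_of_prod_two H.tr H.noTwin₂ ha hb.1 hq hc.mem.1 hb.2.1.symm hqc hb.2.2 habc.2.2 hm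
        with h | h
      · subst h
        rw [eq_comm] at hm
        exact nbc (mul_left_cancel hm).symm
      · exact hc.mem.2.1 h.symm
    have ngf : g ≠ f := nfg hg hk cgk rfl
    have nkf : k ≠ f := nfg hk hg cgk.symm cgk.eq
    have ngk : g ≠ k := fun h => by
      rw [← h, sq_one H.grp.1 hg, one_mul] at e3
      have := nfg (p := f) (q := f) hf.mem.1 hf.mem.1 (Commute.refl f) (by
        rw [← h, sq_one H.grp.1 hg, sq_one H.grp.1 hf.mem.1])
      exact this rfl
    have kg : Commute g k ∧ Commute g f ∧ Commute k f := by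
      refine ⟨cgk, hga.2.2.2, ?_⟩
      exact ((hx f hf.mem.1 hf.mem.2.2.symm cbf.symm ccf.symm (Commute.refl f)).2).symm
    exact kxf (commute_three H.grp.1 hg hk hf.mem.1 hx'.mem.1 ngk ngf nkf kg.1 kg.2.1 kg.2.2
      (e3 ▸ kabc)).2.2
  · refine ⟨a, b, c, f, g, k, l, ha, ⟨hb, hc.mem, hf.mem⟩, ⟨hg, hk, hl⟩, ⟨nbc, nbf, ncf, hne⟩,
      ⟨cbc, cbf, ccf⟩, hcs, he, hx⟩

/-- Four commuting members with the product of three. -/
theorem exists_odd [Nonempty D] : ∃ a b c f g k l : G, (a ∈ D ∧ b ∈ D ∧ c ∈ D ∧ f ∈ D) ∧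
    (Commute a b ∧ Commute a c ∧ Commute a f ∧ Commute b c ∧ Commute b f ∧ Commute c f) ∧
    (g ∈ D ∧ k ∈ D ∧ l ∈ D) ∧ (Commute g k ∧ Commute g l ∧ Commute k l) ∧
    a * b * c * f = g * k * l := by
  obtain ⟨a, b, c, f, g, k, l, ha, ⟨hb, hc, hf⟩, hg, -, hcom, hgkl, he, -⟩ := H.exists_seven
  exact ⟨a, b, c, f, g, k, l, ⟨ha, hb.1, hc.1, hf.1⟩, ⟨hb.2.2, hc.2.2, hf.2.2, hcom⟩,
    ⟨hg.1.1, hg.2.1.1, hg.2.2.1⟩, hgkl, he⟩

/-- The group is perfect. -/
theorem perfect [Nonempty D] : commutator G = ⊤ := by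
  obtain ⟨a, b, c, f, g, k, l, ⟨ha, hb, hc, hf⟩, -, ⟨hg, hk, hl⟩, -, he⟩ := H.exists_odd
  let φ := QuotientGroup.mk' (commutator G)
  have hab : ∀ x y : G ⧸ commutator G, x * y = y * x := fun x y => mul_comm (G := Abelianization G) x y
  have hconst : ∀ x ∈ D, φ x = φ a := fun x hx => by
    obtain ⟨t, rfl⟩ := H.trans a ha x hx
    rw [map_mul, map_mul, map_inv, hab, inv_mul_cancel_left]
  have h2 : φ a * φ a = 1 := by rw [← map_mul, sq_one H.grp.1 ha, map_one]
  have h := congrArg φ he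
  simp only [map_mul, hconst b hb, hconst c hc, hconst f hf, hconst g hg, hconst k hk, hconst l hl,
    h2, one_mul] at h
  have hD : D ⊆ commutator G := fun x hx =>
    (QuotientGroup.eq_one_iff x).1 ((hconst x hx).trans h.symm)
  rw [eq_top_iff, ← H.grp.2.2]
  exact (Subgroup.closure_le _).2 hD

end M22

end Cfsg.Agent.Transpos
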