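import Cfsg.Agent.Lib.Transpos.M22PairSwap
import Cfsg.Agent.Lib.Transpos.UnitaryPointStab
import Cfsg.Agent.Lib.Transpos.M22Short

/-!
# The products of two twins at a commuting pair in type M(22)

`Transpos.PF D a b` is generated by `a`, `b` and the products of two twins among the members
commuting with both.  Such a product shifts the labels on every class of twins, so commutators and
squares in `PF D a b` lie in `⟨a b⟩`, every linear shift occurs, and `PF D a b` has at least `2^10`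
elements; if no more, only `1`, `a`, `b`, `a b` centralise it.
-/

set_option autoImplicit false
set_option linter.style.haveILetI false

namespace Cfsg.Agent.Transpos

open Cfsg Cfsg.Agent.ClassicalSimple

variable {G : Type*} [Group G] {D : Set G}

/-- The products of two twins. -/
def TwinProd (D : Set G) (a b : G) : Set G :=
  {g | ∃ y z, y ∈ Dc (Dc D a) b ∧ Twin D a b y z ∧ g = y * z}

/-- The group generated by `a`, `b` and the products of two twins. -/
def PF (D : Set G) (a b : G) : Subgroup G := Subgroup.closure (TwinProd D a b ∪ {a, b})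

theorem twin_swap {a b c z : G} (h : Twin D a b c z) : Twin D b a c z := by
  have e : Dc (Dc D b) a = Dc (Dc D a) b :=
    Set.ext fun x => ⟨fun h => dc_dc_symm h, fun h => dc_dc_symm h⟩
  exact ⟨e ▸ h.1, h.2.1, h.2.2.1, e ▸ h.2.2.2⟩

theorem twinProd_swap (a b : G) : TwinProd D b a = TwinProd D a b :=
  Set.ext fun _ => ⟨fun ⟨y, z, hy, h, e⟩ => ⟨y, z, dc_dc_symm hy, twin_swap h, e⟩,
    fun ⟨y, z, hy, h, e⟩ => ⟨y, z, dc_dc_symm hy, twin_swap h, e⟩⟩

/-- Generators commuting modulo a central subgroup and squaring into it generate a group doing so. -/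
theorem closure_mod {X : Type*} [Group X] (S : Set X) (Z : Subgroup X)
    (hZ : ∀ z ∈ Z, ∀ x ∈ S, Commute z x) (hc : ∀ x ∈ S, ∀ y ∈ S, x * y * x⁻¹ * y⁻¹ ∈ Z)
    (hs : ∀ x ∈ S, x ^ 2 ∈ Z) :
    (∀ x ∈ Subgroup.closure S, ∀ y ∈ Subgroup.closure S, x * y * x⁻¹ * y⁻¹ ∈ Z) ∧
      ∀ x ∈ Subgroup.closure S, x ^ 2 ∈ Z := by
  have hZ' : ∀ z ∈ Z, ∀ x ∈ Subgroup.closure S, Commute z x := fun z hz x hx =>
    (Subgroup.mem_centralizer_singleton_iff.1
      ((Subgroup.closure_le (K := Subgroup.centralizer {z})).2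
        (fun y hy => Subgroup.mem_centralizer_singleton_iff.2 (hZ z hz y hy).symm) hx) :
      Commute x z).symm
  have h1 : ∀ x ∈ Subgroup.closure S, ∀ y ∈ S, x * y * x⁻¹ * y⁻¹ ∈ Z := by
    intro x hx y hy
    induction hx using Subgroup.closure_induction with
    | mem u hu => exact hc u hu y hy
    | one => simp
    | mul u v hu _ h1 h2 =>
      rw [show u * v * y * (u * v)⁻¹ * y⁻¹ = u * (v * y * v⁻¹ * y⁻¹) * u⁻¹ * (u * y * u⁻¹ * y⁻¹) by
        group, ← (hZ' _ h2 u hu).eq, mul_inv_cancel_right]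
      exact mul_mem h2 h1
    | inv u hu h1 =>
      rw [show u⁻¹ * y * u⁻¹⁻¹ * y⁻¹ = u⁻¹ * (u * y * u⁻¹ * y⁻¹)⁻¹ * u by group,
        ← ((hZ' _ (inv_mem h1) u hu).inv_right).eq, inv_mul_cancel_right]
      exact inv_mem h1
  have h2 : ∀ x ∈ Subgroup.closure S, ∀ y ∈ Subgroup.closure S, x * y * x⁻¹ * y⁻¹ ∈ Z := by
    intro x hx y hy
    induction hy using Subgroup.closure_induction with
    | mem u hu => exact h1 x hx u hu
    | one => simp
    | mul u v hu _ g1 g2 =>
      rw [show x * (u * v) * x⁻¹ * (u * v)⁻¹ = x * u * x⁻¹ * u⁻¹ * (u * (x * v * x⁻¹ * v⁻¹) * u⁻¹) by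
        group, ← (hZ' _ g2 u hu).eq, mul_inv_cancel_right]
      exact mul_mem g1 g2
    | inv u hu g1 =>
      rw [show x * u⁻¹ * x⁻¹ * u⁻¹⁻¹ = u⁻¹ * (x * u * x⁻¹ * u⁻¹)⁻¹ * u by group,
        ← ((hZ' _ (inv_mem g1) u hu).inv_right).eq, inv_mul_cancel_right]
      exact inv_mem g1
  refine ⟨h2, fun x hx => ?_⟩
  induction hx using Subgroup.closure_induction with
  | mem u hu => exact hs u hu
  | one => simp
  | mul u v hu hv g1 g2 =>
    have e : (u * v) ^ 2 = (v * u * v⁻¹ * u⁻¹) * (u * u * (v * v)) := by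
      have hz := hZ' _ (h2 v hv u hu) u hu
      calc (u * v) ^ 2 = u * (v * u * v⁻¹ * u⁻¹) * (u * (v * v)) := by rw [pow_two]; group
        _ = (v * u * v⁻¹ * u⁻¹) * u * (u * (v * v)) := by rw [hz.eq]
        _ = _ := by group
    rw [e]
    exact mul_mem (h2 v hv u hu) (mul_mem (by rwa [← pow_two]) (by rwa [← pow_two]))
  | inv u _ g1 =>
    rw [inv_pow]
    exact inv_mem g1

namespace Model

variable {a b : G} (M : Model D a) (H : M22 D) (ha : a ∈ D) {U : Fin 6 → M.F} (hU : M.IsPt b U)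
include M H ha hU

/-- A member conjugates by its transvection. -/
theorem conj_pt {x z : G} {V W : Fin 6 → M.F} {m n : M.F} (hV : M.h U V = 0) (hW : M.h U W = 0)
    (hx : M.IsPt x (V + m • U)) (hz : M.IsPt z (W + n • U)) :
    M.IsPt (x * z * x⁻¹) (W + M.h V W • V + (n + M.h V W * m) • U) := by
  have := M.acts_tv H ha hx z _ hz
  beta_reduce at this
  have e : M.h (V + m • U) (W + n • U) = M.h V W := by
    simp [hU.iso, hW, M.c.form.comm_zero hV]
  rw [e] at this
  convert this using 1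
  module

/-- A product of two twins shifts the labels of each class. -/
theorem shift_pair {x y z : G} {V W : Fin 6 → M.F} {m m' n : M.F} (hV : M.h U V = 0)
    (hVV : M.h V V = 0) (hW : M.h U W = 0) (hx : M.IsPt x (V + m • U)) (hy : M.IsPt y (V + m' • U))
    (hz : M.IsPt z (W + n • U)) :
    M.IsPt (x * y * z * (x * y)⁻¹) (W + (n + M.h V W * (m + m')) • U) := by
  have h1 := M.conj_pt H ha hU hV hW hy hz
  have h2 := M.conj_pt H ha hU hV (W := W + M.h V W • V) (by simp [hW, hV]) hx h1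
  have e : M.h V (W + M.h V W • V) = M.h V W := by simp [hVV]
  rw [e] at h2
  rw [show x * y * z * (x * y)⁻¹ = x * (y * z * y⁻¹) * x⁻¹ by group]
  convert h2 using 1
  rw [add_assoc W (M.h V W • V), M.c.addV, add_zero]
  module

/-- Different labels are different members. -/
theorem label_ne {V : Fin 6 → M.F} (hV : M.Out U V) {x y : G} {m m' : M.F}
    (hx : M.IsPt x (V + m • U)) (hy : M.IsPt y (V + m' • U)) (hm : m ≠ m') : x ≠ y :=
  fun e => hm (M.coef_unique H ha hU hV (e ▸ hx) hy)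

theorem label_commute {V : Fin 6 → M.F} (hV : M.Out U V) {x y : G} {m m' : M.F}
    (hx : M.IsPt x (V + m • U)) (hy : M.IsPt y (V + m' • U)) : Commute x y :=
  (M.comm_iff H ha hx hy).2 (by simp [hV.1, hV.2.1, hU.iso, M.c.form.comm_zero hV.1])

/-- Two labels of a class are twins. -/
theorem label_twin {V : Fin 6 → M.F} (hV : M.Out U V) {x y : G} {m m' : M.F}
    (hx : M.IsPt x (V + m • U)) (hy : M.IsPt y (V + m' • U)) (hm : m ≠ m') : Twin D a b x y :=
  have hyL := M.mem_of_out H ha hU hy (hV.add M hU m')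
  M.twin_of_span H ha hU hx hy hyL.2.2 (M.label_commute H ha hU hV hx hy) hyL.2.1
    (M.label_ne H ha hU hV hx hy hm).symm (m := m' - m) (n := 1) (by module)

/-- Twins are labels of one class. -/
theorem twin_labels {y z : G} (ht : Twin D a b y z) (hy : y ∈ Dc (Dc D a) b) :
    ∃ (V : Fin 6 → M.F) (m : M.F), M.Out U V ∧ m ≠ 0 ∧ M.IsPt y (V + (0 : M.F) • U) ∧
      M.IsPt z (V + m • U) := by
  obtain ⟨X, hX⟩ := M.exists_vec H ha hy.1
  obtain ⟨F, hF⟩ := M.exists_vec H ha ht.1.1
  obtain ⟨r, t, e⟩ := M.line_of_twin H ha hU hX hF hy ht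
  have ht0 : t ≠ 0 := fun h => (M.out_of_mem H ha hU hF ht.1).2.2 r (by
    rw [e, h, zero_smul, add_zero])
  have hfx := hF.smul (inv_ne_zero ht0)
  rw [e, smul_add, smul_smul, smul_smul, inv_mul_cancel₀ ht0, one_smul, add_comm] at hfx
  refine ⟨X, t⁻¹ * r, M.out_of_mem H ha hU hX hy, fun h => ht.2.1 ?_, by rwa [zero_smul, add_zero], hfx⟩
  rw [h, zero_smul, add_zero] at hfx
  exact (M.eq_of_smul H ha hX hfx (one_smul _ _).symm).symm

/-- Four labels of a class have product `a b`. -/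
theorem class_prod {V : Fin 6 → M.F} (hV : M.Out U V) {n₁ n₂ n₃ n₄ : M.F}
    (h12 : n₁ ≠ n₂) (h13 : n₁ ≠ n₃) (h14 : n₁ ≠ n₄) (h23 : n₂ ≠ n₃) (h24 : n₂ ≠ n₄) (h34 : n₃ ≠ n₄)
    {z₁ z₂ z₃ z₄ : G} (k1 : M.IsPt z₁ (V + n₁ • U)) (k2 : M.IsPt z₂ (V + n₂ • U))
    (k3 : M.IsPt z₃ (V + n₃ • U)) (k4 : M.IsPt z₄ (V + n₄ • U)) :
    z₁ * z₂ * (z₃ * z₄) = a * b := by
  have hz1 := M.mem_of_out H ha hU k1 (hV.add M hU n₁)
  obtain ⟨f₁, f₂, f₃, ⟨t1, t2, t3⟩, -, hall, hprod⟩ := H.triple ha hU.mem hz1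
  have w2 := hall _ (M.label_twin H ha hU hV k1 k2 h12)
  have w3 := hall _ (M.label_twin H ha hU hV k1 k3 h13)
  have w4 := hall _ (M.label_twin H ha hU hV k1 k4 h14)
  have n23 := M.label_ne H ha hU hV k2 k3 h23
  have n24 := M.label_ne H ha hU hV k2 k4 h24
  have n34 := M.label_ne H ha hU hV k3 k4 h34
  have c12 := M22.twin_commute t1 t2
  have c13 := M22.twin_commute t1 t3
  have c23 := M22.twin_commute t2 t3
  have e : z₂ * (z₃ * z₄) = f₁ * (f₂ * f₃) := by
    rcases w2 with rfl | rfl | rfl <;> rcases w3 with rfl | rfl | rfl <;> rcases w4 with rfl | rfl | rfl <;>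
      first
        | rfl
        | exact absurd rfl n23
        | exact absurd rfl n24
        | exact absurd rfl n34
        | rw [c23.symm.eq]
        | rw [← mul_assoc, c12.symm.eq, mul_assoc]
        | rw [c13.symm.eq, ← mul_assoc, c12.symm.eq, mul_assoc]
        | rw [← mul_assoc, c13.symm.eq, mul_assoc, c23.symm.eq]
        | rw [c12.symm.eq, ← mul_assoc, c13.symm.eq, mul_assoc, c23.symm.eq]
  have hca : Commute z₁ a := hz1.1.2.2.symm
  have hcb : Commute z₁ b := hz1.2.2.symm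
  rw [mul_assoc, e, ← mul_assoc f₁, hprod, ← mul_assoc, ← mul_assoc, hca.eq, mul_assoc a z₁ b, hcb.eq,
    ← mul_assoc, mul_assoc, sq_one H.grp.1 hz1.1.1, mul_one]

/-- Shifting a pair of labels changes its product by `1` or `a b`. -/
theorem shifted_pair {V : Fin 6 → M.F} (hV : M.Out U V) {n n' t : M.F} (hn : n ≠ n') {z z' w w' : G}
    (hz : M.IsPt z (V + n • U)) (hz' : M.IsPt z' (V + n' • U)) (hw : M.IsPt w (V + (n + t) • U))
    (hw' : M.IsPt w' (V + (n' + t) • U)) :
    ((t = 0 ∨ t = n + n') ∧ w * w' = z * z') ∨ w * w' = a * b * (z * z') := by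
  by_cases h0 : t = 0
  · subst h0
    rw [add_zero] at hw hw'
    rw [M.eq_of_smul H ha hw hz (one_smul _ _).symm, M.eq_of_smul H ha hw' hz' (one_smul _ _).symm]
    exact Or.inl ⟨Or.inl rfl, rfl⟩
  by_cases h1 : t = n + n'
  · subst h1
    rw [show n + (n + n') = n' by linear_combination n * M.c.two] at hw
    rw [show n' + (n + n') = n by linear_combination n' * M.c.two] at hw'
    rw [M.eq_of_smul H ha hw hz' (one_smul _ _).symm, M.eq_of_smul H ha hw' hz (one_smul _ _).symm]
    exact Or.inl ⟨Or.inr rfl, (M.label_commute H ha hU hV hz hz').symm.eq⟩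
  right
  have e := M.class_prod H ha hU hV (n₁ := n + t) (n₂ := n' + t) (n₃ := n) (n₄ := n')
    (fun e => hn (add_right_cancel e)) (fun e => h0 (by linear_combination e))
    (fun e => h1 (by linear_combination e - n * M.c.two))
    (fun e => h1 (by linear_combination e - n' * M.c.two))
    (fun e => h0 (by linear_combination e)) hn hw hw' hz hz'
  have hsq : z * z' * (z * z') = 1 := by
    have hc := M.label_commute H ha hU hV hz hz'
    calc z * z' * (z * z') = z * (z' * z) * z' := by group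
      _ = z * z * (z' * z') := by rw [hc.symm.eq]; group
      _ = 1 := by rw [sq_one H.grp.1 hz.mem.1, sq_one H.grp.1 hz'.mem.1, mul_one]
  calc w * w' = w * w' * (z * z') * (z * z') := by rw [mul_assoc (w * w'), hsq, mul_one]
    _ = _ := by rw [e]

end Model

namespace M22

variable (H : M22 D) {a b : G} (ha : a ∈ D) (hb : b ∈ Dc D a)
include H ha hb

omit H ha in
/-- The generators commute with `a` and `b`. -/
theorem ab_commute {x : G} (hx : x ∈ TwinProd D a b ∪ {a, b}) : Commute a x ∧ Commute b x := by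
  rcases hx with ⟨y, z, hy, ht, rfl⟩ | rfl | rfl
  exacts [⟨hy.1.2.2.mul_right ht.1.1.2.2, hy.2.2.mul_right ht.1.2.2⟩, ⟨Commute.refl _, hb.2.2.symm⟩,
    ⟨hb.2.2, Commute.refl _⟩]

omit H ha in
/-- The group commutes with `a` and `b`. -/
theorem pf_commute {x : G} (hx : x ∈ PF D a b) : Commute a x ∧ Commute b x := by
  induction hx using Subgroup.closure_induction with
  | mem u hu => exact ab_commute hb hu
  | one => exact ⟨Commute.one_right a, Commute.one_right b⟩
  | mul u v _ _ h1 h2 => exact ⟨h1.1.mul_right h2.1, h1.2.mul_right h2.2⟩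
  | inv u _ h1 => exact ⟨h1.1.inv_right, h1.2.inv_right⟩

/-- Commutators and squares lie in `⟨a b⟩`. -/
theorem pf_mod :
    (∀ x ∈ PF D a b, ∀ y ∈ PF D a b, x * y * x⁻¹ * y⁻¹ ∈ Subgroup.zpowers (a * b)) ∧
      ∀ x ∈ PF D a b, x ^ 2 ∈ Subgroup.zpowers (a * b) := by
  obtain ⟨M⟩ := (H.model a ha).2
  obtain ⟨U, hU⟩ := M.exists_vec H ha hb
  refine closure_mod _ _ (fun z hz x hx => ?_) ?_ fun x hx => ?_
  · obtain ⟨k, rfl⟩ := Subgroup.mem_zpowers_iff.1 hz
    obtain ⟨h1, h2⟩ := ab_commute hb hx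
    exact (h1.mul_left h2).zpow_left k
  · intro x hx y hy
    rcases hx with ⟨u, v, huL, hu, rfl⟩ | hx
    · rcases hy with ⟨u', v', huL', hu', rfl⟩ | hy
      · obtain ⟨V, m, hV, hm, p1, p2⟩ := M.twin_labels H ha hU hu huL
        obtain ⟨W, n, hW, hn, q1, q2⟩ := M.twin_labels H ha hU hu' huL'
        have w1 := M.shift_pair H ha hU hV.1 hV.2.1 hW.1 p1 p2 q1
        have w2 := M.shift_pair H ha hU hV.1 hV.2.1 hW.1 p1 p2 q2
        rw [show u * v * (u' * v') * (u * v)⁻¹ * (u' * v')⁻¹ =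
          u * v * u' * (u * v)⁻¹ * (u * v * v' * (u * v)⁻¹) * (u' * v')⁻¹ by group]
        rcases M.shifted_pair H ha hU hW hn.symm q1 q2 w1 w2 with ⟨-, e⟩ | e
        · rw [e, mul_inv_cancel]; exact one_mem _
        · rw [e, mul_inv_cancel_right]; exact Subgroup.mem_zpowers _
      · have h := ab_commute hb (show u * v ∈ TwinProd D a b ∪ {a, b} from Or.inl ⟨u, v, huL, hu, rfl⟩)
        rcases hy with rfl | rfl
        · rw [h.1.symm.eq, mul_inv_cancel_right, mul_inv_cancel]; exact one_mem _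
        · rw [h.2.symm.eq, mul_inv_cancel_right, mul_inv_cancel]; exact one_mem _
    · obtain ⟨h1, h2⟩ := ab_commute hb hy
      rcases hx with rfl | rfl
      · rw [h1.eq, mul_inv_cancel_right, mul_inv_cancel]; exact one_mem _
      · rw [h2.eq, mul_inv_cancel_right, mul_inv_cancel]; exact one_mem _
  · rcases hx with ⟨u, v, huL, hu, rfl⟩ | rfl | rfl
    · rw [hu.2.2.1.mul_pow, pow_two, pow_two, sq_one H.grp.1 huL.1.1, sq_one H.grp.1 hu.1.1.1, mul_one]
      exact one_mem _
    · rw [pow_two, sq_one H.grp.1 ha]; exact one_mem _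
    · rw [pow_two, sq_one H.grp.1 hb.1]; exact one_mem _

/-- The group is a 2-group. -/
theorem pf_two : IsPGroup 2 ↥(PF D a b) := fun x => ⟨2, Subtype.ext (by
  have h := (pf_mod H ha hb).2 x x.2
  obtain ⟨k, hk⟩ := Subgroup.mem_zpowers_iff.1 h
  rw [SubmonoidClass.coe_pow, OneMemClass.coe_one, show (2 : ℕ) ^ 2 = 2 * 2 from rfl, pow_mul, ← hk,
    ← zpow_natCast, ← zpow_mul, mul_comm, zpow_mul, zpow_natCast, pow_two,
    show a * b * (a * b) = a * a * (b * b) by rw [mul_assoc a b, ← mul_assoc b a b, ← hb.2.2.eq]; group,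
    sq_one H.grp.1 ha, sq_one H.grp.1 hb.1, one_mul, one_zpow])⟩

variable (M : Model D a) {U : Fin 6 → M.F} (hU : M.IsPt b U) (A : U6.Adapt M.c U)
include hU

omit H ha hb hU in
/-- Vectors outside `U` in the perp. -/
theorem out_incl {v : Fin 4 → M.F} (hv0 : v ≠ 0) (hv : ∑ j, M.σ (v j) * v j = 0) :
    M.Out U (A.incl v) := by
  refine ⟨A.U_incl v, ?_, fun m e => hv0 ?_⟩
  · rw [A.h_proj (A.U_incl v) (A.U_incl v), A.proj_incl, hv]
  · rw [← A.proj_incl v, e, map_smul, A.proj_U, smul_zero]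

omit H ha hb hU in
/-- Every vector is a sum of isotropic ones. -/
theorem induction_iso {P : (Fin 4 → M.F) → Prop} (h0 : P 0)
    (hadd : ∀ v w, P v → P w → P (v + w))
    (hiso : ∀ v, v ≠ 0 → ∑ j, M.σ (v j) * v j = 0 → P v) (v : Fin 4 → M.F) : P v := by
  classical
  obtain ⟨o, ho0, ho, -⟩ := M.c.exists_omega
  have hpair : ∀ {i k : Fin 4}, i ≠ k → ∀ x y : M.F, x ≠ 0 → y ≠ 0 →
      P (Pi.single i x + Pi.single k y) := by
    intro i k hik x y hx hy
    refine hiso _ (fun e => hx ?_) ?_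
    · simpa [hik] using congrFun e i
    · rw [Finset.sum_eq_add i k hik (fun j _ hj => by simp [hj.1, hj.2]) (fun h => absurd (Finset.mem_univ i) h)
        (fun h => absurd (Finset.mem_univ k) h)]
      simp [hik, hik.symm, M.c.norm x hx, M.c.norm y hy, M.c.two]
  have hsingle : ∀ i x, P (Pi.single i x) := by
    intro i x
    by_cases hx : x = 0
    · rw [hx, Pi.single_zero]; exact h0
    obtain ⟨k, hk⟩ := exists_ne i
    have hxo : x * o ≠ 0 := mul_ne_zero hx ho0
    have e := hadd _ _ (hpair hk _ _ hxo hxo) (hpair hk _ (x * o * o) hxo (mul_ne_zero hxo ho0))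
    rwa [show (Pi.single k (x * o) : Fin 4 → M.F) + Pi.single i (x * o) + (Pi.single k (x * o) + Pi.single i (x * o * o)) =
        (Pi.single k (x * o) + Pi.single k (x * o)) + (Pi.single i (x * o) + Pi.single i (x * o * o)) by abel,
      ← Pi.single_add, ← Pi.single_add, M.c.addF, Pi.single_zero, zero_add,
      show x * o + x * o * o = x by linear_combination x * ho - x * M.c.two] at e
  rw [← Finset.univ_sum_single v]
  exact Finset.sum_induction _ P hadd h0 fun i _ => hsingle i (v i)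

/-- Every linear shift occurs. -/
theorem exists_shift (v : Fin 4 → M.F) : ∃ f ∈ PF D a b, (v = 0 → f = 1) ∧
    ∀ W, M.Out U W → ∀ (n : M.F) z, M.IsPt z (W + n • U) →
      M.IsPt (f * z * f⁻¹) (W + (n + M.h (A.incl v) W) • U) := by
  by_cases h0 : v = 0
  · exact ⟨1, one_mem _, fun _ => rfl, fun W _ n z hz => by simpa [h0] using hz⟩
  suffices h : ∃ f ∈ PF D a b, ∀ W, M.Out U W → ∀ (n : M.F) z, M.IsPt z (W + n • U) →
      M.IsPt (f * z * f⁻¹) (W + (n + M.h (A.incl v) W) • U) by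
    obtain ⟨f, hf, hs⟩ := h
    exact ⟨f, hf, fun e => absurd e h0, hs⟩
  clear h0
  induction v using induction_iso M with
  | h0 => exact ⟨1, one_mem _, fun W _ n z hz => by simpa using hz⟩
  | hadd v w hv hw =>
    obtain ⟨f, hf, hfs⟩ := hv
    obtain ⟨g, hg, hgs⟩ := hw
    refine ⟨f * g, mul_mem hf hg, fun W hW n z hz => ?_⟩
    have := hfs W hW _ _ (hgs W hW n z hz)
    rw [show f * g * z * (f * g)⁻¹ = f * (g * z * g⁻¹) * f⁻¹ by group]
    convert this using 3
    simp only [map_add, LinearMap.add_apply]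
    ring
  | hiso v hv0 hv =>
    have hV := out_incl M A hv0 hv
    obtain ⟨x, hx, hxL⟩ := M.pt_of_out H ha hU (hV.add M hU 0)
    obtain ⟨y, hy, -⟩ := M.pt_of_out H ha hU (hV.add M hU 1)
    refine ⟨x * y, Subgroup.subset_closure (Or.inl ⟨x, y, hxL,
      M.label_twin H ha hU hV hx hy zero_ne_one, rfl⟩), fun W hW n z hz => ?_⟩
    have := M.shift_pair H ha hU hV.1 hV.2.1 hW.1 hx hy hz
    rwa [zero_add, mul_one] at this

omit H in
/-- `a`, `b` and their product fix the common commuting members. -/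
theorem pair_fix {u z : G} (hu : u ∈ ({1, a, b, a * b} : Set G)) (hz : z ∈ Dc (Dc D a) b) :
    u * z * u⁻¹ = z := by
  have : Commute u z := by
    rcases hu with rfl | rfl | rfl | rfl
    exacts [Commute.one_left z, hz.1.2.2, hz.2.2, hz.1.2.2.mul_left hz.2.2]
  rw [this.eq, mul_inv_cancel_right]

omit hU in
/-- The four elements of the pair. -/
theorem pair_ncard : ({1, a, b, a * b} : Set G).ncard = 4 := by
  have n1 := ne_one H.grp.1 ha
  have n2 := ne_one H.grp.1 hb.1
  have n3 : a * b ≠ 1 := fun e => hb.2.1 (by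
    rw [← inv_eq H.grp.1 ha, ← mul_eq_one_iff_inv_eq.1 e])
  rw [Set.ncard_insert_of_notMem, Set.ncard_insert_of_notMem, Set.ncard_pair]
  · exact fun e => n1 (by simpa using e)
  · rintro (e | e)
    exacts [hb.2.1 e.symm, n2 (by simpa using e)]
  · rintro (e | e | e)
    exacts [n1 e.symm, n2 e.symm, n3 e.symm]

/-- At least `2^10` elements; if no more, only the pair centralises them. -/
theorem pf_card [Finite G] (A : U6.Adapt M.c U) : 1024 ≤ Nat.card ↥(PF D a b) ∧ (Nat.card ↥(PF D a b) ≤ 1024 →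
    ∀ x ∈ PF D a b, (∀ g ∈ TwinProd D a b, Commute x g) → x ∈ ({1, a, b, a * b} : Set G)) := by
  classical
  haveI : Finite M.F := M.fin
  haveI : Fintype M.F := Fintype.ofFinite _
  haveI := Fintype.ofFinite (↥({1, a, b, a * b} : Set G))
  choose f hf hf1 hfs using exists_shift H ha hb M hU A
  have hpairs : ∀ u ∈ ({1, a, b, a * b} : Set G), u ∈ PF D a b := by
    rintro u (rfl | rfl | rfl | rfl)
    exacts [one_mem _, Subgroup.subset_closure (Or.inr (Or.inl rfl)),
      Subgroup.subset_closure (Or.inr (Or.inr rfl)),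
      mul_mem (Subgroup.subset_closure (Or.inr (Or.inl rfl))) (Subgroup.subset_closure (Or.inr (Or.inr rfl)))]
  let Θ : (Fin 4 → M.F) × ↥({1, a, b, a * b} : Set G) → ↥(PF D a b) := fun w =>
    ⟨f w.1 * w.2, mul_mem (hf _) (hpairs _ w.2.2)⟩
  have hact : ∀ (w : (Fin 4 → M.F) × ↥({1, a, b, a * b} : Set G)) W, M.Out U W → ∀ (n : M.F) z,
      M.IsPt z (W + n • U) →
      M.IsPt ((Θ w : G) * z * (Θ w : G)⁻¹) (W + (n + M.h (A.incl w.1) W) • U) := by
    intro w W hW n z hz
    show M.IsPt (f w.1 * (w.2 : G) * z * (f w.1 * (w.2 : G))⁻¹) _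
    rw [show f w.1 * (w.2 : G) * z * (f w.1 * (w.2 : G))⁻¹ =
      f w.1 * ((w.2 : G) * z * (w.2 : G)⁻¹) * (f w.1)⁻¹ by group,
      pair_fix ha hb M hU w.2.2 (M.mem_of_out H ha hU hz (hW.add M hU n))]
    exact hfs _ W hW n z hz
  have hsep : ∀ d : Fin 4 → M.F, (∀ W, M.Out U W → M.h (A.incl d) W = 0) → d = 0 := by
    intro d hd
    have key : ∀ v, M.h (A.incl d) (A.incl v) = 0 := fun v => by
      induction v using induction_iso M with
      | h0 => simp
      | hadd v w hv hw => rw [map_add, map_add, hv, hw, add_zero]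
      | hiso v hv0 hv => exact hd _ (out_incl M A hv0 hv)
    funext j
    have := key (Pi.single j 1)
    rw [A.h_proj (A.U_incl _) (A.U_incl _), A.proj_incl, A.proj_incl,
      Finset.sum_eq_single j (fun k _ hk => by simp [hk]) (by simp)] at this
    simpa using this
  have hinj : Function.Injective Θ := by
    intro w w' e
    have e1 : w.1 = w'.1 := by
      refine sub_eq_zero.1 (hsep _ fun W hW => ?_)
      obtain ⟨z, hz, -⟩ := M.pt_of_out H ha hU (hW.add M hU 0)
      have h1 := hact w W hW 0 z hz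
      rw [e] at h1
      have := M.coef_unique H ha hU hW h1 (hact w' W hW 0 z hz)
      rw [zero_add, zero_add] at this
      rw [map_sub, map_sub, LinearMap.sub_apply, this, sub_self]
    have e2 : f w.1 * (w.2 : G) = f w'.1 * (w'.2 : G) := congrArg Subtype.val e
    rw [e1] at e2
    exact Prod.ext e1 (Subtype.ext (mul_left_cancel e2))
  have hcard : Nat.card ((Fin 4 → M.F) × ↥({1, a, b, a * b} : Set G)) = 1024 := by
    rw [Nat.card_prod, Nat.card_fun, Nat.card_coe_set_eq, pair_ncard H ha hb, Nat.card_fin, Nat.card_eq_fintype_card, U6.card_eq M.c]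
    norm_num
  refine ⟨?_, fun hle x hx hc => ?_⟩
  · rw [← hcard]; exact Nat.card_le_card_of_injective Θ hinj
  · have hs : Function.Surjective Θ := ((Nat.bijective_iff_injective_and_card Θ).2
      ⟨hinj, le_antisymm (Nat.card_le_card_of_injective Θ hinj) (hcard ▸ hle)⟩).2
    obtain ⟨w, hw⟩ := hs ⟨x, hx⟩
    have hxw : x = f w.1 * (w.2 : G) := (congrArg Subtype.val hw).symm
    suffices h : w.1 = 0 by
      rw [hxw, hf1 _ h, one_mul]
      exact w.2.2
    refine hsep _ fun W hW => ?_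
    set t := M.h (A.incl w.1) W
    have key : ∀ s : M.F, s ≠ 0 → t = 0 ∨ t = s := by
      intro s hs0
      obtain ⟨z, hz, hzL⟩ := M.pt_of_out H ha hU (hW.add M hU 0)
      obtain ⟨z', hz', -⟩ := M.pt_of_out H ha hU (hW.add M hU s)
      have h1 := hact w W hW 0 z hz
      have h2 := hact w W hW s z' hz'
      rw [hw] at h1 h2
      have hxc := hc _ ⟨z, z', hzL, M.label_twin H ha hU hW hz hz' (Ne.symm hs0), rfl⟩
      rcases M.shifted_pair H ha hU hW (Ne.symm hs0) hz hz' h1 h2 with ⟨e, -⟩ | e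
      · rwa [zero_add] at e
      · exfalso
        change x * z * x⁻¹ * (x * z' * x⁻¹) = _ at e
        rw [show x * z * x⁻¹ * (x * z' * x⁻¹) = x * (z * z') * x⁻¹ by group, hxc.eq,
          mul_inv_cancel_right, right_eq_mul] at e
        exact hb.2.1 (by rw [← inv_eq H.grp.1 ha, ← mul_eq_one_iff_inv_eq.1 e])
    obtain ⟨o, ho0, ho, -⟩ := M.c.exists_omega
    rcases key 1 one_ne_zero with e | e
    · exact e
    rcases key o ho0 with e' | e'
    · exact e'
    exact absurd (e.symm.trans e') fun h => one_ne_zero (α := M.F) (by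
      rw [← h] at ho; linear_combination ho - M.c.two)

end M22

end Cfsg.Agent.Transpos
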