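import Cfsg.Agent.Lib.Transpos.M22Auto
import Cfsg.Agent.Lib.Transpos.M22InvolClasses

/-!
# Elements exchanging two commuting members move some class of twins

`Model.stable_linear`: an automorphism stabilising every class of twins at `a`, `b` is affine with
linear part a scalar on each class.  `M22.swap_false`: so it cannot exchange `a` and `b`, as an
element exchanging them fixes two and moves two of the twins of some member.
-/

set_option autoImplicit false
set_option linter.style.haveILetI false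

namespace Cfsg.Agent.Transpos

open Cfsg Cfsg.Agent.ClassicalSimple

variable {G : Type*} [Group G] {D : Set G}

namespace Model

variable {a b : G} (M : Model D a) (H : M22 D) (ha : a ∈ D) {U : Fin 6 → M.F} (hU : M.IsPt b U)
include M H ha hU

/-- An automorphism stabilising all classes is affine with a scalar linear part on each. -/
theorem stable_linear {φ : G ≃* G}
    (hφ : ∀ V, M.Out U V → ∀ (m : M.F) y, M.IsPt y (V + m • U) →
      ∃ n : M.F, M.IsPt (φ y) (V + n • U))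
    {X : Fin 6 → M.F} (hX : M.Out U X) :
    ∃ μ ν : M.F, ∀ (m : M.F) y, M.IsPt y (X + m • U) → M.IsPt (φ y) (X + (μ * m + ν) • U) := by
  classical
  have key : ∀ V : Fin 6 → M.F, ∀ m : M.F, ∃ n : M.F, M.Out U V → ∀ y, M.IsPt y (V + m • U) →
      M.IsPt (φ y) (V + n • U) := by
    intro V m
    by_cases hV : M.Out U V
    · obtain ⟨y, hy, -⟩ := M.pt_of_out H ha hU (hV.add M hU m)
      obtain ⟨n, hn⟩ := hφ V hV m y hy
      exact ⟨n, fun _ z hz => by rwa [← M.eq_of_smul H ha hy hz (one_smul _ _).symm]⟩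
    · exact ⟨0, fun h => absurd h hV⟩
  choose g hg using key
  have conj : ∀ {x z : G} {V Z : Fin 6 → M.F} {m n : M.F}, M.Out U V → M.Out U Z →
      M.IsPt x (V + m • U) → M.IsPt z (Z + n • U) →
      M.IsPt (z * x * z⁻¹) (V + M.h Z V • Z + (m + M.h Z V * n) • U) := by
    intro x z V Z m n hV hZ hx hz
    have := M.acts_tv H ha hz x _ hx
    beta_reduce at this
    have e : M.h (Z + n • U) (V + m • U) = M.h Z V := by
      simp [hU.iso, hV.1, M.c.form.comm_zero hZ.1]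
    rw [e] at this
    convert this using 1
    module
  have rule : ∀ {V Z : Fin 6 → M.F}, M.Out U V → M.Out U Z → M.h Z V ≠ 0 → ∀ m n : M.F,
      g (V + M.h Z V • Z) (m + M.h Z V * n) = g V m + M.h Z V * g Z n := by
    intro V Z hV hZ hne m n
    obtain ⟨x, hx, -⟩ := M.pt_of_out H ha hU (hV.add M hU m)
    obtain ⟨z, hz, -⟩ := M.pt_of_out H ha hU (hZ.add M hU n)
    have hW := M.out_conj H ha hU hV hZ hne
    have h1 := hg _ _ hW _ (conj hV hZ hx hz)
    have h2 := conj hV hZ (hg V m hV x hx) (hg Z n hZ z hz)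
    rw [map_mul, map_mul, map_inv] at h1
    exact M.coef_unique H ha hU hW h1 h2
  let f : (Fin 6 → M.F) → M.F → M.F := fun V m => g V m - g V 0
  have homog : ∀ {V Z : Fin 6 → M.F}, M.Out U V → M.Out U Z → M.h Z V ≠ 0 → ∀ n,
      f V (M.h Z V * n) = M.h Z V * f Z n := by
    intro V Z hV hZ hne n
    have h1 := rule hV hZ hne (M.h Z V * n) 0
    have h2 := rule hV hZ hne 0 0
    have h3 := rule hV hZ hne 0 n
    simp only [mul_zero, add_zero, zero_add] at h1 h2 h3
    linear_combination h3 - h1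
  have same : ∀ {V Z : Fin 6 → M.F}, M.Out U V → M.Out U Z → M.h Z V = 1 → ∀ n, f V n = f Z n := by
    intro V Z hV hZ h1 n
    have := homog hV hZ (by rw [h1]; exact one_ne_zero) n
    simpa [h1] using this
  -- two hyperbolic pairs
  obtain ⟨Z, hZU, hZZ, hXZ⟩ := U6.exists_partner M.c ![U] hX.2.1
    (fun i => by fin_cases i; exact hX.1) (fun h => by
      rw [Matrix.range_cons, Matrix.range_empty, Set.union_empty,
        Submodule.mem_span_singleton] at h
      obtain ⟨m, hm⟩ := h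
      exact hX.2.2 m hm.symm)
  have hUZ : M.h U Z = 0 := hZU 0
  have hZX : M.h Z X = 1 := by rw [M.c.form.swap, hXZ, map_one]
  have indep : ∀ {V : Fin 6 → M.F} {p q r : M.F}, M.h X V = 0 → M.h Z V = 0 →
      V = p • U + q • X + r • Z → q = 0 ∧ r = 0 := by
    intro V p q r h1 h2 e
    rw [e] at h1 h2
    simp only [map_add, map_smul, smul_eq_mul, hX.2.1, hXZ, hZX, hZZ, M.c.form.comm_zero hX.1,
      M.c.form.comm_zero hUZ, mul_zero, mul_one, zero_add, add_zero] at h1 h2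
    exact ⟨h2, h1⟩
  obtain ⟨E, hE, -, hUE⟩ := U6.exists_partner M.c ![X, Z] hU.iso
    (fun i => by fin_cases i <;> [exact M.c.form.comm_zero hX.1; exact M.c.form.comm_zero hUZ])
    (fun h => by
      rw [Submodule.mem_span_range_iff_exists_fun] at h
      obtain ⟨k, hk⟩ := h
      simp only [Fin.sum_univ_two, Matrix.cons_val_zero, Matrix.cons_val_one] at hk
      obtain ⟨q, r⟩ := indep (p := 0) (q := k 0) (r := k 1) (M.c.form.comm_zero hX.1)
        (M.c.form.comm_zero hUZ) (by rw [zero_smul, zero_add, hk])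
      rw [q, r, zero_smul, zero_smul, add_zero] at hk
      exact hU.ne_zero hk.symm)
  have := M.c.fd
  obtain ⟨Y, hY0, hYY, hY⟩ := U6.exists_iso_perp M.c ![U, X, Z, E]
  have hUY : M.h U Y = 0 := hY 0
  have hXY : M.h X Y = 0 := hY 1
  have hZY : M.h Z Y = 0 := hY 2
  have hEY : M.h E Y = 0 := hY 3
  obtain ⟨Y', hY'v, hY'Y', hYY'⟩ := U6.exists_partner M.c ![U, X, Z] hYY
    (fun i => by fin_cases i <;> [exact hUY; exact hXY; exact hZY]) (fun h => by
      rw [Submodule.mem_span_range_iff_exists_fun] at h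
      obtain ⟨k, hk⟩ := h
      simp only [Fin.sum_univ_three, Matrix.cons_val_zero, Matrix.cons_val_one, Matrix.cons_val] at hk
      obtain ⟨q, r⟩ := indep (p := k 0) (q := k 1) (r := k 2) hXY hZY hk.symm
      rw [q, r, zero_smul, zero_smul, add_zero, add_zero] at hk
      rw [← hk, map_smul, M.c.form.swap U E, hUE, map_one, smul_eq_mul, mul_one] at hEY
      exact hY0 (by rw [← hk, hEY, zero_smul]))
  have hUY' : M.h U Y' = 0 := hY'v 0
  have hXY' : M.h X Y' = 0 := hY'v 1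
  have hZY' : M.h Z Y' = 0 := hY'v 2
  have outOf : ∀ {V W}, M.h U V = 0 → M.h V V = 0 → M.h U W = 0 → M.h W V ≠ 0 → M.Out U V :=
    fun {V W} h1 h2 h3 h4 => ⟨h1, h2, fun m e => h4 (by
      rw [e, map_smul, M.c.form.comm_zero h3, smul_zero])⟩
  have hY'o : M.Out U Y' := outOf hUY' hY'Y' hUY (by rw [hYY']; exact one_ne_zero)
  have comb : ∀ r : M.F, M.h U (r • Z + Y) = 0 ∧ M.h (r • Z + Y) (r • Z + Y) = 0 ∧
      M.h (r • Z + Y) X = M.σ r ∧ M.h (r • Z + Y) Y' = 1 := fun r => by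
    refine ⟨by simp [hUZ, hUY], by simp [hZZ, hYY, hZY, M.c.form.comm_zero hZY], ?_, ?_⟩
    · simp [hZX, M.c.form.comm_zero hXY]
    · simp [hZY', hYY']
  have hf : ∀ r : M.F, r ≠ 0 → M.Out U (r • Z + Y) ∧ ∀ n, f Y' n = f (r • Z + Y) n := by
    intro r _
    obtain ⟨h1, h2, -, h4⟩ := comb r
    have ho := outOf h1 h2 hUY' (W := Y') (by
      rw [M.c.form.swap, h4, map_one]; exact one_ne_zero)
    exact ⟨ho, same hY'o ho h4⟩
  refine ⟨f X 1, g X 0, fun m y hy => ?_⟩
  have hm : f X m = f X 1 * m := by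
    by_cases h0 : m = 0
    · rw [h0, mul_zero]; exact sub_self _
    have hσ : M.σ m ≠ 0 := (map_ne_zero _).2 h0
    obtain ⟨hS, eS⟩ := hf 1 one_ne_zero
    obtain ⟨hL, eL⟩ := hf (M.σ m) hσ
    have e1 : M.h (M.σ m • Z + Y) X = m := by rw [(comb _).2.2.1, M.c.form.invol]
    have e2 := homog hX hL (by rw [e1]; exact h0) 1
    rw [e1, mul_one, ← eL, eS, ← same hX hS (by rw [(comb 1).2.2.1, map_one])] at e2
    rw [e2, mul_comm]
  rw [← hm, show f X m + g X 0 = g X m from sub_add_cancel _ _]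
  exact hg X m hX y hy

end Model

namespace M22

variable (H : M22 D)
include H

/-- An element exchanging two commuting members and fixing two of four twins. -/
theorem exists_swap {p q x : G} (hp : p ∈ D) (hq : q ∈ Dc D p) (hx : x ∈ Dc (Dc D p) q) :
    ∃ s f₁ f₂ : G, s * p * s⁻¹ = q ∧ s * q * s⁻¹ = p ∧ s * x * s⁻¹ = x ∧
      Twin D p q x f₁ ∧ Twin D p q x f₂ ∧ s * f₁ * s⁻¹ = f₁ ∧ s * f₂ * s⁻¹ ≠ f₂ := by
  classical
  have hxD := hx.1.1
  obtain ⟨M⟩ := (H.model x hxD).2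
  have hpx : p ∈ Dc D x := mem_dc_symm hp hx.1
  have hqx : q ∈ Dc D x := ⟨hq.1, hx.2.1.symm, hx.2.2.symm⟩
  obtain ⟨P, hP⟩ := M.exists_vec H hxD hpx
  obtain ⟨Q, hQ⟩ := M.exists_vec H hxD hqx
  have hPQ : M.h P Q = 0 := (M.comm_iff H hxD hP hQ).1 hq.2.2
  have hQP : M.h Q P = 0 := M.c.form.comm_zero hPQ
  have hne : ∀ m n : M.F, m • P + n • Q = 0 → m = 0 ∧ n = 0 := by
    intro m n e
    by_cases hn : n = 0
    · rw [hn, zero_smul, add_zero] at e
      exact ⟨(smul_eq_zero.1 e).resolve_right hP.ne_zero, hn⟩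
    · exfalso
      refine M.ne_of_ne H hxD hP hQ hq.2.1.symm (-(n⁻¹ * m)) ?_
      rw [← inv_smul_smul₀ hn Q, eq_neg_of_add_eq_zero_right e]
      module
  obtain ⟨E, hEv, hEE, hPE⟩ := U6.exists_partner M.c ![P + Q] hP.iso
    (fun i => by fin_cases i; simp [hP.iso, hQP]) (fun h => by
      rw [Matrix.range_cons, Matrix.range_empty, Set.union_empty,
        Submodule.mem_span_singleton] at h
      obtain ⟨m, hm⟩ := h
      obtain ⟨e1, e2⟩ := hne (m - 1) m (by rw [← sub_eq_zero.2 hm]; module)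
      rw [e2, zero_sub, neg_eq_zero] at e1
      exact one_ne_zero e1)
  have hQE : M.h Q E = 1 := by
    have := hEv 0
    simp [hPE] at this
    linear_combination this - M.c.two
  have hEP : M.h E P = 1 := by rw [M.c.form.swap, hPE, map_one]
  have hEQ : M.h E Q = 1 := by rw [M.c.form.swap, hQE, map_one]
  obtain ⟨r₁, hr₁⟩ := M.exists_mem H hxD (v := P + E)
    (by simp [hP.iso, hEE, hPE, hEP, M.c.two]) fun e => by
      have := congrArg (M.h P) e
      simp [hP.iso, hPE] at this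
  obtain ⟨r₂, hr₂⟩ := M.exists_mem H hxD (v := Q + E)
    (by simp [hQ.iso, hEE, hQE, hEQ, M.c.two]) fun e => by
      have := congrArg (M.h Q) e
      simp [hQ.iso, hQE] at this
  set s := r₂ * r₁ with hs
  let T : (Fin 6 → M.F) → (Fin 6 → M.F) := fun v =>
    (v + M.h (P + E) v • (P + E)) + M.h (Q + E) (v + M.h (P + E) v • (P + E)) • (Q + E)
  have hact : M.Acts (fun z => s * z * s⁻¹) T := fun z v hz => by
    have := ((M.acts_tv H hxD hr₂).comp (M.acts_tv H hxD hr₁)) z v hz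
    show M.IsPt (s * z * s⁻¹) (T v)
    rw [show s * z * s⁻¹ = r₂ * (r₁ * z * r₁⁻¹) * r₂⁻¹ by rw [hs]; group]
    exact this
  have addV : ∀ v : Fin 6 → M.F, v + v = 0 := M.c.addV
  have hTP : T P = Q := by
    have e : M.h (P + E) P = 1 := by simp [hP.iso, hEP]
    have e' : M.h (Q + E) E = 1 := by simp [hQE, hEE]
    simp only [T, e, one_smul, ← add_assoc P P E, addV, zero_add, e']
    rw [add_comm Q E, ← add_assoc, addV, zero_add]
  have hTQ : T Q = P := by
    have e : M.h (P + E) Q = 1 := by simp [hPQ, hEQ]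
    have e' : M.h (Q + E) (Q + (P + E)) = 1 := by
      simp [hQ.iso, hQP, hQE, hEQ, hEP, hEE]
      linear_combination M.c.two
    simp only [T, e, one_smul, e']
    rw [show Q + (P + E) + (Q + E) = P + ((Q + Q) + (E + E)) by abel, addV, addV, add_zero, add_zero]
  have hTlin : ∀ n : M.F, T (P + n • Q) = Q + n • P := fun n => by
    have : T (P + n • Q) = T P + n • T Q := by
      simp only [T, map_add, map_smul, smul_eq_mul, LinearMap.add_apply]
      module
    rw [this, hTP, hTQ]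
  have sp : s * p * s⁻¹ = q := M.eq_of_smul H hxD (hTP ▸ hact p P hP) hQ (one_smul _ _).symm
  have sq : s * q * s⁻¹ = p := M.eq_of_smul H hxD (hTQ ▸ hact q Q hQ) hP (one_smul _ _).symm
  have sx : s * x * s⁻¹ = x := by
    rw [show s * x * s⁻¹ = r₂ * (r₁ * x * r₁⁻¹) * r₂⁻¹ by rw [hs]; group,
      show r₁ * x * r₁⁻¹ = x by rw [← hr₁.mem.2.2.eq, mul_inv_cancel_right],
      show r₂ * x * r₂⁻¹ = x by rw [← hr₂.mem.2.2.eq, mul_inv_cancel_right]]
  obtain ⟨f₁, f₂, f₃, ⟨t1, t2, t3⟩, ⟨d12, d13, d23⟩, -, -⟩ := H.triple hp hq hx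
  have pos : ∀ {f}, Twin D p q x f → ∃ n : M.F, n ≠ 0 ∧ M.IsPt f (P + n • Q) := by
    intro f hf
    have hfx : f ∈ Dc D x := ⟨hf.1.1.1, hf.2.1, hf.2.2.1⟩
    obtain ⟨F, hF⟩ := M.exists_vec H hxD hfx
    obtain ⟨α, β, e⟩ := M.c.mem_line_of_twin hP.iso hPQ
      ((M.comm_iff H hxD hP hF).1 hf.1.1.2.2) fun y hy hPy hym hQy => by
        obtain ⟨z, hz⟩ := M.exists_mem H hxD hy fun e => hym 0 (by rw [e, zero_smul])
        by_cases hzq : z = q
        · obtain ⟨m, hm⟩ := M.smul_of_eq hQ hz hzq.symm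
          rw [hm, map_smul, (M.comm_iff H hxD hF hQ).1 hf.1.2.2.symm, smul_zero]
        · have hzp : z ≠ p := fun e => by
            obtain ⟨m, hm⟩ := M.smul_of_eq hP hz e.symm
            exact hym m hm
          have hzT : z ∈ Dc (Dc D p) q := ⟨⟨hz.mem.1, hzp, (M.comm_iff H hxD hP hz).2 hPy⟩,
            hzq, (M.comm_iff H hxD hQ hz).2 hQy⟩
          exact (M.comm_iff H hxD hF hz).1 ((hf.2.2.2 z hzT).1 hz.mem.2.2.symm).symm
    have hα : α ≠ 0 := fun h =>
      M.ne_of_ne H hxD hQ hF hf.1.2.1.symm β (by rw [e, h, zero_smul, zero_add])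
    have hβ : β ≠ 0 := fun h =>
      M.ne_of_ne H hxD hP hF hf.1.1.2.1.symm α (by rw [e, h, zero_smul, add_zero])
    refine ⟨α⁻¹ * β, mul_ne_zero (inv_ne_zero hα) hβ, ?_⟩
    have := hF.smul (inv_ne_zero hα)
    rwa [e, smul_add, smul_smul, smul_smul, inv_mul_cancel₀ hα, one_smul] at this
  have fixed : ∀ {f} {n : M.F}, M.IsPt f (P + n • Q) → (s * f * s⁻¹ = f ↔ n * n = 1) := by
    intro f n hf
    have himg : M.IsPt (s * f * s⁻¹) (Q + n • P) := hTlin n ▸ hact f _ hf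
    constructor
    · intro e
      obtain ⟨m, hm⟩ := M.smul_of_eq hf himg e.symm
      obtain ⟨e1, e2⟩ := hne (n - m) (1 - m * n) (by rw [← sub_eq_zero.2 hm]; module)
      linear_combination n * e1 - e2
    · intro e
      refine M.eq_of_smul H hxD himg hf (m := n) ?_
      rw [smul_add, smul_smul, e, one_smul, add_comm]
  have sq1 : ∀ {n : M.F}, n ≠ 0 → n * n = 1 → n = 1 := fun {n} h0 e => by
    linear_combination M.c.cube n h0 - n * e
  have inj : ∀ {f g} {n : M.F}, M.IsPt f (P + n • Q) → M.IsPt g (P + n • Q) → f = g :=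
    fun hf hg => M.eq_of_smul H hxD hf hg (one_smul _ _).symm
  obtain ⟨n1, z1, h1⟩ := pos t1
  obtain ⟨n2, z2, h2⟩ := pos t2
  obtain ⟨n3, z3, h3⟩ := pos t3
  obtain ⟨o, ho0, ho, -⟩ := M.c.exists_omega
  have fix1 : ∀ {f}, M.IsPt f (P + (1 : M.F) • Q) → s * f * s⁻¹ = f := fun hf =>
    (fixed hf).2 (one_mul 1)
  have move : ∀ {f g} {n : M.F}, n ≠ 0 → M.IsPt f (P + n • Q) → M.IsPt g (P + (1 : M.F) • Q) →
      f ≠ g → s * f * s⁻¹ ≠ f := fun hn hf hg hfg e =>
    hfg (inj hf (by rw [sq1 hn ((fixed hf).1 e)]; exact hg))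
  by_cases e1 : n1 = 1
  · subst e1
    exact ⟨s, f₁, f₂, sp, sq, sx, t1, t2, fix1 h1, move z2 h2 h1 d12.symm⟩
  by_cases e2 : n2 = 1
  · subst e2
    exact ⟨s, f₂, f₁, sp, sq, sx, t2, t1, fix1 h2, move z1 h1 h2 d12⟩
  by_cases e3 : n3 = 1
  · subst e3
    exact ⟨s, f₃, f₁, sp, sq, sx, t3, t1, fix1 h3, move z1 h1 h3 d13⟩
  exfalso
  rcases U6.univ M.c ho n1 with a1 | a1 | a1 | a1
  · exact z1 a1
  · exact e1 a1
  all_goals
    rcases U6.univ M.c ho n2 with a2 | a2 | a2 | a2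
    · exact z2 a2
    · exact e2 a2
    all_goals
      rcases U6.univ M.c ho n3 with a3 | a3 | a3 | a3
      · exact z3 a3
      · exact e3 a3
      all_goals
        subst a1 a2 a3
        first
          | exact d12 (inj h1 h2)
          | exact d13 (inj h1 h3)
          | exact d23 (inj h2 h3)

/-- No element exchanging two commuting members stabilises all classes of twins. -/
theorem swap_false [Finite G] {p q c : G} (hp : p ∈ D) (hq : q ∈ Dc D p) (M : Model D p)
    {U : Fin 6 → M.F} (hU : M.IsPt q U) (c1 : c * p * c⁻¹ = q) (c2 : c * q * c⁻¹ = p)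
    (hc : ∀ V, M.Out U V → ∀ (m : M.F) y, M.IsPt y (V + m • U) →
      ∃ n : M.F, M.IsPt (c * y * c⁻¹) (V + n • U)) : False := by
  obtain ⟨x, hxL⟩ := (H.line p hp).1 q hq
  obtain ⟨s, f₁, f₂, sp, sq, sx, t1, t2, hf1, hf2⟩ := H.exists_swap hp hq hxL
  obtain ⟨X, hX⟩ := M.exists_vec H hp hxL.1
  have hXo : M.Out U X := M.out_of_mem H hp hU hX hxL
  obtain ⟨μ, ν, haff⟩ := M.stable_linear H hp hU (φ := MulAut.conj c) hc hXo
  set k := s * c⁻¹ with hk
  have kp : k * p * k⁻¹ = p := by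
    nth_rewrite 1 [← c2]
    rw [show k * (c * q * c⁻¹) * k⁻¹ = s * q * s⁻¹ by rw [hk]; group, sq]
  have kq : k * q * k⁻¹ = q := by
    nth_rewrite 1 [← c1]
    rw [show k * (c * p * c⁻¹) * k⁻¹ = s * p * s⁻¹ by rw [hk]; group, sp]
  obtain ⟨Ψ, τ, hΨ, hact⟩ := M.exists_semi H hp (preserves_conj H.grp k) kp
  have hτ := H.linear hp (mul_inv_eq_iff_eq_mul.1 kp) M hΨ hact
  obtain ⟨a, ha0, ha⟩ := (M.fix_iff H hp hact hU).1 kq
  have hs : ∀ (m : M.F) y, M.IsPt y (X + m • U) →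
      M.IsPt (s * y * s⁻¹) (Ψ X + ((μ * m + ν) * a) • U) := fun m y hy => by
    have h1 : M.IsPt (k * (c * y * c⁻¹) * k⁻¹) (Ψ (X + (μ * m + ν) • U)) := hact _ _ (haff m y hy)
    rw [show k * (c * y * c⁻¹) * k⁻¹ = s * y * s⁻¹ by rw [hk]; group, hΨ.add, hΨ.smul, hτ, ha,
      smul_smul] at h1
    exact h1
  have hX0 : M.IsPt x (X + (0 : M.F) • U) := by rwa [zero_smul, add_zero]
  obtain ⟨l, hl⟩ := M.smul_of_eq hX (hs 0 x hX0) sx.symm
  rw [mul_zero, zero_add] at hl
  have hs' : ∀ (m : M.F) y, M.IsPt y (X + m • U) →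
      M.IsPt (s * y * s⁻¹) (l • X + (μ * m * a) • U) := fun m y hy => by
    rw [← hl, add_assoc, ← add_smul, show ν * a + μ * m * a = (μ * m + ν) * a by ring]
    exact hs m y hy
  have pos : ∀ {f}, Twin D p q x f → ∃ m : M.F, m ≠ 0 ∧ M.IsPt f (X + m • U) := by
    intro f hf
    obtain ⟨F, hF⟩ := M.exists_vec H hp hf.1.1
    obtain ⟨r, t, e⟩ := M.line_of_twin H hp hU hX hF hxL hf
    have ht : t ≠ 0 := fun h => (M.out_of_mem H hp hU hF hf.1).2.2 r (by
      rw [e, h, zero_smul, add_zero])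
    have hfx := hF.smul (inv_ne_zero ht)
    rw [e, smul_add, smul_smul, smul_smul, inv_mul_cancel₀ ht, one_smul, add_comm] at hfx
    refine ⟨t⁻¹ * r, fun h => hf.2.1 ?_, hfx⟩
    rw [h, zero_smul, add_zero] at hfx
    exact (M.eq_of_smul H hp hX hfx (one_smul _ _).symm).symm
  obtain ⟨m₁, hm₁, h1⟩ := pos t1
  obtain ⟨m₂, -, h2⟩ := pos t2
  obtain ⟨r, hr⟩ := M.smul_of_eq h1 (hs' m₁ f₁ h1) hf1.symm
  obtain ⟨e1, e2⟩ := hXo.coef hU.ne_zero (s := l - r) (t := μ * m₁ * a - r * m₁) (by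
    rw [← sub_eq_zero.2 hr]; module)
  have hμ : μ * a = l := by
    have : m₁ * (μ * a - l) = 0 := by linear_combination e2 - m₁ * e1
    exact sub_eq_zero.1 ((mul_eq_zero.1 this).resolve_left hm₁)
  refine hf2 (M.eq_of_smul H hp h2 (hs' m₂ f₂ h2) (m := l) ?_).symm
  rw [← hμ]
  module

end M22

end Cfsg.Agent.Transpos
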