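import Cfsg.Agent.Lib.Transpos.M22PairCount
import Cfsg.Agent.Lib.Presented.Y332

/-!
# Nine members on the diagram Y332 in a group of type M(22)

`Seven D s`: seven members on the diagram E7, numbered `f e d c b a h`; identities of the Coxeter group
hold for them.  `Pattern D`: nine members `a, …, i` commuting exactly off the edges of Y332.
`M22.exists_pattern`: there is one.
-/

set_option autoImplicit false
set_option maxRecDepth 8000
set_option linter.unusedSimpArgs false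
set_option linter.unusedSectionVars false
set_option linter.style.haveILetI false

namespace Cfsg.Agent.Transpos

open Cfsg Cfsg.Agent.ClassicalSimple
open Presented.Y332 (ev same7 pairOK)

variable {G : Type*} [Group G] {D : Set G}

/-! ## Seven members on the diagram E7 -/

/-- Seven members commuting exactly off the edges of the diagram E7. -/
structure Seven (D : Set G) (s : Fin 7 → G) : Prop where
  mem : ∀ i, s i ∈ D
  rel : ∀ i j, i ≠ j → (¬ Commute (s i) (s j) ↔ Spor.coxLabel Presented.E7.edges7 i j = 3)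

theorem Seven.of {s0 s1 s2 s3 s4 s5 s6 : G}
    (hm : s0 ∈ D ∧ s1 ∈ D ∧ s2 ∈ D ∧ s3 ∈ D ∧ s4 ∈ D ∧ s5 ∈ D ∧ s6 ∈ D)
    (hn : ¬ Commute s0 s1 ∧ ¬ Commute s1 s2 ∧ ¬ Commute s2 s3 ∧ ¬ Commute s2 s6 ∧ ¬ Commute s3 s4 ∧
      ¬ Commute s4 s5)
    (hc : Commute s0 s2 ∧ Commute s0 s3 ∧ Commute s0 s4 ∧ Commute s0 s5 ∧ Commute s0 s6 ∧
      Commute s1 s3 ∧ Commute s1 s4 ∧ Commute s1 s5 ∧ Commute s1 s6 ∧ Commute s2 s4 ∧ Commute s2 s5 ∧
      Commute s3 s5 ∧ Commute s3 s6 ∧ Commute s4 s6 ∧ Commute s5 s6) :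
    Seven D ![s0, s1, s2, s3, s4, s5, s6] := by
  obtain ⟨m0, m1, m2, m3, m4, m5, m6⟩ := hm
  obtain ⟨n01, n12, n23, n26, n34, n45⟩ := hn
  obtain ⟨c02, c03, c04, c05, c06, c13, c14, c15, c16, c24, c25, c35, c36, c46, c56⟩ := hc
  have n10 : ¬ Commute s1 s0 := fun h => n01 h.symm
  have n21 : ¬ Commute s2 s1 := fun h => n12 h.symm
  have n32 : ¬ Commute s3 s2 := fun h => n23 h.symm
  have n62 : ¬ Commute s6 s2 := fun h => n26 h.symm
  have n43 : ¬ Commute s4 s3 := fun h => n34 h.symm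
  have n54 : ¬ Commute s5 s4 := fun h => n45 h.symm
  constructor
  · intro i
    fin_cases i <;> assumption
  · intro i j hij
    fin_cases i <;> fin_cases j <;>
      first
        | exact absurd rfl hij
        | exact iff_of_true (by assumption) (by decide)
        | exact iff_of_false (not_not_intro (by first | assumption | exact Commute.symm (by assumption)))
            (by decide)

namespace Seven

variable {s : Fin 7 → G} (hS : Seven D s) (hD : IsThreeTranspositionGroup D)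
include hS hD

theorem sq (i : Fin 7) : s i * s i = 1 := sq_one hD.1 (hS.mem i)

theorem cox (i j : Fin 7) : (s i * s j) ^ Spor.coxLabel Presented.E7.edges7 i j = 1 := by
  by_cases hij : i = j
  · subst hij
    rw [show Spor.coxLabel Presented.E7.edges7 i i = 1 by simp [Spor.coxLabel], pow_one, hS.sq hD]
  · have hl : ∀ i j : Fin 7, i ≠ j → Spor.coxLabel Presented.E7.edges7 i j = 2 ∨
        Spor.coxLabel Presented.E7.edges7 i j = 3 := by decide
    rcases hl i j hij with e | e <;> rw [e]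
    · have hc : Commute (s i) (s j) := by
        by_contra h
        rw [(hS.rel i j hij).1 h] at e
        omega
      rw [hc.mul_pow, pow_two, pow_two, hS.sq hD, hS.sq hD, one_mul]
    · exact pow_three_of_not_commute hD.1 (hS.mem i) (hS.mem j) ((hS.rel i j hij).2 e)

theorem commute_of {i j : Fin 7} (hij : i ≠ j) (h : Spor.coxLabel Presented.E7.edges7 i j = 2) :
    Commute (s i) (s j) := by
  by_contra h'
  rw [(hS.rel i j hij).1 h'] at h
  omega

theorem ev_eq {u v : List ℕ} (h : same7 u v = true) : ev s u = ev s v :=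
  Presented.Y332.ev_same7 (hS.cox hD) h

/-- A word checked to commute with a node. -/
theorem ev_comm {w : List ℕ} {k : ℕ} (h : same7 (w ++ [k]) ([k] ++ w) = true) :
    Commute (ev s w) (s (Fin.ofNat 7 k)) := by
  have e := hS.ev_eq hD h
  rw [Presented.Y332.ev_append, Presented.Y332.ev_append, Presented.Y332.ev_singleton] at e
  exact e.symm

omit hS hD in
/-- A word in elements commuting with `x` commutes with `x`. -/
theorem commute_ev {x : G} (hx : ∀ i, Commute x (s i)) (w : List ℕ) : Commute x (ev s w) := by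
  induction w with
  | nil => exact Commute.one_right x
  | cons k w ih => rw [Presented.Y332.ev_cons]; exact ih.mul_right (hx _)

/-- A reflection is a member. -/
theorem pal_mem (u : List ℕ) (k : ℕ) : ev s (Presented.Y332.pal u k) ∈ D := by
  rw [Presented.Y332.ev_pal (hS.sq hD)]
  simpa using hD.2.1 (ev s u)⁻¹ _ (hS.mem (Fin.ofNat 7 k))

/-- Two words carried to two nodes commute or differ as these nodes. -/
theorem pair {v w u : List ℕ} {j k : ℕ} (h : pairOK v w u j k = true) :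
    (Commute (ev s v) (ev s w) ↔ Commute (s (Fin.ofNat 7 j)) (s (Fin.ofNat 7 k))) ∧
      (ev s v = ev s w → s (Fin.ofNat 7 j) = s (Fin.ofNat 7 k)) := by
  simp only [pairOK, Bool.and_eq_true] at h
  have key : ∀ {x : List ℕ} {i : ℕ}, same7 (u.reverse ++ x ++ u) [i] = true →
      ev s u * ev s x * (ev s u)⁻¹ = s (Fin.ofNat 7 i) := fun {x i} hx => by
    have e := hS.ev_eq hD hx
    rwa [Presented.Y332.ev_append, Presented.Y332.ev_append, Presented.Y332.ev_reverse (hS.sq hD),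
      Presented.Y332.ev_singleton, ← mul_assoc] at e
  rw [← key h.1, ← key h.2]
  exact ⟨(commute_conj_iff _).symm, fun e => by rw [e]⟩

/-- The highest reflection on the nodes other than `a`. -/
theorem theta_spec :
    ev s Presented.Y332.thetaWord ∈ D ∧ Commute (ev s Presented.Y332.thetaWord) (s 0) ∧
      Commute (ev s Presented.Y332.thetaWord) (s 1) ∧ Commute (ev s Presented.Y332.thetaWord) (s 2) ∧
      Commute (ev s Presented.Y332.thetaWord) (s 3) ∧ Commute (ev s Presented.Y332.thetaWord) (s 4) ∧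
      ¬ Commute (ev s Presented.Y332.thetaWord) (s 5) ∧
      ¬ Commute (ev s Presented.Y332.thetaWord) (s 6) := by
  have hc := List.all_eq_true.1 Presented.Y332.theta_comm
  refine ⟨hS.pal_mem hD _ _, hS.ev_comm hD (hc 0 (by simp)), hS.ev_comm hD (hc 1 (by simp)),
    hS.ev_comm hD (hc 2 (by simp)), hS.ev_comm hD (hc 3 (by simp)), hS.ev_comm hD (hc 4 (by simp)),
    fun h => ?_, fun h => ?_⟩
  · have k := (hS.pair hD Presented.Y332.pair_theta_long).1
    rw [Presented.Y332.ev_singleton] at k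
    exact (hS.rel 5 4 (by decide)).2 (by decide) (k.1 h.symm)
  · have k := (hS.pair hD Presented.Y332.pair_theta_short).1
    rw [Presented.Y332.ev_singleton] at k
    exact (hS.rel 0 1 (by decide)).2 (by decide) (k.1 h.symm)

end Seven

/-! ## The pattern -/

/-- Nine members commuting exactly off the edges of Y332. -/
structure Pattern (D : Set G) where
  a : G
  b : G
  c : G
  d : G
  e : G
  f : G
  g : G
  h : G
  i : G
  ma : a ∈ D
  mb : b ∈ D
  mc : c ∈ D
  md : d ∈ D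
  me : e ∈ D
  mf : f ∈ D
  mg : g ∈ D
  mh : h ∈ D
  mi : i ∈ D
  nab : ¬ Commute a b
  nbc : ¬ Commute b c
  ncd : ¬ Commute c d
  nde : ¬ Commute d e
  ndh : ¬ Commute d h
  nef : ¬ Commute e f
  nfg : ¬ Commute f g
  nhi : ¬ Commute h i
  cac : Commute a c
  cad : Commute a d
  cae : Commute a e
  caf : Commute a f
  cag : Commute a g
  cah : Commute a h
  cai : Commute a i
  cbd : Commute b d
  cbe : Commute b e
  cbf : Commute b f
  cbg : Commute b g
  cbh : Commute b h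
  cbi : Commute b i
  cce : Commute c e
  ccf : Commute c f
  ccg : Commute c g
  cch : Commute c h
  cci : Commute c i
  cdf : Commute d f
  cdg : Commute d g
  cdi : Commute d i
  ceg : Commute e g
  ceh : Commute e h
  cei : Commute e i
  cfh : Commute f h
  cfi : Commute f i
  cgh : Commute g h
  cgi : Commute g i

namespace Pattern

variable (p : Pattern D)

/-- The pattern read along the other long arm first. -/
def swap : Pattern D where
  a := p.g
  b := p.f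
  c := p.e
  d := p.d
  e := p.c
  f := p.b
  g := p.a
  h := p.h
  i := p.i
  ma := p.mg
  mb := p.mf
  mc := p.me
  md := p.md
  me := p.mc
  mf := p.mb
  mg := p.ma
  mh := p.mh
  mi := p.mi
  nab := fun h => p.nfg h.symm
  nbc := fun h => p.nef h.symm
  ncd := fun h => p.nde h.symm
  nde := fun h => p.ncd h.symm
  ndh := p.ndh
  nef := fun h => p.nbc h.symm
  nfg := fun h => p.nab h.symm
  nhi := p.nhi
  cac := p.ceg.symm
  cad := p.cdg.symm
  cae := p.ccg.symm
  caf := p.cbg.symm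
  cag := p.cag.symm
  cah := p.cgh
  cai := p.cgi
  cbd := p.cdf.symm
  cbe := p.ccf.symm
  cbf := p.cbf.symm
  cbg := p.caf.symm
  cbh := p.cfh
  cbi := p.cfi
  cce := p.cce.symm
  ccf := p.cbe.symm
  ccg := p.cae.symm
  cch := p.ceh
  cci := p.cei
  cdf := p.cbd.symm
  cdg := p.cad.symm
  cdi := p.cdi
  ceg := p.cac.symm
  ceh := p.cch
  cei := p.cci
  cfh := p.cbh
  cfi := p.cbi
  cgh := p.cah
  cgi := p.cai

end Pattern

end Cfsg.Agent.Transpos

namespace Cfsg.Agent.Transpos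

open Cfsg Cfsg.Agent.ClassicalSimple
open Presented.Y332 (ev)

variable {G : Type*} [Group G] {D : Set G}

theorem U6.Ctx.two_pairs {F : Type} [Field F] {σ : F →+* F}
    {h : (Fin 6 → F) →ₛₗ[σ] (Fin 6 → F) →ₗ[F] F} (c : U6.Ctx σ h) {A C Q R : Fin 6 → F}
    (hA : h A A = 0) (hC : h C C = 0) (hQ : h Q Q = 0) (hR : h R R = 0) (hAC : h A C ≠ 0)
    (hQR : h Q R ≠ 0) (hAQ : h A Q = 0) (hAR : h A R = 0) (hCQ : h C Q = 0) (hCR : h C R = 0) :
    LinearIndependent F ![A, C, Q, R] ∧ ∀ v, v ≠ 0 → (∀ i, h (![A, C, Q, R] i) v = 0) →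
      v ∉ Submodule.span F (Set.range ![A, C, Q, R]) := by
  have cz := @c.form.comm_zero
  have key : ∀ {m : Fin 4 → F}, (∀ j, h (![A, C, Q, R] j) (∑ i, m i • ![A, C, Q, R] i) = 0) →
      ∀ i, m i = 0 := fun {m} hm i => by
    have k1 := hm 0
    have k2 := hm 1
    have k3 := hm 2
    have k4 := hm 3
    simp [Fin.sum_univ_four, hA, hC, hQ, hR, hAQ, hCQ, hAR, hCR, cz hAQ, cz hCQ, cz hAR, cz hCR]
      at k1 k2 k3 k4
    have a0 := k2.resolve_right fun e => hAC (cz e)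
    have a1 := k1.resolve_right hAC
    have a2 := k4.resolve_right fun e => hQR (cz e)
    have a3 := k3.resolve_right hQR
    fin_cases i <;> assumption
  refine ⟨Fintype.linearIndependent_iff.2 fun m hm => key fun j => by rw [hm, map_zero],
    fun v hv hperp hmem => hv ?_⟩
  obtain ⟨m, rfl⟩ := (Submodule.mem_span_range_iff_exists_fun F).1 hmem
  simp [key hperp]

variable [Finite G] (hD : IsThreeTranspositionGroup D) (hprim : IsPrimitiveUnderConj D)
  (h22 : IsOfTypeM22 G D)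
include hD hprim h22

/-- There are nine members on the diagram Y332. -/
theorem M22.exists_pattern : Nonempty (Pattern D) := by
  classical
  obtain ⟨⟨⟨a, ha⟩⟩, H, -⟩ := m22_of_primitive hD hprim h22
  obtain ⟨b, hb, hab⟩ := exists_off hD hprim h22 ha
  obtain ⟨g, hg⟩ : (Dc D a ∩ Dc D b).Nonempty :=
    Set.nonempty_of_ncard_ne_zero (by rw [(pair_data hD hprim h22 ha hb hab).1]; norm_num)
  -- at `g`
  obtain ⟨M⟩ := (H.model g hg.1.1).2
  haveI : Fintype M.F := Fintype.ofFinite _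
  haveI : FiniteDimensional M.F (Fin 6 → M.F) := M.c.fd
  obtain ⟨A, C, hA, hC, hAC⟩ := H.exists_pair_vecs ha hb hab hg M
  have cm := fun {x y : G} {u v : Fin 6 → M.F} (hu : M.IsPt x u) (hv : M.IsPt y v) =>
    Model.comm_iff M H hg.1.1 hu hv
  have cz := @M.c.form.comm_zero
  obtain ⟨e1, he10, he1, hP1⟩ := U6.exists_iso_perp M.c ![A, C, A, C]
  obtain ⟨R, e2, f2, fr, hef⟩ :=
    M.c.exists_frame3 hA.iso hC.iso he1 hAC (hP1 0) (hP1 1) he10
  have he1R : M.h e1 R ≠ 0 := fr.ne 1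
  set f1 := (M.h e1 R)⁻¹ • R with hf1def
  have hRR : M.h R R = 0 := fr.ww 1 1
  have e11 : M.h e1 f1 = 1 := by rw [hf1def, map_smul, smul_eq_mul, inv_mul_cancel₀ he1R]
  have f11 : M.h f1 e1 = 1 := by rw [M.c.form.swap e1 f1, e11, map_one]
  have f22 : M.h f2 e2 = 1 := by rw [M.c.form.swap e2 f2, hef, map_one]
  have f1f1 : M.h f1 f1 = 0 := by simp [hf1def, hRR]
  have f2f2 : M.h f2 f2 = 0 := fr.ww 2 2
  have e2e2 : M.h e2 e2 = 0 := fr.uu 2 2
  have e1e2 : M.h e1 e2 = 0 := fr.uu 1 2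
  have e1f2 : M.h e1 f2 = 0 := fr.uw 1 2 (by decide)
  have f1f2 : M.h f1 f2 = 0 := by
    have k : M.h R f2 = 0 := fr.ww 1 2
    simp [hf1def, k]
  have e2f1 : M.h e2 f1 = 0 := by
    have k : M.h e2 R = 0 := fr.uw 2 1 (by decide)
    simp [hf1def, k]
  have Ae1 : M.h A e1 = 0 := fr.uu 0 1
  have Ae2 : M.h A e2 = 0 := fr.uu 0 2
  have Af2 : M.h A f2 = 0 := fr.uw 0 2 (by decide)
  have Af1 : M.h A f1 = 0 := by
    have k : M.h A R = 0 := fr.uw 0 1 (by decide)
    simp [hf1def, k]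
  have Ce1 : M.h C e1 = 0 := cz (fr.uw 1 0 (by decide))
  have Ce2 : M.h C e2 = 0 := cz (fr.uw 2 0 (by decide))
  have Cf2 : M.h C f2 = 0 := fr.ww 0 2
  have Cf1 : M.h C f1 = 0 := by
    have k : M.h C R = 0 := fr.ww 0 1
    simp [hf1def, k]
  have mk : ∀ {v : Fin 6 → M.F}, M.h v v = 0 → v ≠ 0 → M.h A v = 0 → M.h C v = 0 →
      ∃ x, M.IsPt x v ∧ x ∈ Dc D a ∩ Dc D b := fun {v} hv h0 h1 h2 => by
    obtain ⟨x, hx⟩ := M.exists_mem H hg.1.1 hv h0
    exact ⟨x, hx, ⟨hx.mem.1, fun k => hab (k ▸ ((cm hC hx).2 h2).symm), (cm hA hx).2 h1⟩,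
      ⟨hx.mem.1, fun k => hab (k ▸ (cm hA hx).2 h1), (cm hC hx).2 h2⟩⟩
  have ne_of : ∀ {v w : Fin 6 → M.F}, M.h w v ≠ 0 → v ≠ 0 := fun h e => h (by rw [e, map_zero])
  obtain ⟨i, hi, hiP⟩ := mk he1 he10 Ae1 Ce1
  obtain ⟨d, hd, hdP⟩ := mk (v := e1 + e2) (by simp [he1, e2e2, e1e2, cz e1e2])
    (ne_of (w := f1) (by simp [f11, cz e2f1])) (by simp [Ae1, Ae2]) (by simp [Ce1, Ce2])
  obtain ⟨e, he, heP⟩ := mk f2f2 (ne_of (w := e2) (by simp [hef])) Af2 Cf2
  have hline : ∀ ν : M.F, ∃ x, M.IsPt x (f1 + ν • f2) ∧ x ∈ Dc D a ∩ Dc D b := fun ν =>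
    mk (by simp [f1f1, f2f2, f1f2, cz f1f2]) (ne_of (w := e1) (by simp [e11, e1f2]))
      (by simp [Af1, Af2]) (by simp [Cf1, Cf2])
  choose l hl hlP using hline
  have gi := hi.mem.2.2
  have gd := hd.mem.2.2
  have ge := he.mem.2.2
  have gl := fun ν => (hl ν).mem.2.2
  have cie : Commute i e := (cm hi he).2 e1f2
  have cid : Commute i d := (cm hi hd).2 (by simp [he1, e1e2])
  have nil : ∀ ν, ¬ Commute i (l ν) := fun ν k => by
    simpa [e11, e1f2] using (cm hi (hl ν)).1 k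
  have nde : ¬ Commute d e := fun k => by simpa [e1f2, hef] using (cm hd he).1 k
  have hdl : ∀ ν, M.h (e1 + e2) (f1 + ν • f2) = 1 + ν := fun ν => by
    simp [e11, e1f2, e2f1, hef]
  have cdk : Commute d (l 1) := (cm hd (hl 1)).2 (by rw [hdl, M.c.two])
  have cel : ∀ ν, Commute e (l ν) := fun ν => (cm he (hl ν)).2 (by simp [cz f1f2, f2f2])
  have cll : ∀ μ ν, Commute (l μ) (l ν) := fun μ ν =>
    (cm (hl μ) (hl ν)).2 (by simp [f1f1, f2f2, f1f2, cz f1f2])
  have linj : Function.Injective l := fun μ ν k => by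
    obtain ⟨m, hm⟩ := Model.smul_of_eq M (hl μ) (hl ν) k
    have k1 := congrArg (M.h e1) hm
    have k2 := congrArg (M.h e2) hm
    simp [e11, e1f2, e2f1, hef] at k1 k2
    rw [← k1, one_mul] at k2
    exact k2.symm
  have hel : ∀ ν, e ≠ l ν := fun ν k => nil ν (k ▸ cie)
  -- at `i`
  obtain ⟨N⟩ := (H.model i hiP.1.1).2
  haveI : FiniteDimensional N.F (Fin 6 → N.F) := N.c.fd
  obtain ⟨A', C', hA', hC', hAC'⟩ := H.exists_pair_vecs ha hb hab hiP N
  have cn := fun {x y : G} {u v : Fin 6 → N.F} (hu : N.IsPt x u) (hv : N.IsPt y v) =>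
    Model.comm_iff N H hiP.1.1 hu hv
  have cz' := @N.c.form.comm_zero
  have hgi : g ∈ Dc D i := mem_dc_symm hg.1.1 hi.mem
  have hdi : d ∈ Dc D i := ⟨hdP.1.1, fun k => nde (k ▸ cie), cid⟩
  have hei : e ∈ Dc D i := ⟨heP.1.1, fun k => nde (k ▸ cid.symm), cie⟩
  obtain ⟨G₁, hG₁⟩ := N.exists_vec H hiP.1.1 hgi
  obtain ⟨D₁, hD₁⟩ := N.exists_vec H hiP.1.1 hdi
  obtain ⟨E₁, hE₁⟩ := N.exists_vec H hiP.1.1 hei
  have hDE : N.h D₁ E₁ ≠ 0 := fun k => nde ((cn hD₁ hE₁).2 k)
  have hGD : N.h G₁ D₁ = 0 := (cn hG₁ hD₁).1 gd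
  have hGE : N.h G₁ E₁ = 0 := (cn hG₁ hE₁).1 ge
  have hAD' := (cn hA' hD₁).1 hdP.1.2.2
  have hAE' := (cn hA' hE₁).1 heP.1.2.2
  have hCD' := (cn hC' hD₁).1 hdP.2.2.2
  have hCE' := (cn hC' hE₁).1 heP.2.2.2
  have hAG' := (cn hA' hG₁).1 hg.1.2.2
  have hCG' := (cn hC' hG₁).1 hg.2.2.2
  obtain ⟨hli, hns⟩ := N.c.two_pairs hA'.iso hC'.iso hD₁.iso hE₁.iso hAC' hDE hAD' hAE' hCD' hCE'
  have hperp : ∀ j, N.h (![A', C', D₁, E₁] j) G₁ = 0 := by
    intro j
    fin_cases j <;> simp [hAG', hCG', cz' hGD, cz' hGE]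
  obtain ⟨G', hG', hPG, hGG', -⟩ := U6.exists_mid N.c ![A', C', D₁, E₁] hli hG₁.iso hG₁.iso hperp
    (hns _ hG₁.ne_zero hperp) (hns _ hG₁.ne_zero hperp)
  have hAG : N.h A' G' = 0 := hPG 0
  have hCG : N.h C' G' = 0 := hPG 1
  have hDG : N.h D₁ G' = 0 := hPG 2
  have hEG : N.h E₁ G' = 0 := hPG 3
  have hne : D₁ + G' ≠ 0 := fun k => hGG' (by
    have := congrArg (N.h G₁) k
    simpa [hGD] using this)
  obtain ⟨f, hf⟩ := N.exists_mem H hiP.1.1 (v := D₁ + G')
    (by simp [hD₁.iso, hG', hDG, cz' hDG]) hne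
  have caf : Commute a f := (cn hA' hf).2 (by simp [hAD', hAG])
  have cbf : Commute b f := (cn hC' hf).2 (by simp [hCD', hCG])
  have hfP : f ∈ Dc D a ∩ Dc D b :=
    ⟨⟨hf.mem.1, fun k => hab (k ▸ cbf.symm), caf⟩, ⟨hf.mem.1, fun k => hab (k ▸ caf), cbf⟩⟩
  have cif : Commute i f := hf.mem.2.2
  have cdf : Commute d f := (cn hD₁ hf).2 (by simp [hD₁.iso, hDG])
  have nef : ¬ Commute e f := fun k => by
    have := (cn hE₁ hf).1 k
    simp [hEG] at this
    exact hDE (cz' this)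
  have ngf : ¬ Commute g f := fun k => by
    have := (cn hG₁ hf).1 k
    simp [hGD] at this
    exact hGG' this
  have path := fun {u₁ u₂ u₃ u₄ p q : G} => H.no_path ha hb hab hD hprim h22 (u₁ := u₁) (u₂ := u₂)
    (u₃ := u₃) (u₄ := u₄) (p := p) (q := q)
  -- the member at the end
  set E := insert g (insert e ((Finset.univ : Finset M.F).image l)) with hEdef
  have hE : ∀ x ∈ E, x = g ∨ x = e ∨ ∃ ν, l ν = x := fun x hx => by
    simpa [hEdef] using hx
  have hEc : E.card = 6 := by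
    rw [hEdef, Finset.card_insert_of_notMem, Finset.card_insert_of_notMem,
      Finset.card_image_of_injective _ linj, Finset.card_univ, ← Nat.card_eq_fintype_card,
      M.c.card_field]
    · simp only [Finset.mem_image, Finset.mem_univ, true_and, not_exists]
      exact fun ν k => hel ν k.symm
    · simp only [Finset.mem_insert, Finset.mem_image, Finset.mem_univ, true_and, not_or, not_exists]
      exact ⟨fun k => he.mem.2.1 k.symm, fun ν k => (hl ν).mem.2.1 k⟩
  obtain ⟨x, hxE, hfx⟩ := H.exists_commute_clique ha hb hab hD hprim h22 E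
    (fun x hx => by rcases hE x hx with rfl | rfl | ⟨ν, rfl⟩ <;> [exact hg; exact heP; exact hlP ν])
    hEc (fun x hx y hy => by
      rcases hE x hx with rfl | rfl | ⟨μ, rfl⟩ <;> rcases hE y hy with rfl | rfl | ⟨ν, rfl⟩
      exacts [Commute.refl _, ge, gl ν, ge.symm, Commute.refl _, cel ν, (gl μ).symm, (cel μ).symm,
        cll μ ν]) hfP
    (fun hx => by
      rcases hE f hx with k | k | ⟨ν, k⟩
      · exact ngf (k ▸ Commute.refl _)
      · exact nef (k ▸ Commute.refl _)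
      · exact nil ν (k ▸ cif))
  obtain ⟨ν, rfl⟩ : ∃ ν, l ν = x := by
    rcases hE x hxE with rfl | rfl | k
    exacts [absurd hfx.symm ngf, absurd hfx.symm nef, k]
  have hν : ν ≠ 1 := by
    rintro rfl
    refine path hg hfP heP hdP hiP (hlP 1) ngf (fun k => nef k.symm) (fun k => nde k.symm) ge gd
      cdf.symm (nil 1) fun u hu => ?_
    simp only [List.mem_cons, List.not_mem_nil, or_false] at hu
    rcases hu with rfl | rfl | rfl | rfl
    exacts [⟨gi.symm, (gl 1).symm⟩, ⟨cif, hfx.symm⟩, ⟨cie, (cel 1).symm⟩, ⟨cid, cdk.symm⟩]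
  have ndh : ¬ Commute d (l ν) := fun k => hν (by
    have k1 := (cm hd (hl ν)).1 k
    rw [hdl] at k1
    exact (add_left_cancel (k1.trans M.c.two.symm)))
  -- the member `c`
  obtain ⟨Ma⟩ := (H.model a ha).2
  obtain ⟨E₂, hE₂⟩ := Ma.exists_vec H ha heP.1
  obtain ⟨F₂, hF₂⟩ := Ma.exists_vec H ha hfP.1
  obtain ⟨G₂, hG₂⟩ := Ma.exists_vec H ha hg.1
  obtain ⟨D₂, hD₂⟩ := Ma.exists_vec H ha hdP.1
  obtain ⟨H₂, hH₂⟩ := Ma.exists_vec H ha (hlP ν).1
  obtain ⟨I₂, hI₂⟩ := Ma.exists_vec H ha hiP.1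
  have ca := fun {x y : G} {u v : Fin 6 → Ma.F} (hu : Ma.IsPt x u) (hv : Ma.IsPt y v) =>
    Model.comm_iff Ma H ha hu hv
  have cz₂ := @Ma.c.form.comm_zero
  set Cv := Ma.h F₂ G₂ • E₂ + Ma.h F₂ E₂ • G₂ with hCv
  have eG : Ma.h E₂ G₂ = 0 := (ca hE₂ hG₂).1 ge.symm
  have fD : Ma.h D₂ G₂ = 0 := (ca hD₂ hG₂).1 gd.symm
  have nFG : Ma.h F₂ G₂ ≠ 0 := fun k => ngf ((ca hF₂ hG₂).2 k).symm
  have nDE : Ma.h D₂ E₂ ≠ 0 := fun k => nde ((ca hD₂ hE₂).2 k)
  have hDC : Ma.h D₂ Cv ≠ 0 := by simp [hCv, fD, nFG, nDE]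
  have hCiso : Ma.h Cv Cv = 0 := by simp [hCv, hE₂.iso, hG₂.iso, eG, cz₂ eG]
  obtain ⟨c, hc⟩ := Ma.exists_mem H ha hCiso fun k => hDC (by rw [k, map_zero])
  have ncd : ¬ Commute c d := fun k => hDC ((ca hD₂ hc).1 k.symm)
  have cce : Commute c e := ((ca hE₂ hc).2 (by simp [hCv, hE₂.iso, eG])).symm
  have ccg : Commute c g := ((ca hG₂ hc).2 (by simp [hCv, hG₂.iso, cz₂ eG])).symm
  have ccf : Commute c f := ((ca hF₂ hc).2 (by
    simp only [hCv, map_add, map_smul, smul_eq_mul]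
    rw [mul_comm (Ma.h F₂ E₂)]
    exact Ma.c.addF _)).symm
  have cch : Commute c (l ν) := ((ca hH₂ hc).2 (by
    simp [hCv, (ca hH₂ hE₂).1 (cel ν).symm, (ca hH₂ hG₂).1 (gl ν).symm])).symm
  have cci : Commute c i := ((ca hI₂ hc).2 (by
    simp [hCv, (ca hI₂ hE₂).1 cie, (ca hI₂ hG₂).1 gi.symm])).symm
  have nbc : ¬ Commute b c := by
    intro cbc
    have hcP : c ∈ Dc D a ∩ Dc D b :=
      ⟨hc.mem, hc.mem.1, fun k => ncd (k ▸ hdP.2.2.2), cbc⟩
    have hS := Seven.of (D := D) (s0 := i) (s1 := l ν) (s2 := d) (s3 := e) (s4 := f) (s5 := g)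
      (s6 := c) ⟨hiP.1.1, (hlP ν).1.1, hdP.1.1, heP.1.1, hfP.1.1, hg.1.1, hc.mem.1⟩
      ⟨nil ν, fun k => ndh k.symm, nde, fun k => ncd k.symm, nef, fun k => ngf k.symm⟩
      ⟨cid, cie, cif, gi.symm, cci.symm, (cel ν).symm, hfx.symm, (gl ν).symm, cch.symm, cdf,
        gd.symm, ge.symm, cce.symm, ccf.symm, ccg.symm⟩
    obtain ⟨hθ, t0, t1, -, t3, t4, t5, t6⟩ := hS.theta_spec hD
    have all : ∀ {x : G}, Commute x i → Commute x (l ν) → Commute x d → Commute x e → Commute x f →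
        Commute x g → Commute x c → ∀ j, Commute x (![i, l ν, d, e, f, g, c] j) := by
      intros
      rename_i j
      fin_cases j <;> assumption
    have caθ := Seven.commute_ev (all hiP.1.2.2 (hlP ν).1.2.2 hdP.1.2.2 heP.1.2.2 caf hg.1.2.2
      hc.mem.2.2) Presented.Y332.thetaWord
    have cbθ := Seven.commute_ev (all hiP.2.2.2 (hlP ν).2.2.2 hdP.2.2.2 heP.2.2.2 cbf hg.2.2.2
      cbc) Presented.Y332.thetaWord
    refine path (u₁ := ev ![i, l ν, d, e, f, g, c] Presented.Y332.thetaWord)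
      ⟨⟨hθ, fun k => t6 ?_, caθ⟩, ⟨hθ, fun k => t6 ?_, cbθ⟩⟩ hg hfP heP (hlP ν) hiP t5 ngf
      (fun k => nef k.symm) t4 t3 ge (fun k => nil ν k.symm) fun u hu => ?_
    · rw [k]; exact hc.mem.2.2
    · rw [k]; exact cbc
    simp only [List.mem_cons, List.not_mem_nil, or_false] at hu
    rcases hu with rfl | rfl | rfl | rfl
    exacts [⟨t1.symm, t0.symm⟩, ⟨(gl ν).symm, gi.symm⟩, ⟨hfx.symm, cif⟩, ⟨(cel ν).symm, cie⟩]
  exact ⟨{
    a := a, b := b, c := c, d := d, e := e, f := f, g := g, h := l ν, i := i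
    ma := ha, mb := hb, mc := hc.mem.1, md := hdP.1.1, me := heP.1.1, mf := hfP.1.1, mg := hg.1.1
    mh := (hlP ν).1.1, mi := hiP.1.1
    nab := hab, nbc := nbc, ncd := ncd, nde := nde, ndh := ndh, nef := nef
    nfg := fun k => ngf k.symm, nhi := fun k => nil ν k.symm
    cac := hc.mem.2.2, cad := hdP.1.2.2, cae := heP.1.2.2, caf := caf, cag := hg.1.2.2
    cah := (hlP ν).1.2.2, cai := hiP.1.2.2
    cbd := hdP.2.2.2, cbe := heP.2.2.2, cbf := cbf, cbg := hg.2.2.2, cbh := (hlP ν).2.2.2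
    cbi := hiP.2.2.2
    cce := cce, ccf := ccf, ccg := ccg, cch := cch, cci := cci
    cdf := cdf, cdg := gd.symm, cdi := cid.symm, ceg := ge.symm, ceh := cel ν, cei := cie.symm
    cfh := hfx, cfi := cif.symm, cgh := gl ν, cgi := gi }⟩

end Cfsg.Agent.Transpos
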