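import Cfsg.Agent.Lib.Transpos.M22Frame

/-!
# Three elementary pieces of a Sylow 2-subgroup of a member centraliser in type M(22)

For a base `B` and a member `a` in it, with plane spanned by `e 0`, `e 1`, `e 2` and dual vectors
`f 0`, `f 1`, `f 2`, the bases over the planes `⟨e 0, e 1, f 2⟩` and `⟨e 0, f 1, f 2⟩` supply two
elementary abelian groups normalising `B` which, with the group of `B`, make a 2-group of order `2^16`
inside the centraliser of `a` and of the member over `e 0`.  The group of a base has order `2^10`.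
-/

set_option autoImplicit false
set_option linter.style.haveILetI false

namespace Cfsg.Agent.Transpos

open Cfsg Cfsg.Agent.ClassicalSimple

namespace Pieces

open Thompson

/-! ## Linear algebra -/

section Linear

variable {F V : Type*} [Field F] [AddCommGroup V] [Module F V]
  {σ : F →+* F} {h : V →ₛₗ[σ] V →ₗ[F] F}

/-- The rank two self-adjoint map of two vectors. -/
def pairMap (h : V →ₛₗ[σ] V →ₗ[F] F) (u w : V) : V →ₗ[F] V :=
  (h u).smulRight w + (h w).smulRight u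

theorem pairMap_apply (u w z : V) : pairMap h u w z = h u z • w + h w z • u := rfl

theorem pairMap_adj (c : U6.Ctx σ h) (u w x y : V) :
    h x (pairMap h u w y) = h (pairMap h u w x) y := by
  simp only [pairMap_apply, map_add, map_smul, map_smulₛₗ, LinearMap.add_apply, LinearMap.smul_apply,
    smul_eq_mul]
  rw [← c.form.swap u x, ← c.form.swap w x]
  ring

theorem tvMap_adj (c : U6.Ctx σ h) (u x y : V) :
    h x ((h u).smulRight u y) = h ((h u).smulRight u x) y := by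
  simp only [LinearMap.smulRight_apply, map_smul, map_smulₛₗ, LinearMap.smul_apply, smul_eq_mul]
  rw [← c.form.swap u x]
  ring

/-- A vector pairing to 1 with an isotropic one can be made isotropic. -/
theorem exists_iso_shift (c : U6.Ctx σ h) {u v : V} (hu : h u u = 0) (huv : h u v = 1) :
    ∃ l : F, h (v + l • u) (v + l • u) = 0 := by
  have hvu : h v u = 1 := by rw [c.form.swap u v, huv, map_one]
  by_cases h0 : h v v = 0
  · exact ⟨0, by simp [h0]⟩
  · have h1 : h v v = 1 := c.eq_one (c.form.swap v v).symm h0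
    obtain ⟨w, -, hw, hs, -⟩ := c.exists_omega
    refine ⟨w, ?_⟩
    simp only [map_add, map_smul, map_smulₛₗ, LinearMap.add_apply, LinearMap.smul_apply, smul_eq_mul,
      hu, huv, hvu, h1, hs]
    linear_combination hw

/-- Two independent eigenvectors whose sum is an eigenvector have the same eigenvalue. -/
theorem scalar_eq {g : V →ₗ[F] V} {u v : V} {m n k : F}
    (hind : ∀ a b : F, a • u + b • v = 0 → a = 0 ∧ b = 0)
    (hu : g u = m • u) (hv : g v = n • v) (huv : g (u + v) = k • (u + v)) : m = n := by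
  rw [map_add, hu, hv] at huv
  obtain ⟨h1, h2⟩ := hind (m - k) (n - k) (by
    rw [sub_smul, sub_smul, sub_add_sub_comm, huv, smul_add, sub_self])
  exact (sub_eq_zero.1 h1).trans (sub_eq_zero.1 h2).symm

end Linear

/-- An element of the normaliser of a set carries its members into it. -/
theorem conj_mem_base {G : Type*} [Group G] {S : Set G} {y x : G} (hy : y ∈ Subgroup.normalizer S)
    (hx : x ∈ S) : y * x * y⁻¹ ∈ S :=
  (Subgroup.mem_normalizer_iff_conj_image_eq.1 hy).le ⟨x, hx, rfl⟩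

/-! ## Points -/

variable {G : Type*} [Group G] {D : Set G} {a : G} (M : Model D a) (H : M22 D) (ha : a ∈ D)
include M H ha

/-- The group of a base through `a` lies in the group of the members commuting with `a`. -/
theorem closure_le_dc {B : Set G} (hB : IsBase D B) (haB : a ∈ B) :
    Subgroup.closure B ≤ Subgroup.closure (Dc D a) := by
  refine (Subgroup.closure_le _).2 fun x hx => ?_
  by_cases hxa : x = a
  · subst hxa; exact H.mem_closure_dc ha
  · exact Subgroup.subset_closure (sub_dc hB haB ⟨hx, hxa⟩)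

/-- The member over a vector of the plane of a base belongs to it. -/
theorem mem_of_pt {B : Set G} (hB : IsBase D B) (haB : a ∈ B) {v : Fin 6 → M.F} (hv : v ∈ plane M B)
    {x : G} (hx : M.IsPt x v) : x ∈ B := by
  obtain ⟨-, -, hmem, -⟩ := plane_data M H ha hB haB
  obtain ⟨y, hy, hyv⟩ := hmem v hv hx.ne_zero
  rw [Model.eq_of_smul M H ha hx hyv (m := 1) (one_smul _ _).symm]
  exact hy.1

/-- Conjugation by an element of the group at `a` moves the member over `v` to that over `g • v`. -/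
theorem pt_conj {y x : G} (hy : y ∈ Subgroup.closure (Dc D a)) {g : SUH M.h}
    (hg : M.ψ ⟨y, hy⟩ = QuotientGroup.mk g) {v : Fin 6 → M.F} (hx : M.IsPt x v) :
    M.IsPt (y * x * y⁻¹) (g • v) :=
  Model.acts_lift M H ha ⟨y, hy⟩ hg x v hx

/-- Commuting with a member gives an eigenvector. -/
theorem eig_of_commute {y x : G} (hy : y ∈ Subgroup.closure (Dc D a)) {g : SUH M.h}
    (hg : M.ψ ⟨y, hy⟩ = QuotientGroup.mk g) {v : Fin 6 → M.F} (hx : M.IsPt x v) (hc : Commute y x) :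
    ∃ m : M.F, m ≠ 0 ∧ g • v = m • v :=
  (Model.fix_iff M H ha (Model.acts_lift M H ha ⟨y, hy⟩ hg) hx).1 (mul_inv_eq_iff_eq_mul.2 hc.eq)

variable [Finite G]
variable (hD : IsThreeTranspositionGroup D) (hprim : IsPrimitiveUnderConj D) (h22 : IsOfTypeM22 G D)
include hD hprim h22

/-- A base through `a` and the members over three orthogonal isotropic vectors, with its plane. -/
theorem exists_base_span (w : Fin 3 → Fin 6 → M.F) (hw : ∀ i j, M.h (w i) (w j) = 0)
    (hli : LinearIndependent M.F w) :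
    ∃ B, IsBase D B ∧ a ∈ B ∧ plane M B = Submodule.span M.F (Set.range w) := by
  have hne : ∀ i, w i ≠ 0 := fun i => hli.ne_zero i
  choose x hx using fun i => M.exists_mem H ha (hw i i) (hne i)
  obtain ⟨B, hB, hsub⟩ := exists_base_above hD hprim h22 (T := insert a (Set.range x))
    (Set.insert_subset ha (by rintro _ ⟨i, rfl⟩; exact (hx i).mem.1))
    (by
      rintro p (rfl | ⟨i, rfl⟩) q (rfl | ⟨j, rfl⟩)
      exacts [Commute.refl _, (hx j).mem.2.2, (hx i).mem.2.2.symm,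
        (M.comm_iff H ha (hx i) (hx j)).2 (hw i j)])
  have haB : a ∈ B := hsub (Or.inl rfl)
  refine ⟨B, hB, haB, (Submodule.eq_of_le_of_finrank_le ((Submodule.span_le).2 ?_) ?_).symm⟩
  · rintro _ ⟨i, rfl⟩
    exact Submodule.subset_span ⟨x i, ⟨hsub (Or.inr ⟨i, rfl⟩), (hx i).mem.2.1⟩, hx i⟩
  · rw [(plane_data M H ha hB haB).1, finrank_span_eq_card hli, Fintype.card_fin]

/-- Three vectors spanning a plane, with vectors dual to them. -/
structure Frame (T : Submodule M.F (Fin 6 → M.F)) (e : Fin 3 → Fin 6 → M.F) (f₀ f₁ f₂ : Fin 6 → M.F) :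
    Prop where
  mem : ∀ i, e i ∈ T
  span : ∀ v ∈ T, ∃ k : Fin 3 → M.F, v = ∑ i, k i • e i
  ee : ∀ i j, M.h (e i) (e j) = 0
  ef₀ : ∀ i, M.h (e i) f₀ = if i = 0 then 1 else 0
  ef₁ : ∀ i, M.h (e i) f₁ = if i = 1 then 1 else 0
  ef₂ : ∀ i, M.h (e i) f₂ = if i = 2 then 1 else 0
  f₀e : ∀ i, M.h f₀ (e i) = if i = 0 then 1 else 0
  f₁e : ∀ i, M.h f₁ (e i) = if i = 1 then 1 else 0
  f₂e : ∀ i, M.h f₂ (e i) = if i = 2 then 1 else 0
  f₁f₁ : M.h f₁ f₁ = 0
  f₂f₂ : M.h f₂ f₂ = 0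
  f₁f₂ : M.h f₁ f₂ = 0
  f₂f₁ : M.h f₂ f₁ = 0
  ne : ∀ i, e i ≠ 0

omit [Finite G] hD hprim h22 in
/-- A base plane has a frame. -/
theorem exists_frame {B : Set G} (hB : IsBase D B) (haB : a ∈ B) :
    ∃ e f₀ f₁ f₂, Frame M (plane M B) e f₀ f₁ f₂ := by
  classical
  obtain ⟨hfr, -, hmem, hperp⟩ := plane_data M H ha hB haB
  set T := plane M B with hT
  have hiso := plane_iso M H ha hB
  -- coordinates
  let b : Module.Basis (Fin 3) M.F ↥T := Module.finBasisOfFinrankEq M.F ↥T hfr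
  set e : Fin 3 → (Fin 6 → M.F) := fun i => ((b i : ↥T) : Fin 6 → M.F) with he
  have heT : ∀ i, e i ∈ T := fun i => (b i).2
  have hspan : ∀ v ∈ T, ∃ k : Fin 3 → M.F, v = ∑ i, k i • e i := fun v hv =>
    ⟨fun i => b.repr ⟨v, hv⟩ i, by
      have := congrArg Subtype.val (b.sum_repr ⟨v, hv⟩)
      rw [Submodule.coe_sum] at this
      simpa [he, eq_comm] using this⟩
  let Φ : (Fin 6 → M.F) →ₗ[M.F] (Fin 3 → M.F) := LinearMap.pi fun i => M.h (e i)
  have hΦker : LinearMap.ker Φ = T := by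
    ext z
    simp only [LinearMap.mem_ker, funext_iff, Pi.zero_apply, Φ, LinearMap.pi_apply]
    refine ⟨fun hz => hperp z fun t ht => ?_, fun hz i => hiso _ (heT i) _ hz⟩
    obtain ⟨k, rfl⟩ := hspan t ht
    simp only [map_sum, map_smulₛₗ, LinearMap.sum_apply, LinearMap.smul_apply, hz, smul_zero,
      Finset.sum_const_zero]
  have hΦ : Function.Surjective Φ := by
    rw [← LinearMap.range_eq_top]
    refine Submodule.eq_top_of_finrank_eq ?_
    have h1 := Φ.finrank_range_add_finrank_ker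
    rw [hΦker, hfr, Module.finrank_fin_fun] at h1
    rw [Module.finrank_fin_fun]
    omega
  choose g₀ hg₀ using fun i : Fin 3 => hΦ (Pi.single i 1)
  have hd0 : ∀ i j, M.h (e i) (g₀ j) = if i = j then 1 else 0 := fun i j => by
    have := congrFun (hg₀ j) i
    simpa [Φ, Pi.single_apply] using this
  have hee : ∀ i j, M.h (e i) (e j) = 0 := fun i j => hiso _ (heT i) _ (heT j)
  obtain ⟨l₂, hl₂⟩ := exists_iso_shift M.c (hee 2 2) (by simpa using hd0 2 2)
  set f₂ := g₀ 2 + l₂ • e 2 with hf₂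
  have hef₂ : ∀ i, M.h (e i) f₂ = if i = 2 then 1 else 0 := fun i => by
    simp [hf₂, map_add, map_smul, hee, hd0]
  set g₁ := g₀ 1 + M.h f₂ (g₀ 1) • e 2 with hg₁
  have hf₂e : ∀ i, M.h f₂ (e i) = if i = 2 then 1 else 0 := fun i => by
    rw [M.c.form.swap (e i) f₂, hef₂]; split_ifs <;> simp
  have hg₁f : M.h f₂ g₁ = 0 := by
    simp [hg₁, map_add, map_smul, hf₂e, M.c.addF]
  have heg₁ : ∀ i, M.h (e i) g₁ = if i = 1 then 1 else 0 := fun i => by
    simp [hg₁, map_add, map_smul, hee, hd0]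
  obtain ⟨l₁, hl₁⟩ := exists_iso_shift M.c (hee 1 1) (by simpa using heg₁ 1)
  set f₁ := g₁ + l₁ • e 1 with hf₁
  have hef₁ : ∀ i, M.h (e i) f₁ = if i = 1 then 1 else 0 := fun i => by
    simp [hf₁, map_add, map_smul, hee, heg₁]
  have hf₂f₁ : M.h f₂ f₁ = 0 := by simp [hf₁, map_add, map_smul, hg₁f, hf₂e]
  set f₀ := g₀ 0 with hf₀
  have hef₀ : ∀ i, M.h (e i) f₀ = if i = 0 then 1 else 0 := fun i => hd0 i 0
  have swap1 : ∀ {x y : Fin 6 → M.F} {q : Prop} [Decidable q],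
      M.h x y = (if q then 1 else 0) → M.h y x = if q then 1 else 0 := fun {x y q} _ hxy => by
    rw [M.c.form.swap x y, hxy]; split_ifs <;> simp
  have hf₀e := fun i => swap1 (hef₀ i)
  have hf₁e := fun i => swap1 (hef₁ i)
  have hf₁f₂ : M.h f₁ f₂ = 0 := M.c.form.comm_zero hf₂f₁
  have hf₂f₂ : M.h f₂ f₂ = 0 := hl₂
  have hf₁f₁ : M.h f₁ f₁ = 0 := hl₁
  exact ⟨e, f₀, f₁, f₂, heT, hspan, hee, hef₀, hef₁, hef₂, hf₀e, hf₁e, hf₂e, hf₁f₁, hf₂f₂, hf₁f₂,
    hf₂f₁, fun i h0 => one_ne_zero (α := M.F) (by simpa [h0] using (hd0 i i).symm)⟩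

omit [Finite G] H ha hD hprim h22 in
theorem smul_add' (g : SUH M.h) (p q : Fin 6 → M.F) : g • (p + q) = g • p + g • q :=
  (((g : SUH M.h) : UH M.h) : (Fin 6 → M.F) ≃ₗ[M.F] (Fin 6 → M.F)).map_add p q

omit [Finite G] H ha hD hprim h22 in
theorem smul_smul' (g : SUH M.h) (m : M.F) (p : Fin 6 → M.F) : g • (m • p) = m • g • p :=
  (((g : SUH M.h) : UH M.h) : (Fin 6 → M.F) ≃ₗ[M.F] (Fin 6 → M.F)).map_smul m p

omit [Finite G] H ha hD hprim h22 in
theorem smul_zero' (g : SUH M.h) : g • (0 : Fin 6 → M.F) = 0 :=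
  (((g : SUH M.h) : UH M.h) : (Fin 6 → M.F) ≃ₗ[M.F] (Fin 6 → M.F)).map_zero

variable {e : Fin 3 → Fin 6 → M.F} {f₀ f₁ f₂ : Fin 6 → M.F} {T : Submodule M.F (Fin 6 → M.F)}

omit [Finite G] H ha hD hprim h22 in
theorem Frame.li₁ (hF : Frame M T e f₀ f₁ f₂) : LinearIndependent M.F ![e 0, e 1, f₂] := by
  refine Fintype.linearIndependent_iff.2 fun k hk => ?_
  simp only [Fin.sum_univ_three, Matrix.cons_val_zero, Matrix.cons_val_one, Matrix.cons_val] at hk
  have h2 := congrArg (M.h (e 2)) hk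
  have h0 := congrArg (M.h f₀) hk
  have h1 := congrArg (M.h f₁) hk
  simp [map_add, map_smul, hF.ee, hF.ef₂, hF.f₀e, hF.f₁e, hF.f₁f₂] at h2 h0 h1
  intro i
  fin_cases i <;> simp_all

omit [Finite G] H ha hD hprim h22 in
theorem Frame.li₂ (hF : Frame M T e f₀ f₁ f₂) : LinearIndependent M.F ![e 0, f₁, f₂] := by
  refine Fintype.linearIndependent_iff.2 fun k hk => ?_
  simp only [Fin.sum_univ_three, Matrix.cons_val_zero, Matrix.cons_val_one, Matrix.cons_val] at hk
  have h2 := congrArg (M.h (e 2)) hk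
  have h0 := congrArg (M.h f₀) hk
  have h1 := congrArg (M.h (e 1)) hk
  simp [map_add, map_smul, hF.ee, hF.ef₂, hF.ef₁, hF.f₀e] at h2 h0 h1
  intro i
  fin_cases i <;> simp_all

omit [Finite G] hD hprim h22 in
/-- An element of the group at `a` centralising a base acts on its plane by eigenvalues. -/
theorem eig_plane {S : Set G} (hS : IsBase D S) (haS : a ∈ S) {y : G}
    (hy : y ∈ Subgroup.closure (Dc D a)) {g : SUH M.h} (hg : M.ψ ⟨y, hy⟩ = QuotientGroup.mk g)
    (hc : ∀ s ∈ S, Commute y s) {v : Fin 6 → M.F} (hv : v ∈ plane M S) :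
    ∃ m : M.F, g • v = m • v := by
  by_cases hv0 : v = 0
  · exact ⟨1, by rw [hv0, smul_zero' M, smul_zero]⟩
  obtain ⟨x, hx, hxv⟩ := (plane_data M H ha hS haS).2.2.1 v hv hv0
  obtain ⟨m, -, hm⟩ := eig_of_commute M H ha hy hg hxv (hc x hx.1)
  exact ⟨m, hm⟩

omit hD hprim h22 in
/-- An element of the group at `a` stabilising the plane of a base normalises the base. -/
theorem normalizes {S : Set G} (hS : IsBase D S) (haS : a ∈ S) {y : G}
    (hy : y ∈ Subgroup.closure (Dc D a)) {g : SUH M.h} (hg : M.ψ ⟨y, hy⟩ = QuotientGroup.mk g)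
    (hst : ∀ v ∈ plane M S, g • v ∈ plane M S) : y ∈ Subgroup.normalizer S := by
  have hya : y * a * y⁻¹ = a := by
    rw [Subgroup.mem_centralizer_singleton_iff.1 ((H.cent_eq ha).symm ▸ hy :
      y ∈ Subgroup.centralizer ({a} : Set G)), mul_inv_cancel_right]
  have hfw : ∀ s ∈ S, y * s * y⁻¹ ∈ S := fun s hs => by
    by_cases hsa : s = a
    · rw [hsa, hya]; exact haS
    obtain ⟨v, hv⟩ := M.exists_vec H ha (sub_dc hS haS ⟨hs, hsa⟩)
    exact mem_of_pt M H ha hS haS (hst v (Submodule.subset_span ⟨s, ⟨hs, hsa⟩, hv⟩))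
      (pt_conj M H ha hy hg hv)
  refine Subgroup.mem_normalizer_iff_conj_image_eq.2 ?_
  exact Set.eq_of_subset_of_ncard_le (by rintro _ ⟨x, hx, rfl⟩; exact hfw x hx)
    (by rw [Set.ncard_image_of_injective _ (MulAut.conj y).injective]) (Set.toFinite _)

omit [Finite G] hD hprim h22 in
/-- An element normalising a base and in the group at `a` stabilises the plane. -/
theorem stabilises {S : Set G} (hS : IsBase D S) (haS : a ∈ S) {y : G}
    (hy : y ∈ Subgroup.closure (Dc D a)) {g : SUH M.h} (hg : M.ψ ⟨y, hy⟩ = QuotientGroup.mk g)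
    (hn : y ∈ Subgroup.normalizer S) {v : Fin 6 → M.F} (hv : v ∈ plane M S) : g • v ∈ plane M S := by
  by_cases hv0 : v = 0
  · rw [hv0, smul_zero' M]; exact Submodule.zero_mem _
  obtain ⟨x, hx, hxv⟩ := (plane_data M H ha hS haS).2.2.1 v hv hv0
  have hx' := pt_conj M H ha hy hg hxv
  exact Submodule.subset_span ⟨_, ⟨conj_mem_base hn hx.1, hx'.mem.2.1⟩, hx'⟩

omit hD hprim h22 in
/-- The second piece normalises the base over `⟨e 0, e 1, f₂⟩`. -/
theorem second_normalizes {B B₁ B₂ : Set G} (hB : IsBase D B) (haB : a ∈ B) (hB₁ : IsBase D B₁)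
    (haB₁ : a ∈ B₁) (hB₂ : IsBase D B₂) (haB₂ : a ∈ B₂) (hF : Frame M (plane M B) e f₀ f₁ f₂)
    (hT₁ : plane M B₁ = Submodule.span M.F (Set.range ![e 0, e 1, f₂])) (h0 : e 0 ∈ plane M B₂)
    (h2 : f₂ ∈ plane M B₂) {y : G} (hy2 : y ∈ Subgroup.closure B₂) (hyB : y ∈ Subgroup.normalizer B) :
    y ∈ Subgroup.normalizer B₁ := by
  have hy := closure_le_dc M H ha hB₂ haB₂ hy2
  obtain ⟨g, hg⟩ := QuotientGroup.mk_surjective (M.ψ ⟨y, hy⟩)
  have hc : ∀ s ∈ B₂, Commute y s := fun s hs =>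
    commute_closure hB₂.2.1 hy2 (Subgroup.subset_closure hs)
  obtain ⟨m₀, hm₀⟩ := eig_plane M H ha hB₂ haB₂ hy hg.symm hc h0
  obtain ⟨m₂, hm₂⟩ := eig_plane M H ha hB₂ haB₂ hy hg.symm hc h2
  obtain ⟨k, hk⟩ := hF.span _ (stabilises M H ha hB haB hy hg.symm hyB (hF.mem 1))
  have hk2 : k 2 = 0 := by
    have h1 : M.h (g • f₂) (g • e 1) = 0 := by rw [U6.isom M.c, hF.f₂e]; simp
    rw [hm₂, hk] at h1
    simp [map_smul, map_smulₛₗ, Fin.sum_univ_three, hF.f₂e] at h1
    refine h1.resolve_left fun e' => ?_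
    have h3 := U6.isom M.c g f₂ (e 2)
    rw [hm₂, e', zero_smul, map_zero, LinearMap.zero_apply, hF.f₂e] at h3
    simp at h3
  refine normalizes M H ha hB₁ haB₁ hy hg.symm fun v hv => ?_
  rw [hT₁] at hv ⊢
  obtain ⟨c, rfl⟩ := (Submodule.mem_span_range_iff_exists_fun M.F).1 hv
  simp only [Fin.sum_univ_three, Matrix.cons_val_zero, Matrix.cons_val_one, Matrix.cons_val,
    smul_add' M, smul_smul' M, hm₀, hm₂, hk, hk2, zero_smul, add_zero]
  have m0 : e 0 ∈ Submodule.span M.F (Set.range ![e 0, e 1, f₂]) := Submodule.subset_span ⟨0, rfl⟩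
  have m1 : e 1 ∈ Submodule.span M.F (Set.range ![e 0, e 1, f₂]) := Submodule.subset_span ⟨1, rfl⟩
  have m2 : f₂ ∈ Submodule.span M.F (Set.range ![e 0, e 1, f₂]) := Submodule.subset_span ⟨2, rfl⟩
  exact add_mem (add_mem (Submodule.smul_mem _ _ (Submodule.smul_mem _ _ m0))
    (Submodule.smul_mem _ _ (add_mem (Submodule.smul_mem _ _ m0) (Submodule.smul_mem _ _ m1))))
    (Submodule.smul_mem _ _ (Submodule.smul_mem _ _ m2))

/-- An element of the first piece fixing the member over `e 2` lies in the group of the base. -/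
theorem first_inter {B B₁ : Set G} (hB : IsBase D B) (haB : a ∈ B) (hB₁ : IsBase D B₁)
    (haB₁ : a ∈ B₁) (hF : Frame M (plane M B) e f₀ f₁ f₂) (h0 : e 0 ∈ plane M B₁)
    (h1 : e 1 ∈ plane M B₁) (h2 : f₂ ∈ plane M B₁) {t : G} (ht : M.IsPt t (e 2)) {y : G}
    (hy1 : y ∈ Subgroup.closure B₁) (hyt : Commute y t) : y ∈ Subgroup.closure B := by
  have hy := closure_le_dc M H ha hB₁ haB₁ hy1
  obtain ⟨g, hg⟩ := QuotientGroup.mk_surjective (M.ψ ⟨y, hy⟩)
  have hc : ∀ s ∈ B₁, Commute y s := fun s hs =>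
    commute_closure hB₁.2.1 hy1 (Subgroup.subset_closure hs)
  have hev := fun {v : Fin 6 → M.F} (hv : v ∈ plane M B₁) => eig_plane M H ha hB₁ haB₁ hy hg.symm hc hv
  obtain ⟨m₀, hm₀⟩ := hev h0
  obtain ⟨m₁, hm₁⟩ := hev h1
  obtain ⟨m₂, hm₂⟩ := hev h2
  obtain ⟨k₁, hk₁⟩ := hev (add_mem h0 h1)
  obtain ⟨k₂, hk₂⟩ := hev (add_mem h0 h2)
  obtain ⟨m₃, -, hm₃⟩ := eig_of_commute M H ha hy hg.symm ht hyt
  let L : (Fin 6 → M.F) →ₗ[M.F] (Fin 6 → M.F) :=
    (((g : SUH M.h) : UH M.h) : (Fin 6 → M.F) ≃ₗ[M.F] (Fin 6 → M.F)).toLinearMap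
  have hL : ∀ z, L z = g • z := fun z => rfl
  have h01 : m₀ = m₁ := scalar_eq (g := L)
    (fun p q e' => by
      have q0 := congrArg (M.h f₀) e'
      have q1 := congrArg (M.h f₁) e'
      simp [hF.f₀e, hF.f₁e] at q0 q1
      exact ⟨q0, q1⟩)
    ((hL _).trans hm₀) ((hL _).trans hm₁) ((hL _).trans hk₁)
  have h02 : m₀ = m₂ := scalar_eq (g := L)
    (fun p q e' => by
      have q2 := congrArg (M.h (e 2)) e'
      have q0 := congrArg (M.h f₀) e'
      simp [hF.ee, hF.ef₂] at q2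
      subst q2
      simp [hF.f₀e] at q0
      exact ⟨q0, rfl⟩)
    ((hL _).trans hm₀) ((hL _).trans hm₂) ((hL _).trans hk₂)
  have hm0 : m₀ ≠ 0 := fun e' => hF.ne 0 (by
    rw [← inv_smul_smul g (e 0), hm₀, e', zero_smul, smul_zero' M])
  have h03 : m₀ = m₃ := by
    have q := U6.isom M.c g (e 2) f₂
    rw [hm₃, hm₂, ← h02] at q
    simp [hF.ef₂] at q
    refine M.σ.injective (mul_right_cancel₀ hm0 ((M.c.norm m₀ hm0).trans ?_))
    rw [mul_comm m₀] at q
    exact q.symm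
  have hscal : ∀ v ∈ plane M B, g • v = m₀ • v := fun v hv => by
    obtain ⟨k, rfl⟩ := hF.span v hv
    simp only [Fin.sum_univ_three, smul_add' M, smul_smul' M, hm₀, hm₁, hm₃, ← h01, ← h03, smul_add,
      smul_smul, mul_comm]
  refine centralizer_base hD hprim h22 hB fun s hs => ?_
  by_cases hsa : s = a
  · exact hsa ▸ hc a haB₁
  obtain ⟨v, hv⟩ := M.exists_vec H ha (sub_dc hB haB ⟨hs, hsa⟩)
  exact mul_inv_eq_iff_eq_mul.1 ((Model.fix_iff M H ha (Model.acts_lift M H ha ⟨y, hy⟩ hg.symm) hv).2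
    ⟨m₀, hm0, hscal v (Submodule.subset_span ⟨s, ⟨hs, hsa⟩, hv⟩)⟩)

omit [Finite G] H ha hD hprim h22 in
/-- The self-adjoint maps with image in the plane, in coordinates. -/
noncomputable def planeMap (e : Fin 3 → Fin 6 → M.F) (x : (Fin 3 → Bool) × (Fin 3 → M.F)) :
    (Fin 6 → M.F) →ₗ[M.F] (Fin 6 → M.F) :=
  (∑ i, (if x.1 i then (1 : M.F) else 0) • (M.h (e i)).smulRight (e i)) +
    (pairMap M.h (e 0) (x.2 0 • e 1) + pairMap M.h (e 0) (x.2 1 • e 2) +
      pairMap M.h (e 1) (x.2 2 • e 2))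

omit [Finite G] H ha hD hprim h22 in
theorem planeMap_apply (x : (Fin 3 → Bool) × (Fin 3 → M.F)) (z : Fin 6 → M.F) :
    planeMap M e x z = (∑ i, ((if x.1 i then (1 : M.F) else 0) * M.h (e i) z) • e i) +
      ((M.h (e 0) z • x.2 0 • e 1 + M.h (x.2 0 • e 1) z • e 0) +
        (M.h (e 0) z • x.2 1 • e 2 + M.h (x.2 1 • e 2) z • e 0) +
        (M.h (e 1) z • x.2 2 • e 2 + M.h (x.2 2 • e 2) z • e 1)) := by
  simp only [planeMap, LinearMap.add_apply, LinearMap.sum_apply, LinearMap.smul_apply,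
    LinearMap.smulRight_apply, pairMap_apply, smul_smul]

omit [Finite G] H ha hD hprim h22 in
theorem planeMap_mem (hF : Frame M T e f₀ f₁ f₂) (x : (Fin 3 → Bool) × (Fin 3 → M.F))
    (z : Fin 6 → M.F) : planeMap M e x z ∈ T := by
  rw [planeMap_apply]
  exact add_mem (Submodule.sum_mem _ fun i _ => Submodule.smul_mem _ _ (hF.mem i))
    (add_mem (add_mem
      (add_mem (Submodule.smul_mem _ _ (Submodule.smul_mem _ _ (hF.mem 1))) (Submodule.smul_mem _ _ (hF.mem 0)))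
      (add_mem (Submodule.smul_mem _ _ (Submodule.smul_mem _ _ (hF.mem 2))) (Submodule.smul_mem _ _ (hF.mem 0))))
      (add_mem (Submodule.smul_mem _ _ (Submodule.smul_mem _ _ (hF.mem 2))) (Submodule.smul_mem _ _ (hF.mem 1))))

omit [Finite G] H ha hD hprim h22 in
theorem planeMap_adj (x : (Fin 3 → Bool) × (Fin 3 → M.F)) (u v : Fin 6 → M.F) :
    M.h u (planeMap M e x v) = M.h (planeMap M e x u) v := by
  simp only [planeMap, LinearMap.add_apply, LinearMap.sum_apply, LinearMap.smul_apply, map_add,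
    map_sum, pairMap_adj M.c, map_smul, map_smulₛₗ]
  congr 1
  refine Finset.sum_congr rfl fun i _ => ?_
  have h := tvMap_adj M.c (e i) u v
  cases x.1 i <;> simp_all

omit [Finite G] H ha hD hprim h22 in
theorem planeMap_zero (hF : Frame M T e f₀ f₁ f₂) (x : (Fin 3 → Bool) × (Fin 3 → M.F))
    {v : Fin 6 → M.F} (hv : ∀ i, M.h (e i) v = 0) : planeMap M e x v = 0 := by
  rw [planeMap_apply]
  simp [map_smulₛₗ, hv]

omit [Finite G] H ha hD hprim h22 in
theorem planeMap_coord (hF : Frame M T e f₀ f₁ f₂) (x : (Fin 3 → Bool) × (Fin 3 → M.F)) :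
    M.h f₀ (planeMap M e x f₀) = (if x.1 0 then 1 else 0) ∧
      M.h f₁ (planeMap M e x f₁) = (if x.1 1 then 1 else 0) ∧
      M.h f₂ (planeMap M e x f₂) = (if x.1 2 then 1 else 0) ∧
      M.h f₁ (planeMap M e x f₀) = x.2 0 ∧ M.h f₂ (planeMap M e x f₀) = x.2 1 ∧
      M.h f₂ (planeMap M e x f₁) = x.2 2 := by
  refine ⟨?_, ?_, ?_, ?_, ?_, ?_⟩ <;>
    simp [planeMap_apply, map_smulₛₗ, Fin.sum_univ_three, hF.ef₀, hF.ef₁, hF.ef₂, hF.f₀e, hF.f₁e,
      hF.f₂e, apply_ite] <;> split_ifs <;> simp [hF.f₀e, hF.f₁e, hF.f₂e]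

omit [Finite G] H ha hD hprim h22 in
theorem planeMap_injective (hF : Frame M T e f₀ f₁ f₂) {x x' : (Fin 3 → Bool) × (Fin 3 → M.F)}
    (heq : ∀ z, planeMap M e x' z = planeMap M e x z) : x' = x := by
  obtain ⟨a0, a1, a2, b0, b1, b2⟩ := planeMap_coord M hF x
  obtain ⟨c0, c1, c2, d0, d1, d2⟩ := planeMap_coord M hF x'
  rw [heq] at c0 c1 c2 d0 d1 d2
  have hb : ∀ p q : Bool, (if p then (1 : M.F) else 0) = (if q then 1 else 0) → p = q := fun p q => by
    cases p <;> cases q <;> simp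
  refine Prod.ext (funext fun k => ?_) (funext fun k => ?_)
  · fin_cases k
    · exact hb _ _ (c0.symm.trans a0)
    · exact hb _ _ (c1.symm.trans a1)
    · exact hb _ _ (c2.symm.trans a2)
  · fin_cases k
    · exact d0.symm.trans b0
    · exact d1.symm.trans b1
    · exact d2.symm.trans b2

omit [Finite G] H ha hD hprim h22 in
theorem smul_of_scalar (k k' : SUH M.h) (m : M.F) (hm : ∀ z : Fin 6 → M.F, (k⁻¹ * k') • z = m • z)
    (z : Fin 6 → M.F) : k' • z = m • k • z :=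
  calc k' • z = (k * (k⁻¹ * k')) • z := congrArg (fun l : SUH M.h => l • z) (mul_inv_cancel_left k k').symm
    _ = k • ((k⁻¹ * k') • z) := mul_smul k (k⁻¹ * k') z
    _ = k • (m • z) := congrArg (fun w => k • w) (hm z)
    _ = m • k • z := smul_smul' M k m z

omit hprim h22 in
/-- The group of a base has order at least `2^10`. -/
theorem card_base_ge {B : Set G} (hB : IsBase D B) (haB : a ∈ B)
    (hF : Frame M (plane M B) e f₀ f₁ f₂) : 2 ^ 10 ≤ Nat.card ↥(Subgroup.closure B) := by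
  classical
  haveI : Finite M.F := M.fin
  have hR : ∀ x, ∃ (y : G) (hy : y ∈ Subgroup.closure (Dc D a)) (g : SUH M.h),
      y ∈ Subgroup.closure B ∧ M.ψ ⟨y, hy⟩ = QuotientGroup.mk g ∧
      ∀ z, g • z = z + planeMap M e x z := by
    intro x
    obtain ⟨y, g, hy, hyg, hg⟩ := realize M H ha hB haB _ (planeMap M e x) le_rfl
      (fun z => planeMap_mem M hF x z)
      (fun v hv => planeMap_zero M hF x fun i => plane_iso M H ha hB _ (hF.mem i) v hv)
      (fun u v => planeMap_adj M x u v)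
    exact ⟨y, y.2, g, hy, hyg, hg⟩
  choose y hyD g hyB hyψ hg using hR
  have haψ : M.ψ ⟨a, H.mem_closure_dc ha⟩ = 1 := (M.ker _).2 (Subgroup.mem_center_iff.2 fun z =>
    Subtype.ext (Subgroup.mem_centralizer_singleton_iff.1
      ((H.cent_eq ha).symm ▸ z.2 : (z : G) ∈ Subgroup.centralizer ({a} : Set G))))
  let φ : Bool × ((Fin 3 → Bool) × (Fin 3 → M.F)) → ↥(Subgroup.closure B) := fun x =>
    ⟨y x.2 * if x.1 then a else 1, mul_mem (hyB _) (by
      split_ifs
      · exact Subgroup.subset_closure haB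
      · exact one_mem _)⟩
  have hφ : Function.Injective φ := by
    rintro ⟨i, x⟩ ⟨j, x'⟩ heq
    have heq' : y x * (if i then a else 1) = y x' * (if j then a else 1) := congrArg Subtype.val heq
    have hψ : M.ψ ⟨y x, hyD x⟩ = M.ψ ⟨y x', hyD x'⟩ := by
      let A : ↥(Subgroup.closure (Dc D a)) := ⟨a, H.mem_closure_dc ha⟩
      have hA : M.ψ A = 1 := haψ
      cases i <;> cases j <;> simp only [Bool.false_eq_true, if_false, if_true, mul_one] at heq'
      · exact congrArg M.ψ (Subtype.ext heq')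
      · have q : (⟨y x, hyD x⟩ : ↥(Subgroup.closure (Dc D a))) = ⟨y x', hyD x'⟩ * A := Subtype.ext heq'
        have q' := congrArg M.ψ q
        rw [map_mul, hA, mul_one] at q'
        exact q'
      · have q : (⟨y x, hyD x⟩ : ↥(Subgroup.closure (Dc D a))) * A = ⟨y x', hyD x'⟩ := Subtype.ext heq'
        have q' := congrArg M.ψ q
        rw [map_mul, hA, mul_one] at q'
        exact q'
      · exact congrArg M.ψ (Subtype.ext (mul_right_cancel heq'))
    rw [hyψ, hyψ, QuotientGroup.eq] at hψ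
    obtain ⟨m, -, hm⟩ := (U6.proj_eq_one_iff M.c _).1 ((QuotientGroup.eq_one_iff _).2 hψ)
    have hgm : ∀ z : Fin 6 → M.F, g x' • z = m • g x • z := fun z => by
      exact smul_of_scalar M (g x) (g x') m hm z
    have hm1 : m = 1 := by
      have := hgm (e 0)
      rw [hg, hg, planeMap_zero M hF _ fun i => hF.ee i 0, planeMap_zero M hF _ fun i => hF.ee i 0,
        add_zero] at this
      by_contra hne
      refine hF.ne 0 ?_
      have h2 : (m - 1) • e 0 = 0 := by rw [sub_smul, one_smul, ← this, sub_self]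
      exact (smul_eq_zero.1 h2).resolve_left (sub_ne_zero.2 hne)
    subst hm1
    have hx : x' = x := planeMap_injective M hF fun z => by
      have := hgm z
      rwa [hg, hg, one_smul, add_right_inj] at this
    subst hx
    have hij := mul_left_cancel heq'
    have hane : a ≠ 1 := ne_one hD.1 ha
    refine Prod.ext ?_ rfl
    show i = j
    cases i <;> cases j <;> simp only [Bool.false_eq_true, if_false, if_true] at hij
    · rfl
    · exact absurd hij.symm hane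
    · exact absurd hij hane
    · rfl
  have h1 := Nat.card_le_card_of_injective φ hφ
  rw [Nat.card_prod, Nat.card_prod, Nat.card_fun, Nat.card_fun, M.c.card_field, Nat.card_eq_fintype_card,
    Nat.card_eq_fintype_card (α := Fin 3), Fintype.card_bool, Fintype.card_fin] at h1
  exact h1

omit hD hprim h22 in
/-- Products of realised elements of the two pieces with elements of the group of the base are
distinct. -/
theorem card_le_sup {B B₁ B₂ : Set G} (hB : IsBase D B) (haB : a ∈ B) (hB₁ : IsBase D B₁)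
    (haB₁ : a ∈ B₁) (hB₂ : IsBase D B₂) (haB₂ : a ∈ B₂) (hF : Frame M (plane M B) e f₀ f₁ f₂)
    (h1 : e 0 ∈ plane M B₁ ∧ e 1 ∈ plane M B₁ ∧ f₂ ∈ plane M B₁)
    (h2 : e 0 ∈ plane M B₂ ∧ f₁ ∈ plane M B₂) {t : G} (ht : M.IsPt t (e 2)) :
    Nat.card ↥(Subgroup.closure B) * 64 ≤ Nat.card ↥(Subgroup.closure B ⊔
      (Subgroup.closure B₁ ⊓ Subgroup.normalizer B) ⊔
      (Subgroup.closure B₂ ⊓ Subgroup.normalizer B ⊓ Subgroup.centralizer ({t} : Set G))) := by
  classical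
  haveI : Finite M.F := M.fin
  have hiso := plane_iso M H ha hB
  have hR₁ : ∀ p : M.F × M.F, ∃ (y : G) (hy : y ∈ Subgroup.closure (Dc D a)) (g : SUH M.h),
      y ∈ Subgroup.closure B₁ ⊓ Subgroup.normalizer B ∧ M.ψ ⟨y, hy⟩ = QuotientGroup.mk g ∧
      ∀ z, g • z = z + pairMap M.h f₂ (p.1 • e 0 + p.2 • e 1) z := by
    intro p
    set w := p.1 • e 0 + p.2 • e 1 with hw
    have hw1 : w ∈ plane M B₁ := add_mem (Submodule.smul_mem _ _ h1.1) (Submodule.smul_mem _ _ h1.2.1)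
    obtain ⟨y, g, hy, hyg, hg⟩ := realize M H ha hB₁ haB₁ _ (pairMap M.h f₂ w) le_rfl
      (fun z => add_mem (Submodule.smul_mem _ _ hw1) (Submodule.smul_mem _ _ h1.2.2))
      (fun v hv => by
        rw [pairMap_apply, plane_iso M H ha hB₁ _ h1.2.2 v hv, plane_iso M H ha hB₁ w hw1 v hv,
          zero_smul, zero_smul, add_zero])
      (fun u v => pairMap_adj M.c _ _ u v)
    refine ⟨y, y.2, g, ⟨hy, normalizes M H ha hB haB y.2 hyg fun v hv => ?_⟩, hyg, hg⟩
    have hwT : w ∈ plane M B := add_mem (Submodule.smul_mem _ _ (hF.mem 0))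
      (Submodule.smul_mem _ _ (hF.mem 1))
    rw [hg, pairMap_apply, hiso w hwT v hv, zero_smul, add_zero]
    exact add_mem hv (Submodule.smul_mem _ _ hwT)
  have hR₂ : ∀ l : M.F, ∃ (y : G) (hy : y ∈ Subgroup.closure (Dc D a)) (g : SUH M.h),
      y ∈ Subgroup.closure B₂ ⊓ Subgroup.normalizer B ⊓ Subgroup.centralizer ({t} : Set G) ∧
      M.ψ ⟨y, hy⟩ = QuotientGroup.mk g ∧ ∀ z, g • z = z + pairMap M.h f₁ (l • e 0) z := by
    intro l
    obtain ⟨y, g, hy, hyg, hg⟩ := realize M H ha hB₂ haB₂ _ (pairMap M.h f₁ (l • e 0)) le_rfl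
      (fun z => add_mem (Submodule.smul_mem _ _ (Submodule.smul_mem _ _ h2.1))
        (Submodule.smul_mem _ _ h2.2))
      (fun v hv => by
        rw [pairMap_apply, plane_iso M H ha hB₂ _ h2.2 v hv,
          plane_iso M H ha hB₂ _ (Submodule.smul_mem _ _ h2.1) v hv, zero_smul, zero_smul, add_zero])
      (fun u v => pairMap_adj M.c _ _ u v)
    refine ⟨y, y.2, g, ⟨⟨hy, normalizes M H ha hB haB y.2 hyg fun v hv => ?_⟩,
      Subgroup.mem_centralizer_singleton_iff.2 ?_⟩, hyg, hg⟩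
    · have hwT : l • e 0 ∈ plane M B := Submodule.smul_mem _ _ (hF.mem 0)
      rw [hg, pairMap_apply, hiso _ hwT v hv, zero_smul, add_zero]
      exact add_mem hv (Submodule.smul_mem _ _ hwT)
    · refine mul_inv_eq_iff_eq_mul.1 ((Model.fix_iff M H ha (Model.acts_lift M H ha y hyg) ht).2
        ⟨1, one_ne_zero, ?_⟩)
      show g • e 2 = (1 : M.F) • e 2
      rw [hg, pairMap_apply, hF.f₁e]
      simp [hF.ee]
  choose y₁ hy₁D g₁ hy₁E hy₁ψ hy₁g using hR₁
  choose y₂ hy₂D g₂ hy₂E hy₂ψ hy₂g using hR₂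
  obtain ⟨-, -, hmem, -⟩ := plane_data M H ha hB haB
  choose pe hpeB hpe using fun i => hmem (e i) (hF.mem i) (hF.ne i)
  let φ : ↥(Subgroup.closure B) × (M.F × M.F) × M.F → ↥(Subgroup.closure B ⊔
      (Subgroup.closure B₁ ⊓ Subgroup.normalizer B) ⊔
      (Subgroup.closure B₂ ⊓ Subgroup.normalizer B ⊓ Subgroup.centralizer ({t} : Set G))) := fun x =>
    ⟨x.1 * (y₁ x.2.1 * y₂ x.2.2), mul_mem (Subgroup.mem_sup_left (Subgroup.mem_sup_left x.1.2))
      (mul_mem (Subgroup.mem_sup_left (Subgroup.mem_sup_right (hy₁E _)))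
        (Subgroup.mem_sup_right (hy₂E _)))⟩
  have hφ : Function.Injective φ := by
    rintro ⟨u, p, l⟩ ⟨u', p', l'⟩ heq
    have heq' : (u : G) * (y₁ p * y₂ l) = (u' : G) * (y₁ p' * y₂ l') := congrArg Subtype.val heq
    have hact : ∀ i : Fin 3, (y₁ p * y₂ l) * pe i * (y₁ p * y₂ l)⁻¹ =
        (y₁ p' * y₂ l') * pe i * (y₁ p' * y₂ l')⁻¹ := by
      intro i
      have hmB : (y₁ p' * y₂ l') * pe i * (y₁ p' * y₂ l')⁻¹ ∈ B := by
        rw [show (y₁ p' * y₂ l') * pe i * (y₁ p' * y₂ l')⁻¹ =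
          y₁ p' * (y₂ l' * pe i * (y₂ l')⁻¹) * (y₁ p')⁻¹ by group]
        exact conj_mem_base (hy₁E p').2 (conj_mem_base (hy₂E l').1.2 (hpeB i).1)
      have hc : Commute ((u : G)⁻¹ * u') _ := commute_closure hB.2.1 (mul_mem (inv_mem u.2) u'.2)
        (Subgroup.subset_closure hmB)
      have e1 : y₁ p * y₂ l = ((u : G)⁻¹ * u') * (y₁ p' * y₂ l') := by
        rw [mul_assoc, ← heq', inv_mul_cancel_left]
      rw [e1]
      generalize (y₁ p' * y₂ l') = k at hc ⊢
      generalize ((u : G)⁻¹ * u') = r at hc ⊢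
      calc r * k * pe i * (r * k)⁻¹ = r * (k * pe i * k⁻¹) * r⁻¹ := by group
        _ = k * pe i * k⁻¹ := mul_inv_eq_iff_eq_mul.2 hc.eq
    have hpt : ∀ p l (i : Fin 3), M.IsPt ((y₁ p * y₂ l) * pe i * (y₁ p * y₂ l)⁻¹)
        (g₁ p • g₂ l • e i) := fun p l i => by
      rw [show (y₁ p * y₂ l) * pe i * (y₁ p * y₂ l)⁻¹ =
        y₁ p * (y₂ l * pe i * (y₂ l)⁻¹) * (y₁ p)⁻¹ by group]
      exact pt_conj M H ha (hy₁D p) (hy₁ψ p) (pt_conj M H ha (hy₂D l) (hy₂ψ l) (hpe i))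
    have him1 : ∀ p l, g₁ p • g₂ l • e 1 = e 1 + l • e 0 := fun p l => by
      have q : g₂ l • e 1 = e 1 + l • e 0 := by
        rw [hy₂g, pairMap_apply, hF.f₁e]; simp [hF.ee]
      rw [q, hy₁g, pairMap_apply]
      simp [map_smulₛₗ, hF.ee, hF.f₂e]
    have him2 : ∀ p l, g₁ p • g₂ l • e 2 = e 2 + (p.1 • e 0 + p.2 • e 1) := fun p l => by
      have q : g₂ l • e 2 = e 2 := by
        rw [hy₂g, pairMap_apply, hF.f₁e]; simp [hF.ee]
      rw [q, hy₁g, pairMap_apply]
      simp [map_smulₛₗ, hF.ee, hF.f₂e]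
    obtain ⟨m, hm⟩ := Model.smul_of_eq M (hpt p l 1) (hpt p' l' 1) (hact 1)
    obtain ⟨k, hk⟩ := Model.smul_of_eq M (hpt p l 2) (hpt p' l' 2) (hact 2)
    rw [him1, him1] at hm
    rw [him2, him2] at hk
    have hm1 := congrArg (M.h f₁) hm
    have hm0 := congrArg (M.h f₀) hm
    have hk2 := congrArg (M.h f₂) hk
    have hk1 := congrArg (M.h f₁) hk
    have hk0 := congrArg (M.h f₀) hk
    simp [hF.f₀e, hF.f₁e, hF.f₂e] at hm1 hm0 hk2 hk1 hk0
    subst hm1 hk2
    obtain rfl : l' = l := by simpa using hm0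
    obtain rfl : p' = p := Prod.ext (by simpa using hk0) (by simpa using hk1)
    exact Prod.ext (Subtype.ext (mul_right_cancel heq')) rfl
  have hcard := Nat.card_le_card_of_injective φ hφ
  rw [Nat.card_prod, Nat.card_prod, Nat.card_prod, M.c.card_field] at hcard
  exact hcard

/-- The three pieces, and the order of the group of a base. -/
theorem exists_pieces {B : Set G} (hB : IsBase D B) (haB : a ∈ B) :
    ∃ p ∈ B, ∃ B₁ B₂ : Set G, ∃ E E' : Subgroup G, p ≠ a ∧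
      (IsBase D B₁ ∧ a ∈ B₁ ∧ p ∈ B₁) ∧ (IsBase D B₂ ∧ a ∈ B₂ ∧ p ∈ B₂) ∧
      (E ≤ Subgroup.closure B₁ ∧ E' ≤ Subgroup.closure B₂) ∧
      (E ≤ Subgroup.normalizer B ∧ E' ≤ Subgroup.normalizer B ∧ E' ≤ Subgroup.normalizer B₁ ∧
        E' ≤ Subgroup.normalizer (E : Set G)) ∧
      (∀ y ∈ E, ∀ y' ∈ E', (∀ s ∈ B, Commute (y * y') s) → y ∈ Subgroup.closure B) ∧
      (IsPGroup 2 ↥(Subgroup.closure B ⊔ E ⊔ E') ∧
        Nat.card ↥(Subgroup.closure B ⊔ E ⊔ E') = 2 ^ 16) ∧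
      Nat.card ↥(Subgroup.closure B) = 2 ^ 10 := by
  classical
  haveI : Fact (Nat.Prime 2) := ⟨Nat.prime_two⟩
  obtain ⟨e, f₀, f₁, f₂, hF⟩ := exists_frame M H ha hB haB
  obtain ⟨B₁, hB₁, haB₁, hT₁⟩ := exists_base_span M H ha hD hprim h22 ![e 0, e 1, f₂]
    (by intro i j; fin_cases i <;> fin_cases j <;> simp [hF.ee, hF.ef₂, hF.f₂e, hF.f₂f₂]) (hF.li₁ M)
  obtain ⟨B₂, hB₂, haB₂, hT₂⟩ := exists_base_span M H ha hD hprim h22 ![e 0, f₁, f₂]
    (by intro i j; fin_cases i <;> fin_cases j <;>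
      simp [hF.ee, hF.ef₁, hF.ef₂, hF.f₁e, hF.f₂e, hF.f₂f₂, hF.f₁f₁, hF.f₁f₂, hF.f₂f₁]) (hF.li₂ M)
  have he₁ : e 0 ∈ plane M B₁ ∧ e 1 ∈ plane M B₁ ∧ f₂ ∈ plane M B₁ := by
    rw [hT₁]
    exact ⟨Submodule.subset_span ⟨0, rfl⟩, Submodule.subset_span ⟨1, rfl⟩,
      Submodule.subset_span ⟨2, rfl⟩⟩
  have he₂ : e 0 ∈ plane M B₂ ∧ f₁ ∈ plane M B₂ ∧ f₂ ∈ plane M B₂ := by
    rw [hT₂]
    exact ⟨Submodule.subset_span ⟨0, rfl⟩, Submodule.subset_span ⟨1, rfl⟩,
      Submodule.subset_span ⟨2, rfl⟩⟩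
  obtain ⟨-, -, hmem, -⟩ := plane_data M H ha hB haB
  obtain ⟨p, hpB, hp⟩ := hmem _ (hF.mem 0) (hF.ne 0)
  obtain ⟨t, htB, ht⟩ := hmem _ (hF.mem 2) (hF.ne 2)
  set E := Subgroup.closure B₁ ⊓ Subgroup.normalizer B with hE
  set E' := Subgroup.closure B₂ ⊓ Subgroup.normalizer B ⊓ Subgroup.centralizer ({t} : Set G) with hE'
  have hE'B₁ : E' ≤ Subgroup.normalizer B₁ := fun y hy =>
    second_normalizes M H ha hB haB hB₁ haB₁ hB₂ haB₂ hF hT₁ he₂.1 he₂.2.2 hy.1.1 hy.1.2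
  have hE'E : E' ≤ Subgroup.normalizer (E : Set G) := by
    refine Subgroup.le_normalizer_iff.2 fun y hy x hx => ⟨?_, ?_⟩
    · exact (Subgroup.mem_normalizer_iff.1
        (Subgroup.normalizer_le_normalizer_closure _ (hE'B₁ hy)) x).1 hx.1
    · exact (Subgroup.normalizer B).mul_mem ((Subgroup.normalizer B).mul_mem hy.1.2 hx.2)
        ((Subgroup.normalizer B).inv_mem hy.1.2)
  have hEn : E ≤ Subgroup.normalizer (Subgroup.closure B : Set G) := fun y hy =>
    Subgroup.normalizer_le_normalizer_closure _ hy.2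
  have hE'n : E' ≤ Subgroup.normalizer (Subgroup.closure B : Set G) := fun y hy =>
    Subgroup.normalizer_le_normalizer_closure _ hy.1.2
  have hP : IsPGroup 2 ↥(Subgroup.closure B ⊔ E ⊔ E') := by
    have h0 := isPGroup_elem (hB.elem hD)
    have h1 : IsPGroup 2 ↥E := (isPGroup_elem (hB₁.elem hD)).to_le inf_le_left
    have h2 : IsPGroup 2 ↥E' := (isPGroup_elem (hB₂.elem hD)).to_le (inf_le_left.trans inf_le_left)
    refine (h0.to_sup_of_normal_left' h1 hEn).to_sup_of_normal_left' h2 ?_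
    refine Subgroup.le_normalizer_iff.2 fun y hy x hx => ?_
    have hx' : x ∈ (Subgroup.closure B ⊔ E).map (MulAut.conj y⁻¹).toMonoidHom →
        y * x * y⁻¹ ∈ Subgroup.closure B ⊔ E := by
      rintro ⟨z, hz, rfl⟩
      simpa [mul_assoc] using hz
    refine hx' ?_
    rw [Subgroup.map_sup, MulEquiv.toMonoidHom_eq_coe,
      (Subgroup.mem_normalizer_iff_map_conj_eq).1 (hE'n (inv_mem hy)),
      (Subgroup.mem_normalizer_iff_map_conj_eq).1 (hE'E (inv_mem hy))]
    exact hx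
  have hle : ∀ {S : Set G}, IsBase D S → a ∈ S → Subgroup.closure S ≤ Subgroup.closure (Dc D a) :=
    fun hS haS => closure_le_dc M H ha hS haS
  have hPa : Subgroup.closure B ⊔ E ⊔ E' ≤ Subgroup.centralizer ({a} : Set G) := by
    rw [H.cent_eq ha]
    exact sup_le (sup_le (hle hB haB) (inf_le_left.trans (hle hB₁ haB₁)))
      ((inf_le_left.trans inf_le_left).trans (hle hB₂ haB₂))
  obtain ⟨n, hn⟩ := IsPGroup.iff_card.1 hP
  have hn16 : n ≤ 16 := by
    by_contra hlt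
    have h1 := (pow_dvd_pow 2 (by omega : 17 ≤ n)).trans (hn ▸ Subgroup.card_dvd_of_le hPa)
    rw [card_centralizer_member hD hprim h22 ha] at h1
    norm_num at h1
  have h64 := card_le_sup M H ha hB haB hB₁ haB₁ hB₂ haB₂ hF he₁ ⟨he₂.1, he₂.2.1⟩ ht
  rw [hn] at h64
  have hlow := card_base_ge M H ha hD hB haB hF
  have hpow : 2 ^ n ≤ 2 ^ 16 := Nat.pow_le_pow_right (by norm_num) hn16
  refine ⟨p, hpB.1, B₁, B₂, E, E', hpB.2, ⟨hB₁, haB₁, mem_of_pt M H ha hB₁ haB₁ he₁.1 hp⟩,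
    ⟨hB₂, haB₂, mem_of_pt M H ha hB₂ haB₂ he₂.1 hp⟩,
    ⟨inf_le_left, inf_le_left.trans inf_le_left⟩, ⟨inf_le_right, inf_le_left.trans inf_le_right,
      hE'B₁, hE'E⟩, fun y hy y' hy' hc => ?_, ⟨hP, ?_⟩, ?_⟩
  · refine first_inter M H ha hD hprim h22 hB haB hB₁ haB₁ hF he₁.1 he₁.2.1 he₁.2.2 ht hy.1 ?_
    have hy't : Commute y' t := Subgroup.mem_centralizer_singleton_iff.1 hy'.2
    have h1 := (hc t htB.1).mul_left hy't.inv_left
    rwa [mul_inv_cancel_right] at h1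
  · rw [hn]; omega
  · omega

end Pieces

end Cfsg.Agent.Transpos
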