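import Cfsg.Agent.Lib.Transpos.M22Fixed
import Cfsg.Prelude.Def_CaseTheorems

/-!
# Groups of type M(22) with a quasisimple involution centraliser `2.U₆(2)`

Such an involution is a member (`M22.mem_of_quasisimple`); so the centraliser of every member is
perfect and generated by the members commuting with it, and every involution is a product of at
most three commuting members (`M22.Full`).
-/

set_option autoImplicit false

namespace Cfsg.Agent.Transpos

open Cfsg Cfsg.Agent.ClassicalSimple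
open scoped commutatorElement

variable {G : Type*} [Group G] {D : Set G}

/-- An involution with quasisimple centraliser, a double cover of `PSU₆(2)`. -/
def QuasiInvol (d : G) : Prop :=
  orderOf d = 2 ∧ IsQuasisimple ↥(Subgroup.centralizer ({d} : Set G)) ∧
    ∃ (_ : ((Subgroup.zpowers d).subgroupOf (Subgroup.centralizer ({d} : Set G))).Normal) (K : Type)
      (_ : Field K) (_ : Fintype K), Fintype.card K = 4 ∧
      Nonempty (↥(Subgroup.centralizer ({d} : Set G)) ⧸
        (Subgroup.zpowers d).subgroupOf (Subgroup.centralizer ({d} : Set G)) ≃* PSU 6 K 2)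

/-- The consequences for a group of type M(22). -/
structure M22.Full (D : Set G) : Prop where
  cent : ∀ a ∈ D, Subgroup.centralizer ({a} : Set G) = Subgroup.closure (Dc D a)
  perfect : ∀ a ∈ D, commutator ↥(Subgroup.centralizer ({a} : Set G)) = ⊤
  short : ∀ t : G, t * t = 1 → ∃ l : List G, l.Nodup ∧ l.length ≤ 3 ∧ (∀ x ∈ l, x ∈ D) ∧
    (∀ x ∈ l, ∀ y ∈ l, Commute x y) ∧ l.prod = t

variable [Finite G]

/-- In a perfect central extension of a simple group a normal subgroup off the kernel is everything. -/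
theorem eq_top_of_notMem {C S : Type*} [Group C] [Group S] [IsSimpleGroup S]
    (hperf : commutator C = ⊤) (ψ : C →* S) (hψ : Function.Surjective ψ)
    (hker : ∀ x, ψ x = 1 → ∀ y, Commute x y) (N : Subgroup C) [N.Normal] {n : C} (hn : n ∈ N)
    (hne : ψ n ≠ 1) : N = ⊤ := by
  rw [eq_top_iff, ← hperf, commutator_def, Subgroup.commutator_le]
  rintro x - y -
  have htop : N.map ψ = ⊤ :=
    ((Subgroup.Normal.map inferInstance ψ hψ).eq_bot_or_eq_top).resolve_left fun h =>
      hne ((Subgroup.mem_bot).1 (h ▸ Subgroup.mem_map_of_mem ψ hn))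
  obtain ⟨p, hp, ep⟩ := Subgroup.mem_map.1 (htop ▸ Subgroup.mem_top (ψ x) : ψ x ∈ N.map ψ)
  obtain ⟨q, hq, eq⟩ := Subgroup.mem_map.1 (htop ▸ Subgroup.mem_top (ψ y) : ψ y ∈ N.map ψ)
  have hx : ∀ z, Commute (x * p⁻¹) z := hker _ (by rw [map_mul, map_inv, ep, mul_inv_cancel])
  have hy : ∀ z, Commute (y * q⁻¹) z := hker _ (by rw [map_mul, map_inv, eq, mul_inv_cancel])
  have e : ⁅x, y⁆ = ⁅p, q⁆ := by
    obtain ⟨s, hs, rfl⟩ : ∃ s, (∀ z, Commute s z) ∧ x = s * p := ⟨_, hx, by simp⟩
    obtain ⟨t, ht, rfl⟩ : ∃ t, (∀ z, Commute t z) ∧ y = t * q := ⟨_, hy, by simp⟩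
    simp only [commutatorElement_def, mul_inv_rev]
    calc s * p * (t * q) * (p⁻¹ * s⁻¹) * (q⁻¹ * t⁻¹)
        = s * (p * (t * q) * p⁻¹) * s⁻¹ * (q⁻¹ * t⁻¹) := by group
      _ = p * (t * q) * p⁻¹ * (q⁻¹ * t⁻¹) := by rw [(hs _).eq, mul_inv_cancel_right]
      _ = p * t * q * p⁻¹ * q⁻¹ * t⁻¹ := by group
      _ = t * (p * q * p⁻¹ * q⁻¹) * t⁻¹ := by rw [← (ht p).eq]; group
      _ = p * q * p⁻¹ * q⁻¹ := by rw [(ht _).eq, mul_inv_cancel_right]
  rw [e, commutatorElement_def]
  exact N.mul_mem (N.mul_mem (N.mul_mem hp hq) (N.inv_mem hp)) (N.inv_mem hq)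

namespace M22

variable (H : M22 D)
include H

/-- An involution with quasisimple centraliser `2.U₆(2)` is a member. -/
theorem mem_of_quasisimple [Nonempty D] {d : G} (hq : QuasiInvol d) :
    d ∈ D ∧ commutator ↥(Subgroup.centralizer ({d} : Set G)) = ⊤ ∧
      Subgroup.centralizer ({d} : Set G) = Subgroup.closure (Dc D d) := by
  classical
  obtain ⟨hd, ⟨hperf', -⟩, hZn, K, iK, iKf, hK, ⟨e0⟩⟩ := hq
  set C := Subgroup.centralizer ({d} : Set G) with hC
  set Z := (Subgroup.zpowers d).subgroupOf C with hZdef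
  have hperf : commutator ↥C = ⊤ := hperf'.commutator_eq_top
  have hd2 : d * d = 1 := by
    have := pow_orderOf_eq_one d; rwa [hd, pow_two] at this
  have hd1 : d ≠ 1 := fun e => by rw [e, orderOf_one] at hd; norm_num at hd
  have hdC : d ∈ C := Subgroup.mem_centralizer_singleton_iff.2 rfl
  have hCcomm : ∀ {x}, x ∈ C → Commute x d := fun h => Subgroup.mem_centralizer_singleton_iff.1 h
  have hK' : Fintype.card K = 2 ^ 2 := by rw [hK]; norm_num
  let c := U6.ctx_of_card hK'
  let f := e0.trans (centerQuotientCongr (suEquiv hK'))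
  let ψ : ↥C →* SUH (Forms.hermB hK' 6) ⧸ Subgroup.center (SUH (Forms.hermB hK' 6)) :=
    f.toMonoidHom.comp (QuotientGroup.mk' Z)
  have hψ : Function.Surjective ψ := f.surjective.comp (QuotientGroup.mk'_surjective _)
  have hker : ∀ x, ψ x = 1 → (x : G) = 1 ∨ (x : G) = d := fun x hx => by
    have hx' : QuotientGroup.mk' Z x = 1 := f.injective (hx.trans (map_one f).symm)
    obtain ⟨n, hn⟩ := Subgroup.mem_subgroupOf.1 ((QuotientGroup.eq_one_iff x).1 hx')
    obtain ⟨k, hk⟩ := Int.even_or_odd' n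
    have hd2' : d ^ (2 : ℤ) = 1 := by rw [zpow_two]; exact hd2
    rcases hk with rfl | rfl
    · exact Or.inl (by rw [← hn]; simp [zpow_mul, hd2'])
    · exact Or.inr (by rw [← hn]; simp [zpow_add, zpow_mul, hd2'])
  have hkerC : ∀ x, ψ x = 1 → ∀ y, Commute x y := fun x hx y => Subtype.ext (by
    rcases hker x hx with h | h <;> simp only [Subgroup.coe_mul, h]
    · simp
    · exact (hCcomm y.2).eq.symm)
  haveI hU : IsSimpleGroup (PSU 6 K 2) :=
    PSU_isSimpleGroup (q := 2) (by rw [hK]; norm_num) (by norm_num) (by norm_num)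
  haveI : IsSimpleGroup (SUH (Forms.hermB hK' 6) ⧸ Subgroup.center (SUH (Forms.hermB hK' 6))) :=
    MulEquiv.isSimpleGroup (centerQuotientCongr (suEquiv hK')).symm
  have hcard : 2 ^ 15 ∣ Nat.card
      (SUH (Forms.hermB hK' 6) ⧸ Subgroup.center (SUH (Forms.hermB hK' 6))) := by
    rw [← Nat.card_congr (centerQuotientCongr (suEquiv hK')).toEquiv]
    exact dvd_card_PSU6 hK
  have top_of : ∀ (N : Subgroup ↥C) [N.Normal] (n : ↥C), n ∈ N → ψ n ≠ 1 → N = ⊤ :=
    fun N _ n hn hne => eq_top_of_notMem hperf ψ hψ hkerC N hn hne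
  -- an invariant set of at most six elements is fixed pointwise
  have small : ∀ W : Set G, W.ncard ≤ 6 → (∀ k ∈ C, ∀ w ∈ W, k * w * k⁻¹ ∈ W) →
      ∀ k ∈ C, ∀ w ∈ W, k * w * k⁻¹ = w := by
    intro W hW hinv
    have := Fintype.ofFinite ↥W
    let φ : ↥C →* Equiv.Perm ↥W :=
      { toFun := fun g =>
          { toFun := fun x => ⟨g * x * (g : G)⁻¹, hinv g g.2 x x.2⟩
            invFun := fun x => ⟨(g : G)⁻¹ * x * g, by
              have := hinv _ (C.inv_mem g.2) x x.2
              rwa [inv_inv] at this⟩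
            left_inv := fun x => Subtype.ext (by simp [mul_assoc])
            right_inv := fun x => Subtype.ext (by simp [mul_assoc]) }
        map_one' := Equiv.ext fun x => Subtype.ext (by simp)
        map_mul' := fun g k => Equiv.ext fun x => Subtype.ext (by simp [mul_assoc]) }
    have htop : φ.ker = ⊤ := by
      by_contra hne
      have hle : φ.ker ≤ ψ.ker := fun n hn => by
        by_contra h
        exact hne (top_of φ.ker n hn h)
      let g : φ.range →* SUH (Forms.hermB hK' 6) ⧸ Subgroup.center (SUH (Forms.hermB hK' 6)) :=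
        (φ.rangeRestrict).liftOfSurjective φ.rangeRestrict_surjective ⟨ψ, by
          rw [MonoidHom.ker_rangeRestrict]; exact hle⟩
      have hg : Function.Surjective g := fun y => by
        obtain ⟨x, rfl⟩ := hψ y
        exact ⟨φ.rangeRestrict x, MonoidHom.liftOfRightInverse_comp_apply _ _ _ _ x⟩
      have h1 := (hcard.trans (Subgroup.card_dvd_of_surjective g hg)).trans
        (Subgroup.card_subgroup_dvd_card φ.range)
      rw [Nat.card_perm, Nat.card_coe_set_eq] at h1
      generalize W.ncard = n at h1 hW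
      interval_cases n <;> simp [Nat.factorial] at h1
    intro k hk w hw
    have h : φ ⟨k, hk⟩ = 1 := MonoidHom.mem_ker.1 (by rw [htop]; exact Subgroup.mem_top _)
    exact congrArg Subtype.val (Equiv.ext_iff.1 h ⟨w, hw⟩)
  have not_fixed : ∀ {p}, p ∈ C → p ≠ 1 → p ≠ d → ¬ ∀ k ∈ C, k * p * k⁻¹ = p := by
    intro p hp h1 h2 hall
    have hne : ψ ⟨p, hp⟩ ≠ 1 := fun h => (hker _ h).elim h1 h2
    have hN : (Subgroup.center ↥C).Normal := inferInstance
    have := top_of (Subgroup.center ↥C) ⟨p, hp⟩ (Subgroup.mem_center_iff.2 fun k => Subtype.ext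
      (mul_inv_eq_iff_eq_mul.1 (hall k k.2))) hne
    have hab : commutator ↥C = ⊥ := by
      rw [commutator_def, Subgroup.commutator_eq_bot_iff_le_centralizer]
      intro x _
      exact Subgroup.mem_centralizer_iff.2 fun y _ =>
        Subgroup.mem_center_iff.1 (this ▸ Subgroup.mem_top x) y
    rw [hperf] at hab
    exact hne (by
      have : (⟨p, hp⟩ : ↥C) ∈ (⊥ : Subgroup ↥C) := hab ▸ Subgroup.mem_top _
      rw [Subgroup.mem_bot.1 this, map_one])
  -- `d` is a member
  have hdD : d ∈ D := by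
    obtain ⟨e, he, hde⟩ := H.exists_fixed hd2
    by_cases hed : e = d
    · exact hed ▸ he
    have he1 : e ≠ 1 := ne_one H.grp.1 he
    have heC : e ∈ C := Subgroup.mem_centralizer_singleton_iff.2 hde.eq.symm
    have hne : ψ ⟨e, heC⟩ ≠ 1 := fun h => (hker _ h).elim he1 hed
    set S : Set G := D ∩ C with hSdef
    have hSinv : ∀ k ∈ C, ∀ x ∈ S, k * x * k⁻¹ ∈ S := fun k hk x hx =>
      ⟨H.conj_mem k hx.1, C.mul_mem (C.mul_mem hk hx.2) (C.inv_mem hk)⟩
    have hclS : Subgroup.closure S = C := by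
      refine le_antisymm ((Subgroup.closure_le _).2 Set.inter_subset_right) fun x hx => ?_
      haveI : ((Subgroup.closure S).subgroupOf C).Normal := ⟨fun n hn g => by
        rw [Subgroup.mem_subgroupOf] at hn ⊢
        refine Subgroup.closure_induction (p := fun y _ => (g : G) * y * (g : G)⁻¹ ∈ Subgroup.closure S)
          (fun y hy => Subgroup.subset_closure (hSinv g g.2 y hy)) (by simp) ?_ ?_ hn
        · intro y z _ _ hy hz
          have := mul_mem hy hz
          rwa [show (g : G) * y * (g : G)⁻¹ * ((g : G) * z * (g : G)⁻¹) = g * (y * z) * (g : G)⁻¹ by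
            group] at this
        · intro y _ hy
          have := inv_mem hy
          rwa [show ((g : G) * y * (g : G)⁻¹)⁻¹ = g * y⁻¹ * (g : G)⁻¹ by group] at this⟩
      have := top_of ((Subgroup.closure S).subgroupOf C) ⟨e, heC⟩
        (Subgroup.mem_subgroupOf.2 (Subgroup.subset_closure ⟨he, heC⟩)) hne
      exact Subgroup.mem_subgroupOf.1 (this ▸ Subgroup.mem_top (⟨x, hx⟩ : ↥C))
    have hS1 : (1 : G) ∉ S := fun h => ne_one H.grp.1 h.1 rfl
    have hTr : Tr (S \ {1}) := by
      rw [Set.sdiff_singleton_eq_self hS1]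
      exact H.tr.of_subset Set.inter_subset_left fun x hx y hy =>
        ⟨H.tr.conj x hx.1 y hy.1, C.mul_mem (C.mul_mem hx.2 hy.2) hx.2⟩
    let ι : ↥(Subgroup.closure S) →* ↥C := Subgroup.inclusion hclS.le
    have hι : Function.Surjective (ψ.comp ι) := hψ.comp fun x =>
      ⟨⟨x.1, hclS.ge x.2⟩, rfl⟩
    obtain ⟨u, hu, hu0, eu⟩ := exists_pt c hTr (ψ.comp ι) hι
      (x := ⟨e, Subgroup.subset_closure ⟨he, heC⟩⟩) ⟨⟨he, heC⟩, he1⟩ hne
    obtain ⟨w, hw, huw, hwm⟩ := c.exists_orth hu
    obtain ⟨o, ho0, ho, hso, -⟩ := c.exists_omega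
    have hwu := c.form.comm_zero huw
    have mem : ∀ v (hv : Forms.hermB hK' 6 v v = 0), v ≠ 0 →
        ∃ (x : ↥C), (x : G) ∈ D ∧ ψ x = U6.pt c v hv := fun v hv hv0 => by
      obtain ⟨k, hk⟩ := U6.pt_exists_conj c hu hv hu0 hv0
      obtain ⟨y, rfl⟩ := hψ k
      refine ⟨y * ⟨e, heC⟩ * y⁻¹, H.conj_mem _ he, ?_⟩
      rw [map_mul, map_mul, map_inv, ← hk, ← eu]
      rfl
    have hcomm : ∀ {x y : ↥C} {p q} {hp hq}, (x : G) ∈ D → (y : G) ∈ D → ψ x = U6.pt c p hp →
        ψ y = U6.pt c q hq → Forms.hermB hK' 6 p q = 0 → Commute (x : G) (y : G) := by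
      intro x y p q hp hq hx hy ex ey hpq
      by_contra hne'
      have h3 := pow_three_of_not_commute H.grp.1 hx hy hne'
      have hc := (U6.pt_commute_iff c hp hq).2 hpq
      rw [← ex, ← ey] at hc
      have h2 : ψ ((x * y) * (x * y)) = 1 := by
        rw [map_mul, map_mul, hc.symm.mul_mul_mul_comm, ← map_mul, ← map_mul, ← map_mul,
          show x * x = 1 from Subtype.ext (sq_one H.grp.1 hx),
          show y * y = 1 from Subtype.ext (sq_one H.grp.1 hy), one_mul, map_one]
      apply hne'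
      rw [commute_iff_sq H.grp.1 hx hy]
      rw [pow_succ, pow_two] at h3
      rcases hker _ h2 with h | h <;> simp only [Subgroup.coe_mul] at h
      · rw [pow_two]; exact h
      · rw [h] at h3
        have h4 : d = (x : G) * y := by
          rw [eq_inv_of_mul_eq_one_right h3, inv_eq_of_mul_eq_one_left hd2]
        rw [← h4, hd2] at h
        exact absurd h.symm hd1
    have hiso : ∀ l : K, Forms.hermB hK' 6 (u + l • w) (u + l • w) = 0 := fun l => by
      simp [hu, hw, huw, hwu]
    have hindep : ∀ m n : K, m • u + n • w = 0 → m = 0 ∧ n = 0 := fun m n h => by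
      have hn : n = 0 := by
        by_contra hn
        refine hwm (-(n⁻¹ * m)) ?_
        rw [← inv_smul_smul₀ hn w, eq_neg_of_add_eq_zero_right h, smul_neg, smul_smul, neg_smul]
      refine ⟨?_, hn⟩
      rw [hn, zero_smul, add_zero] at h
      exact (smul_eq_zero.1 h).resolve_right hu0
    have hw0 : w ≠ 0 := fun e => hwm 0 (by rw [e, zero_smul])
    have hl0 : ∀ l : K, u + l • w ≠ 0 := fun l e =>
      one_ne_zero (hindep 1 l (by rw [one_smul]; exact e)).1
    obtain ⟨x₂, m₂, e₂⟩ := mem w hw hw0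
    obtain ⟨x₃, m₃, e₃⟩ := mem _ (hiso 1) (hl0 1)
    obtain ⟨x₄, m₄, e₄⟩ := mem _ (hiso o) (hl0 o)
    obtain ⟨x₅, m₅, e₅⟩ := mem _ (hiso (o * o)) (hl0 _)
    have eu' : ψ ⟨e, heC⟩ = U6.pt c u hu := eu
    have hP : ψ (⟨e, heC⟩ * x₂ * x₃ * x₄ * x₅) = 1 := by
      simp only [map_mul, eu', e₂, e₃, e₄, e₅]
      exact U6.five_prod c hu hw huw ho hso (hiso 1) (hiso o) (hiso (o * o))
    have huo : ∀ l : K, Forms.hermB hK' 6 u (u + l • w) = 0 := fun l => by simp [hu, huw]
    have hwo : ∀ l : K, Forms.hermB hK' 6 w (u + l • w) = 0 := fun l => by simp [hw, hwu]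
    have hoo : ∀ l m : K, Forms.hermB hK' 6 (u + l • w) (u + m • w) = 0 := fun l m => by
      simp [hu, hw, huw, hwu]
    have c12 := hcomm (x := ⟨e, heC⟩) he m₂ eu' e₂ huw
    have c13 := hcomm (x := ⟨e, heC⟩) he m₃ eu' e₃ (huo _)
    have c14 := hcomm (x := ⟨e, heC⟩) he m₄ eu' e₄ (huo _)
    have c15 := hcomm (x := ⟨e, heC⟩) he m₅ eu' e₅ (huo _)
    have c23 := hcomm m₂ m₃ e₂ e₃ (hwo _)
    have c24 := hcomm m₂ m₄ e₂ e₄ (hwo _)
    have c25 := hcomm m₂ m₅ e₂ e₅ (hwo _)
    have c34 := hcomm m₃ m₄ e₃ e₄ (hoo _ _)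
    have c35 := hcomm m₃ m₅ e₃ e₅ (hoo _ _)
    have c45 := hcomm m₄ m₅ e₄ e₅ (hoo _ _)
    rcases hker _ hP with hP1 | hPd <;> simp only [Subgroup.coe_mul] at *
    · -- five members do not multiply to one
      exfalso
      have hdist : ∀ {x y : ↥C} {p q} {hp hq}, ψ x = U6.pt c p hp → ψ y = U6.pt c q hq → q ≠ 0 →
          (∀ m : K, q ≠ m • p) → (x : G) ≠ y := by
        intro x y p q hp hq ex ey hq0 hm h
        obtain ⟨m, e⟩ := U6.pt_eq_imp c hp hq hq0 (by rw [← ex, ← ey, Subtype.ext h])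
        exact hm m e
      have hum : ∀ (l m : K), l ≠ 0 → u + l • w ≠ m • u := fun l m hl h => hl
        (hindep (1 - m) l (by rw [sub_smul, one_smul, sub_add_eq_add_sub, h, sub_self])).2
      have hwm' : ∀ (l m : K), u + l • w ≠ m • w := fun l m h => one_ne_zero
        (hindep 1 (l - m) (by rw [one_smul, sub_smul, ← add_sub_assoc, h, sub_self])).1
      have hlm : ∀ (l l' m : K), l ≠ l' → u + l' • w ≠ m • (u + l • w) := fun l l' m hl h => by
        obtain ⟨k1, k2⟩ := hindep (1 - m) (l' - m * l) (by rw [← sub_eq_zero.2 h]; module)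
        rw [← sub_eq_zero.1 k1, one_mul] at k2
        exact hl (sub_eq_zero.1 k2).symm
      have ho1 : (1 : K) ≠ o := fun h => by
        subst h; exact one_ne_zero (α := K) (by linear_combination ho - c.two)
      have n12 : e ≠ x₂ := hdist (x := ⟨e, heC⟩) eu' e₂ hw0 hwm
      have n13 : e ≠ x₃ := hdist (x := ⟨e, heC⟩) eu' e₃ (hl0 _) fun m => hum _ m one_ne_zero
      have n14 : e ≠ x₄ := hdist (x := ⟨e, heC⟩) eu' e₄ (hl0 _) fun m => hum _ m ho0
      have n15 : e ≠ x₅ := hdist (x := ⟨e, heC⟩) eu' e₅ (hl0 _) fun m => hum _ m (mul_ne_zero ho0 ho0)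
      have n23 : (x₂ : G) ≠ x₃ := hdist e₂ e₃ (hl0 _) fun m => hwm' _ m
      have n24 : (x₂ : G) ≠ x₄ := hdist e₂ e₄ (hl0 _) fun m => hwm' _ m
      have n34 : (x₃ : G) ≠ x₄ := hdist e₃ e₄ (hl0 _) fun m => hlm _ _ m ho1
      exact H.five_ne_one he ⟨m₂, n12.symm, c12⟩ ⟨m₃, n13.symm, c13⟩ ⟨m₄, n14.symm, c14⟩
        ⟨m₅, n15.symm, c15⟩ n23 n24 n34 c23 c24 c34 c25 c35 c45 hP1
    -- `d` is a product of commuting members
    obtain ⟨l, hnd, hlen, hlD, hlc, hlp⟩ := H.exists_short [e, (x₂ : G), x₃, x₄, x₅]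
      (by simp [he, m₂, m₃, m₄, m₅]) (by
        simp only [List.mem_cons, List.not_mem_nil, or_false, forall_eq_or_imp, forall_eq]
        exact ⟨⟨Commute.refl _, c12, c13, c14, c15⟩, ⟨c12.symm, Commute.refl _, c23, c24, c25⟩,
          ⟨c13.symm, c23.symm, Commute.refl _, c34, c35⟩, ⟨c14.symm, c24.symm, c34.symm, Commute.refl _, c45⟩,
          ⟨c15.symm, c25.symm, c35.symm, c45.symm, Commute.refl _⟩⟩)
    have hld : l.prod = d := hlp.trans (by simpa [mul_assoc] using hPd)
    match l, hlen with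
    | [], _ => exact absurd hld.symm hd1
    | [p], _ => simp at hld hlD; exact hld ▸ hlD
    | [p, q], _ =>
      exfalso
      simp at hnd hlD hld
      have cpq : Commute p q := hlc p (by simp) q (by simp)
      have hpC : p ∈ C := Subgroup.mem_centralizer_singleton_iff.2
        (by rw [← hld]; exact ((Commute.refl p).mul_right cpq).eq)
      refine not_fixed hpC (ne_one H.grp.1 hlD.1)
        (fun h => ne_one H.grp.1 hlD.2 (mul_eq_left.1 (hld.trans h.symm))) fun k hk =>
        small {w | ∃ y, w ∈ D ∧ y ∈ D ∧ w ≠ y ∧ Commute w y ∧ w * y = d} ?_ ?_ k hk p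
          ⟨q, hlD.1, hlD.2, hnd, cpq, hld⟩
      · refine ((Set.ncard_le_ncard (t := ({p, q} : Set G)) ?_ (Set.toFinite _)).trans
          ((Set.ncard_insert_le _ _).trans (by rw [Set.ncard_singleton]))).trans (by norm_num)
        rintro w ⟨y, hw, hy, hwy, cwy, e'⟩
        exact mem_of_prod_two H.tr H.noTwin₂ hw hy hlD.1 hlD.2 hwy hnd cwy cpq (e'.trans hld.symm)
      · rintro k hk w ⟨y, hw, hy, hwy, cwy, e'⟩
        exact ⟨k * y * k⁻¹, H.conj_mem k hw, H.conj_mem k hy,
          fun h => hwy (mul_left_cancel (mul_right_cancel h)), (commute_conj_iff k).2 cwy, by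
            rw [show k * w * k⁻¹ * (k * y * k⁻¹) = k * (w * y) * k⁻¹ by group, e',
              mul_inv_eq_iff_eq_mul]
            exact Subgroup.mem_centralizer_singleton_iff.1 hk⟩
    | [p, q, r], _ =>
      exfalso
      simp at hnd hlD hld
      have cpq : Commute p q := hlc p (by simp) q (by simp)
      have cpr : Commute p r := hlc p (by simp) r (by simp)
      have cqr : Commute q r := hlc q (by simp) r (by simp)
      have hpC : p ∈ C := Subgroup.mem_centralizer_singleton_iff.2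
        (by rw [← hld]; exact ((Commute.refl p).mul_right (cpq.mul_right cpr)).eq)
      obtain ⟨g₁, g₂, g₃, -, -, hall, -⟩ := H.triple hlD.1 (b := q) (c := r)
        ⟨hlD.2.1, Ne.symm hnd.1.1, cpq⟩ ⟨⟨hlD.2.2, Ne.symm hnd.1.2, cpr⟩, Ne.symm hnd.2, cqr⟩
      refine not_fixed hpC (ne_one H.grp.1 hlD.1) (fun h => ?_) fun k hk =>
        small {w | ∃ y z, w ∈ D ∧ y ∈ D ∧ z ∈ D ∧ w ≠ y ∧ w ≠ z ∧ y ≠ z ∧ Commute w y ∧
          Commute w z ∧ Commute y z ∧ w * y * z = d} ?_ ?_ k hk p
          ⟨q, r, hlD.1, hlD.2.1, hlD.2.2, hnd.1.1, hnd.1.2, hnd.2, cpq, cpr, cqr,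
            by rw [← hld, mul_assoc]⟩
      · have : q * r = 1 := mul_eq_left.1 (hld.trans h.symm)
        exact hnd.2 (by rw [eq_inv_of_mul_eq_one_left this, inv_eq H.grp.1 hlD.2.2])
      · refine (Set.ncard_le_ncard (t := ({p, q, r, g₁, g₂, g₃} : Set G)) ?_ (Set.toFinite _)).trans ?_
        · rintro w ⟨y, z, hw, hy, hz, h1, h2, h3, k1, k2, k3, e'⟩
          rcases mem_or_twin H.tr H.noTwin₂ hlD.1 hlD.2.1 hlD.2.2 hw hy hz hnd.1.1 hnd.1.2 hnd.2
            cpq cpr cqr h1 h2 h3 k1 k2 k3 (by rw [e', ← hld, mul_assoc]) with (h | h | h) | h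
          · simp [h]
          · -- `p` is the second factor, so `w` is one of the other two
            subst h
            have he2 : w * z = q * r := mul_left_cancel (a := p) (by
              rw [← mul_assoc, ← k1.eq, e', hld])
            rcases mem_of_prod_two H.tr H.noTwin₂ hw hz hlD.2.1 hlD.2.2 h2 hnd.2 k2 cqr he2 with h | h <;>
              simp [h]
          · subst h
            have he2 : w * y = q * r := mul_left_cancel (a := p) (by
              rw [(show Commute p (w * y) from k2.symm.mul_right k3.symm).eq, e', hld])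
            rcases mem_of_prod_two H.tr H.noTwin₂ hw hy hlD.2.1 hlD.2.2 h1 hnd.2 k1 cqr he2 with h | h <;>
              simp [h]
          · rcases hall w h with h | h | h <;> simp [h]
        · calc _ ≤ _ := Set.ncard_insert_le _ _
            _ ≤ 5 + 1 := Nat.add_le_add_right ((Set.ncard_insert_le _ _).trans (Nat.add_le_add_right
              ((Set.ncard_insert_le _ _).trans (Nat.add_le_add_right ((Set.ncard_insert_le _ _).trans
                (Nat.add_le_add_right ((Set.ncard_insert_le _ _).trans (by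
                  rw [Set.ncard_singleton])) 1)) 1)) 1)) 1
      · rintro k hk w ⟨y, z, hw, hy, hz, h1, h2, h3, k1, k2, k3, e'⟩
        refine ⟨k * y * k⁻¹, k * z * k⁻¹, H.conj_mem k hw, H.conj_mem k hy, H.conj_mem k hz,
          fun h => h1 (mul_left_cancel (mul_right_cancel h)),
          fun h => h2 (mul_left_cancel (mul_right_cancel h)),
          fun h => h3 (mul_left_cancel (mul_right_cancel h)),
          (commute_conj_iff k).2 k1, (commute_conj_iff k).2 k2, (commute_conj_iff k).2 k3, ?_⟩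
        rw [show k * w * k⁻¹ * (k * y * k⁻¹) * (k * z * k⁻¹) = k * (w * y * z) * k⁻¹ by group, e',
          mul_inv_eq_iff_eq_mul]
        exact Subgroup.mem_centralizer_singleton_iff.1 hk
  refine ⟨hdD, hperf, le_antisymm (fun x hx => ?_)
    ((Subgroup.closure_le _).2 fun y hy => Subgroup.mem_centralizer_singleton_iff.2 hy.2.2.eq.symm)⟩
  haveI : ((Subgroup.closure (Dc D d)).subgroupOf C).Normal := ⟨fun n hn g => by
    rw [Subgroup.mem_subgroupOf] at hn ⊢
    have hg : (g : G) * d * (g : G)⁻¹ = d := by rw [(hCcomm g.2).eq, mul_inv_cancel_right]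
    have hc := (stab_of_normal H.grp (g : G)).carries.dc d
    rw [hg] at hc
    have : (Subgroup.closure (Dc D d)).map (MulAut.conj (g : G)).toMonoidHom ≤
        Subgroup.closure (Dc D d) := by
      rw [MonoidHom.map_closure, Subgroup.closure_le]
      rintro _ ⟨y, hy, rfl⟩
      exact Subgroup.subset_closure (hc.1 y hy)
    exact this (Subgroup.mem_map_of_mem _ hn)⟩
  obtain ⟨b, hb⟩ := (H.model d hdD).1
  have hbC : b ∈ C := Subgroup.mem_centralizer_singleton_iff.2 hb.2.2.eq.symm
  have := top_of ((Subgroup.closure (Dc D d)).subgroupOf C) ⟨b, hbC⟩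
    (Subgroup.mem_subgroupOf.2 (Subgroup.subset_closure hb))
    fun h => (hker _ h).elim (ne_one H.grp.1 hb.1) hb.2.1
  exact Subgroup.mem_subgroupOf.1 (this ▸ Subgroup.mem_top (⟨x, hx⟩ : ↥C))

/-- An involution of the image of the members commuting with `a` is a product of commuting ones. -/
theorem exists_prod {a : G} (ha : a ∈ D) (M : Model D a) (g : SUH M.h) (hg : g * g = 1) :
    ∃ (L : List G) (y : ↥(Subgroup.closure (Dc D a))), (∀ x ∈ L, x ∈ Dc D a) ∧
      (∀ x ∈ L, ∀ z ∈ L, Commute x z) ∧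
      (∀ (x : G) (u : Fin 6 → M.F), M.IsPt x u → g • u = u → ∀ z ∈ L, Commute x z) ∧ (y : G) = L.prod ∧
      M.ψ y = QuotientGroup.mk g := by
  classical
  have : Finite (Fin 6 → M.F) := inferInstance
  generalize hn : Nat.card {v : Fin 6 → M.F // g • v ≠ v} = n
  induction n using Nat.strong_induction_on generalizing g with
  | _ n ih =>
    by_cases hg1 : g = 1
    · exact ⟨[], 1, by simp, by simp, by simp, rfl, by simp [hg1]⟩
    obtain ⟨v, hv⟩ := U6.exists_pair M.c hg hg1
    have hgg : ∀ w : Fin 6 → M.F, g • g • w = w := fun w => by rw [← mul_smul, hg, one_smul]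
    generalize hadef : g • v + v = q at hv
    have hsym : ∀ w : Fin 6 → M.F, M.h v (g • w) = M.h (g • v) w := fun w => by rw [← U6.isom M.c g, hgg]
    have hqq : M.h q q = 0 := by
      rw [← hadef]
      simp only [map_add, LinearMap.add_apply, U6.isom M.c, hsym v]
      linear_combination (M.h v v + M.h (g • v) v) * M.c.two
    have hgq : g • q = q := by rw [← hadef, smul_add, hgg, add_comm]
    have hq0 : q ≠ 0 := fun e => by simp [e] at hv
    have hqv : M.h q v = 1 := by rw [M.c.form.swap v q, hv, map_one]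
    have hperp : ∀ w : Fin 6 → M.F, g • w = w → M.h q w = 0 := fun w hw => by
      rw [← hadef, map_add, LinearMap.add_apply, ← hsym, hw, M.c.addF]
    have hct : Commute g (U6.tv M.c q hqq) := U6.tv_commute_of_fix M.c g hqq hgq
    set g₁ := g * U6.tv M.c q hqq with hg₁
    have hg₁2 : g₁ * g₁ = 1 := by
      rw [hg₁, hct.symm.mul_mul_mul_comm, hg, U6.tv_sq, mul_one]
    have hfix : ∀ w : Fin 6 → M.F, g • w = w → g₁ • w = w := fun w hw => by
      rw [hg₁, mul_smul, U6.tv_smul, hperp w hw, zero_smul, add_zero, hw]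
    have h1v : g₁ • v = v := by
      rw [hg₁, mul_smul, U6.tv_smul, hqv, one_smul, smul_add, hgq]
      conv_lhs => rw [← hadef, ← add_assoc, M.c.addV, zero_add]
    have hlt : Nat.card {w : Fin 6 → M.F // g₁ • w ≠ w} < n := by
      rw [← hn]
      change Nat.card ({w : Fin 6 → M.F | g₁ • w ≠ w} : Set (Fin 6 → M.F)) <
        Nat.card ({w : Fin 6 → M.F | g • w ≠ w} : Set (Fin 6 → M.F))
      rw [Nat.card_coe_set_eq, Nat.card_coe_set_eq]
      refine Set.ncard_lt_ncard ⟨fun w hw e => hw (hfix w e), fun hle => ?_⟩ (Set.toFinite _)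
      exact hle (show g • v ≠ v from fun e => hq0 (by rw [← hadef, e, M.c.addV])) h1v
    obtain ⟨L, y, hL, hc, hcfix, hy, hψy⟩ := ih _ hlt g₁ hg₁2 rfl
    obtain ⟨x, hx⟩ := M.exists_mem H ha hqq hq0
    refine ⟨L ++ [x], y * ⟨x, Subgroup.subset_closure hx.mem⟩, ?_, ?_, ?_, by simp [hy], ?_⟩
    · simpa [or_imp, forall_and] using ⟨hL, hx.mem⟩
    · have hxL : ∀ z ∈ L, Commute x z := hcfix x q hx (hfix q hgq)
      intro p hp r hr
      simp only [List.mem_append, List.mem_singleton] at hp hr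
      rcases hp with hp | rfl <;> rcases hr with hr | rfl
      exacts [hc p hp r hr, (hxL p hp).symm, hxL r hr, Commute.refl _]
    · intro p u hp hgu r hr
      simp only [List.mem_append, List.mem_singleton] at hr
      rcases hr with hr | rfl
      · exact hcfix p u hp (hfix u hgu) r hr
      · exact (M.comm_iff H ha hp hx).2 (M.c.form.comm_zero (hperp u hgu))
    · rw [map_mul, hψy, hx.2.2.2, U6.pt, ← QuotientGroup.mk_mul, hg₁, mul_assoc, U6.tv_sq, mul_one]

/-- The consequences of perfect centralisers generated by commuting members. -/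
theorem full_of [Nonempty D] {d : G} (hd : d ∈ D)
    (hperf : commutator ↥(Subgroup.centralizer ({d} : Set G)) = ⊤)
    (hcentall : ∀ a ∈ D, Subgroup.centralizer ({a} : Set G) = Subgroup.closure (Dc D a)) :
    M22.Full D := by
  refine ⟨hcentall, fun a ha => ?_, fun t ht => ?_⟩
  · obtain ⟨g, rfl⟩ := H.trans d hd a ha
    let κ : ↥(Subgroup.centralizer ({d} : Set G)) →* ↥(Subgroup.centralizer ({g * d * g⁻¹} : Set G)) :=
      ((MulAut.conj g).toMonoidHom.comp (Subgroup.subtype _)).codRestrict _ fun x =>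
        Subgroup.mem_centralizer_singleton_iff.2
          ((commute_conj_iff g).2 (Subgroup.mem_centralizer_singleton_iff.1 x.2) : Commute _ _).eq
    have hle := Abelianization.commutator_subset_ker
      (G := ↥(Subgroup.centralizer ({d} : Set G))) ((Abelianization.of).comp κ)
    rw [hperf] at hle
    rw [eq_top_iff]
    intro x _
    have hx : g⁻¹ * (x : G) * g ∈ Subgroup.centralizer ({d} : Set G) :=
      Subgroup.mem_centralizer_singleton_iff.2 (show Commute (g⁻¹ * (x : G) * g) d by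
        refine (commute_conj_iff g).1 ?_
        rw [show g * (g⁻¹ * (x : G) * g) * g⁻¹ = x by group]
        exact Subgroup.mem_centralizer_singleton_iff.1 x.2).eq
    have h := hle (Subgroup.mem_top (⟨_, hx⟩ : ↥(Subgroup.centralizer ({d} : Set G))))
    rw [MonoidHom.mem_ker, MonoidHom.comp_apply, show κ ⟨_, hx⟩ = x from Subtype.ext (by
      show g * (g⁻¹ * (x : G) * g) * g⁻¹ = x
      group)] at h
    exact (QuotientGroup.eq_one_iff x).1 h
  obtain ⟨e, he, hte⟩ := H.exists_fixed ht
  obtain ⟨M⟩ := (H.model e he).2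
  have htm : t ∈ Subgroup.closure (Dc D e) :=
    hcentall e he ▸ Subgroup.mem_centralizer_singleton_iff.2 hte.eq
  obtain ⟨g, hg⟩ := QuotientGroup.mk_surjective (M.ψ ⟨t, htm⟩)
  have hβ : M.ψ ⟨t, htm⟩ * M.ψ ⟨t, htm⟩ = 1 := by
    rw [← map_mul, show (⟨t, htm⟩ : ↥(Subgroup.closure (Dc D e))) * ⟨t, htm⟩ = 1 from Subtype.ext ht,
      map_one]
  obtain ⟨α, hα1, hα⟩ := (U6.proj_eq_one_iff M.c (g * g)).1 (by rw [QuotientGroup.mk_mul, hg, hβ])
  have hα0 : α ≠ 0 := fun e => by simp [e] at hα1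
  have hg6 : (g * g * g) * (g * g * g) = 1 := U6.ext_smul M.c fun w => by
    rw [show g * g * g * (g * g * g) = (g * g) * ((g * g) * (g * g)) by group, one_smul]
    calc ((g * g) * ((g * g) * (g * g))) • w = (g * g) • (g * g) • (g * g) • w := by
          simp only [mul_smul]
      _ = α • α • α • w := by rw [hα, hα, hα]
      _ = w := by rw [smul_smul, smul_smul, M.c.cube α hα0, one_smul]
  obtain ⟨L, y, hL, hLc, -, hy, hψy⟩ := H.exists_prod he M _ hg6
  have hψ : M.ψ (y⁻¹ * ⟨t, htm⟩) = 1 := by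
    rw [map_mul, map_inv, hψy, QuotientGroup.mk_mul, QuotientGroup.mk_mul, hg, hβ, one_mul,
      inv_mul_cancel]
  have hz : ∀ p ∈ Dc D e, Commute ((y : G)⁻¹ * t) p := fun p hp =>
    (congrArg Subtype.val (Subgroup.mem_center_iff.1 ((M.ker _).1 hψ)
      ⟨p, Subgroup.subset_closure hp⟩) : p * ((y : G)⁻¹ * t) = (y : G)⁻¹ * t * p).symm
  have hye : Commute (y : G) e := by
    rw [hy]
    exact (Commute.list_prod_left L e fun x hx => (hL x hx).2.2.symm)
  rcases H.eq_one_or_eq he (hye.inv_left.mul_left hte) hz with h | h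
  · obtain ⟨l, h1, h2, h3, h4, h5⟩ := H.exists_short L (fun x hx => (hL x hx).1) hLc
    exact ⟨l, h1, h2, h3, h4, by rw [h5, ← hy, inv_mul_eq_one.1 h]⟩
  · obtain ⟨l, h1, h2, h3, h4, h5⟩ := H.exists_short (e :: L)
      (by simpa [he] using fun x hx => (hL x hx).1) (by
        intro p hp r hr
        simp only [List.mem_cons] at hp hr
        rcases hp with rfl | hp <;> rcases hr with rfl | hr
        exacts [Commute.refl _, (hL r hr).2.2, (hL p hp).2.2.symm, hLc p hp r hr])
    exact ⟨l, h1, h2, h3, h4, by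
      rw [h5, List.prod_cons, ← hy, inv_mul_eq_iff_eq_mul.1 h, hye.eq]⟩

/-- The consequences of a quasisimple involution centraliser `2.U₆(2)`. -/
theorem full [Nonempty D] {d : G} (hq : QuasiInvol d) : M22.Full D := by
  obtain ⟨hd, hperf, hcent⟩ := H.mem_of_quasisimple hq
  refine H.full_of hd hperf fun a ha => ?_
  refine le_antisymm (fun x hx => ?_)
    ((Subgroup.closure_le _).2 fun y hy => Subgroup.mem_centralizer_singleton_iff.2 hy.2.2.eq.symm)
  obtain ⟨g, rfl⟩ := H.trans d hd a ha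
  have h1 : g⁻¹ * x * g ∈ Subgroup.closure (Dc D d) := hcent ▸ Subgroup.mem_centralizer_singleton_iff.2
    (show Commute (g⁻¹ * x * g) d by
      refine (commute_conj_iff g).1 ?_
      rw [show g * (g⁻¹ * x * g) * g⁻¹ = x by group]
      exact Subgroup.mem_centralizer_singleton_iff.1 hx).eq
  have h2 : (Subgroup.closure (Dc D d)).map (MulAut.conj g).toMonoidHom ≤
      Subgroup.closure (Dc D (g * d * g⁻¹)) := by
    rw [MonoidHom.map_closure, Subgroup.closure_le]
    rintro _ ⟨y, hy, rfl⟩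
    exact Subgroup.subset_closure (((stab_of_normal H.grp g).carries.dc d).1 y hy)
  have := h2 (Subgroup.mem_map_of_mem _ h1)
  rwa [show (MulAut.conj g).toMonoidHom (g⁻¹ * x * g) = x by simp [mul_assoc]] at this

end M22

end Cfsg.Agent.Transpos
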