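import Cfsg.Agent.Lib.Transpos.M23Quasi
import Cfsg.Agent.Lib.Transpos.M22Cent
import Cfsg.Agent.Lib.Transpos.M22Blocks

/-!
# Centralisers of members and involutions in type M(23)

Charts exist at every member, the group is perfect, the centraliser of a member is generated by the
members commuting with it, and every involution is a product of at most three commuting members.
-/

set_option autoImplicit false

namespace Cfsg.Agent.Transpos

open Cfsg Cfsg.Agent.ClassicalSimple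

universe u

variable {G : Type u} [Group G] [Finite G] {D : Set G}

/-- A primitive group of type M(23) satisfies all of `M23`. -/
theorem M23.of_type (hD : IsThreeTranspositionGroup D) (hprim : IsPrimitiveUnderConj D)
    (h23 : IsOfTypeM23 G D) : M23 D := by
  have hpair : ∃ d ∈ D, (Dc D d).Nonempty := by
    obtain ⟨-, d₀, hd₀, -, -, -, h22, -⟩ := h23
    obtain ⟨β, ⟨x, hx, -⟩, -⟩ := exists_commuting_pair h22
    exact ⟨d₀, hd₀, x, hx⟩
  have hD1 : D \ {1} = D := Set.sdiff_singleton_eq_self fun h => ne_one hD.1 h rfl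
  obtain ⟨-, hgood, ha, -⟩ := m23_level (hD1.symm ▸ tr_of_group hD) hD.2.2 h23
  rw [hD1] at hgood ha
  exact ⟨hD, conn_of_primitive_pair hD hprim hpair, hprim.1, NoTwin.of_thin hgood.2 ha,
    sec_of_type hD hprim.1 (Or.inl h23), h23⟩

/-- Charts exist at every member. -/
theorem M23.charts (H : M23 D) : ∀ a ∈ D, Nonempty (Chart D a) := by
  obtain ⟨-, d, hd, -, -, -, h22, -⟩ := H.type
  have hgrp := H.qimg_group hd
  let C : Chart D d :=
    { Q := ↥(Subgroup.closure (Dc D d)) ⧸ Subgroup.center ↥(Subgroup.closure (Dc D d))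
      E := qimg (Dc D d)
      m22 := M22.of_type hgrp h22 (conn_of_type hgrp h22)
      π := qpi (Dc D d)
      surj := QuotientGroup.mk'_surjective _
      ker := fun x hx y => (Subgroup.mem_center_iff.1 ((QuotientGroup.eq_one_iff x).1 hx) y).symm
      map_mem := fun x hx => ⟨_, hx, rfl⟩
      lift := fun β hβ => by
        obtain ⟨x, hx, rfl⟩ := hβ
        exact ⟨x, hx, rfl⟩ }
  intro a ha
  obtain ⟨k, rfl⟩ := H.trans d hd a ha
  exact ⟨C.conj H k⟩

/-- Every member commutes with another. -/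
theorem M23.dc_nonempty (H : M23 D) {a : G} (ha : a ∈ D) : (Dc D a).Nonempty := by
  obtain ⟨-, d, hd, -, -, -, h22, -⟩ := H.type
  obtain ⟨β, ⟨x, hx, -⟩, -⟩ := exists_commuting_pair h22
  obtain ⟨g, rfl⟩ := H.trans d hd a ha
  exact ⟨_, ((stab_of_normal H.grp g).carries.dc d).1 x hx⟩

/-- `a` with three commuting members is the product of three others. -/
theorem M23.six (H : M23 D) {a : G} (ha : a ∈ D) : ∃ p q r f₁ f₂ f₃ : G,
    (p ∈ Dc D a ∧ q ∈ Dc D a ∧ r ∈ Dc D a) ∧ (f₁ ∈ Dc D a ∧ f₂ ∈ Dc D a ∧ f₃ ∈ Dc D a) ∧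
      p * q * r = f₁ * f₂ * f₃ * a := by
  obtain ⟨C⟩ := H.charts a ha
  obtain ⟨p, hp⟩ := H.dc_nonempty ha
  obtain ⟨β, hβ⟩ := (C.m22.model _ (C.img_mem hp)).1
  obtain ⟨q, hq, rfl⟩ := C.lift β hβ.1
  change C.img hq ∈ _ at hβ
  obtain ⟨γ, hγ⟩ := (C.m22.line _ (C.img_mem hp)).1 _ hβ
  obtain ⟨r, hr, rfl⟩ := C.lift γ hγ.1.1
  change C.img hr ∈ _ at hγ
  obtain ⟨f₁, f₂, f₃, ⟨t1, t2, t3⟩, ⟨n12, n13, n23⟩, -, he⟩ := C.m22.triple (C.img_mem hp) hβ hγ
  have k12 := M22.twin_commute t1 t2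
  have k13 := M22.twin_commute t1 t3
  have k23 := M22.twin_commute t2 t3
  obtain ⟨f₁, hf₁, rfl⟩ := C.lift f₁ t1.1.1.1
  obtain ⟨f₂, hf₂, rfl⟩ := C.lift f₂ t2.1.1.1
  obtain ⟨f₃, hf₃, rfl⟩ := C.lift f₃ t3.1.1.1
  refine ⟨p, q, r, f₁, f₂, f₃, ⟨hp, hq, hr⟩, ⟨hf₁, hf₂, hf₃⟩, ?_⟩
  let el : ∀ {x}, x ∈ Dc D a → ↥(Subgroup.closure (Dc D a)) :=
    fun {x} hx => ⟨x, Subgroup.subset_closure hx⟩
  have hπ : C.π ((el hf₁ * el hf₂ * el hf₃)⁻¹ * (el hp * el hq * el hr)) = 1 := by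
    rw [map_mul, map_inv, inv_mul_eq_one, map_mul, map_mul, map_mul, map_mul]
    exact he
  have hz : ∀ y ∈ Dc D a, Commute ((f₁ * f₂ * f₃)⁻¹ * (p * q * r)) y := fun y hy =>
    congrArg Subtype.val (C.ker _ hπ (el hy)).eq
  have hza : Commute ((f₁ * f₂ * f₃)⁻¹ * (p * q * r)) a :=
    ((hf₁.2.2.mul_right hf₂.2.2).mul_right hf₃.2.2).symm.inv_left.mul_left
      ((hp.2.2.mul_right hq.2.2).mul_right hr.2.2).symm
  rcases H.eq_one_or_eq H.charts ha hza hz with e | e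
  · exfalso
    have ne : ∀ {x y} (hx : x ∈ Dc D a) (hy : y ∈ Dc D a), C.img hx ≠ C.img hy → x ≠ y :=
      fun hx hy h e => h (C.img_congr hx hy e)
    have cm : ∀ {x y} (hx : x ∈ Dc D a) (hy : y ∈ Dc D a), Commute (C.img hx) (C.img hy) →
        Commute x y := fun hx hy h => (C.comm_iff H ha hx hy).1 h
    rcases mem_of_prod_three H.tr H.noTwin₂ H.noTwin₃ hp.1 hq.1 hr.1 hf₁.1 hf₂.1 hf₃.1
      (ne hp hq hβ.2.1.symm) (ne hp hr hγ.1.2.1.symm) (ne hq hr hγ.2.1.symm)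
      (cm hp hq hβ.2.2) (cm hp hr hγ.1.2.2) (cm hq hr hγ.2.2) (ne hf₁ hf₂ n12) (ne hf₁ hf₃ n13)
      (ne hf₂ hf₃ n23) (cm hf₁ hf₂ k12) (cm hf₁ hf₃ k13) (cm hf₂ hf₃ k23)
      (inv_mul_eq_one.1 e).symm with h | h | h
    · exact t1.1.1.2.1 (C.img_congr hf₁ hp h.symm)
    · exact t2.1.1.2.1 (C.img_congr hf₂ hp h.symm)
    · exact t3.1.1.2.1 (C.img_congr hf₃ hp h.symm)
  · exact inv_mul_eq_iff_eq_mul.1 e

/-- A member lies in the group generated by those commuting with it. -/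
theorem M23.mem_closure_dc (H : M23 D) {a : G} (ha : a ∈ D) : a ∈ Subgroup.closure (Dc D a) := by
  obtain ⟨p, q, r, f₁, f₂, f₃, ⟨hp, hq, hr⟩, ⟨h1, h2, h3⟩, he⟩ := H.six ha
  have hm : ∀ {x}, x ∈ Dc D a → x ∈ Subgroup.closure (Dc D a) := fun h => Subgroup.subset_closure h
  have e : (f₁ * f₂ * f₃)⁻¹ * (p * q * r) = a := by rw [he]; group
  have hmem := mul_mem (inv_mem (mul_mem (mul_mem (hm h1) (hm h2)) (hm h3)))
    (mul_mem (mul_mem (hm hp) (hm hq)) (hm hr))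
  rwa [e] at hmem

/-- The group is perfect. -/
theorem M23.perfect (H : M23 D) : commutator G = ⊤ := by
  obtain ⟨-, d, hd, -⟩ := H.type
  obtain ⟨p, q, r, f₁, f₂, f₃, ⟨hp, hq, hr⟩, ⟨h1, h2, h3⟩, he⟩ := H.six hd
  let φ := QuotientGroup.mk' (commutator G)
  have hab : ∀ x y : G ⧸ commutator G, x * y = y * x :=
    fun x y => mul_comm (G := Abelianization G) x y
  have hconst : ∀ x ∈ D, φ x = φ d := fun x hx => by
    obtain ⟨t, rfl⟩ := H.trans d hd x hx
    rw [map_mul, map_mul, map_inv, hab, inv_mul_cancel_left]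
  have h2' : φ d * φ d = 1 := by rw [← map_mul, sq_one H.grp.1 hd, map_one]
  have h := congrArg φ he
  simp only [map_mul, hconst p hp.1, hconst q hq.1, hconst r hr.1, hconst f₁ h1.1, hconst f₂ h2.1,
    hconst f₃ h3.1, h2', one_mul] at h
  have hD : D ⊆ commutator G := fun x hx =>
    (QuotientGroup.eq_one_iff x).1 ((hconst x hx).trans h)
  rw [eq_top_iff, ← H.grp.2.2]
  exact (Subgroup.closure_le _).2 hD

namespace Chart

variable {a : G} (C : Chart D a)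

theorem img_pi (y : ↥(Subgroup.closure (Dc D a))) {x : G} (hx : x ∈ Dc D a)
    (hy : (y : G) * x * (y : G)⁻¹ ∈ Dc D a) : C.img hy = C.π y * C.img hx * (C.π y)⁻¹ := by
  show C.π _ = C.π _ * C.π _ * _
  rw [← map_inv, ← map_mul, ← map_mul]
  rfl

/-- `φ` moves the images as conjugation by `t` moves the members. -/
def Induces (t : G) (φ : C.Q ≃* C.Q) : Prop :=
  ∀ x (hx : x ∈ Dc D a), ∃ hx' : t * x * t⁻¹ ∈ Dc D a, φ (C.img hx) = C.img hx'

theorem Induces.mul {C : Chart D a} {t : G} {φ : C.Q ≃* C.Q} (h : C.Induces t φ)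
    (y : ↥(Subgroup.closure (Dc D a))) (hmem : ∀ x ∈ Dc D a, (y : G) * x * (y : G)⁻¹ ∈ Dc D a) :
    C.Induces ((y : G) * t) (φ.trans (MulAut.conj (C.π y))) := by
  intro x hx
  obtain ⟨hx', e⟩ := h x hx
  have h1 : (y : G) * t * x * ((y : G) * t)⁻¹ = (y : G) * (t * x * t⁻¹) * (y : G)⁻¹ := by group
  refine ⟨h1 ▸ hmem _ hx', ?_⟩
  show C.π y * φ (C.img hx) * (C.π y)⁻¹ = _
  rw [e, ← C.img_pi y hx' (hmem _ hx')]
  exact C.img_congr _ _ h1.symm

variable (H : M23 D) (ha : a ∈ D)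
include H ha

theorem fix_iff {t : G} {φ : C.Q ≃* C.Q} (h : C.Induces t φ) {x : G} (hx : x ∈ Dc D a) :
    φ (C.img hx) = C.img hx ↔ Commute x t := by
  obtain ⟨hx', e⟩ := h x hx
  rw [e]
  refine ⟨fun h => ?_, fun h => C.img_congr hx' hx (by rw [← h.eq, mul_inv_cancel_right])⟩
  exact (show t * x = x * t from mul_inv_eq_iff_eq_mul.1 (C.inj H ha hx' hx h)).symm

theorem exists_auto {t : G} (hta : Commute t a) :
    ∃ φ : C.Q ≃* C.Q, Preserves C.E φ ∧ C.Induces t φ := by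
  classical
  set S := Subgroup.closure (Dc D a)
  have hfa : t * a * t⁻¹ = a := by rw [hta.eq, mul_inv_cancel_right]
  have hc : Carries t (Dc D a) (Dc D a) := by
    have := (stab_of_normal H.grp t).carries.dc a
    rwa [hfa] at this
  have himg : (MulAut.conj t).toMonoidHom '' Dc D a = Dc D a := by
    refine Set.Subset.antisymm ?_ fun y hy => ⟨_, hc.2 y hy, ?_⟩
    · rintro _ ⟨x, hx, rfl⟩
      exact hc.1 x hx
    · show t * (t⁻¹ * y * t) * t⁻¹ = y
      group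
  let χ : ↥S ≃* ↥S := ((MulAut.conj t).subgroupMap S).trans
    (MulEquiv.subgroupCongr ((MonoidHom.map_closure _ _).trans (congrArg Subgroup.closure himg)))
  have hker : Subgroup.center ↥S = C.π.ker := by
    refine le_antisymm (fun x hx => ?_) fun x hx => Subgroup.mem_center_iff.2 fun y =>
      (C.ker x hx y).symm
    rw [MonoidHom.mem_ker, ← Subgroup.mem_bot, ← C.m22.center]
    refine Subgroup.mem_center_iff.2 fun q => ?_
    obtain ⟨y, rfl⟩ := C.surj q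
    rw [← map_mul, ← map_mul, Subgroup.mem_center_iff.1 hx y]
  let e : ↥S ⧸ Subgroup.center ↥S ≃* C.Q :=
    (QuotientGroup.quotientMulEquivOfEq hker).trans
      (QuotientGroup.quotientKerEquivOfSurjective C.π C.surj)
  have he : ∀ x, e (QuotientGroup.mk x) = C.π x := fun x => rfl
  let φ : C.Q ≃* C.Q := e.symm.trans ((centerQuotientCongr χ).trans e)
  have hφ : C.Induces t φ := fun x hx => by
    refine ⟨hc.1 x hx, ?_⟩
    show e (centerQuotientCongr χ (e.symm (C.π _))) = C.π _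
    rw [← he, e.symm_apply_apply, ← he]
    rfl
  refine ⟨φ, fun β => ⟨fun h => ?_, fun h => ?_⟩, hφ⟩
  · obtain ⟨y, hy, e⟩ := C.lift _ h
    obtain ⟨hx', e'⟩ := hφ _ (hc.2 y hy)
    rw [C.img_congr hx' hy (by group)] at e'
    rw [← φ.injective (e'.trans e)]
    exact C.img_mem _
  · obtain ⟨x, hx, rfl⟩ := C.lift β h
    obtain ⟨hx', e'⟩ := hφ x hx
    exact e' ▸ C.img_mem hx'

theorem dc_iff {b x : G} (hb : b ∈ Dc D a) (hx : x ∈ Dc D a) :
    C.img hx ∈ Dc C.E (C.img hb) ↔ x ∈ Dc (Dc D a) b :=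
  ⟨fun h => ⟨hx, fun e => h.2.1 (C.img_congr hx hb e), (C.comm_iff H ha hb hx).1 h.2.2⟩,
    fun h => ⟨C.img_mem hx, fun e => h.2.1 (C.inj H ha hx hb e), (C.comm_iff H ha hb hx).2 h.2.2⟩⟩

theorem dc2_iff {b g x : G} (hb : b ∈ Dc D a) (hg : g ∈ Dc D a) (hx : x ∈ Dc D a) :
    C.img hx ∈ Dc (Dc C.E (C.img hb)) (C.img hg) ↔ x ∈ Dc (Dc (Dc D a) b) g :=
  ⟨fun h => ⟨(C.dc_iff H ha hb hx).1 h.1, fun e => h.2.1 (C.img_congr hx hg e),
      (C.comm_iff H ha hg hx).1 h.2.2⟩,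
    fun h => ⟨(C.dc_iff H ha hb hx).2 h.1, fun e => h.2.1 (C.inj H ha hx hg e),
      (C.comm_iff H ha hg hx).2 h.2.2⟩⟩

theorem twin_iff {b g c f : G} (hb : b ∈ Dc D a) (hg : g ∈ Dc D a) (hc : c ∈ Dc D a)
    (hf : f ∈ Dc D a) :
    Twin C.E (C.img hb) (C.img hg) (C.img hc) (C.img hf) ↔ Twin (Dc D a) b g c f := by
  refine and_congr (C.dc2_iff H ha hb hg hf) (and_congr ?_ (and_congr (C.comm_iff H ha hc hf) ?_))
  · exact not_congr ⟨C.inj H ha hf hc, C.img_congr hf hc⟩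
  · refine ⟨fun h x hx => ?_, fun h β hβ => ?_⟩
    · rw [← C.comm_iff H ha hx.1.1 hc, ← C.comm_iff H ha hx.1.1 hf]
      exact h _ ((C.dc2_iff H ha hb hg hx.1.1).2 hx)
    · obtain ⟨x, hx, rfl⟩ := C.lift β hβ.1.1
      change Commute (C.img hx) _ ↔ Commute (C.img hx) _
      rw [C.comm_iff H ha hx hc, C.comm_iff H ha hx hf]
      exact h x ((C.dc2_iff H ha hb hg hx).1 hβ)

/-- The images of the members with a property. -/
theorem ncard_img (P : G → Prop) (P' : C.Q → Prop)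
    (h : ∀ x (hx : x ∈ Dc D a), P' (C.img hx) ↔ P x) :
    {x | x ∈ Dc D a ∧ P x}.ncard = {β | β ∈ C.E ∧ P' β}.ncard := by
  refine Set.ncard_congr (fun x hx => C.img hx.1) (fun x hx => ⟨C.img_mem hx.1, (h x hx.1).2 hx.2⟩)
    (fun x y hx hy e => C.inj H ha hx.1 hy.1 e) fun β hβ => ?_
  obtain ⟨x, hx, rfl⟩ := C.lift β hβ.1
  exact ⟨x, ⟨hx, (h x hx).1 hβ.2⟩, rfl⟩

end Chart

namespace M23

variable (H : M23 D)
include H

/-- A line at `b` in the chart at `a` is one at `a` in the chart at `b`. -/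
theorem fieldAt_swap {a b s : G} (ha : a ∈ D) (C : Chart D a) (hb : b ∈ Dc D a) (C' : Chart D b)
    {φ : C.Q ≃* C.Q} (hφ : C.Induces s φ) {φ' : C'.Q ≃* C'.Q} (hφ' : C'.Induces s φ')
    (hf : FieldAt C.E φ (C.img hb)) : FieldAt C'.E φ' (C'.img (mem_dc_symm ha hb)) := by
  obtain ⟨γ, hγ, hfγ, c, f₁, f₂, hc, h1, h2, hfc, hf1, hf2⟩ := hf
  obtain ⟨g, hg, rfl⟩ := C.lift γ hγ.1
  obtain ⟨c, hc', rfl⟩ := C.lift c hc.1.1
  obtain ⟨f₁, hf₁, rfl⟩ := C.lift f₁ h1.1.1.1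
  obtain ⟨f₂, hf₂, rfl⟩ := C.lift f₂ h2.1.1.1
  change C.img hg ∈ _ at hγ
  change C.img hc' ∈ Dc (Dc C.E _) (C.img hg) at hc
  change Twin C.E _ (C.img hg) (C.img hc') (C.img hf₁) at h1
  change Twin C.E _ (C.img hg) (C.img hc') (C.img hf₂) at h2
  have gm := (C.dc_iff H ha hb hg).1 hγ
  have cm := (C.dc2_iff H ha hb hg hc').1 hc
  have w1 := (C.twin_iff H ha hb hg hc' hf₁).1 h1
  have w2 := (C.twin_iff H ha hb hg hc' hf₂).1 h2
  have hab := mem_dc_symm ha hb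
  have mv : ∀ {x}, x ∈ Dc (Dc D a) b → x ∈ Dc D b := fun hx => (dc_dc_symm hx).1
  have sw : ∀ {x}, x ∈ Dc (Dc (Dc D a) b) g ↔ x ∈ Dc (Dc (Dc D b) a) g := fun {x} =>
    ⟨fun h => ⟨dc_dc_symm h.1, h.2⟩, fun h => ⟨dc_dc_symm h.1, h.2⟩⟩
  have tw : ∀ {f}, Twin (Dc D a) b g c f → Twin (Dc D b) a g c f := fun {f} h =>
    ⟨sw.1 h.1, h.2.1, h.2.2.1, fun x hx => h.2.2.2 x (sw.2 hx)⟩
  have fix : ∀ {x} (hx : x ∈ Dc D a) (hx' : x ∈ Dc D b), φ (C.img hx) = C.img hx →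
      φ' (C'.img hx') = C'.img hx' := fun hx hx' e =>
    (C'.fix_iff H hb.1 hφ' hx').2 ((C.fix_iff H ha hφ hx).1 e)
  refine ⟨C'.img (mv gm), (C'.dc_iff H hb.1 hab (mv gm)).2 (dc_dc_symm gm), fix hg _ hfγ,
    C'.img (mv cm.1), C'.img (mv w1.1.1), C'.img (mv w2.1.1),
    (C'.dc2_iff H hb.1 hab _ _).2 (sw.1 cm), (C'.twin_iff H hb.1 hab _ _ _).2 (tw w1),
    (C'.twin_iff H hb.1 hab _ _ _).2 (tw w2), fix hc' _ hfc, fix hf₁ _ hf1, fun e => ?_⟩
  exact hf2 ((C.fix_iff H ha hφ hf₂).2 ((C'.fix_iff H hb.1 hφ' (mv w2.1.1)).1 e))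

/-- Splitting the members commuting with `s` at two commuting members it fixes. -/
theorem count_split {a b s : G} (ha : a ∈ D) (hb : b ∈ Dc D a) (hsa : Commute a s)
    (hsb : Commute b s) : {x | x ∈ D ∧ Commute x s}.ncard % 4 =
      (1 + {x | x ∈ Dc D a ∧ Commute x s}.ncard +
        {x | x ∈ Dc D b ∧ (Commute x s ∧ ¬ Commute x a)}.ncard) % 4 := by
  have hE := H.tr
  set F := {x | x ∈ D ∧ Commute x s}
  have h1 := Set.ncard_inter_add_ncard_sdiff_eq_ncard F {x | Commute x a}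
  have h2 := Set.ncard_inter_add_ncard_sdiff_eq_ncard (F \ {x | Commute x a}) {x | Commute x b}
  have e1 : F ∩ {x | Commute x a} = insert a {x | x ∈ Dc D a ∧ Commute x s} := by
    ext x
    constructor
    · rintro ⟨⟨hx, hxs⟩, hxa⟩
      by_cases h : x = a
      · exact Or.inl h
      · exact Or.inr ⟨⟨hx, h, (hxa : Commute x a).symm⟩, hxs⟩
    · rintro (rfl | ⟨hx, hxs⟩)
      exacts [⟨⟨ha, hsa⟩, Commute.refl x⟩, ⟨⟨hx.1, hxs⟩, hx.2.2.symm⟩]
  have e2 : (F \ {x | Commute x a}) ∩ {x | Commute x b} =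
      {x | x ∈ Dc D b ∧ (Commute x s ∧ ¬ Commute x a)} := by
    ext x
    constructor
    · rintro ⟨⟨⟨hx, hxs⟩, hxa⟩, hxb⟩
      exact ⟨⟨hx, fun h => hxa (h ▸ hb.2.2.symm), (hxb : Commute x b).symm⟩, hxs, hxa⟩
    · rintro ⟨hx, hxs, hxa⟩
      exact ⟨⟨⟨hx.1, hxs⟩, hxa⟩, hx.2.2.symm⟩
  have h4 : 4 ∣ ((F \ {x | Commute x a}) \ {x | Commute x b}).ncard := by
    have cc : ∀ {p u : G}, p ∈ D → Commute p u → ∀ {x}, (Commute (p * x * p) u ↔ Commute x u) :=
      fun {p u} hp hpu {x} => commute_conj_fix (sq_one hE.set hp) hpu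
    refine four_dvd_off hE ha hb _ (fun x hx => hx.1.1.1) ?_ ?_ fun x hx => ⟨hx.1.2, hx.2⟩
    · exact fun x hx => ⟨⟨⟨hE.conj a ha x hx.1.1.1, (cc ha hsa).2 hx.1.1.2⟩,
        fun h => hx.1.2 ((cc ha (Commute.refl a)).1 h)⟩, fun h => hx.2 ((cc ha hb.2.2).1 h)⟩
    · exact fun x hx => ⟨⟨⟨hE.conj b hb.1 x hx.1.1.1, (cc hb.1 hsb).2 hx.1.1.2⟩,
        fun h => hx.1.2 ((cc hb.1 hb.2.2.symm).1 h)⟩,
        fun h => hx.2 ((cc hb.1 (Commute.refl b)).1 h)⟩
  rw [e1, Set.ncard_insert_of_notMem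
    (s := {x | x ∈ Dc D a ∧ Commute x s}) fun h => h.1.2.1 rfl] at h1
  rw [e2] at h2
  omega

/-- `|D| ≡ 3 mod 4`. -/
theorem card_mod_four {a b : G} (ha : a ∈ D) (hb : b ∈ Dc D a) : D.ncard % 4 = 3 := by
  obtain ⟨C⟩ := H.charts a ha
  obtain ⟨C'⟩ := H.charts b hb.1
  have h := H.count_split ha hb (Commute.one_right a) (Commute.one_right b)
  have e1 := C.ncard_img H ha (fun x => Commute x 1) (fun _ => True)
    fun x _ => iff_of_true trivial (Commute.one_right x)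
  have e2 := C'.ncard_img H hb.1 (fun x => Commute x 1 ∧ ¬ Commute x a)
    (fun β => ¬ Commute β (C'.img (mem_dc_symm ha hb))) fun x hx => by
      rw [C'.comm_iff H hb.1 hx (mem_dc_symm ha hb), and_iff_right (Commute.one_right x)]
  have : Nonempty C.E := ⟨⟨_, C.img_mem hb⟩⟩
  have h3 := C.m22.card_mod_four
  obtain ⟨k, hk⟩ := C'.m22.four_dvd_far (C'.img_mem (mem_dc_symm ha hb))
  have hk' : {β | β ∈ C'.E ∧ ¬ Commute β (C'.img (mem_dc_symm ha hb))}.ncard = 4 * k := hk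
  rw [show {β | β ∈ C.E ∧ True} = C.E from Set.ext fun β => and_iff_left trivial] at e1
  rw [show {x | x ∈ D ∧ Commute x (1 : G)} = D from
    Set.ext fun x => and_iff_left (Commute.one_right x)] at h
  rw [e1, e2, hk'] at h
  omega

/-- An element inducing a field automorphism with square `1` does not exist. -/
theorem not_field {a b s : G} (ha : a ∈ D) (hb : b ∈ Dc D a) (hsa : Commute s a) (hsb : Commute s b)
    (C : Chart D a) {φ : C.Q ≃* C.Q} (hp : Preserves C.E φ) (hφ : C.Induces s φ)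
    (hf : FieldAt C.E φ (C.img hb)) (h2 : ∀ x ∈ Dc C.E (C.img hb), φ (φ x) = x) : False := by
  classical
  have hfb : φ (C.img hb) = C.img hb := (C.fix_iff H ha hφ hb).2 hsb.symm
  have hinv := C.m22.field_sq hp (C.img_mem hb) hfb hf h2
  have sq : ∀ x ∈ Dc D a, Commute (s * s) x := fun x hx => by
    obtain ⟨hx', e⟩ := hφ x hx
    obtain ⟨hx'', e'⟩ := hφ _ hx'
    have := C.inj H ha hx'' hx (e'.symm.trans ((congrArg φ e).symm.trans (hinv _)))
    refine (show s * s * x = x * (s * s) from mul_inv_eq_iff_eq_mul.1 ?_)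
    rw [show s * s * x * (s * s)⁻¹ = s * (s * x * s⁻¹) * s⁻¹ by group, this]
  obtain ⟨C'⟩ := H.charts b hb.1
  have hab := mem_dc_symm ha hb
  obtain ⟨φ', hp', hφ'⟩ := C'.exists_auto H hb.1 hsb
  have hfa : φ' (C'.img hab) = C'.img hab := (C'.fix_iff H hb.1 hφ' hab).2 hsa.symm
  have hf' := H.fieldAt_swap ha C hb C' hφ hφ' hf
  have sq' : ∀ x (hx : x ∈ Dc D b), Commute (s * s) x →
      φ' (φ' (C'.img hx)) = C'.img hx := fun x hx hc => by
    obtain ⟨hx', e⟩ := hφ' x hx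
    obtain ⟨hx'', e'⟩ := hφ' _ hx'
    rw [e, e']
    refine C'.img_congr _ _ ?_
    rw [show s * (s * x * s⁻¹) * s⁻¹ = s * s * x * (s * s)⁻¹ by group, hc.eq, mul_inv_cancel_right]
  have h2' : ∀ β ∈ Dc C'.E (C'.img hab), φ' (φ' β) = β := fun β hβ => by
    obtain ⟨x, hx, rfl⟩ := C'.lift β hβ.1
    exact sq' x hx (sq x (dc_dc_symm ((C'.dc_iff H hb.1 hab hx).1 hβ)).1)
  have hinv' := C'.m22.field_sq hp' (C'.img_mem hab) hfa hf' h2'
  rcases H.eq_one_or_eq H.charts ha (hsa.mul_left hsa) sq with hs | hs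
  swap
  · -- `s * s = a` would be central in the chart at `b`
    have hc : C'.img hab ∈ Subgroup.center C'.Q := by
      refine Subgroup.mem_center_iff.2 fun q => ?_
      have hall : C'.E ⊆ (Subgroup.centralizer ({C'.img hab} : Set C'.Q) : Set C'.Q) := fun β hβ => by
        obtain ⟨x, hx, rfl⟩ := C'.lift β hβ
        obtain ⟨hx', e⟩ := hφ' x hx
        obtain ⟨hx'', e'⟩ := hφ' _ hx'
        have := C'.inj H hb.1 hx'' hx (e'.symm.trans ((congrArg φ' e).symm.trans (hinv' _)))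
        refine Subgroup.mem_centralizer_singleton_iff.2 ((C'.comm_iff H hb.1 hx hab).2 ?_).eq
        rw [show s * (s * x * s⁻¹) * s⁻¹ = s * s * x * (s * s)⁻¹ by group, hs] at this
        exact (show a * x = x * a from mul_inv_eq_iff_eq_mul.1 this).symm
      exact (Subgroup.mem_centralizer_singleton_iff.1
        (((Subgroup.closure_le _).2 hall) (C'.m22.grp.2.2 ▸ Subgroup.mem_top q)))
    rw [C'.m22.center, Subgroup.mem_bot] at hc
    exact ne_one C'.m22.grp.1 (C'.img_mem hab) hc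
  -- parity
  have := Fintype.ofFinite ↥D
  let ρ : G →* Equiv.Perm ↥D :=
    { toFun := fun g =>
        { toFun := fun x => ⟨g * x * g⁻¹, H.conj_mem g x.2⟩
          invFun := fun x => ⟨g⁻¹ * x * g, (stab_of_normal H.grp g x x.2).2⟩
          left_inv := fun x => Subtype.ext (by simp [mul_assoc])
          right_inv := fun x => Subtype.ext (by simp [mul_assoc]) }
      map_one' := Equiv.ext fun x => Subtype.ext (by simp)
      map_mul' := fun g k => Equiv.ext fun x => Subtype.ext (by simp [mul_assoc]) }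
  have hsign : Equiv.Perm.sign (ρ s) = 1 := by
    have hle := Abelianization.commutator_subset_ker (Equiv.Perm.sign.comp ρ)
    rw [H.perfect] at hle
    exact hle (Subgroup.mem_top s)
  have hsq : ρ s ^ 2 = 1 := by rw [← map_pow, pow_two, hs, map_one]
  set F := {x | x ∈ D ∧ Commute x s} with hFdef
  have hfix : Fintype.card (Function.fixedPoints (ρ s)) = F.ncard := by
    rw [← Nat.card_eq_fintype_card, ← Nat.card_coe_set_eq F]
    exact Nat.card_congr
      { toFun := fun x => ⟨x.1.1, x.1.2,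
          (show s * x.1.1 = x.1.1 * s from mul_inv_eq_iff_eq_mul.1 (congrArg Subtype.val x.2)).symm⟩
        invFun := fun x => ⟨⟨x.1, x.2.1⟩, Subtype.ext (by
          show s * x.1 * s⁻¹ = x.1
          rw [← x.2.2.eq, mul_inv_cancel_right])⟩
        left_inv := fun x => Subtype.ext (Subtype.ext rfl)
        right_inv := fun x => Subtype.ext rfl }
  rw [Equiv.Perm.sign_of_pow_two_eq_one hsq, hfix, ← Nat.card_eq_fintype_card,
    Nat.card_coe_set_eq] at hsign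
  have hcount := H.count_split ha hb hsa.symm hsb.symm
  have e1 := C.ncard_img H ha (fun x => Commute x s) (fun β => φ β = β)
    fun x hx => C.fix_iff H ha hφ hx
  have e2 := C'.ncard_img H hb.1 (fun x => Commute x s ∧ ¬ Commute x a)
    (fun β => φ' β = β ∧ ¬ Commute β (C'.img hab)) fun x hx => by
      rw [C'.fix_iff H hb.1 hφ' hx, C'.comm_iff H hb.1 hx hab]
  obtain ⟨k, hk⟩ := C.m22.fixed_mod_four hp (C.img_mem hb) hfb hf hinv
  obtain ⟨k', hk'⟩ := C'.m22.fixed_mod_four hp' (C'.img_mem hab) hfa hf' hinv'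
  have hk'' := C'.m22.fixed_dc_mod_four hp' (C'.img_mem hab) hfa hf' h2'
  have hsplit : {β | β ∈ C'.E ∧ φ' β = β}.ncard =
      {x | x ∈ Dc C'.E (C'.img hab) ∧ φ' x = x}.ncard + 1 +
        {β | β ∈ C'.E ∧ (φ' β = β ∧ ¬ Commute β (C'.img hab))}.ncard := by
    rw [← Set.ncard_inter_add_ncard_sdiff_eq_ncard {β | β ∈ C'.E ∧ φ' β = β}
      {β | Commute β (C'.img hab)}]
    congr 1
    · rw [show {β | β ∈ C'.E ∧ φ' β = β} ∩ {β | Commute β (C'.img hab)} =
        insert (C'.img hab) {x | x ∈ Dc C'.E (C'.img hab) ∧ φ' x = x} by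
          ext β
          constructor
          · rintro ⟨⟨hβ, hf⟩, hc⟩
            by_cases h : β = C'.img hab
            · exact Or.inl h
            · exact Or.inr ⟨⟨hβ, h, (hc : Commute β _).symm⟩, hf⟩
          · rintro (rfl | ⟨hβ, hf⟩)
            exacts [⟨⟨C'.img_mem hab, hfa⟩, Commute.refl _⟩, ⟨⟨hβ.1, hf⟩, hβ.2.2.symm⟩],
        Set.ncard_insert_of_notMem fun h => h.1.2.1 rfl]
    · congr 1
      ext β
      exact and_assoc
  have hD4 := H.card_mod_four ha hb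
  have hle : F.ncard ≤ D.ncard := Set.ncard_le_ncard (fun x hx => hx.1) (Set.toFinite _)
  rw [← hFdef, e1, e2, hk] at hcount
  obtain ⟨m, hm⟩ : ∃ m, (D.ncard - F.ncard) / 2 = 2 * m + 1 :=
    ⟨(D.ncard - F.ncard) / 4, by omega⟩
  rw [hm, pow_succ, pow_mul, neg_one_sq, one_pow, one_mul] at hsign
  exact absurd hsign (by decide)

/-- The centraliser of a member is generated by the members commuting with it. -/
theorem cent_eq {a : G} (ha : a ∈ D) :
    Subgroup.centralizer ({a} : Set G) = Subgroup.closure (Dc D a) := by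
  set K := Subgroup.closure (Dc D a)
  have hKle : K ≤ Subgroup.centralizer ({a} : Set G) :=
    (Subgroup.closure_le _).2 fun y hy => Subgroup.mem_centralizer_singleton_iff.2 hy.2.2.eq.symm
  have hKc : ∀ {y}, y ∈ K → Commute y a := fun hy =>
    Subgroup.mem_centralizer_singleton_iff.1 (hKle hy)
  have hmem : ∀ (y : ↥K), ∀ x ∈ Dc D a, (y : G) * x * (y : G)⁻¹ ∈ Dc D a := fun y x hx =>
    ((H.tr.dc ha).stab_closure y.2 x hx).1
  refine le_antisymm (fun t ht => ?_) hKle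
  have hta : Commute t a := Subgroup.mem_centralizer_singleton_iff.1 ht
  obtain ⟨C⟩ := H.charts a ha
  obtain ⟨b, hb⟩ := H.dc_nonempty ha
  obtain ⟨φ₀, hp₀, hφ₀⟩ := C.exists_auto H ha hta
  -- fix `b`
  obtain ⟨q, hq⟩ := C.m22.trans _ ((hp₀ _).2 (C.img_mem hb)) _ (C.img_mem hb)
  obtain ⟨y, rfl⟩ := C.surj q
  set φ := φ₀.trans (MulAut.conj (C.π y))
  have hp : Preserves C.E φ := hp₀.trans (preserves_conj C.m22.grp _)
  have hφ : C.Induces ((y : G) * t) φ := hφ₀.mul y (hmem y)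
  have hfb : φ (C.img hb) = C.img hb := hq
  set u := (y : G) * t
  suffices hu : u ∈ K by
    have := mul_mem (inv_mem y.2) hu
    rwa [inv_mul_cancel_left] at this
  have hua : Commute u a := (hKc y.2).mul_left hta
  have hub : Commute u b := ((C.fix_iff H ha hφ hb).1 hfb).symm
  obtain ⟨M⟩ := (C.m22.model _ (C.img_mem hb)).2
  obtain ⟨Ψ, τ, hΨ, hact⟩ := M.exists_semi C.m22 (C.img_mem hb) hp hfb
  rcases U6.aut_eq M.c τ with hid | hσ
  · obtain ⟨z, -, e⟩ := C.m22.inner_of_linear (C.img_mem hb) M hp hfb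
      (Ψ := Ψ) ⟨hΨ.add, fun m v => by rw [hΨ.smul, hid, id], fun v w => by rw [hΨ.form, hid, id]⟩
      hact
    obtain ⟨z, rfl⟩ := C.surj z
    have hz : ∀ x ∈ Dc D a, Commute ((z : G)⁻¹ * u) x := fun x hx => by
      obtain ⟨hx', e'⟩ := hφ x hx
      have h1 : u * x * u⁻¹ = (z : G) * x * (z : G)⁻¹ :=
        C.inj H ha hx' (hmem z x hx) (e'.symm.trans ((e _).trans (C.img_pi z hx (hmem z x hx)).symm))
      refine (show (z : G)⁻¹ * u * x = x * ((z : G)⁻¹ * u) from mul_inv_eq_iff_eq_mul.1 ?_)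
      rw [show (z : G)⁻¹ * u * x * ((z : G)⁻¹ * u)⁻¹ = (z : G)⁻¹ * (u * x * u⁻¹) * z by group, h1]
      group
    rcases H.eq_one_or_eq H.charts ha ((hKc z.2).inv_left.mul_left hua) hz with h | h
    · exact inv_mul_eq_one.1 h ▸ z.2
    · rw [inv_mul_eq_iff_eq_mul.1 h]
      exact mul_mem z.2 (H.mem_closure_dc ha)
  · exfalso
    obtain ⟨z, hz, hzb, hf, h2⟩ := C.m22.exists_adjust hp (C.img_mem hb) hfb M
      (Ψ := Ψ) ⟨hΨ.add, fun m v => by rw [hΨ.smul, hσ], fun v w => by rw [hΨ.form, hσ]⟩ hact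
    obtain ⟨z, rfl⟩ := C.surj z
    have hzb' : Commute (z : G) b := mul_inv_eq_iff_eq_mul.1
      (C.inj H ha (hmem z b hb) hb ((C.img_pi z hb (hmem z b hb)).trans hzb))
    exact H.not_field ha hb ((hKc z.2).mul_left hua) (hzb'.mul_left hub) C
      (hp.trans (preserves_conj C.m22.grp _)) (hφ.mul z (hmem z)) hf h2

/-- Every involution is a product of at most three commuting members. -/
theorem short_invol {t : G} (ht : t * t = 1) :
    ∃ l : List G, l.Nodup ∧ l.length ≤ 3 ∧ (∀ x ∈ l, x ∈ D) ∧ (∀ x ∈ l, ∀ y ∈ l, Commute x y) ∧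
      l.prod = t := by
  obtain ⟨e, he, hte⟩ := H.exists_fixed ht
  obtain ⟨C⟩ := H.charts e he
  obtain ⟨b, hb⟩ := H.dc_nonempty he
  have : Nonempty C.E := ⟨⟨_, C.img_mem hb⟩⟩
  exact H.short_of_chart H.charts he C C.m22.full'
    (H.cent_eq he ▸ Subgroup.mem_centralizer_singleton_iff.2 hte.eq) hte ht

end M23

end Cfsg.Agent.Transpos
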