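import Cfsg.Agent.Lib.Transpos.M22Class
import Cfsg.Agent.Lib.Transpos.M22Conn

/-!
# Type M(23): parity and charts

`|D|` is odd, so every involution fixes a member.  A `Chart` at `a` is a map of the group generated by
the members commuting with `a` onto a group of type M(22) carrying these members onto the class.
-/

set_option autoImplicit false

namespace Cfsg.Agent.Transpos

open Cfsg

universe u

variable {G : Type u} [Group G] {D : Set G}

/-- An involutive map without fixed points pairs a finite set. -/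
theorem even_of_invol {α : Type*} {s : Set α} (hs : s.Finite) (f : α → α)
    (hf : ∀ x ∈ s, f x ∈ s ∧ f (f x) = x ∧ f x ≠ x) : Even s.ncard := by
  classical
  rw [Set.ncard_eq_toFinset_card _ hs, even_iff_two_dvd, ← ZMod.natCast_eq_zero_iff_even.trans even_iff_two_dvd]
  rw [Finset.cast_card]
  refine Finset.sum_involution (fun x _ => f x) (fun _ _ => by decide) (fun x hx _ => ?_)
    (fun x hx => ?_) fun x hx => ?_
  · exact (hf x (hs.mem_toFinset.1 hx)).2.2
  · exact hs.mem_toFinset.2 (hf x (hs.mem_toFinset.1 hx)).1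
  · exact (hf x (hs.mem_toFinset.1 hx)).2.1

/-- The members of an invariant set not commuting with `t` are even in number. -/
theorem even_off [Finite G] (hE : Tr D) {t : G} (ht : t ∈ D) (S : Set G)
    (hst : ∀ x ∈ S, t * x * t ∈ S) : Even {x | x ∈ S ∧ ¬ Commute x t}.ncard :=
  even_of_invol (Set.toFinite _) (fun x => t * x * t) fun x ⟨hx, hxt⟩ =>
    ⟨⟨hst x hx, fun h => hxt ((commute_conj_fix (sq_one hE.set ht) (Commute.refl t)).1 h)⟩,
      conj_involutive hE.set ht x, fun k => hxt (commute_of_conj hE.set ht k).symm⟩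

/-- The members split into `t`, those commuting with it, and the rest. -/
theorem ncard_split [Finite G] {t : G} (ht : t ∈ D) :
    D.ncard = (Dc D t).ncard + 1 + {x | x ∈ D ∧ ¬ Commute x t}.ncard := by
  rw [← Set.ncard_inter_add_ncard_sdiff_eq_ncard D {x | Commute x t}]
  congr 1
  have : D ∩ {x | Commute x t} = insert t (Dc D t) := by
    ext x
    constructor
    · intro hx
      by_cases h : x = t
      · exact Or.inl h
      · exact Or.inr ⟨hx.1, h, (hx.2 : Commute x t).symm⟩
    · rintro (rfl | hx)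
      exacts [⟨ht, Commute.refl x⟩, ⟨hx.1, hx.2.2.symm⟩]
  rw [this, Set.ncard_insert_of_notMem (s := Dc D t) fun h => h.2.1 rfl]

/-- The class of a group of type M(22) is even. -/
theorem even_m22 [Finite G] (hD : IsThreeTranspositionGroup D) (h22 : IsOfTypeM22 G D) :
    Even D.ncard := by
  have hE := tr_of_group hD
  have hline := line_of_type hD h22
  obtain ⟨e, he, b, hb⟩ := exists_commuting_pair h22
  have h1 : Even {x | x ∈ D ∧ ¬ Commute x e}.ncard :=
    even_off hE he D fun x hx => hE.conj e he x hx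
  have h2 : Even {x | x ∈ Dc D e ∧ ¬ Commute x b}.ncard :=
    even_off hE hb.1 (Dc D e) fun x hx => (hE.dc he).conj b hb x hx
  have h3 : Even (Dc (Dc D e) b).ncard :=
    even_iff_two_dvd.2 ((by norm_num : 2 ∣ 4).trans (four_dvd_twins hline he hb))
  have h4 := ncard_split (D := Dc D e) (t := b) hb
  rw [ncard_split he, h4]
  simp [Nat.even_add, Nat.even_add_one, h1, h2, h3]

/-- The hypotheses used for type M(23). -/
structure M23 (D : Set G) : Prop where
  grp : IsThreeTranspositionGroup D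
  conn : ∀ a ∈ D, ∀ v ∈ D, Relation.ReflTransGen (Fischer.CAdj D) a v
  trans : ∀ a ∈ D, ∀ b ∈ D, ∃ g : G, g * a * g⁻¹ = b
  noTwin : NoTwin D
  sec : Sec D
  type : IsOfTypeM23 G D

theorem M23.tr (H : M23 D) : Tr D := tr_of_group H.grp

theorem M23.conj_mem (H : M23 D) (g : G) {x : G} (hx : x ∈ D) : g * x * g⁻¹ ∈ D := H.grp.2.1 g x hx

theorem M23.center (H : M23 D) : Subgroup.center G = ⊥ := H.type.1

theorem M23.noTwin₂ (H : M23 D) : ∀ a ∈ D, NoTwin (Dc D a) := fun a ha => (H.sec a ha).2.2.1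

theorem M23.noTwin₃ (H : M23 D) : ∀ a ∈ D, ∀ b ∈ Dc D a, NoTwin (Dc (Dc D a) b) :=
  fun a ha => (H.sec a ha).2.2.2

theorem M23.one_notMem_dc (H : M23 D) (a : G) : Dc D a \ {1} = Dc D a :=
  Set.sdiff_singleton_eq_self fun h => ne_one H.grp.1 h.1 rfl

/-- The image modulo the centre of the members commuting with `a` is a class of 3-transpositions. -/
theorem M23.qimg_group (H : M23 D) {a : G} (ha : a ∈ D) :
    IsThreeTranspositionGroup (qimg (Dc D a)) := by
  have hS : Tr (Dc D a \ {1}) := (H.one_notMem_dc a).symm ▸ H.tr.dc ha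
  have h1 : qimg (Dc D a) \ {1} = qimg (Dc D a) := by
    refine Set.sdiff_singleton_eq_self fun h => ?_
    obtain ⟨x, hx, e⟩ := h
    exact pi_ne_one ((H.one_notMem_dc a).symm ▸ (H.sec a ha).2.1 x hx) e
  refine ⟨(h1 ▸ tr_qimg hS).set, fun g β hβ => ?_, closure_qimg _⟩
  obtain ⟨y, rfl⟩ := QuotientGroup.mk_surjective g
  obtain ⟨x, hx, rfl⟩ := hβ
  exact ⟨y * x * y⁻¹, ((H.tr.dc ha).stab_closure y.2 x hx).1, by simp⟩

/-- `|D|` is odd. -/
theorem M23.odd_card [Finite G] (H : M23 D) : Odd D.ncard := by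
  obtain ⟨-, d, hd, -, -, -, h22, -⟩ := H.type
  have hS : Tr (Dc D d \ {1}) := (H.one_notMem_dc d).symm ▸ H.tr.dc hd
  have hcard : (Dc D d).ncard = (qimg (Dc D d)).ncard := by
    refine Set.ncard_congr (fun x hx => QuotientGroup.mk (⟨x, Subgroup.subset_closure hx⟩ :
      ↥(Subgroup.closure (Dc D d)))) (fun x hx => ⟨_, hx, rfl⟩) (fun x y hx hy e => ?_) ?_
    · exact pi_inj hS (x := ⟨x, Subgroup.subset_closure hx⟩) (y := ⟨y, Subgroup.subset_closure hy⟩)
        ((H.one_notMem_dc d).symm ▸ (H.sec d hd).2.1 x hx)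
        ((H.one_notMem_dc d).symm ▸ (H.sec d hd).2.1 y hy) e
    · rintro _ ⟨x, hx, rfl⟩
      exact ⟨x, hx, rfl⟩
  have h1 : Even {x | x ∈ D ∧ ¬ Commute x d}.ncard :=
    even_off H.tr hd D fun x hx => H.tr.conj d hd x hx
  have h2 : Even (qimg (Dc D d)).ncard := even_m22 (H.qimg_group hd) h22
  rw [ncard_split hd, hcard]
  simp [Nat.odd_add, h1, h2]

/-- Every involution commutes with a member. -/
theorem M23.exists_fixed [Finite G] (H : M23 D) {t : G} (ht : t * t = 1) :
    ∃ e ∈ D, Commute t e := by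
  by_contra hno
  push Not at hno
  have hti : t⁻¹ = t := inv_eq_of_mul_eq_one_left ht
  refine Nat.not_even_iff_odd.2 H.odd_card (even_of_invol (Set.toFinite _) (fun x => t * x * t)
    fun x hx => ⟨?_, ?_, fun h => hno x hx ?_⟩)
  · have := H.conj_mem t hx
    rwa [hti] at this
  · simp [← mul_assoc, ht, mul_assoc _ t t]
  · show t * x = x * t
    calc t * x = t * x * t * t := by rw [mul_assoc _ t t, ht, mul_one]
      _ = x * t := by rw [h]

/-- A chart at `a`: a map onto a group of type M(22). -/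
structure Chart (D : Set G) (a : G) where
  /-- The group. -/
  Q : Type u
  [grpQ : Group Q]
  [finQ : Finite Q]
  /-- The class. -/
  E : Set Q
  m22 : M22 E
  /-- The map. -/
  π : ↥(Subgroup.closure (Dc D a)) →* Q
  surj : Function.Surjective π
  ker : ∀ x, π x = 1 → ∀ y, Commute x y
  map_mem : ∀ x (hx : x ∈ Dc D a), π ⟨x, Subgroup.subset_closure hx⟩ ∈ E
  lift : ∀ β ∈ E, ∃ x, ∃ hx : x ∈ Dc D a, π ⟨x, Subgroup.subset_closure hx⟩ = β

attribute [instance] Chart.grpQ Chart.finQ

namespace Chart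

variable {a : G} (C : Chart D a)

/-- The image of a member. -/
def img {x : G} (hx : x ∈ Dc D a) : C.Q := C.π ⟨x, Subgroup.subset_closure hx⟩

theorem img_mem {x : G} (hx : x ∈ Dc D a) : C.img hx ∈ C.E := C.map_mem x hx

theorem img_congr {x y : G} (hx : x ∈ Dc D a) (hy : y ∈ Dc D a) (e : x = y) :
    C.img hx = C.img hy := by subst e; rfl

variable (H : M23 D) (ha : a ∈ D)
include H ha

theorem comm_iff {x y : G} (hx : x ∈ Dc D a) (hy : y ∈ Dc D a) :
    Commute (C.img hx) (C.img hy) ↔ Commute x y := by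
  refine ⟨fun h => ?_, fun h => ((show Commute (⟨x, Subgroup.subset_closure hx⟩ :
    ↥(Subgroup.closure (Dc D a))) ⟨y, Subgroup.subset_closure hy⟩ from Subtype.ext h).map C.π)⟩
  by_contra hne
  set p : ↥(Subgroup.closure (Dc D a)) := ⟨x, Subgroup.subset_closure hx⟩
  set q : ↥(Subgroup.closure (Dc D a)) := ⟨y, Subgroup.subset_closure hy⟩
  have hp : p * p = 1 := Subtype.ext (sq_one H.grp.1 hx.1)
  have hq : q * q = 1 := Subtype.ext (sq_one H.grp.1 hy.1)
  have h2 : C.π (p * q * (p * q)) = 1 := by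
    have h' : Commute (C.π p) (C.π q) := h
    rw [map_mul, map_mul, h'.symm.mul_mul_mul_comm, ← map_mul, ← map_mul, hp, hq, map_one, one_mul]
  have h3 : (p * q) ^ 3 = 1 := Subtype.ext (pow_three_of_not_commute H.grp.1 hx.1 hy.1 hne)
  have h4 : C.π (p * q) = 1 := by
    have := congrArg C.π h3
    rwa [pow_succ', pow_two, map_mul, h2, mul_one, map_one] at this
  have h6 : p * (p * q) = p * q * p := (C.ker _ h4 p).eq.symm
  rw [mul_assoc p q p] at h6
  exact hne (congrArg Subtype.val (mul_left_cancel h6) : x * y = y * x)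

theorem inj {x y : G} (hx : x ∈ Dc D a) (hy : y ∈ Dc D a) (e : C.img hx = C.img hy) : x = y := by
  by_contra hne
  have hc : Commute x y := (C.comm_iff H ha hx hy).1 (by rw [e])
  set p : ↥(Subgroup.closure (Dc D a)) := ⟨x, Subgroup.subset_closure hx⟩
  set q : ↥(Subgroup.closure (Dc D a)) := ⟨y, Subgroup.subset_closure hy⟩
  have hp : p * p = 1 := Subtype.ext (sq_one H.grp.1 hx.1)
  have h1 : C.π (p * q) = 1 := by
    have e' : C.π p = C.π q := e
    rw [map_mul, ← e', ← map_mul, hp, map_one]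
  obtain ⟨-, w, hw, hxw⟩ := (H.sec a ha).2.1 x hx
  exact hxw (commute_both H.grp.1 hx.1 hy.1 hw.1 hne hc
    (congrArg Subtype.val (C.ker _ h1 ⟨w, Subgroup.subset_closure hw⟩).eq.symm : w * (x * y) = x * y * w)).1.symm

/-- A chart at a conjugate. -/
def conj (g : G) : Chart D (g * a * g⁻¹) :=
  have hc : Carries g (Dc D a) (Dc D (g * a * g⁻¹)) := (stab_of_normal H.grp g).carries.dc a
  have hle : ∀ x ∈ Subgroup.closure (Dc D (g * a * g⁻¹)), g⁻¹ * x * g ∈ Subgroup.closure (Dc D a) := by
    intro x hx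
    have hle' : Subgroup.closure (Dc D (g * a * g⁻¹)) ≤
        (Subgroup.closure (Dc D a)).comap (MulAut.conj g⁻¹).toMonoidHom :=
      (Subgroup.closure_le _).2 fun y hy => by
        show g⁻¹ * y * g⁻¹⁻¹ ∈ Subgroup.closure (Dc D a)
        rw [inv_inv]
        exact Subgroup.subset_closure (hc.2 y hy)
    simpa using hle' hx
  let κ : ↥(Subgroup.closure (Dc D (g * a * g⁻¹))) →* ↥(Subgroup.closure (Dc D a)) :=
    { toFun := fun x => ⟨g⁻¹ * x * g, hle x x.2⟩
      map_one' := Subtype.ext (by simp)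
      map_mul' := fun x y => Subtype.ext (by simp [mul_assoc]) }
  { Q := C.Q
    E := C.E
    m22 := C.m22
    π := C.π.comp κ
    surj := C.surj.comp fun y => by
      refine ⟨⟨g * y * g⁻¹, ?_⟩, Subtype.ext (by simp [κ, mul_assoc])⟩
      have hle' : Subgroup.closure (Dc D a) ≤
          (Subgroup.closure (Dc D (g * a * g⁻¹))).comap (MulAut.conj g).toMonoidHom :=
        (Subgroup.closure_le _).2 fun z hz => Subgroup.subset_closure (hc.1 z hz)
      exact hle' y.2
    ker := fun x hx y => by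
      have := congrArg Subtype.val (C.ker (κ x) hx (κ y)).eq
      refine Subtype.ext ((commute_conj_iff g⁻¹).1 ?_)
      simpa [Commute, SemiconjBy, κ] using this
    map_mem := fun x hx => C.map_mem (g⁻¹ * x * g) (hc.2 x hx)
    lift := fun β hβ => by
      obtain ⟨x, hx, e⟩ := C.lift β hβ
      refine ⟨g * x * g⁻¹, hc.1 x hx, ?_⟩
      rw [← e]
      exact congrArg C.π (Subtype.ext (by simp [κ, mul_assoc])) }

end Chart

/-- A member seeing seven members with product `1` gives charts at all members. -/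
theorem M23.exists_chart [Finite G] (H : M23 D)
    (hseven : ∃ y ∈ D, ∃ L : List G, L.length = 7 ∧ (∀ x ∈ L, x ∈ Dc D y) ∧ L.prod = 1) :
    ∀ a ∈ D, Nonempty (Chart D a) := by
  obtain ⟨-, d, hd, -, -, -, h22, -⟩ := H.type
  obtain ⟨y, hy, L₀, hlen₀, hL₀, hprod₀⟩ := hseven
  obtain ⟨g, rfl⟩ := H.trans y hy d hd
  -- the seven members at `d`
  set L := L₀.map fun x => g * x * g⁻¹ with hLdef
  have hL : ∀ x ∈ L, x ∈ Dc D (g * y * g⁻¹) := by
    intro x hx
    obtain ⟨z, hz, rfl⟩ := List.mem_map.1 hx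
    exact ((stab_of_normal H.grp g).carries.dc y).1 z (hL₀ z hz)
  have hlen : L.length = 7 := by rw [hLdef, List.length_map, hlen₀]
  have hprod : L.prod = 1 := by
    have h := map_list_prod (MulAut.conj g) L₀
    rw [hprod₀, map_one] at h
    exact h.symm
  set d := g * y * g⁻¹
  have hgrp := H.qimg_group hd
  have hE1 : qimg (Dc D d) \ {1} = qimg (Dc D d) :=
    Set.sdiff_singleton_eq_self fun h => ne_one hgrp.1 h rfl
  obtain ⟨hne, hgood, hact, -, -⟩ := m22_level (hE1.symm ▸ tr_of_group hgrp) hgrp.2.2 h22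
  rw [hE1] at hne hgood hact
  have htr : ∀ p ∈ qimg (Dc D d), ∀ q ∈ qimg (Dc D d), ∃ k, k * p * k⁻¹ = q := fun p hp q hq =>
    (Trans.of_conn (tr_of_group hgrp) hgood.1 hact p hp q hq).imp fun k h => h.1
  have hperf : commutator (↥(Subgroup.closure (Dc D d)) ⧸
      Subgroup.center ↥(Subgroup.closure (Dc D d))) = ⊤ := by
    obtain ⟨β, hβ⟩ := hne
    let φ := (Abelianization.of).comp (qpi (Dc D d))
    have hconst : ∀ x (hx : x ∈ Dc D d), φ ⟨x, Subgroup.subset_closure hx⟩ = Abelianization.of β :=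
      fun x hx => by
        obtain ⟨k, hk⟩ := htr β hβ (qpi (Dc D d) ⟨x, Subgroup.subset_closure hx⟩) ⟨_, hx, rfl⟩
        show Abelianization.of _ = _
        rw [← hk, map_mul, map_mul, map_inv, mul_comm, inv_mul_cancel_left]
    have h2 : Abelianization.of β * Abelianization.of β = 1 := by
      rw [← map_mul, sq_one hgrp.1 hβ, map_one]
    have h7 : ∀ l : List G, (∀ x ∈ l, x ∈ Dc D d) → ∀ h : l.prod ∈ Subgroup.closure (Dc D d),
        φ ⟨l.prod, h⟩ = Abelianization.of β ^ l.length := by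
      intro l
      induction l with
      | nil => exact fun _ _ => (map_one φ).trans (pow_zero _).symm
      | cons x l ih =>
        intro hl h
        have hx : x ∈ Dc D d := hl x (by simp)
        have hl' : l.prod ∈ Subgroup.closure (Dc D d) :=
          list_prod_mem fun z hz => Subgroup.subset_closure (hl z (by simp [hz]))
        rw [show (⟨(x :: l).prod, h⟩ : ↥(Subgroup.closure (Dc D d))) =
          ⟨x, Subgroup.subset_closure hx⟩ * ⟨l.prod, hl'⟩ from Subtype.ext List.prod_cons,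
          map_mul, hconst x hx, ih (fun z hz => hl z (by simp [hz])) hl', List.length_cons, pow_succ']
    have h := h7 L hL (by rw [hprod]; exact one_mem _)
    rw [show (⟨L.prod, _⟩ : ↥(Subgroup.closure (Dc D d))) = 1 from Subtype.ext hprod, map_one, hlen,
      show (7 : ℕ) = 2 * 3 + 1 from rfl, pow_add, pow_mul, pow_two, h2, one_pow, one_mul, pow_one] at h
    rw [eq_top_iff, ← hgrp.2.2, Subgroup.closure_le]
    intro x hx
    obtain ⟨k, rfl⟩ := htr β hβ x hx
    refine (QuotientGroup.eq_one_iff _).1 ?_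
    show Abelianization.of _ = 1
    rw [map_mul, map_mul, map_inv, mul_comm, inv_mul_cancel_left]
    exact h.symm
  have hT : Fischer.TClass (qimg (Dc D d)) :=
    ⟨⟨fun x hx => sq_one hgrp.1 hx, fun x hx => ne_one hgrp.1 hx, hgrp.1.2, hgrp.2.1⟩, htr,
      hgrp.2.2, hne⟩
  let C : Chart D d :=
    { Q := ↥(Subgroup.closure (Dc D d)) ⧸ Subgroup.center ↥(Subgroup.closure (Dc D d))
      E := qimg (Dc D d)
      m22 := M22.of_type hgrp h22 (conn_of_perfect hT hperf)
      π := qpi (Dc D d)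
      surj := QuotientGroup.mk'_surjective _
      ker := fun x hx y => (Subgroup.mem_center_iff.1 ((QuotientGroup.eq_one_iff x).1 hx) y).symm
      map_mem := fun x hx => ⟨_, hx, rfl⟩
      lift := fun β hβ => by
        obtain ⟨x, hx, rfl⟩ := hβ
        exact ⟨x, hx, rfl⟩ }
  intro a ha
  obtain ⟨k, rfl⟩ := H.trans d hd a ha
  exact ⟨C.conj H k⟩

end Cfsg.Agent.Transpos
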