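import Cfsg.Agent.Lib.Transpos.M23Cent

/-!
# Every group of type M(23) has connected commuting graph

`M23.of_group`. An element centralising a member and the members commuting with it centralises the
component of the member up to that member (`eq_block`). So the six factors of a triple identity give an
even word acting on a component as a member, against `false_of_mover`.
-/

set_option autoImplicit false

namespace Cfsg.Agent.Transpos

open Cfsg Cfsg.Agent.ClassicalSimple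
open scoped commutatorElement

variable {G : Type*} [Group G] [Finite G] {D : Set G}

omit [Finite G] in
/-- The chart at `d` modulo the centre, for `a` commuting with `d`: an element centralising `a` and
its commuting members centralises the component of `a` up to `a`. -/
theorem eq_block (hD : IsThreeTranspositionGroup D)
    (hgood : ∀ v ∈ D, Conn (Dc D v) ∧ AllActive (Dc D v)) {d a z : G} (hd : d ∈ D)
    (HQ : M22 (qimg (Dc D d))) (ha : a ∈ Dc D d) (hza : Commute z a)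
    (hzA : ∀ y ∈ Dc D a, Commute z y) :
    (∀ v ∈ Fischer.block D a, Commute z v) ∨ (∀ v ∈ Fischer.block D a, Commute (a * z) v) := by
  have hE := tr_of_group hD
  have h1 : Dc D d \ {1} = Dc D d :=
    Set.sdiff_singleton_eq_self fun h => ne_one hD.1 h.1 rfl
  have hS : Tr (Dc D d \ {1}) := h1.symm ▸ hE.dc hd
  let el : ∀ {x}, x ∈ Dc D d → ↥(Subgroup.closure (Dc D d)) :=
    fun {x} hx => ⟨x, Subgroup.subset_closure hx⟩
  let im : ∀ {x}, x ∈ Dc D d → ↥(Subgroup.closure (Dc D d)) ⧸ Subgroup.center ↥(Subgroup.closure (Dc D d)) :=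
    fun {x} hx => qpi (Dc D d) (el hx)
  have im_mem : ∀ {x} (hx : x ∈ Dc D d), im hx ∈ qimg (Dc D d) := fun hx => ⟨_, hx, rfl⟩
  have hcom : ∀ {x y} (hx : x ∈ Dc D d) (hy : y ∈ Dc D d),
      Commute (im hx) (im hy) ↔ Commute x y :=
    fun hx hy => commute_pi_iff hS (h1.symm ▸ hx) (h1.symm ▸ hy)
  have hinj : ∀ {x y} (hx : x ∈ Dc D d) (hy : y ∈ Dc D d), im hx = im hy → x = y := fun hx hy e =>
    pi_inj hS (x := el hx) (y := el hy) (h1.symm ▸ (hgood d hd).2 _ hx)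
      (h1.symm ▸ (hgood d hd).2 _ hy) e
  have him : ∀ {x y} (hx : x ∈ Dc D d) (hy : y ∈ Dc D d), x = y → im hx = im hy :=
    fun hx hy e => by subst e; rfl
  have hlift : ∀ β ∈ qimg (Dc D d), ∃ x, ∃ hx : x ∈ Dc D d, im hx = β := by
    rintro β ⟨x, hx, rfl⟩
    exact ⟨_, hx, rfl⟩
  obtain ⟨ω, hω⟩ := (HQ.model _ (im_mem ha)).1
  obtain ⟨ξ, hξ, hnξ⟩ := HQ.exists_opp (im_mem ha) hω
  obtain ⟨w, hw, rfl⟩ := hlift ω hω.1
  obtain ⟨x, hx, rfl⟩ := hlift ξ hξ.1
  have hda := mem_dc_symm hd ha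
  have hax : ¬ Commute a x := fun h => hnξ ((hcom ha hx).2 h)
  have hwa : w ∈ Dc D a := ⟨hw.1, fun e => hω.2.1 (him hw ha e), (hcom ha hw).1 hω.2.2⟩
  have hfix : ∀ {p}, p ∈ Dc D a → z * p * z⁻¹ = p := fun hp => by
    rw [(hzA _ hp).eq, mul_inv_cancel_right]
  have hza' : z * a * z⁻¹ = a := by rw [hza.eq, mul_inv_cancel_right]
  have hy : z * x * z⁻¹ ∈ Dc D d := by
    have := ((stab_of_normal hD z).carries.dc d).1 x hx
    rwa [hfix hda] at this
  have hay : ¬ Commute a (z * x * z⁻¹) := fun h => hax (by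
    rw [← hza'] at h; exact (commute_conj_iff z).1 h)
  have hnyw : im hy ∈ Dc (qimg (Dc D d)) (im hw) := by
    refine ⟨im_mem hy, fun e => hay ?_, (hcom hw hy).2 ?_⟩
    · rw [hinj hy hw e]; exact hwa.2.2
    · have := (commute_conj_iff z).2 ((hcom hw hx).1 hξ.2.2)
      rwa [hfix hwa] at this
  have hs : Same (Dc (Dc (qimg (Dc D d)) (im hw)) (im ha)) (im hx) (im hy) := by
    intro p hp
    obtain ⟨q, hq, rfl⟩ := hlift p hp.1.1
    rw [hcom hq hx, hcom hq hy]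
    have hqa : q ∈ Dc D a :=
      ⟨hq.1, fun e => hp.2.1 (him hq ha e), (hcom ha hq).1 hp.2.2⟩
    conv_rhs => rw [← hfix hqa]
    exact (commute_conj_iff z).symm
  obtain ⟨η, hη, hηx⟩ := exists_not_commute HQ.grp HQ.conn HQ.line HQ.good (im_mem ha) hω hξ hnξ
  obtain ⟨y₀, hy₀, rfl⟩ := hlift η hη.1
  have hy₀a : y₀ ∈ Dc D a :=
    ⟨hy₀.1, fun e => hη.2.1 (him hy₀ ha e), (hcom ha hy₀).1 hη.2.2⟩
  have hy₀x : ¬ Commute y₀ x := fun h => hηx ((hcom hy₀ hx).2 h)
  have key : ∀ k, Commute k a → (∀ y ∈ Dc D a, Commute k y) → Commute k x →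
      ∀ v ∈ Fischer.block D a, Commute k v := by
    intro k ka kA kx v hv
    have hmem : ∀ {p : G}, Commute k p → p ∈ Subgroup.centralizer ({k} : Set G) :=
      fun h => Subgroup.mem_centralizer_singleton_iff.2 h.eq.symm
    exact (Subgroup.mem_centralizer_singleton_iff.1 (mem_of_two hD hgood _ ha.1 hda (hmem ka)
      (fun y hy => hmem (kA y hy)) hx (hmem kx) hax hy₀a hy₀x hv) : v * k = k * v).symm
  obtain ⟨M⟩ := (HQ.model _ hω.1).2
  rcases M.eq_or_conj HQ hω.1 (mem_dc_symm (im_mem ha) hω) hξ hnyw hnξ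
      (fun h => hay ((hcom ha hy).1 h)) hs with e | e
  · exact Or.inl (key z hza hzA (mul_inv_eq_iff_eq_mul.1 (hinj hy hx e)))
  · right
    have haxa : a * x * a ∈ Dc D d := (hE.dc hd).conj a ha x hx
    have e1 : im haxa = im ha * im hx * im ha := by
      show qpi _ _ = _
      rw [← map_mul, ← map_mul]
      rfl
    have e' : z * x * z⁻¹ = a * x * a := hinj hy haxa (e.trans e1.symm)
    refine key (a * z) ((Commute.refl a).mul_left hza) (fun y hy => hy.2.2.mul_left (hzA y hy)) ?_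
    show a * z * x = x * (a * z)
    rw [mul_assoc, mul_inv_eq_iff_eq_mul.1 e', ← mul_assoc, ← mul_assoc, ← mul_assoc,
      sq_one hD.1 ha.1, one_mul, mul_assoc]

/-- Every group of type M(23) has connected commuting graph. -/
theorem conn_of_type23 (hD : IsThreeTranspositionGroup D) (h23 : IsOfTypeM23 G D) :
    ∀ a ∈ D, ∀ v ∈ D, Relation.ReflTransGen (Fischer.CAdj D) a v := by
  classical
  have hD1 : D \ {1} = D := Set.sdiff_singleton_eq_self fun h => ne_one hD.1 h rfl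
  obtain ⟨-, hgood', hall, -⟩ := m23_level (hD1.symm ▸ tr_of_group hD) hD.2.2 h23
  rw [hD1] at hgood' hall
  have hE := tr_of_group hD
  have htr : ∀ x ∈ D, ∀ y ∈ D, ∃ k : G, k * x * k⁻¹ = y := fun x hx y hy =>
    (Trans.of_conn hE hgood'.1 hall x hx y hy).imp fun k h => h.1
  have hsec := sec_of_type hD htr (Or.inl h23)
  have hgood : ∀ v ∈ D, Conn (Dc D v) ∧ AllActive (Dc D v) := fun v hv =>
    ⟨(hsec v hv).1, (hsec v hv).2.1⟩
  obtain ⟨-, d, hd, -, -, -, h22, -⟩ := h23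
  have hcar : ∀ g v, Carries g (Dc D v) (Dc D (g * v * g⁻¹)) := fun g v =>
    (stab_of_normal hD g).carries.dc v
  -- the chart at `d`
  set S := Dc D d with hSdef
  have h1 : S \ {1} = S := Set.sdiff_singleton_eq_self fun h => ne_one hD.1 h.1 rfl
  have hS : Tr (S \ {1}) := h1.symm ▸ hE.dc hd
  have hgrp : IsThreeTranspositionGroup (qimg S) := by
    have h2 : qimg S \ {1} = qimg S := by
      refine Set.sdiff_singleton_eq_self fun h => ?_
      obtain ⟨x, hx, e⟩ := h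
      exact pi_ne_one (h1.symm ▸ (hgood d hd).2 x hx) e
    refine ⟨(h2 ▸ tr_qimg hS).set, fun g β hβ => ?_, closure_qimg _⟩
    obtain ⟨y, rfl⟩ := QuotientGroup.mk_surjective g
    obtain ⟨x, hx, rfl⟩ := hβ
    exact ⟨y * x * y⁻¹, ((hE.dc hd).stab_closure y.2 x hx).1, by simp⟩
  have HQ : M22 (qimg S) := M22.of_type hgrp h22 (conn_of_type hgrp h22)
  let el : ∀ {x}, x ∈ S → ↥(Subgroup.closure S) := fun {x} hx => ⟨x, Subgroup.subset_closure hx⟩
  let im : ∀ {x}, x ∈ S → ↥(Subgroup.closure S) ⧸ Subgroup.center ↥(Subgroup.closure S) :=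
    fun {x} hx => qpi S (el hx)
  have im_mem : ∀ {x} (hx : x ∈ S), im hx ∈ qimg S := fun hx => ⟨_, hx, rfl⟩
  have hcomS : ∀ {x y} (hx : x ∈ S) (hy : y ∈ S), Commute (im hx) (im hy) ↔ Commute x y :=
    fun hx hy => commute_pi_iff hS (h1.symm ▸ hx) (h1.symm ▸ hy)
  have himS : ∀ {x y} (hx : x ∈ S) (hy : y ∈ S), x = y → im hx = im hy :=
    fun hx hy e => by subst e; rfl
  have hliftS : ∀ β ∈ qimg S, ∃ x, ∃ hx : x ∈ S, im hx = β := by
    rintro β ⟨x, hx, rfl⟩
    exact ⟨_, hx, rfl⟩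
  obtain ⟨p, hp⟩ : S.Nonempty := by
    obtain ⟨β, ⟨x, hx, -⟩, -⟩ := exists_commuting_pair h22
    exact ⟨x, hx⟩
  have hdc_ne : ∀ v ∈ D, (Dc D v).Nonempty := fun v hv => by
    obtain ⟨g, rfl⟩ := htr d hd v hv
    exact ⟨_, (hcar g d).1 p hp⟩
  have hthird : ∀ u ∈ D, ∀ q ∈ Dc D u, ∃ z, z ∈ Dc (Dc D u) q := fun u hu q hq => by
    obtain ⟨g, rfl⟩ := htr d hd u hu
    have hq' : g⁻¹ * q * g ∈ S := (hcar g d).2 q hq
    obtain ⟨β, hβ⟩ := (HQ.model _ (im_mem hq')).1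
    obtain ⟨z, hz, rfl⟩ := hliftS β hβ.1
    refine ⟨g * z * g⁻¹, (hcar g d).1 z hz, fun e => hβ.2.1 (himS hz hq' ?_), ?_⟩
    · rw [← e]; group
    · have := (commute_conj_iff g).2 ((hcomS hq' hz).1 hβ.2.2)
      rwa [show g * (g⁻¹ * q * g) * g⁻¹ = q by group] at this
  have hT : Fischer.TClass D :=
    ⟨⟨fun x hx => sq_one hD.1 hx, fun x hx => ne_one hD.1 hx, hD.1.2, hD.2.1⟩, htr, hD.2.2, ⟨d, hd⟩⟩
  suffices hblock : ∀ v ∈ D, v ∈ Fischer.block D d by
    intro a ha v hv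
    show v ∈ Fischer.block D a
    rw [Fischer.block_eq hd (hblock a ha)]
    exact hblock v hv
  intro y₀ hy₀
  by_contra hy₀B
  generalize hB : Fischer.block D d = B at hy₀B
  have hBD : ∀ {v}, v ∈ B → v ∈ D := fun h => Fischer.block_subset hd (hB.symm ▸ h)
  have hsub : ∀ {v w}, v ∈ B → w ∈ Dc D v → w ∈ B := fun {v w} hv hw => by
    rw [← hB] at hv ⊢
    exact Relation.ReflTransGen.tail (hv : Relation.ReflTransGen _ d v) ⟨hw.1, hw.2.2⟩
  have hdB : d ∈ B := hB ▸ Fischer.block_mem_self d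
  -- the component is one class of the group it generates
  have hfrom : ∀ v ∈ B, ∃ g ∈ Subgroup.closure B, g * d * g⁻¹ = v := by
    intro v hv
    have hv' : Relation.ReflTransGen (Fischer.CAdj D) d v := by
      rw [← hB] at hv
      exact hv
    clear hv
    induction hv' with
    | refl => exact ⟨1, one_mem _, by simp⟩
    | @tail u q hu hs ih =>
      obtain ⟨g, hg, hgu⟩ := ih
      by_cases huq : q = u
      · exact ⟨g, hg, hgu.trans huq.symm⟩
      have huB : u ∈ B := hB ▸ hu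
      have hq : q ∈ Dc D u := ⟨hs.1, huq, hs.2⟩
      obtain ⟨z, hz⟩ := hthird u (hBD huB) q hq
      have hzD : z ∈ D := hz.1.1
      have huz : u ∈ Dc D z := ⟨hBD huB, hz.1.2.1.symm, hz.1.2.2.symm⟩
      have hqz : q ∈ Dc D z := ⟨hs.1, hz.2.1.symm, hz.2.2.symm⟩
      obtain ⟨k, hk, hku⟩ := ((hgood z hzD).1 u q ((hgood z hzD).2 u huz)
        ((hgood z hzD).2 q hqz)).exists_conj (hE.dc hzD)
      refine ⟨k * g, mul_mem (Subgroup.closure_mono (fun w hw => hsub (hsub huB hz.1) hw) hk) hg, ?_⟩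
      rw [← hku, ← hgu]
      group
  have htransB : ∀ u ∈ B, ∀ v ∈ B, ∃ g ∈ Subgroup.closure B, g * u * g⁻¹ = v := fun u hu v hv => by
    obtain ⟨g, hg, rfl⟩ := hfrom u hu
    obtain ⟨k, hk, rfl⟩ := hfrom v hv
    exact ⟨k * g⁻¹, mul_mem hk (inv_mem hg), by group⟩
  -- the six factors
  obtain ⟨β, hβ⟩ := (HQ.model _ (im_mem hp)).1
  obtain ⟨q, hq, rfl⟩ := hliftS β hβ.1
  obtain ⟨γ, hγ⟩ := (HQ.line _ (im_mem hp)).1 _ hβ
  obtain ⟨r, hr, rfl⟩ := hliftS γ hγ.1.1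
  obtain ⟨f₁, f₂, f₃, ⟨t1, t2, t3⟩, ⟨n12, n13, n23⟩, -, he⟩ := HQ.triple (im_mem hp) hβ hγ
  have k12 := M22.twin_commute t1 t2
  have k13 := M22.twin_commute t1 t3
  have k23 := M22.twin_commute t2 t3
  obtain ⟨f₁, hf₁, rfl⟩ := hliftS f₁ t1.1.1.1
  obtain ⟨f₂, hf₂, rfl⟩ := hliftS f₂ t2.1.1.1
  obtain ⟨f₃, hf₃, rfl⟩ := hliftS f₃ t3.1.1.1
  set P := (f₁ * f₂ * f₃)⁻¹ * (p * q * r) with hPdef
  have hPd : Commute P d :=
    ((hf₁.2.2.mul_right hf₂.2.2).mul_right hf₃.2.2).symm.inv_left.mul_left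
      ((hp.2.2.mul_right hq.2.2).mul_right hr.2.2).symm
  have hPS : ∀ y ∈ S, Commute P y := fun y hy => by
    have hπ : qpi S ((el hf₁ * el hf₂ * el hf₃)⁻¹ * (el hp * el hq * el hr)) = 1 := by
      rw [map_mul, map_inv, inv_mul_eq_one, map_mul, map_mul, map_mul, map_mul]
      exact he
    exact (pi_eq_one hπ (el hy)).symm
  -- carried to the chart at `d`
  obtain ⟨g, hg⟩ := htr d hd p hp.1
  have ha : g⁻¹ * d * g ∈ S := by
    have := (hcar g⁻¹ p).1 d (mem_dc_symm hd hp)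
    rw [inv_inv, show g⁻¹ * p * g = d by rw [← hg]; group] at this
    exact this
  have ega : g * (g⁻¹ * d * g) * g⁻¹ = d := by group
  have egP : g * (g⁻¹ * P * g) * g⁻¹ = P := by group
  have back : ∀ k : G, (∀ v ∈ Fischer.block D (g⁻¹ * d * g), Commute (g⁻¹ * k * g) v) →
      ∀ v ∈ B, Commute k v := fun k hk v hv => by
    have hv' : g⁻¹ * v * g ∈ Fischer.block D (g⁻¹ * d * g) := by
      have h : (fun w => g⁻¹ * w * g⁻¹⁻¹) v ∈ (fun w => g⁻¹ * w * g⁻¹⁻¹) '' Fischer.block D d :=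
        ⟨v, hB.symm ▸ hv, rfl⟩
      rw [Fischer.block_conj hT] at h
      simpa using h
    have h := (commute_conj_iff g).2 (hk _ hv')
    rwa [show g * (g⁻¹ * k * g) * g⁻¹ = k by group, show g * (g⁻¹ * v * g) * g⁻¹ = v by group] at h
  rcases eq_block hD hgood hd HQ ha (z := g⁻¹ * P * g)
      ((commute_conj_iff g).1 (by rw [ega, egP]; exact hPd))
      (fun y hy => (commute_conj_iff g).1 (by
        rw [egP]
        refine hPS _ ?_
        have := (hcar g (g⁻¹ * d * g)).1 y hy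
        rwa [ega] at this)) with hfix | hfix
  · -- the two triples would have the same factors in the component
    have hPB : ∀ v ∈ B, Commute P v := back P hfix
    have hTr : Tr B := hE.of_subset (fun v hv => hBD hv) fun x hx v hv => by
      have h : (fun w => x * w * x⁻¹) '' Fischer.block D v = Fischer.block D v :=
        Fischer.invol_fix_block hT (hBD hx) (by
          rw [← hB] at hx hv
          rw [Fischer.block_eq hd hx]
          exact hv)
      rw [← hB] at hv ⊢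
      rw [← Fischer.block_eq hd hv, ← h]
      exact ⟨v, Fischer.block_mem_self _, by rw [hE.inv (Fischer.block_subset hd (hB.symm ▸ hx))]⟩
    have hB1 : B \ {1} = B := Set.sdiff_singleton_eq_self fun h => ne_one hD.1 (hBD h) rfl
    have hSB : Tr (B \ {1}) := hB1.symm ▸ hTr
    have hact : ∀ v ∈ B, Active (B \ {1}) v := fun v hv => by
      rw [hB1]
      obtain ⟨x, hx⟩ := hdc_ne v (hBD hv)
      obtain ⟨-, y, hy, hvy⟩ := (hgood x hx.1).2 v ⟨hBD hv, hx.2.1.symm, hx.2.2.symm⟩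
      exact ⟨hv, y, hsub (hsub hv hx) hy, hvy⟩
    let jm : ∀ {v}, v ∈ B → ↥(Subgroup.closure B) ⧸ Subgroup.center ↥(Subgroup.closure B) :=
      fun {v} hv => qpi B ⟨v, Subgroup.subset_closure hv⟩
    have jm_mem : ∀ {v} (hv : v ∈ B), jm hv ∈ qimg B := fun hv => ⟨_, hv, rfl⟩
    have surj : ∀ β ∈ qimg B, ∃ v, ∃ hv : v ∈ B, jm hv = β := by
      rintro β ⟨x, hx, rfl⟩
      exact ⟨_, hx, rfl⟩
    have hcom : ∀ {u v} (hu : u ∈ B) (hv : v ∈ B), Commute (jm hu) (jm hv) ↔ Commute u v :=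
      fun hu hv => commute_pi_iff hSB (hB1.symm ▸ hu) (hB1.symm ▸ hv)
    have hinj : ∀ {u v} (hu : u ∈ B) (hv : v ∈ B), jm hu = jm hv → u = v := fun {u v} hu hv e =>
      pi_inj hSB (x := ⟨u, Subgroup.subset_closure hu⟩) (y := ⟨v, Subgroup.subset_closure hv⟩)
        (hact u hu) (hact v hv) e
    have hdc : ∀ {u v} (hu : u ∈ B) (hv : v ∈ B),
        jm hv ∈ Dc (qimg B) (jm hu) ↔ v ∈ Dc D u := fun {u v} hu hv =>
      ⟨fun h => ⟨hBD hv, fun e => h.2.1 (by subst e; rfl), (hcom hu hv).1 h.2.2⟩,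
        fun h => ⟨jm_mem hv, fun e => h.2.1 (hinj hv hu e), (hcom hu hv).2 h.2.2⟩⟩
    have hdc2 : ∀ {u b v} (hu : u ∈ B) (hb : b ∈ B) (hv : v ∈ B),
        jm hv ∈ Dc (Dc (qimg B) (jm hu)) (jm hb) ↔ v ∈ Dc (Dc D u) b := fun {u b v} hu hb hv =>
      ⟨fun h => ⟨(hdc hu hv).1 h.1, fun e => h.2.1 (by subst e; rfl), (hcom hb hv).1 h.2.2⟩,
        fun h => ⟨(hdc hu hv).2 h.1, fun e => h.2.1 (hinj hv hb e), (hcom hb hv).2 h.2.2⟩⟩
    have h1B : qimg B \ {1} = qimg B := Set.sdiff_singleton_eq_self fun h => by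
      obtain ⟨x, hx, e⟩ := h
      exact pi_ne_one (hact _ hx) e
    have hn2 : ∀ β ∈ qimg B, NoTwin (Dc (qimg B) β) := by
      intro β hβ e he f hf hne hc hs
      obtain ⟨u, hu, rfl⟩ := surj β hβ
      obtain ⟨e, heB, rfl⟩ := surj e he.1
      obtain ⟨f, hfB, rfl⟩ := surj f hf.1
      refine (hsec u (hBD hu)).2.2.1 e ((hdc hu heB).1 he) f ((hdc hu hfB).1 hf)
        (fun h => hne (by subst h; rfl)) ((hcom heB hfB).1 hc) fun x hx => ?_
      exact ((hcom (hsub hu hx) heB).symm.trans (hs _ ((hdc hu (hsub hu hx)).2 hx))).trans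
        (hcom (hsub hu hx) hfB)
    have hn3 : ∀ β ∈ qimg B, ∀ δ ∈ Dc (qimg B) β, NoTwin (Dc (Dc (qimg B) β) δ) := by
      intro β hβ δ hδ e he f hf hne hc hs
      obtain ⟨u, hu, rfl⟩ := surj β hβ
      obtain ⟨b, hb, rfl⟩ := surj δ hδ.1
      obtain ⟨e, heB, rfl⟩ := surj e he.1.1
      obtain ⟨f, hfB, rfl⟩ := surj f hf.1.1
      refine (hsec u (hBD hu)).2.2.2 b ((hdc hu hb).1 hδ) e ((hdc2 hu hb heB).1 he) f
        ((hdc2 hu hb hfB).1 hf) (fun h => hne (by subst h; rfl)) ((hcom heB hfB).1 hc) fun x hx => ?_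
      exact ((hcom (hsub hu hx.1) heB).symm.trans (hs _ ((hdc2 hu hb (hsub hu hx.1)).2 hx))).trans
        (hcom (hsub hu hx.1) hfB)
    have mB : ∀ {x}, x ∈ S → x ∈ B := fun hx => hsub hdB hx
    have heB : jm (mB hp) * jm (mB hq) * jm (mB hr) = jm (mB hf₁) * jm (mB hf₂) * jm (mB hf₃) := by
      simp only [jm, ← map_mul]
      refine (QuotientGroup.eq.2 (Subgroup.mem_center_iff.2 fun y => Subtype.ext ?_)).symm
      have hle : Subgroup.closure B ≤ Subgroup.centralizer ({P} : Set G) :=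
        (Subgroup.closure_le _).2 fun v hv =>
          Subgroup.mem_centralizer_singleton_iff.2 (hPB v hv).eq.symm
      exact Subgroup.mem_centralizer_singleton_iff.1 (hle y.2)
    have ne : ∀ {x y} (hx : x ∈ S) (hy : y ∈ S), im hx ≠ im hy → jm (mB hx) ≠ jm (mB hy) :=
      fun hx hy h e => h (himS hx hy (hinj (mB hx) (mB hy) e))
    have cm : ∀ {x y} (hx : x ∈ S) (hy : y ∈ S), Commute (im hx) (im hy) →
        Commute (jm (mB hx)) (jm (mB hy)) := fun hx hy h => (hcom (mB hx) (mB hy)).2 ((hcomS hx hy).1 h)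
    rcases mem_of_prod_three (h1B ▸ tr_qimg hSB) hn2 hn3 (jm_mem (mB hp)) (jm_mem (mB hq))
      (jm_mem (mB hr)) (jm_mem (mB hf₁)) (jm_mem (mB hf₂)) (jm_mem (mB hf₃))
      (ne hp hq hβ.2.1.symm) (ne hp hr hγ.1.2.1.symm) (ne hq hr hγ.2.1.symm)
      (cm hp hq hβ.2.2) (cm hp hr hγ.1.2.2) (cm hq hr hγ.2.2) (ne hf₁ hf₂ n12) (ne hf₁ hf₃ n13)
      (ne hf₂ hf₃ n23) (cm hf₁ hf₂ k12) (cm hf₁ hf₃ k13) (cm hf₂ hf₃ k23) heB with h | h | h
    · exact t1.1.1.2.1 (himS hf₁ hp (hinj (mB hf₁) (mB hp) h.symm))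
    · exact t2.1.1.2.1 (himS hf₂ hp (hinj (mB hf₂) (mB hp) h.symm))
    · exact t3.1.1.2.1 (himS hf₃ hp (hinj (mB hf₃) (mB hp) h.symm))
  · -- an even word acts on the component as `d`
    have hdP : ∀ v ∈ B, Commute (d * P) v := back _ fun v hv => by
      have := hfix v hv
      rwa [show g⁻¹ * d * g * (g⁻¹ * P * g) = g⁻¹ * (d * P) * g by group] at this
    refine false_of_mover hD hT hd hB.symm hy₀ hy₀B ⟨P, ?_, fun v hv => ?_⟩ htransB
      fun v hv => hdc_ne v (hBD hv)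
    · let cB : ∀ {x}, x ∈ S → ↥(Subgroup.closure B) :=
        fun {x} hx => ⟨x, Subgroup.subset_closure (hsub hdB hx)⟩
      let φ : ↥(Subgroup.closure B) →* Abelianization ↥(Subgroup.closure B) := Abelianization.of
      have hconst : ∀ {x} (hx : x ∈ S), φ (cB hx) = φ ⟨d, Subgroup.subset_closure hdB⟩ := by
        intro x hx
        obtain ⟨k, hk, e⟩ := hfrom x (hsub hdB hx)
        rw [show cB hx = ⟨k, hk⟩ * ⟨d, Subgroup.subset_closure hdB⟩ * ⟨k, hk⟩⁻¹ from
          Subtype.ext e.symm, map_mul, map_mul, map_inv, mul_comm (φ ⟨k, hk⟩),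
          mul_inv_cancel_right]
      have hmem : ((cB hf₁ * cB hf₂ * cB hf₃)⁻¹ * (cB hp * cB hq * cB hr)) ∈
          commutator ↥(Subgroup.closure B) := by
        refine (QuotientGroup.eq_one_iff _).1 ?_
        show φ _ = 1
        simp only [map_mul, map_inv, hconst]
        exact inv_mul_cancel _
      rw [← Subgroup.map_subtype_commutator]
      exact ⟨_, hmem, rfl⟩
    · have := (hdP v hv).inv_left
      rwa [mul_inv_rev, inv_eq hD.1 hd] at this

/-- A group of type M(23) satisfies all of `M23`. -/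
theorem M23.of_group (hD : IsThreeTranspositionGroup D) (h23 : IsOfTypeM23 G D) : M23 D := by
  have hD1 : D \ {1} = D := Set.sdiff_singleton_eq_self fun h => ne_one hD.1 h rfl
  obtain ⟨-, hgood, ha, -⟩ := m23_level (hD1.symm ▸ tr_of_group hD) hD.2.2 h23
  rw [hD1] at hgood ha
  have htr : ∀ x ∈ D, ∀ y ∈ D, ∃ k : G, k * x * k⁻¹ = y := fun x hx y hy =>
    (Trans.of_conn (tr_of_group hD) hgood.1 ha x hx y hy).imp fun k h => h.1
  exact ⟨hD, conn_of_type23 hD h23, htr, NoTwin.of_thin hgood.2 ha,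
    sec_of_type hD htr (Or.inl h23), h23⟩

end Cfsg.Agent.Transpos
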