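import Cfsg.Agent.Lib.Transpos.M23Cent
import Cfsg.Agent.Lib.Presented.Fi22Config
import Cfsg.Agent.Lib.Presented.E7Word

/-!
# Nine members of a type M(23) group over the generators of Fi22

A `Frame` at a member `t` lifts the generators of Fi22, seen through an isomorphism with the chart at `t`, to
members commuting with `t`.  They satisfy the relations of the diagram and the spider relation; the ninth
powers of the two E7 sub-diagrams `abcdefh` and `bcdefgh` are not both `1` and not both `t`, and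
after exchanging the long arms if necessary the second is `t`.
-/

set_option autoImplicit false

namespace Cfsg.Agent.Transpos

open Cfsg Cfsg.Spor Cfsg.Agent.Presented

universe u

/-- A map from a presented Coxeter group given by involutions. -/
theorem exists_cox_hom {α : Type*} [DecidableEq α] {gens : List α} (hall : ∀ x, x ∈ gens)
    (hnd : gens.Nodup) {edges : List (α × ℕ × α)} {extra : List (FreeGroup α)}
    {P : Type*} [Group P] (y : ℕ → P) (hsq : ∀ k, k < gens.length → y k * y k = 1)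
    (hcox : ∀ (k l : ℕ) (hk : k < gens.length) (hl : l < gens.length),
      (y k * y l) ^ coxLabel edges gens[k] gens[l] = 1)
    (hex : ∀ r ∈ extra, wval y (letters gens r) = 1) :
    ∃ ψ : CoxPresented α edges extra →* P,
      ∀ k, k < gens.length → ψ (genFun gens edges extra k) = y k := by
  have hidx : ∀ x, gens.idxOf x < gens.length := fun x => List.idxOf_lt_length_of_mem (hall x)
  refine ⟨PresentedGroup.toGroup (f := fun x => y (gens.idxOf x)) ?_, fun k hk => ?_⟩
  · intro r hr
    rcases hr with ⟨x, -, z, -, rfl⟩ | hr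
    · rw [map_pow, map_mul, FreeGroup.lift_apply_of, FreeGroup.lift_apply_of]
      have h := hcox _ _ (hidx x) (hidx z)
      rwa [List.getElem_idxOf, List.getElem_idxOf] at h
    · rw [lift_eq_wval _ (fun x => hsq _ (hidx x)) hall _ (fun _ => rfl)]
      exact hex r hr
  · rw [genFun, dif_pos hk, PresentedGroup.toGroup.of]
    exact congrArg y (hnd.idxOf_getElem k hk)

namespace M23Frame

open FiIndex (gen)

/-- The exchange of the long arms. -/
def swapGen (k : ℕ) : ℕ := [6, 5, 4, 3, 2, 1, 0, 7, 8].getD k k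

/-- The numbering of the diagram `abcdefh`. -/
def p₁ : List ℕ := [5, 4, 3, 2, 1, 0, 7]

/-- The numbering of the diagram `bcdefgh`. -/
def p₂ : List ℕ := [1, 2, 3, 4, 5, 6, 7]

/-- The numbering of the diagram `cdefghi`. -/
def p₃ : List ℕ := [8, 7, 3, 4, 5, 6, 2]

/-- The central word of the diagram of type E7. -/
def w7 : List ℕ := (List.replicate 9 [0, 1, 2, 3, 4, 5, 6]).flatten

/-- The spider word. -/
def spider : List ℕ := [8, 7, 3, 5, 4, 3, 1, 2, 3]

theorem gen_cox (k l : Fin 9) :
    (gen k.1 * gen l.1) ^ coxLabel Fi22.edges (FiIndex.gens.getD k.1 .a) (FiIndex.gens.getD l.1 .a) = 1 := by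
  have h : ∀ k l : Fin 9, FiU6Iso.same (List.replicate
      (coxLabel Fi22.edges (FiIndex.gens.getD k.1 .a) (FiIndex.gens.getD l.1 .a)) [l.1, k.1]).flatten [] = true := by
    decide +kernel
  have e := FiU6Iso.eq_of_same (h k l)
  generalize coxLabel Fi22.edges (FiIndex.gens.getD k.1 .a) (FiIndex.gens.getD l.1 .a) = n at e ⊢
  have hn : wval gen (List.replicate n [l.1, k.1]).flatten = (gen k.1 * gen l.1) ^ n := by
    clear e
    induction n with
    | zero => simp [wval]
    | succ n ih =>
      rw [List.replicate_succ, List.flatten_cons, wval_append, ih, pow_succ]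
      simp [wval]
  rw [← hn, e]
  rfl

theorem gen_eq_tau : ∀ k : Fin 9, gen k.1 = Fi22Pts.tau ([0, 2, 6, 16, 40, 88, 154, 43, 92].getD k.1 0) := by
  intro k
  have h : ∀ k : Fin 9,
      FiU6Iso.same [k.1] (Fi22Pts.tword ([0, 2, 6, 16, 40, 88, 154, 43, 92].getD k.1 0)) = true := by
    decide +kernel
  rw [Fi22Pts.tau, ← FiU6Iso.eq_of_same (h k)]
  simp [wval]

theorem gen_mem {k : ℕ} (hk : k < 9) : gen k ∈ conjugatesOf (gen 0) := by
  rw [gen_eq_tau ⟨k, hk⟩]
  exact Fi22Pts.tau_mem _

/-- Whether two generators commute. -/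
def commG (k l : ℕ) : Bool :=
  !(coxLabel Fi22.edges (FiIndex.gens.getD k .a) (FiIndex.gens.getD l .a) == 3)

theorem gen_commute (k l : Fin 9) : Commute (gen k.1) (gen l.1) ↔ commG k.1 l.1 = true := by
  have h : ∀ k l : Fin 9, (Nat.beq (Fi22Pts.tpt ([0, 2, 6, 16, 40, 88, 154, 43, 92].getD k.1 0)
        ([0, 2, 6, 16, 40, 88, 154, 43, 92].getD l.1 0)) ([0, 2, 6, 16, 40, 88, 154, 43, 92].getD l.1 0)) =
      commG k.1 l.1 := by decide +kernel
  have hlt : ∀ k : Fin 9, [0, 2, 6, 16, 40, 88, 154, 43, 92].getD k.1 0 < 3510 := by decide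
  rw [gen_eq_tau, gen_eq_tau, Fi22Pts.commute_iff (hlt k) (hlt l), h k l]

theorem gen_inj (k l : Fin 9) (h : gen k.1 = gen l.1) : k = l := by
  have h' : ∀ k l : Fin 9, [0, 2, 6, 16, 40, 88, 154, 43, 92].getD k.1 0 =
      [0, 2, 6, 16, 40, 88, 154, 43, 92].getD l.1 0 → k = l := by decide
  have hlt : ∀ k : Fin 9, [0, 2, 6, 16, 40, 88, 154, 43, 92].getD k.1 0 < 3510 := by decide
  rw [gen_eq_tau, gen_eq_tau] at h
  exact h' k l (Fi22Pts.tau_inj (hlt k) (hlt l) h)

theorem exists_word (m : Fi22) : ∃ w : List ℕ, (∀ g ∈ w, g < 9) ∧ wval gen w = m := by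
  have hm : m ∈ Subgroup.closure (gen '' {g | g < 9}) := by rw [FiOrder.closure_gens]; trivial
  induction hm using Subgroup.closure_induction with
  | mem x hx =>
    obtain ⟨g, hg, rfl⟩ := hx
    exact ⟨[g], by simpa using hg, by simp [wval]⟩
  | one => exact ⟨[], by simp, rfl⟩
  | mul x y _ _ hx hy =>
    obtain ⟨a, ha, rfl⟩ := hx
    obtain ⟨b, hb, rfl⟩ := hy
    exact ⟨b ++ a, fun g hg => (List.mem_append.1 hg).elim (hb g) (ha g), wval_append b a⟩
  | inv x _ hx =>
    obtain ⟨a, ha, rfl⟩ := hx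
    exact ⟨a.reverse, fun g hg => ha g (List.mem_reverse.1 hg), Fi22Pts.wval_reverse a⟩

/-- The exchange of the long arms as an endomorphism. -/
theorem exists_swap : ∃ σ : Fi22 →* Fi22, Function.Bijective σ ∧
    ∀ k, k < 9 → σ (gen k) = gen (swapGen k) := by
  have hlt : ∀ k, k < 9 → swapGen k < 9 := by decide
  obtain ⟨σ, hσ⟩ := exists_cox_hom (edges := Fi22.edges) (extra := Fi22.extra) FiIndex.gens_all
    FiIndex.gens_nodup (fun k => gen (swapGen k)) (fun k _ => FiIndex.gens_all |> fun _ =>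
      Fi22Pts.gen_sq _) (fun k l hk hl => by
      have h : ∀ k l : Fin 9,
          coxLabel Fi22.edges (FiIndex.gens.getD k.1 .a) (FiIndex.gens.getD l.1 .a) =
            coxLabel Fi22.edges (FiIndex.gens.getD (swapGen k.1) .a) (FiIndex.gens.getD (swapGen l.1) .a) := by
        decide +kernel
      rw [← List.getD_eq_getElem _ .a hk, ← List.getD_eq_getElem _ .a hl, h ⟨k, hk⟩ ⟨l, hl⟩]
      exact gen_cox ⟨_, hlt k hk⟩ ⟨_, hlt l hl⟩) (fun r hr => by
      have h : Fi22.extra.all (fun r => FiU6Iso.same ((letters FiIndex.gens r).map swapGen) []) = true := by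
        decide +kernel
      have e := FiU6Iso.eq_of_same (List.all_eq_true.1 h r hr)
      have hm : ∀ w : List ℕ, wval (fun k => gen (swapGen k)) w = wval gen (w.map swapGen) := by
        intro w
        induction w with
        | nil => rfl
        | cons g w ih => rw [List.map_cons, wval, wval, ih]
      rw [hm, e]; rfl)
  have hlen : FiIndex.gens.length = 9 := rfl
  have := FiOrder.card_le.1
  have := FiOrder.simple_fi22
  refine ⟨σ, (Finite.injective_iff_bijective).1 ?_, fun k hk => hσ k (by rw [hlen]; exact hk)⟩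
  rw [← MonoidHom.ker_eq_bot_iff]
  refine (σ.normal_ker.eq_bot_or_eq_top).resolve_right fun h => ?_
  have h0 : gen 0 ∈ σ.ker := h ▸ Subgroup.mem_top _
  rw [MonoidHom.mem_ker, hσ 0 (by rw [hlen]; norm_num)] at h0
  obtain ⟨c, hc⟩ := isConj_iff.mp (gen_mem (hlt 0 (by norm_num)))
  refine FiU6Iso.gen0_ne_one ?_
  rw [h0] at hc
  exact conj_eq_one_iff.1 hc

end M23Frame

open M23Frame

variable {G : Type u} [Group G] {D : Set G} {t : G}

/-- Nine members over the generators of Fi22. -/
structure Frame (H : M23 D) (t : G) (C : Chart D t) (x : ℕ → G) (φ : Fi22 →* C.Q) : Prop where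
  ht : t ∈ D
  mem : ∀ k, x k ∈ Dc D t
  img : ∀ k, k < 9 → C.img (mem k) = φ (FiIndex.gen k)
  inj : Function.Injective φ
  cls : ∀ β ∈ C.E, ∃ m ∈ conjugatesOf (FiIndex.gen 0), φ m = β

namespace Frame

set_option linter.unusedSectionVars false

variable [Finite G] {H : M23 D} {C : Chart D t} {x : ℕ → G} {φ : Fi22 →* C.Q} (F : Frame H t C x φ)
include F

theorem sq (k : ℕ) : x k * x k = 1 := sq_one H.grp.1 (F.mem k).1

theorem wval_mem : ∀ w : List ℕ, wval x w ∈ Subgroup.closure (Dc D t)
  | [] => one_mem _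
  | g :: w => mul_mem (wval_mem w) (Subgroup.subset_closure (F.mem g))

theorem pi_wval : ∀ w : List ℕ, (∀ g ∈ w, g < 9) →
    C.π ⟨wval x w, F.wval_mem w⟩ = φ (wval FiIndex.gen w)
  | [], _ => by
    rw [show (⟨wval x [], F.wval_mem []⟩ : ↥(Subgroup.closure (Dc D t))) = 1 from rfl, map_one]
    exact (map_one φ).symm
  | g :: w, h => by
    rw [show (⟨wval x (g :: w), F.wval_mem _⟩ : ↥(Subgroup.closure (Dc D t))) =
      ⟨wval x w, F.wval_mem w⟩ * ⟨x g, Subgroup.subset_closure (F.mem g)⟩ from rfl, map_mul,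
      pi_wval w fun k hk => h k (List.mem_cons_of_mem _ hk), wval, map_mul]
    exact congrArg _ (F.img g (h g List.mem_cons_self))

theorem commute_t (w : List ℕ) : Commute (wval x w) t :=
  Subgroup.mem_centralizer_singleton_iff.1 ((H.cent_eq F.ht).ge (F.wval_mem w))

/-- An element of the kernel is `1` or `t`. -/
theorem ker_eq {z : ↥(Subgroup.closure (Dc D t))} (hz : C.π z = 1) : (z : G) = 1 ∨ (z : G) = t :=
  H.eq_one_or_eq H.charts F.ht (Subgroup.mem_centralizer_singleton_iff.1 ((H.cent_eq F.ht).ge z.2))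
    fun y hy => congrArg Subtype.val (C.ker z hz ⟨y, Subgroup.subset_closure hy⟩).eq

/-- A relation of Fi22 holds up to `t`. -/
theorem rel {w : List ℕ} (hw : ∀ g ∈ w, g < 9) (h : wval FiIndex.gen w = 1) :
    wval x w = 1 ∨ wval x w = t :=
  F.ker_eq (z := ⟨_, F.wval_mem w⟩) (by rw [F.pi_wval w hw, h, map_one])

theorem commute_iff {k l : ℕ} (hk : k < 9) (hl : l < 9) :
    Commute (x k) (x l) ↔ commG k l = true := by
  rw [← C.comm_iff H F.ht (F.mem k) (F.mem l), F.img k hk, F.img l hl, ← gen_commute ⟨k, hk⟩ ⟨l, hl⟩]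
  exact ⟨fun h => F.inj (by rw [map_mul, map_mul]; exact h.eq), fun h => h.map φ⟩

theorem ne {k l : ℕ} (hk : k < 9) (hl : l < 9) (h : k ≠ l) : x k ≠ x l := fun e =>
  h (congrArg Fin.val (gen_inj ⟨k, hk⟩ ⟨l, hl⟩ (F.inj (by
    rw [← F.img k hk, ← F.img l hl]
    exact C.img_congr _ _ e))))

theorem cox {k l : ℕ} (hk : k < 9) (hl : l < 9) :
    (x k * x l) ^ coxLabel Fi22.edges (FiIndex.gens.getD k .a) (FiIndex.gens.getD l .a) = 1 := by
  have h : ∀ k l : Fin 9,
      let m := coxLabel Fi22.edges (FiIndex.gens.getD k.1 .a) (FiIndex.gens.getD l.1 .a)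
      (m = 1 ∧ k = l) ∨ (m = 2 ∧ commG k.1 l.1 = true) ∨ (m = 3 ∧ commG k.1 l.1 = false) := by
    decide +kernel
  rcases h ⟨k, hk⟩ ⟨l, hl⟩ with ⟨hm, he⟩ | ⟨hm, hc⟩ | ⟨hm, hc⟩ <;> rw [hm]
  · have : k = l := congrArg Fin.val he
    subst this
    rw [pow_one, F.sq]
  · have hc' := (F.commute_iff hk hl).2 hc
    rw [pow_two, hc'.symm.mul_mul_mul_comm, F.sq, F.sq, one_mul]
  · refine pow_three_of_not_commute H.grp.1 (F.mem k).1 (F.mem l).1 fun h => ?_
    rw [F.commute_iff hk hl, hc] at h
    exact Bool.false_ne_true h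

/-- The spider relation holds. -/
theorem spider_one : wval x (List.replicate 10 spider).flatten = 1 := by
  set u := wval x (List.replicate 5 spider).flatten
  set S := Subgroup.closure (Dc D t)
  have hlt : ∀ g ∈ (List.replicate 5 spider).flatten, g < 9 := by decide
  let u' : ↥S := ⟨u, F.wval_mem _⟩
  have h2 : wval x (List.replicate 10 spider).flatten = u * u := by
    rw [show (List.replicate 10 spider).flatten =
      (List.replicate 5 spider).flatten ++ (List.replicate 5 spider).flatten from rfl, wval_append]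
  have hπ : C.π u' * C.π u' = 1 := by
    rw [F.pi_wval _ hlt, ← map_mul, ← wval_append, FiU6Iso.eq_of_same (v := []) (by decide +kernel)]
    exact map_one φ
  have : Nonempty C.E := ⟨⟨_, C.img_mem (F.mem 0)⟩⟩
  obtain ⟨l, -, -, hlE, hlc, hlp⟩ := C.m22.full'.short _ hπ
  have key : ∀ l : List C.Q, (∀ β ∈ l, β ∈ C.E) → ∃ P : ↥S, C.π P = l.prod ∧
      ((∀ α ∈ l, ∀ β ∈ l, Commute α β) → (P : G) * P = 1 ∧
        ∀ γ ∈ C.E, (∀ β ∈ l, Commute γ β) → ∀ y (hy : y ∈ Dc D t), C.img hy = γ → Commute y (P : G)) := by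
    intro l
    induction l with
    | nil => exact fun _ => ⟨1, map_one _, fun _ => ⟨one_mul 1, fun _ _ _ _ _ _ => Commute.one_right _⟩⟩
    | cons β l ih =>
      intro hl
      obtain ⟨P, hP, hP'⟩ := ih fun α hα => hl α (List.mem_cons_of_mem _ hα)
      obtain ⟨b, hb, hbe⟩ := C.lift β (hl β List.mem_cons_self)
      refine ⟨⟨b, Subgroup.subset_closure hb⟩ * P, ?_, fun hc => ?_⟩
      · rw [map_mul, hbe, hP, List.prod_cons]
      obtain ⟨hPP, hcomm⟩ := hP' fun α hα γ hγ =>
        hc α (List.mem_cons_of_mem _ hα) γ (List.mem_cons_of_mem _ hγ)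
      have hbP : Commute b (P : G) := hcomm β (hl β List.mem_cons_self)
        (fun α hα => hc β List.mem_cons_self α (List.mem_cons_of_mem _ hα)) b hb hbe
      refine ⟨?_, fun γ hγ hγl y hy e => ?_⟩
      · show b * (P : G) * (b * (P : G)) = 1
        rw [hbP.symm.mul_mul_mul_comm, sq_one H.grp.1 hb.1, hPP, one_mul]
      · refine Commute.mul_right ((C.comm_iff H F.ht hy hb).1 ?_)
          (hcomm γ hγ (fun α hα => hγl α (List.mem_cons_of_mem _ hα)) y hy e)
        rw [e, show C.img hb = β from hbe]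
        exact hγl β List.mem_cons_self
  obtain ⟨P, hP, hP'⟩ := key l hlE
  obtain ⟨hPP, -⟩ := hP' hlc
  have hk : C.π (P⁻¹ * u') = 1 := by rw [map_mul, map_inv, hP, hlp, inv_mul_cancel]
  have hkt : Commute (P : G) ((P : G)⁻¹ * u) :=
    congrArg Subtype.val (C.ker _ hk P).eq.symm
  have hu : u = (P : G) * ((P : G)⁻¹ * u) := by group
  rw [h2, hu, hkt.symm.mul_mul_mul_comm, hPP, one_mul]
  rcases F.ker_eq hk with h | h <;>
    rw [show (P : G)⁻¹ * u = ((P⁻¹ * u' : ↥S) : G) from rfl, h]
  · exact one_mul 1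
  · exact sq_one H.grp.1 F.ht

/-- Conjugates of the nine commute with `t` and are members. -/
theorem conj_mem (a : List ℕ) {c : ℕ} : wval x (a ++ [c] ++ a.reverse) ∈ Dc D t := by
  induction a with
  | nil => simpa [wval] using F.mem c
  | cons g a ih =>
    rw [List.reverse_cons, List.cons_append, List.cons_append, ← List.append_assoc, wval, wval_append]
    simpa [wval] using (H.tr.dc F.ht).conj _ (F.mem g) _ ih

/-- The members commuting with `t` are conjugates of the first of the nine. -/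
theorem exists_conj {y : G} (hy : y ∈ Dc D t) : ∃ a : List ℕ, (∀ g ∈ a, g < 9) ∧
    wval x (a ++ [0] ++ a.reverse) = y := by
  obtain ⟨m, hm, e⟩ := F.cls _ (C.img_mem hy)
  obtain ⟨q, rfl⟩ := isConj_iff.mp hm
  obtain ⟨a, ha, ea⟩ := exists_word q⁻¹
  refine ⟨a, ha, C.inj H F.ht (F.conj_mem a) hy ?_⟩
  have hlt : ∀ g ∈ a ++ [0] ++ a.reverse, g < 9 := by
    intro g hg
    simp only [List.mem_append, List.mem_singleton, List.mem_reverse] at hg
    rcases hg with (hg | rfl) | hg
    exacts [ha g hg, by norm_num, ha g hg]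
  rw [← e]
  refine (F.pi_wval _ hlt).trans (congrArg φ ?_)
  rw [wval_append, wval_append, Fi22Pts.wval_reverse, ea]
  simp [wval, mul_assoc]

/-- A subgroup containing the nine contains the centraliser of `t`. -/
theorem le_of_gens {K : Subgroup G} (h : ∀ k, k < 9 → x k ∈ K) :
    Subgroup.centralizer ({t} : Set G) ≤ K := by
  rw [H.cent_eq F.ht, Subgroup.closure_le]
  intro y hy
  obtain ⟨a, ha, rfl⟩ := F.exists_conj hy
  have hw : ∀ w : List ℕ, (∀ g ∈ w, g < 9) → wval x w ∈ K := by
    intro w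
    induction w with
    | nil => exact fun _ => one_mem K
    | cons g w ih =>
      exact fun hw => mul_mem (ih fun k hk => hw k (List.mem_cons_of_mem _ hk))
        (h g (hw g List.mem_cons_self))
  refine hw _ fun g hg => ?_
  simp only [List.mem_append, List.mem_singleton, List.mem_reverse] at hg
  rcases hg with (hg | rfl) | hg
  exacts [ha g hg, by norm_num, ha g hg]

/-- The ninth power in the diagram numbered by `p`. -/
theorem e7_same {p : List ℕ} (hp : p = p₁ ∨ p = p₂ ∨ p = p₃) {u v : List ℕ}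
    (h : Sp6.sameOK u v = true) (hlen : (u.length % 2 == v.length % 2) = true) :
    wval x (u.map fun j => p.getD j 0) = wval x (v.map fun j => p.getD j 0) := by
  have hm : ∀ w : List ℕ, wval x (w.map fun j => p.getD j 0) = wval (fun j => x (p.getD j 0)) w := by
    intro w
    induction w with
    | nil => rfl
    | cons g w ih => rw [List.map_cons, wval, wval, ih]
  have hlab : ∀ p ∈ [p₁, p₂, p₃], ∀ i j : Fin 7,
      p.getD i.1 0 < 9 ∧ p.getD j.1 0 < 9 ∧ coxLabel E7.edges7 i j =
        coxLabel Fi22.edges (FiIndex.gens.getD (p.getD i.1 0) .a) (FiIndex.gens.getD (p.getD j.1 0) .a) := by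
    decide +kernel
  rw [hm, hm]
  refine E7Word.eq_of_same (fun i j => ?_) h hlen
  obtain ⟨hi, hj, e⟩ := hlab p (by simpa using hp) i j
  rw [e]
  exact F.cox hi hj

/-- The value of an E7 central word. -/
theorem z_cases {p : List ℕ} (hp : p = p₁ ∨ p = p₂ ∨ p = p₃) :
    wval x (w7.map fun j => p.getD j 0) = 1 ∨ wval x (w7.map fun j => p.getD j 0) = t := by
  have h : ∀ p ∈ [p₁, p₂, p₃], ((w7.map fun j => p.getD j 0).all fun g => Nat.blt g 9) = true ∧
      FiU6Iso.same (w7.map fun j => p.getD j 0) [] = true := by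
    decide +kernel
  obtain ⟨h1, h2⟩ := h p (by simpa using hp)
  simp only [List.all_eq_true, Nat.blt_eq] at h1
  exact F.rel h1 (FiU6Iso.eq_of_same h2)

/-- The two E7 central words have different values. -/
theorem z_ne : wval x (w7.map fun j => p₁.getD j 0) ≠ wval x (w7.map fun j => p₂.getD j 0) := by
  intro heq
  -- the lifts, multiplied by a suitable power of `t`, satisfy the relations of Fi22
  obtain ⟨ε, hε, hz⟩ : ∃ ε : G, (ε = 1 ∨ ε = t) ∧ wval x (w7.map fun j => p₁.getD j 0) = ε := by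
    rcases F.z_cases (p := p₁) (Or.inl rfl) with h | h
    exacts [⟨1, Or.inl rfl, h⟩, ⟨t, Or.inr rfl, h⟩]
  have hεc : ∀ w, Commute (wval x w) ε := fun w => by
    rcases hε with rfl | rfl
    exacts [Commute.one_right _, F.commute_t w]
  have hx : ∀ k, Commute (x k) ε := fun k => by simpa [wval] using hεc [k]
  have hε2 : ε * ε = 1 := by
    rcases hε with rfl | rfl
    exacts [one_mul 1, sq_one H.grp.1 F.ht]
  have hw : ∀ w : List ℕ, wval (fun k => x k * ε) w = wval x w * ε ^ w.length := by
    intro w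
    induction w with
    | nil => simp [wval]
    | cons g w ih =>
      rw [wval, wval, ih, List.length_cons, pow_succ, mul_assoc, mul_assoc,
        ← mul_assoc (ε ^ _), ((hx g).pow_right _).symm.eq, mul_assoc]
  have hev : ∀ n, ε ^ (2 * n) = 1 := fun n => by rw [pow_mul, pow_two, hε2, one_pow]
  obtain ⟨ψ, hψ⟩ := exists_cox_hom (edges := Fi22.edges) (extra := Fi22.extra) FiIndex.gens_all
    FiIndex.gens_nodup (fun k => x k * ε) (fun k _ => by
      rw [(hx k).symm.mul_mul_mul_comm, F.sq, hε2, one_mul]) (fun k l hk hl => by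
      rw [mul_assoc, ← mul_assoc ε, (hx l).symm.eq, mul_assoc (x l), hε2, mul_one,
        ← List.getD_eq_getElem _ .a hk, ← List.getD_eq_getElem _ .a hl]
      exact F.cox hk hl) (fun r hr => by
      have hl : Fi22.extra.map (letters FiIndex.gens) = [(List.replicate 10 spider).flatten,
          ((List.replicate 9 [6, 0, 1, 2, 3, 4, 5]).flatten.map fun j => p₁.getD j 0),
          ((List.replicate 9 [6, 5, 4, 3, 2, 1, 0]).flatten.map fun j => p₂.getD j 0)] := by
        decide +kernel
      have hr' := List.mem_map_of_mem (f := letters FiIndex.gens) hr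
      rw [hl] at hr'
      simp only [List.mem_cons, List.not_mem_nil, or_false] at hr'
      rw [hw]
      rcases hr' with e | e | e <;> rw [e]
      · rw [F.spider_one, show ((List.replicate 10 spider).flatten).length = 2 * 45 from rfl, hev, one_mul]
      · rw [F.e7_same (p := p₁) (Or.inl rfl) (v := w7) (by decide +kernel) (by decide), hz,
          List.length_map, show ((List.replicate 9 [6, 0, 1, 2, 3, 4, 5]).flatten).length = 2 * 31 + 1
            from rfl, pow_succ, hev, one_mul, hε2]
      · rw [F.e7_same (p := p₂) (Or.inr (Or.inl rfl)) (v := w7) (by decide +kernel) (by decide), ← heq, hz,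
          List.length_map, show ((List.replicate 9 [6, 5, 4, 3, 2, 1, 0]).flatten).length = 2 * 31 + 1
            from rfl, pow_succ, hev, one_mul, hε2])
  have hψ' : ∀ k, k < 9 → ψ (FiIndex.gen k) = x k * ε := fun k hk => hψ k hk
  have htS : t ∈ Subgroup.closure (Dc D t) := H.mem_closure_dc F.ht
  -- the values lie in the centraliser of `t` and lift the map to the chart
  have hψm : ∀ m : Fi22, ∃ hm : ψ m ∈ Subgroup.closure (Dc D t), C.π ⟨ψ m, hm⟩ = φ m := by
    intro m
    obtain ⟨a, ha, rfl⟩ := exists_word m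
    have hεS : ε ∈ Subgroup.closure (Dc D t) := by
      rcases hε with rfl | rfl
      exacts [one_mem _, htS]
    have hπε : C.π ⟨ε, hεS⟩ = 1 := by
      rcases hε with rfl | hεt
      · exact map_one _
      · rw [← Subgroup.mem_bot, ← C.m22.center, Subgroup.mem_center_iff]
        intro q
        obtain ⟨q, rfl⟩ := C.surj q
        exact ((show Commute q ⟨ε, hεS⟩ from Subtype.ext (by
          show (q : G) * ε = ε * (q : G)
          rw [hεt]
          exact Subgroup.mem_centralizer_singleton_iff.1 ((H.cent_eq F.ht).ge q.2))).map C.π).eq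
    induction a with
    | nil => exact ⟨by simp [wval], by simp [wval]; exact map_one _⟩
    | cons g a ih =>
      have hg := ha g List.mem_cons_self
      obtain ⟨hm, e⟩ := ih fun k hk => ha k (List.mem_cons_of_mem _ hk)
      have hmem : ψ (wval FiIndex.gen (g :: a)) ∈ Subgroup.closure (Dc D t) := by
        rw [wval, map_mul, hψ' g hg]
        exact mul_mem hm (mul_mem (Subgroup.subset_closure (F.mem g)) hεS)
      refine ⟨hmem, ?_⟩
      rw [show (⟨_, hmem⟩ : ↥(Subgroup.closure (Dc D t))) =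
        ⟨_, hm⟩ * (⟨x g, Subgroup.subset_closure (F.mem g)⟩ * ⟨ε, hεS⟩) from
          Subtype.ext (by show ψ _ = ψ _ * (x g * ε); rw [wval, map_mul, hψ' g hg]),
        map_mul, map_mul, e, hπε, mul_one, wval, map_mul]
      exact congrArg _ (F.img g hg)
  -- so `t` is no value
  have htn : t ∉ ψ.range := by
    rintro ⟨m, hm⟩
    obtain ⟨hm', e⟩ := hψm m
    have h1 : φ m = 1 := by
      rw [← e, ← Subgroup.mem_bot, ← C.m22.center, Subgroup.mem_center_iff]
      intro q
      obtain ⟨q, rfl⟩ := C.surj q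
      exact ((show Commute q ⟨ψ m, hm'⟩ from Subtype.ext (by
        have := Subgroup.mem_centralizer_singleton_iff.1 ((H.cent_eq F.ht).ge q.2)
        simpa [hm] using this)).map C.π).eq
    rw [show m = 1 from F.inj (h1.trans (map_one φ).symm), map_one] at hm
    exact ne_one H.grp.1 F.ht hm.symm
  have hmemε : ∀ {y}, y ∈ Dc D t → y * ε ∈ ψ.range := fun {y} hy => by
    obtain ⟨a, ha, rfl⟩ := F.exists_conj hy
    have hlt : ∀ g ∈ a ++ [0] ++ a.reverse, g < 9 := by
      intro g hg
      simp only [List.mem_append, List.mem_singleton, List.mem_reverse] at hg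
      rcases hg with (hg | rfl) | hg
      exacts [ha g hg, by norm_num, ha g hg]
    have e : ψ (wval FiIndex.gen (a ++ [0] ++ a.reverse)) =
        wval (fun k => x k * ε) (a ++ [0] ++ a.reverse) := by
      generalize a ++ [0] ++ a.reverse = w at hlt
      induction w with
      | nil => exact map_one ψ
      | cons g w ih =>
        rw [wval, map_mul, hψ' g (hlt g List.mem_cons_self), ih fun k hk => hlt k (List.mem_cons_of_mem _ hk)]
        rfl
    refine ⟨_, e.trans ?_⟩
    have hlen : (a ++ [0] ++ a.reverse).length = 2 * a.length + 1 := by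
      simp only [List.length_append, List.length_cons, List.length_nil, List.length_reverse]; omega
    rw [hw, hlen, pow_succ, hev, one_mul]
  rcases hε with h1 | h1
  · refine htn ((Subgroup.closure_le _).2 (fun y hy => ?_) htS)
    simpa [h1] using hmemε hy
  · obtain ⟨p, q, r, f₁, f₂, f₃, ⟨hp, hq, hr⟩, ⟨hf₁, hf₂, hf₃⟩, e⟩ := H.six F.ht
    refine htn ?_
    have hP := mul_mem (inv_mem (mul_mem (mul_mem (hmemε hf₁) (hmemε hf₂)) (hmemε hf₃)))
      (mul_mem (mul_mem (hmemε hp) (hmemε hq)) (hmemε hr))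
    have c : ∀ {y}, y ∈ Dc D t → Commute t y := fun hy => hy.2.2
    have step : ∀ {a b c' : G}, Commute t b → Commute t c' → t * t = 1 →
        a * t * (b * t) * (c' * t) = a * b * c' * t := by
      intro a b c' hb hc' h2
      rw [mul_assoc a t, ← mul_assoc t b t, hb.eq, mul_assoc b t t, h2, mul_one]
      simp only [mul_assoc]
    rw [h1] at hε2
    simp only [h1] at hP
    rw [step (c hf₂) (c hf₃) hε2, step (c hq) (c hr) hε2, e, ← mul_assoc] at hP
    simp only [mul_assoc, inv_mul_cancel_left, hε2, mul_one, mul_inv_rev] at hP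
    exact inv_mem_iff.1 hP

end Frame

variable [Finite G]

/-- Some frame gives the diagram `bcdefgh` the central value `t`. -/
theorem M23.exists_frame (H : M23 D) (ht : t ∈ D) (C : Chart D t) (e : Fi22 ≃* C.Q)
    (he : e '' conjugatesOf (FiIndex.gen 0) = C.E) :
    ∃ (x : ℕ → G) (φ : Fi22 →* C.Q), Frame H t C x φ ∧
      wval x (w7.map fun j => p₂.getD j 0) = t := by
  classical
  have hE : ∀ k, k < 9 → e (FiIndex.gen k) ∈ C.E := fun k hk => he ▸ ⟨_, gen_mem hk, rfl⟩
  have hlift : ∀ k, ∃ y, ∃ hy : y ∈ Dc D t, k < 9 → C.img hy = e (FiIndex.gen k) := fun k => by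
    by_cases hk : k < 9
    · obtain ⟨y, hy, h⟩ := C.lift _ (hE k hk)
      exact ⟨y, hy, fun _ => h⟩
    · obtain ⟨y, hy⟩ := H.dc_nonempty ht
      exact ⟨y, hy, fun h => absurd h hk⟩
  choose x hx himg using hlift
  have F : Frame H t C x e.toMonoidHom := ⟨ht, hx, himg, e.injective, fun β hβ => by
    rw [← he] at hβ
    obtain ⟨m, hm, rfl⟩ := hβ
    exact ⟨m, hm, rfl⟩⟩
  rcases F.z_cases (p := p₂) (Or.inr (Or.inl rfl)) with h | h
  swap
  · exact ⟨x, _, F, h⟩
  obtain ⟨σ, hσ, hσg⟩ := M23Frame.exists_swap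
  refine ⟨fun k => x (swapGen k), MonoidHom.comp (N := Fi22) e.toMonoidHom σ,
    ⟨ht, fun k => hx (swapGen k), fun k hk => ?_, e.injective.comp hσ.1, fun β hβ => ?_⟩, ?_⟩
  · rw [MonoidHom.comp_apply, hσg k hk]
    exact himg _ (by revert k; decide)
  · rw [← he] at hβ
    obtain ⟨m, hm, rfl⟩ := hβ
    obtain ⟨q, rfl⟩ := isConj_iff.mp hm
    obtain ⟨q', rfl⟩ := hσ.2 q
    refine ⟨q' * FiIndex.gen 6 * q'⁻¹, ?_, ?_⟩
    · obtain ⟨c, hc⟩ := isConj_iff.mp (gen_mem (k := 6) (by norm_num))
      exact isConj_iff.mpr ⟨q' * c, by rw [← hc]; group⟩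
    · rw [MonoidHom.comp_apply, map_mul σ, map_mul σ, map_inv σ, hσg 6 (by norm_num)]
      rfl
  · have hm : ∀ w : List ℕ, wval (fun k => x (swapGen k)) w = wval x (w.map swapGen) := by
      intro w
      induction w with
      | nil => rfl
      | cons g w ih => rw [List.map_cons, wval, wval, ih]
    rw [hm, List.map_map, show w7.map (swapGen ∘ fun j => p₂.getD j 0) = w7.map (fun j => p₁.getD j 0) by
      decide]
    rcases F.z_cases (p := p₁) (Or.inl rfl) with h1 | h1
    · exact absurd (h1.trans h.symm) F.z_ne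
    · exact h1

end Cfsg.Agent.Transpos
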