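import Cfsg.Agent.Lib.Transpos.M23Cent
import Cfsg.Agent.Lib.Transpos.M23Count
import Cfsg.Agent.S0205

/-!
# Groups of type M(23): simplicity, centralisers of members, width

`quasisimple_dc` and `center_dc`: the group generated by the members commuting with `a` is quasisimple
with centre `⟨a⟩`; `isSimpleGroup`: the group is simple; `width`: the width is 23.
-/

set_option autoImplicit false
set_option linter.style.haveILetI false

namespace Cfsg.Agent.Transpos

open Cfsg Cfsg.Agent.ClassicalSimple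

universe u

variable {G : Type u} [Group G] [Finite G] {D : Set G}

namespace M23

variable (H : M23 D)
include H

/-- The centre of the group generated by the members commuting with `a`. -/
theorem center_dc {a : G} (ha : a ∈ D) :
    Subgroup.center ↥(Subgroup.closure (Dc D a)) =
      (Subgroup.zpowers a).subgroupOf (Subgroup.closure (Dc D a)) := by
  ext z
  rw [Subgroup.mem_subgroupOf, Subgroup.mem_center_iff]
  constructor
  · intro hz
    have hc : ∀ y ∈ Subgroup.closure (Dc D a), Commute (z : G) y := fun y hy =>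
      (congrArg Subtype.val (hz ⟨y, hy⟩)).symm
    rcases H.eq_one_or_eq H.charts ha (hc a (H.mem_closure_dc ha))
      (fun y hy => hc y (Subgroup.subset_closure hy)) with e | e <;> rw [e]
    exacts [one_mem _, Subgroup.mem_zpowers a]
  · intro hz y
    obtain ⟨k, hk⟩ := Subgroup.mem_zpowers_iff.1 hz
    have hy : Commute (y : G) a :=
      Subgroup.mem_centralizer_singleton_iff.1 ((H.cent_eq ha).ge y.2)
    refine Subtype.ext ?_
    show (y : G) * (z : G) = (z : G) * (y : G)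
    rw [← hk]
    exact (hy.zpow_right k).eq

/-- The group generated by the members commuting with `a` is quasisimple. -/
theorem quasisimple_dc {a : G} (ha : a ∈ D) : IsQuasisimple ↥(Subgroup.closure (Dc D a)) := by
  obtain ⟨C, hprim, h22⟩ := H.chart22 ha
  haveI := isSimpleGroup_m22 C.m22.grp hprim h22
  set K := Subgroup.closure (Dc D a) with hK
  have hker : Subgroup.center ↥K = C.π.ker := by
    refine le_antisymm (fun x hx => ?_) fun x hx => Subgroup.mem_center_iff.2 fun y =>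
      (C.ker x hx y).symm
    rw [MonoidHom.mem_ker, ← Subgroup.mem_bot, ← C.m22.center]
    refine Subgroup.mem_center_iff.2 fun q => ?_
    obtain ⟨y, rfl⟩ := C.surj q
    rw [← map_mul, ← map_mul, Subgroup.mem_center_iff.1 hx y]
  refine ⟨(Group.isPerfect_def).2 ?_, isSimpleGroup_of_equiv
    ((QuotientGroup.quotientMulEquivOfEq hker).trans
      (QuotientGroup.quotientKerEquivOfSurjective C.π C.surj))⟩
  -- perfect
  let φ := QuotientGroup.mk' (commutator ↥K)
  have hab : ∀ x y : ↥K ⧸ commutator ↥K, x * y = y * x :=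
    fun x y => mul_comm (G := Abelianization ↥K) x y
  have hconst : ∀ x (hx : x ∈ Dc D a) y (hy : y ∈ Dc D a),
      φ ⟨x, Subgroup.subset_closure hx⟩ = φ ⟨y, Subgroup.subset_closure hy⟩ := by
    intro x hx y hy
    obtain ⟨q, hq⟩ := C.m22.trans _ (C.img_mem hx) _ (C.img_mem hy)
    obtain ⟨k, rfl⟩ := C.surj q
    have hmem := ((H.tr.dc ha).stab_closure k.2 _ hx).1
    have e : (k : G) * x * (k : G)⁻¹ = y :=
      C.inj H ha hmem hy ((C.img_pi k hx hmem).trans hq)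
    rw [show (⟨y, Subgroup.subset_closure hy⟩ : ↥K) = k * ⟨x, Subgroup.subset_closure hx⟩ * k⁻¹ from
      Subtype.ext e.symm, map_mul, map_mul, map_inv, hab, inv_mul_cancel_left]
  have haK : (⟨a, H.mem_closure_dc ha⟩ : ↥K) ∈ commutator ↥K := by
    obtain ⟨p, q, r, f₁, f₂, f₃, ⟨hp, hq, hr⟩, ⟨h1, h2, h3⟩, he⟩ := H.six ha
    have e : (⟨p, Subgroup.subset_closure hp⟩ : ↥K) * ⟨q, Subgroup.subset_closure hq⟩ *
        ⟨r, Subgroup.subset_closure hr⟩ = ⟨f₁, Subgroup.subset_closure h1⟩ *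
        ⟨f₂, Subgroup.subset_closure h2⟩ * ⟨f₃, Subgroup.subset_closure h3⟩ *
        ⟨a, H.mem_closure_dc ha⟩ := Subtype.ext he
    have h := congrArg φ e
    simp only [map_mul, hconst q hq p hp, hconst r hr p hp, hconst f₁ h1 p hp, hconst f₂ h2 p hp,
      hconst f₃ h3 p hp, left_eq_mul] at h
    exact (QuotientGroup.eq_one_iff _).1 h
  have hQ : commutator C.Q = ⊤ := by
    obtain ⟨b, hb⟩ := H.dc_nonempty ha
    haveI : Nonempty C.E := ⟨⟨_, C.img_mem hb⟩⟩
    exact C.m22.perfect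
  rw [eq_top_iff]
  intro x _
  have hmap : (commutator ↥K).map C.π = ⊤ := by
    rw [commutator_def, Subgroup.map_commutator, Subgroup.map_top_of_surjective _ C.surj,
      ← commutator_def, hQ]
  obtain ⟨y, hy, e⟩ : C.π x ∈ (commutator ↥K).map C.π := hmap ▸ Subgroup.mem_top _
  have hz : y⁻¹ * x ∈ Subgroup.center ↥K := by
    rw [hker, MonoidHom.mem_ker, map_mul, map_inv, e, inv_mul_cancel]
  rw [H.center_dc ha, Subgroup.mem_subgroupOf] at hz
  obtain ⟨k, hk⟩ := Subgroup.mem_zpowers_iff.1 hz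
  have : y⁻¹ * x ∈ commutator ↥K := by
    rw [show y⁻¹ * x = (⟨a, H.mem_closure_dc ha⟩ : ↥K) ^ k from
      Subtype.ext (by rw [SubgroupClass.coe_zpow]; exact hk.symm)]
    exact (commutator ↥K).zpow_mem haK k
  have := mul_mem hy this
  rwa [mul_inv_cancel_left] at this

/-- The group is simple. -/
theorem isSimpleGroup (hprim : IsPrimitiveUnderConj D) : IsSimpleGroup G := by
  classical
  obtain ⟨a, ha, -, -, -⟩ := hprim.2.1
  obtain ⟨b, hb⟩ := H.dc_nonempty ha
  have hT := Fischer.TClass.of_primitive H.grp hprim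
  have hD2 : ∃ x ∈ D, ∃ y ∈ D, x ≠ y := ⟨a, ha, b, hb.1, hb.2.1.symm⟩
  obtain ⟨hc2, hc3⟩ := Fischer.cores_central hT hprim ⟨a, ha, b, hb.1, hb.2.1.symm, hb.2.2⟩
  haveI : Nontrivial G := ⟨⟨a, 1, ne_one H.grp.1 ha⟩⟩
  refine ⟨fun N hN => or_iff_not_imp_left.2 fun hNne => ?_⟩
  by_contra hNtop
  have haN : a ∉ N := fun h => hNtop <| eq_top_iff.2 <| H.grp.2.2 ▸ (Subgroup.closure_le _).2
    (fun q hq => by
      obtain ⟨g, rfl⟩ := H.trans a ha q hq
      exact hN.conj_mem a h g)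
  -- `N` meets the centraliser of `a` trivially
  set K := Subgroup.closure (Dc D a) with hK
  have hreg : ∀ n ∈ N, Commute n a → n = 1 := by
    intro n hn e
    have hnK : n ∈ K := by
      rw [hK, ← H.cent_eq ha]
      exact Subgroup.mem_centralizer_singleton_iff.2 e.eq
    obtain ⟨hp, hs⟩ := H.quasisimple_dc ha
    haveI := hs
    haveI : (N.subgroupOf K).Normal := Subgroup.normal_subgroupOf
    by_cases hz : (⟨n, hnK⟩ : ↥K) ∈ Subgroup.center ↥K
    · rw [H.center_dc ha, Subgroup.mem_subgroupOf] at hz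
      obtain ⟨k, hk⟩ := Subgroup.mem_zpowers_iff.1 hz
      simp only at hk
      have hsq : a ^ (2 : ℤ) = 1 := by rw [zpow_two]; exact sq_one H.grp.1 ha
      rcases Int.even_or_odd k with ⟨j, rfl⟩ | ⟨j, rfl⟩
      · rw [← hk, ← two_mul, zpow_mul, hsq, one_zpow]
      · exfalso
        rw [zpow_add, zpow_mul, hsq, one_zpow, one_mul, zpow_one] at hk
        exact haN (hk ▸ hn)
    · exfalso
      have := eq_top_of_notMem ((Group.isPerfect_def).1 hp) (QuotientGroup.mk' (Subgroup.center ↥K))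
        (QuotientGroup.mk'_surjective _)
        (fun x hx y => (Subgroup.mem_center_iff.1 ((QuotientGroup.eq_one_iff x).1 hx) y).symm)
        (N.subgroupOf K) (n := ⟨n, hnK⟩) hn (fun h => hz ((QuotientGroup.eq_one_iff _).1 h))
      have h2 : (⟨a, H.mem_closure_dc ha⟩ : ↥K) ∈ N.subgroupOf K := this ▸ Subgroup.mem_top _
      exact haN h2
  -- so `N` has odd order
  have hinj : Function.Injective
      (fun n : ↥N => (⟨(n : G) * a * (n : G)⁻¹, H.conj_mem _ ha⟩ : D)) := by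
    intro n m h
    have e : (n : G) * a * (n : G)⁻¹ = (m : G) * a * (m : G)⁻¹ := congrArg Subtype.val h
    refine Subtype.ext (inv_mul_eq_one.1 (hreg _ (N.mul_mem (N.inv_mem m.2) n.2) ?_)).symm
    refine mul_inv_eq_iff_eq_mul.1 ?_
    calc ((m : G)⁻¹ * n) * a * ((m : G)⁻¹ * n)⁻¹
        = (m : G)⁻¹ * ((n : G) * a * (n : G)⁻¹) * m := by group
      _ = a := by rw [e]; group
  have hfit : N ≤ Subgroup.center G → False := fun h => hNne (eq_bot_iff.2 fun n hn => by
    rw [Subgroup.mem_bot]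
    exact hreg n hn (Subgroup.mem_center_iff.1 (h hn) a).symm)
  -- the orbit of `a` is a block, so everything
  set B : Set G := {y | ∃ n ∈ N, n * a * n⁻¹ = y} with hB
  have haB : a ∈ B := ⟨1, one_mem _, by simp⟩
  have hblk := hprim.2.2 B (fun y ⟨n, _, e⟩ => e ▸ H.conj_mem n ha) fun g => by
    by_cases hg : g * a * g⁻¹ ∈ B
    · refine Or.inl ?_
      obtain ⟨n₀, hn₀, e₀⟩ := hg
      ext y
      constructor
      · rintro ⟨_, ⟨n, hn, rfl⟩, rfl⟩
        refine ⟨g * n * g⁻¹ * n₀, N.mul_mem (hN.conj_mem n hn g) hn₀, ?_⟩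
        calc g * n * g⁻¹ * n₀ * a * (g * n * g⁻¹ * n₀)⁻¹
            = g * n * g⁻¹ * (n₀ * a * n₀⁻¹) * g * n⁻¹ * g⁻¹ := by group
          _ = _ := by rw [e₀]; group
      · rintro ⟨n, hn, rfl⟩
        refine ⟨(g⁻¹ * (n * n₀⁻¹) * g) * a * (g⁻¹ * (n * n₀⁻¹) * g)⁻¹,
          ⟨_, ?_, rfl⟩, ?_⟩
        · have := hN.conj_mem _ (N.mul_mem hn (N.inv_mem hn₀)) g⁻¹
          rwa [inv_inv] at this
        · calc g * (g⁻¹ * (n * n₀⁻¹) * g * a * (g⁻¹ * (n * n₀⁻¹) * g)⁻¹) * g⁻¹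
              = (n * n₀⁻¹) * (g * a * g⁻¹) * (n * n₀⁻¹)⁻¹ := by group
            _ = _ := by rw [← e₀]; group
    · refine Or.inr (Set.disjoint_left.2 ?_)
      rintro _ ⟨_, ⟨n, hn, rfl⟩, rfl⟩ ⟨n', hn', e'⟩
      refine hg ⟨(g * n * g⁻¹)⁻¹ * n', N.mul_mem (N.inv_mem (hN.conj_mem n hn g)) hn', ?_⟩
      calc (g * n * g⁻¹)⁻¹ * n' * a * ((g * n * g⁻¹)⁻¹ * n')⁻¹
          = (g * n * g⁻¹)⁻¹ * (n' * a * n'⁻¹) * (g * n * g⁻¹) := by group
        _ = (g * n * g⁻¹)⁻¹ * (g * (n * a * n⁻¹) * g⁻¹) * (g * n * g⁻¹) := by rw [e']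
        _ = g * a * g⁻¹ := by group
  rcases hblk with h | h
  · exact hNne (eq_bot_iff.2 fun n hn => by
      rw [Subgroup.mem_bot]
      exact hreg n hn (mul_inv_eq_iff_eq_mul.1 (h ⟨n, hn, rfl⟩ haB)))
  · have hcard : Nat.card ↥N = D.ncard := by
      rw [← Nat.card_coe_set_eq]
      refine Nat.card_eq_of_bijective _ ⟨hinj, fun q => ?_⟩
      obtain ⟨n, hn, e⟩ := h.symm.subset q.2
      exact ⟨⟨n, hn⟩, Subtype.ext e⟩
    have hodd : Odd (Nat.card ↥N) := by
      rw [hcard, Nat.odd_iff]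
      have := H.card_mod_four ha hb
      omega
    haveI : Group.IsSolvable ↥N := Cfsg.Agent.S0205.result hodd
    exact hfit (Fischer.solvable_le_center hT hD2 hc2 hc3)

/-- The width is 23. -/
theorem width : commutingWidth D = 23 := by
  classical
  obtain ⟨-, d, hd, -⟩ := H.type
  have hle : ∀ n ∈ {n : ℕ | ∃ E : Set G, E ⊆ D ∧ E.Finite ∧ (∀ a ∈ E, ∀ b ∈ E, Commute a b) ∧
      E.ncard = n}, n ≤ 23 := by
    rintro n ⟨E, hED, -, hcomm, rfl⟩
    rcases E.eq_empty_or_nonempty with rfl | ⟨a, ha⟩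
    · simp
    obtain ⟨C, hprim, h22⟩ := H.chart22 (hED ha)
    have hw := width_m22 C.m22.grp hprim h22
    set F : Set C.Q := {β | ∃ x, ∃ hx : x ∈ Dc D a, x ∈ E ∧ C.img hx = β} with hF
    have hcard : (E \ {a}).ncard = F.ncard := by
      refine Set.ncard_congr (fun x hx => C.img (x := x) ⟨hED hx.1, hx.2, hcomm a ha x hx.1⟩)
        (fun x hx => ⟨x, _, hx.1, rfl⟩)
        (fun x y hx hy e => C.inj H (hED ha) _ _ e) ?_
      rintro β ⟨x, hx, hxE, rfl⟩
      exact ⟨x, ⟨hxE, hx.2.1⟩, rfl⟩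
    have hbdd : BddAbove {n : ℕ | ∃ E : Set C.Q, E ⊆ C.E ∧ E.Finite ∧
        (∀ a ∈ E, ∀ b ∈ E, Commute a b) ∧ E.ncard = n} :=
      ⟨Nat.card C.Q, by rintro n ⟨E', -, -, -, rfl⟩; exact Set.ncard_le_card E'⟩
    have hF22 : F.ncard ≤ 22 := hw ▸ le_csSup hbdd
      ⟨F, by rintro β ⟨x, hx, -, rfl⟩; exact C.img_mem hx, Set.toFinite _, by
        rintro β ⟨x, hx, hxE, rfl⟩ γ ⟨y, hy, hyE, rfl⟩
        exact (C.comm_iff H (hED ha) hx hy).2 (hcomm x hxE y hyE), rfl⟩
    have := Set.ncard_sdiff_singleton_of_mem ha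
    omega
  refine le_antisymm (csSup_le ⟨0, ∅, Set.empty_subset _, Set.finite_empty, by simp, by simp⟩ hle)
    (le_csSup ⟨23, hle⟩ ?_)
  obtain ⟨C, hprim, h22⟩ := H.chart22 hd
  have hw := width_m22 C.m22.grp hprim h22
  have hne : ({n : ℕ | ∃ E : Set C.Q, E ⊆ C.E ∧ E.Finite ∧
      (∀ a ∈ E, ∀ b ∈ E, Commute a b) ∧ E.ncard = n}).Nonempty :=
    ⟨0, ∅, Set.empty_subset _, Set.finite_empty, by simp, by simp⟩
  have hmem := Nat.sSup_mem hne
    ⟨Nat.card C.Q, by rintro n ⟨E', -, -, -, rfl⟩; exact Set.ncard_le_card E'⟩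
  rw [show sSup _ = 22 from hw] at hmem
  obtain ⟨F, hF, -, hFc, hFn⟩ := hmem
  set E : Set G := {x | ∃ hx : x ∈ Dc D d, C.img hx ∈ F} with hE
  have hcard : E.ncard = F.ncard := by
    refine Set.ncard_congr (fun x hx => C.img hx.1) (fun x hx => hx.2)
      (fun x y hx hy e => C.inj H hd _ _ e) fun β hβ => ?_
    obtain ⟨x, hx, rfl⟩ := C.lift β (hF hβ)
    exact ⟨x, ⟨hx, hβ⟩, rfl⟩
  refine ⟨insert d E, Set.insert_subset hd fun x hx => hx.1.1, Set.toFinite _, ?_, ?_⟩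
  · rintro x (rfl | ⟨hx, hxF⟩) y (rfl | ⟨hy, hyF⟩)
    exacts [Commute.refl _, hy.2.2, hx.2.2.symm, (C.comm_iff H hd hx hy).1 (hFc _ hxF _ hyF)]
  · rw [Set.ncard_insert_of_notMem fun h => h.1.2.1 rfl]
    omega

end M23

end Cfsg.Agent.Transpos
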