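import Cfsg.Agent.Lib.Transpos.M23Short

/-!
# Groups of type M(23) with a quasisimple involution centraliser `2.M(22)`

Such an involution is a member (`M23.mem_of_quasisimple`); every involution is a product of at most
three commuting members (`M23.exists_short_invol`) and the class of 3-transpositions is unique
(`M23.unique_class`).
-/

set_option autoImplicit false

namespace Cfsg.Agent.Transpos

open Cfsg

universe u

variable {G : Type u} [Group G] {D : Set G}

/-- An involution whose centraliser is a quasisimple double cover of a group of type M(22). -/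
def QuasiInvol22 (d : G) : Prop :=
  orderOf d = 2 ∧ IsQuasisimple ↥(Subgroup.centralizer ({d} : Set G)) ∧
    ∃ _ : ((Subgroup.zpowers d).subgroupOf (Subgroup.centralizer ({d} : Set G))).Normal,
      (∃ E : Set (↥(Subgroup.centralizer ({d} : Set G)) ⧸
          (Subgroup.zpowers d).subgroupOf (Subgroup.centralizer ({d} : Set G))),
        IsThreeTranspositionClass E ∧ IsOfTypeM22 _ E) ∧
      ∃ d' : ↥(Subgroup.centralizer ({d} : Set G)) ⧸
          (Subgroup.zpowers d).subgroupOf (Subgroup.centralizer ({d} : Set G)), QuasiInvol d'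

variable [Finite G]

/-- An involution with quasisimple centraliser `2.M(22)` is a member, with a chart. -/
theorem M23.mem_of_quasisimple (H : M23 D) {d : G} (hq : QuasiInvol22 d) :
    d ∈ D ∧ Subgroup.centralizer ({d} : Set G) = Subgroup.closure (Dc D d) ∧
      (∀ a ∈ D, Nonempty (Chart D a)) ∧ ∃ C : Chart D d, M22.Full C.E := by
  classical
  unfold QuasiInvol22 at hq
  set C := Subgroup.centralizer ({d} : Set G) with hC
  set Z := (Subgroup.zpowers d).subgroupOf C with hZdef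
  obtain ⟨hd, ⟨hperf', hsimp⟩, hZn, ⟨E, hE, hE22⟩, d', hq'⟩ := hq
  have hperf : commutator ↥C = ⊤ := hperf'.commutator_eq_top
  have hd2 : d * d = 1 := by
    have := pow_orderOf_eq_one d; rwa [hd, pow_two] at this
  have hd1 : d ≠ 1 := fun e => by rw [e, orderOf_one] at hd; norm_num at hd
  have hdC : d ∈ C := Subgroup.mem_centralizer_singleton_iff.2 rfl
  have hCcomm : ∀ {x}, x ∈ C → Commute x d := fun h => Subgroup.mem_centralizer_singleton_iff.1 h
  have hmemC : ∀ {x}, Commute x d → x ∈ C := fun h => Subgroup.mem_centralizer_singleton_iff.2 h.eq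
  let z : ↥C := ⟨d, hdC⟩
  have hzc : ∀ x : ↥C, Commute z x := fun x => Subtype.ext (hCcomm x.2).eq.symm
  let π := QuotientGroup.mk' Z
  have hπ : Function.Surjective π := QuotientGroup.mk'_surjective Z
  have hπz : π z = 1 :=
    (QuotientGroup.eq_one_iff z).2 (Subgroup.mem_subgroupOf.2 (Subgroup.mem_zpowers d))
  have hker : ∀ x, π x = 1 → (x : G) = 1 ∨ (x : G) = d := fun x hx => by
    obtain ⟨n, hn⟩ := Subgroup.mem_subgroupOf.1 ((QuotientGroup.eq_one_iff x).1 hx)
    obtain ⟨k, hk⟩ := Int.even_or_odd' n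
    have hd2' : d ^ (2 : ℤ) = 1 := by rw [zpow_two]; exact hd2
    rcases hk with rfl | rfl
    · exact Or.inl (by rw [← hn]; simp [zpow_mul, hd2'])
    · exact Or.inr (by rw [← hn]; simp [zpow_add, zpow_mul, hd2'])
  have hkerC : ∀ x, π x = 1 → ∀ y, Commute x y := fun x hx y => Subtype.ext (by
    rcases hker x hx with h | h <;> simp only [Subgroup.coe_mul, h]
    · simp
    · exact (hCcomm y.2).eq.symm)
  have hcen : Subgroup.center ↥C = Z := by
    refine le_antisymm (fun x hx => (QuotientGroup.eq_one_iff x).1 ?_) fun x hx =>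
      Subgroup.mem_center_iff.2 fun y => (hkerC x ((QuotientGroup.eq_one_iff x).2 hx) y).eq.symm
    have : π x ∈ Subgroup.center (↥C ⧸ Z) := Subgroup.mem_center_iff.2 fun q => by
      obtain ⟨y, rfl⟩ := hπ q
      rw [← map_mul, ← map_mul, Subgroup.mem_center_iff.1 hx y]
    rwa [hE22.1, Subgroup.mem_bot] at this
  haveI : IsSimpleGroup (↥C ⧸ Z) := by
    haveI := hsimp
    exact MulEquiv.isSimpleGroup (QuotientGroup.quotientMulEquivOfEq hcen).symm
  haveI : Nonempty E := ⟨⟨hE.2.1.choose, hE.2.1.choose_spec.1⟩⟩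
  have HQ := M22.of_type (three_group_of_class hE) hE22 (conn_of_simple hE hE22)
  have hfull := HQ.full hq'
  have hEgrp := three_group_of_class hE
  have hcard : 2 ^ 15 ∣ Nat.card (↥C ⧸ Z) := by
    have h1 : E \ {1} = E := Set.sdiff_singleton_eq_self fun h => ne_one hEgrp.1 h rfl
    exact (m22_level (h1.symm ▸ tr_of_group hEgrp) hEgrp.2.2 hE22).2.2.2.2
  have top_of : ∀ (N : Subgroup ↥C) [N.Normal] (n : ↥C), n ∈ N → π n ≠ 1 → N = ⊤ :=
    fun N _ n hn hne => eq_top_of_notMem hperf π hπ hkerC N hn hne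
  -- an invariant set of at most three elements is fixed pointwise
  have small : ∀ W : Set G, W.ncard ≤ 3 → (∀ k ∈ C, ∀ w ∈ W, k * w * k⁻¹ ∈ W) →
      ∀ k ∈ C, ∀ w ∈ W, k * w * k⁻¹ = w := by
    intro W hW hinv
    have := Fintype.ofFinite ↥W
    let φ : ↥C →* Equiv.Perm ↥W :=
      { toFun := fun g =>
          { toFun := fun x => ⟨g * x * (g : G)⁻¹, hinv g g.2 x x.2⟩
            invFun := fun x => ⟨(g : G)⁻¹ * x * g, by
              have := hinv _ (C.inv_mem g.2) x x.2
              rwa [inv_inv] at this⟩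
            left_inv := fun x => Subtype.ext (by simp [mul_assoc])
            right_inv := fun x => Subtype.ext (by simp [mul_assoc]) }
        map_one' := Equiv.ext fun x => Subtype.ext (by simp)
        map_mul' := fun g k => Equiv.ext fun x => Subtype.ext (by simp [mul_assoc]) }
    have htop : φ.ker = ⊤ := by
      by_contra hne
      have hle : φ.ker ≤ π.ker := fun n hn => by
        by_contra h
        exact hne (top_of φ.ker n hn h)
      let g : φ.range →* ↥C ⧸ Z :=
        (φ.rangeRestrict).liftOfSurjective φ.rangeRestrict_surjective ⟨π, by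
          rw [MonoidHom.ker_rangeRestrict]; exact hle⟩
      have hg : Function.Surjective g := fun y => by
        obtain ⟨x, rfl⟩ := hπ y
        exact ⟨φ.rangeRestrict x, MonoidHom.liftOfRightInverse_comp_apply _ _ _ _ x⟩
      have h1 := (hcard.trans (Subgroup.card_dvd_of_surjective g hg)).trans
        (Subgroup.card_subgroup_dvd_card φ.range)
      rw [Nat.card_perm, Nat.card_coe_set_eq] at h1
      generalize W.ncard = n at h1 hW
      interval_cases n <;> simp [Nat.factorial] at h1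
    intro k hk w hw
    have h : φ ⟨k, hk⟩ = 1 := MonoidHom.mem_ker.1 (by rw [htop]; exact Subgroup.mem_top _)
    exact congrArg Subtype.val (Equiv.ext_iff.1 h ⟨w, hw⟩)
  have not_fixed : ∀ {p}, p ∈ C → p ≠ 1 → p ≠ d → ¬ ∀ k ∈ C, k * p * k⁻¹ = p := by
    intro p hp h1 h2 hall
    have hm : (⟨p, hp⟩ : ↥C) ∈ Subgroup.center ↥C := Subgroup.mem_center_iff.2 fun k =>
      Subtype.ext (mul_inv_eq_iff_eq_mul.1 (hall k k.2))
    rw [hcen] at hm
    exact (hker _ ((QuotientGroup.eq_one_iff _).2 hm)).elim h1 h2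
  have hconjd : ∀ {k}, k ∈ C → k * d * k⁻¹ = d := fun hk => by
    rw [(hCcomm hk).eq, mul_inv_cancel_right]
  -- `d` is no product of two or three members
  have not_two : ∀ {p q}, p ∈ D → q ∈ D → p ≠ q → Commute p q → p * q ≠ d := by
    intro p q hp hq hpq cpq he
    have hpC : p ∈ C := hmemC (he ▸ (Commute.refl p).mul_right cpq)
    refine not_fixed hpC (ne_one H.grp.1 hp)
      (fun h => ne_one H.grp.1 hq (mul_eq_left.1 (he.trans h.symm))) fun k hk =>
      small {w | ∃ y, w ∈ D ∧ y ∈ D ∧ w ≠ y ∧ Commute w y ∧ w * y = d} ?_ ?_ k hk p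
        ⟨q, hp, hq, hpq, cpq, he⟩
    · refine ((Set.ncard_le_ncard (t := ({p, q} : Set G)) ?_ (Set.toFinite _)).trans
        ((Set.ncard_insert_le _ _).trans (by rw [Set.ncard_singleton]))).trans (by norm_num)
      rintro w ⟨y, hw, hy, hwy, cwy, e'⟩
      exact mem_of_prod_two H.tr H.noTwin₂ hw hy hp hq hwy hpq cwy cpq (e'.trans he.symm)
    · rintro k hk w ⟨y, hw, hy, hwy, cwy, e'⟩
      exact ⟨k * y * k⁻¹, H.conj_mem k hw, H.conj_mem k hy,
        fun h => hwy (mul_left_cancel (mul_right_cancel h)), (commute_conj_iff k).2 cwy, by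
          rw [show k * w * k⁻¹ * (k * y * k⁻¹) = k * (w * y) * k⁻¹ by group, e', hconjd hk]⟩
  have not_three : ∀ {p q r}, p ∈ D → q ∈ D → r ∈ D → p ≠ q → p ≠ r → q ≠ r → Commute p q →
      Commute p r → Commute q r → p * q * r ≠ d := by
    intro p q r hp hq hr hpq hpr hqr cpq cpr cqr he
    have hpC : p ∈ C := hmemC (he ▸ ((Commute.refl p).mul_right cpq).mul_right cpr)
    refine not_fixed hpC (ne_one H.grp.1 hp) (fun h => ?_) fun k hk =>
      small {w | ∃ y z, w ∈ D ∧ y ∈ D ∧ z ∈ D ∧ w ≠ y ∧ w ≠ z ∧ y ≠ z ∧ Commute w y ∧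
        Commute w z ∧ Commute y z ∧ w * y * z = d} ?_ ?_ k hk p
        ⟨q, r, hp, hq, hr, hpq, hpr, hqr, cpq, cpr, cqr, he⟩
    · have : q * r = 1 := mul_eq_left.1 ((mul_assoc p q r).symm.trans (he.trans h.symm))
      exact hqr (by rw [eq_inv_of_mul_eq_one_left this, inv_eq H.grp.1 hr])
    · refine (Set.ncard_le_ncard (t := ({p, q, r} : Set G)) ?_ (Set.toFinite _)).trans ?_
      · rintro w ⟨y, z, hw, hy, hz, h1, h2, h3, k1, k2, k3, e'⟩
        exact mem_of_prod_three H.tr H.noTwin₂ H.noTwin₃ hw hy hz hp hq hr h1 h2 h3 k1 k2 k3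
          hpq hpr hqr cpq cpr cqr (e'.trans he.symm)
      · exact (Set.ncard_insert_le _ _).trans (Nat.succ_le_succ
          ((Set.ncard_insert_le _ _).trans (by rw [Set.ncard_singleton])))
    · rintro k hk w ⟨y, z, hw, hy, hz, h1, h2, h3, k1, k2, k3, e'⟩
      exact ⟨k * y * k⁻¹, k * z * k⁻¹, H.conj_mem k hw, H.conj_mem k hy, H.conj_mem k hz,
        fun h => h1 (mul_left_cancel (mul_right_cancel h)),
        fun h => h2 (mul_left_cancel (mul_right_cancel h)),
        fun h => h3 (mul_left_cancel (mul_right_cancel h)),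
        (commute_conj_iff k).2 k1, (commute_conj_iff k).2 k2, (commute_conj_iff k).2 k3, by
          rw [show k * w * k⁻¹ * (k * y * k⁻¹) * (k * z * k⁻¹) = k * (w * y * z) * k⁻¹ by group, e',
            hconjd hk]⟩
  -- every member in `C` other than `d` lies over the class
  have himg : ∀ x : ↥C, (x : G) ∈ D → (x : G) ≠ d → π x ∈ E := by
    intro x hx hxd
    have hne : π x ≠ 1 := fun h => (hker x h).elim (ne_one H.grp.1 hx) hxd
    have hsq : π x * π x = 1 := by
      rw [← map_mul, show x * x = 1 from Subtype.ext (sq_one H.grp.1 hx), map_one]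
    have hrep : ∀ b, IsConj (π x) b → ∃ y : ↥C, (y : G) ∈ D ∧ π y = b := fun b hb => by
      obtain ⟨g, rfl⟩ := isConj_iff.1 hb
      obtain ⟨g, rfl⟩ := hπ g
      exact ⟨g * x * g⁻¹, H.conj_mem _ hx, by simp⟩
    have hclass : IsThreeTranspositionClass (conjugatesOf (π x)) := by
      refine ⟨⟨fun b hb => ?_, fun b hb b' hb' => ?_⟩, ⟨π x, mem_conjugatesOf_self, rfl⟩, ?_⟩
      · obtain ⟨g, rfl⟩ := isConj_iff.1 (hb : IsConj (π x) b)
        refine orderOf_eq_prime ?_ ?_
        · rw [pow_two, show g * π x * g⁻¹ * (g * π x * g⁻¹) = g * (π x * π x) * g⁻¹ by group, hsq,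
            mul_one, mul_inv_cancel]
        · intro h
          exact hne (by
            rw [show π x = g⁻¹ * (g * π x * g⁻¹) * g by group, h, mul_one, inv_mul_cancel])
      · obtain ⟨y, hy, rfl⟩ := hrep b hb
        obtain ⟨y', hy', rfl⟩ := hrep b' hb'
        rw [← map_mul, ← map_pow, ← map_pow]
        rcases H.grp.1.2 _ hy _ hy' with h | h
        · left; rw [show (y * y') ^ 2 = 1 from Subtype.ext h, map_one]
        · right; rw [show (y * y') ^ 3 = 1 from Subtype.ext h, map_one]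
      · haveI : (Subgroup.closure (conjugatesOf (π x))).Normal := ⟨fun n hn g => by
          refine Subgroup.closure_induction
            (p := fun m _ => g * m * g⁻¹ ∈ Subgroup.closure (conjugatesOf (π x)))
            (fun m hm => Subgroup.subset_closure (IsConj.trans hm (isConj_iff.2 ⟨g, rfl⟩)))
            (by simp) ?_ ?_ hn
          · intro m m' _ _ hm hm'
            have := mul_mem hm hm'
            rwa [show g * m * g⁻¹ * (g * m' * g⁻¹) = g * (m * m') * g⁻¹ by group] at this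
          · intro m _ hm
            have := inv_mem hm
            rwa [show (g * m * g⁻¹)⁻¹ = g * m⁻¹ * g⁻¹ by group] at this⟩
        exact (Subgroup.Normal.eq_bot_or_eq_top inferInstance).resolve_left fun h => hne
          (Subgroup.mem_bot.1 (h ▸ Subgroup.subset_closure mem_conjugatesOf_self))
    rw [← HQ.unique_class hfull hclass]
    exact mem_conjugatesOf_self
  obtain ⟨e, he, hde, hed⟩ : ∃ e ∈ D, Commute d e ∧ e ≠ d := by
    obtain ⟨e, he, hde⟩ := H.exists_fixed hd2
    by_cases hed : e = d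
    · subst hed
      obtain ⟨-, d₀, hd₀, -, -, -, h22, -⟩ := H.type
      obtain ⟨β, ⟨x, hx, -⟩, -⟩ := exists_commuting_pair h22
      obtain ⟨g, rfl⟩ := H.trans d₀ hd₀ e he
      have := ((stab_of_normal H.grp g).carries.dc d₀).1 x hx
      exact ⟨_, this.1, this.2.2, this.2.1⟩
    · exact ⟨e, he, hde, hed⟩
  let e' : ↥C := ⟨e, hmemC hde.symm⟩
  have hlift : ∀ β ∈ E, ∃ x : ↥C, (x : G) ∈ D ∧ π x = β := fun β hβ => by
    obtain ⟨g, rfl⟩ := HQ.trans _ (himg e' he hed) β hβ
    obtain ⟨g, rfl⟩ := hπ g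
    exact ⟨g * e' * g⁻¹, H.conj_mem _ he, by simp⟩
  -- commuting images have commuting lifts
  have hcomm : ∀ {x y : ↥C}, (x : G) ∈ D → (y : G) ∈ D → Commute (π x) (π y) →
      Commute (x : G) (y : G) := by
    intro x y hx hy hc
    by_contra hne'
    have h3 := pow_three_of_not_commute H.grp.1 hx hy hne'
    have h2 : π ((x * y) * (x * y)) = 1 := by
      rw [map_mul, map_mul, hc.symm.mul_mul_mul_comm, ← map_mul, ← map_mul,
        show x * x = 1 from Subtype.ext (sq_one H.grp.1 hx),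
        show y * y = 1 from Subtype.ext (sq_one H.grp.1 hy), map_one, one_mul]
    apply hne'
    rw [commute_iff_sq H.grp.1 hx hy]
    rw [pow_succ, pow_two] at h3
    rcases hker _ h2 with h | h <;> simp only [Subgroup.coe_mul] at h
    · rw [pow_two]; exact h
    · rw [h] at h3
      have h4 : d = (x : G) * y := by
        rw [eq_inv_of_mul_eq_one_right h3, inv_eq_of_mul_eq_one_left hd2]
      rw [← h4, hd2] at h
      exact absurd h.symm hd1
  -- the seven and the six
  obtain ⟨a, b, c, f, g, k, l, ha, ⟨hb, hc, hf⟩, ⟨hg, hk, hl⟩, ⟨nbc, nbf, ncf, ngk, ngl, nkl⟩,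
    ⟨cbc, cbf, ccf⟩, ⟨cgk, cgl, ckl⟩, he7, hx7⟩ := HQ.exists_seven
  obtain ⟨f₁, f₂, f₃, ⟨t1, t2, t3⟩, ⟨n12, n13, n23⟩, -, he6⟩ :=
    HQ.triple ha hb (c := c) ⟨hc, nbc.symm, cbc⟩
  have htcf : ∀ {t}, Twin E a b c t → t ∈ Dc E a ∧ Commute t b ∧ Commute t c ∧ Commute t f ∧
      Commute t g ∧ Commute t k ∧ Commute t l := fun {t} ht => by
    have ha' : Commute t a := ht.1.1.2.2.symm
    have hb' : Commute t b := ht.1.2.2.symm
    have hc' : Commute t c := ht.2.2.1.symm
    have hf' : Commute t f :=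
      ((ht.2.2.2 f ⟨hf, nbf.symm, cbf⟩).1 ccf.symm).symm
    exact ⟨ht.1.1, hb', hc', hf', hx7 t ht.1.1.1 ha' hb' hc' hf'⟩
  have k12 := M22.twin_commute t1 t2
  have k13 := M22.twin_commute t1 t3
  have k23 := M22.twin_commute t2 t3
  have nf : ∀ {t p q}, Twin E a b c t → Twin E a b c p → Twin E a b c q → p ≠ q →
      t * p * q = a * b * c → Commute t p → Commute t q → f ≠ t := by
    intro t p q ht hp hq hpq hprod ktp ktq h
    have e1 : g * k * l = p * q := by
      rw [← he7, ← hprod, h, mul_assoc t p q, (ktp.mul_right ktq).eq, mul_assoc,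
        sq_one HQ.grp.1 ht.1.1.1, mul_one]
    obtain ⟨-, -, -, -, p1, p2, p3⟩ := htcf hp
    obtain ⟨-, -, -, -, q1, q2, q3⟩ := htcf hq
    exact HQ.pair_ne_triple hp.1.1.1 (q := q) ⟨hq.1.1.1, hpq.symm, M22.twin_commute hp hq⟩
      hg.1 (k := k) ⟨hk.1, ngk.symm, cgk⟩ (l := l) ⟨hl.1, ngl.symm, cgl⟩ nkl ckl
      ⟨p1, p2, p3⟩ ⟨q1, q2, q3⟩ e1
  have nf1 : f ≠ f₁ := nf t1 t2 t3 n23 he6 k12 k13
  have nf2 : f ≠ f₂ := nf t2 t1 t3 n13 (by rw [k12.symm.eq]; exact he6) k12.symm k23
  have nf3 : f ≠ f₃ := nf t3 t1 t2 n12 (by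
    rw [mul_assoc, (k13.symm.mul_right k23.symm).eq]; exact he6)
    k13.symm k23.symm
  -- some twin is none of `f`, `g`, `k`, `l`
  obtain ⟨t, ht, ntf, ntg, ntk, ntl⟩ : ∃ t, Twin E a b c t ∧ f ≠ t ∧ g ≠ t ∧ k ≠ t ∧ l ≠ t := by
    by_contra hno
    push Not at hno
    have h1 : f₁ = g ∨ f₁ = k ∨ f₁ = l := by
      by_contra hh
      simp only [not_or] at hh
      exact hh.2.2 (hno f₁ t1 nf1 (Ne.symm hh.1) (Ne.symm hh.2.1)).symm
    have h2 : f₂ = g ∨ f₂ = k ∨ f₂ = l := by
      by_contra hh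
      simp only [not_or] at hh
      exact hh.2.2 (hno f₂ t2 nf2 (Ne.symm hh.1) (Ne.symm hh.2.1)).symm
    have h3 : f₃ = g ∨ f₃ = k ∨ f₃ = l := by
      by_contra hh
      simp only [not_or] at hh
      exact hh.2.2 (hno f₃ t3 nf3 (Ne.symm hh.1) (Ne.symm hh.2.1)).symm
    have e2 : k * g = g * k := cgk.eq.symm
    have e3 : l * g = g * l := cgl.eq.symm
    have e4 : l * k = k * l := ckl.eq.symm
    have e2' : ∀ x, k * (g * x) = g * (k * x) := fun x => by rw [← mul_assoc, e2, mul_assoc]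
    have e3' : ∀ x, l * (g * x) = g * (l * x) := fun x => by rw [← mul_assoc, e3, mul_assoc]
    have e4' : ∀ x, l * (k * x) = k * (l * x) := fun x => by rw [← mul_assoc, e4, mul_assoc]
    have hp : f₁ * f₂ * f₃ = g * k * l := by
      rcases h1 with h1 | h1 | h1 <;> rcases h2 with h2 | h2 | h2 <;> rcases h3 with h3 | h3 | h3 <;>
        first
          | exact absurd (h1.trans h2.symm) n12
          | exact absurd (h1.trans h3.symm) n13
          | exact absurd (h2.trans h3.symm) n23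
          | simp only [h1, h2, h3, mul_assoc, e2, e3, e4, e2', e3', e4']
    rw [← he7, he6] at hp
    exact ne_one HQ.grp.1 hf.1 (mul_eq_left.1 hp.symm)
  obtain ⟨a, hA, rfl⟩ := hlift a ha
  obtain ⟨b, hB, rfl⟩ := hlift b hb.1
  obtain ⟨c, hCm, rfl⟩ := hlift c hc.1
  obtain ⟨f, hF, rfl⟩ := hlift f hf.1
  obtain ⟨g, hG, rfl⟩ := hlift g hg.1
  obtain ⟨k, hK, rfl⟩ := hlift k hk.1
  obtain ⟨l, hLm, rfl⟩ := hlift l hl.1
  obtain ⟨t, hT, rfl⟩ := hlift t ht.1.1.1
  obtain ⟨f₁, hF1, rfl⟩ := hlift f₁ t1.1.1.1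
  obtain ⟨f₂, hF2, rfl⟩ := hlift f₂ t2.1.1.1
  obtain ⟨f₃, hF3, rfl⟩ := hlift f₃ t3.1.1.1
  have gne : ∀ {x y : ↥C}, π x ≠ π y → (x : G) ≠ y := fun h e => h (congrArg π (Subtype.ext e))
  have cab := hcomm hA hB hb.2.2
  have cac := hcomm hA hCm hc.2.2
  have cbc' := hcomm hB hCm cbc
  have c12 := hcomm hF1 hF2 k12
  have c13 := hcomm hF1 hF3 k13
  have c23 := hcomm hF2 hF3 k23
  have six : (a : G) * b * c = f₁ * f₂ * f₃ * d := by
    have h : π ((f₁ * f₂ * f₃)⁻¹ * (a * b * c)) = 1 := by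
      simp only [map_mul, map_inv, inv_mul_eq_one]
      exact he6
    rcases hker _ h with h | h <;> simp only [Subgroup.coe_mul, Subgroup.coe_inv] at h
    · exfalso
      rcases mem_of_prod_three H.tr H.noTwin₂ H.noTwin₃ hA hB hCm hF1 hF2 hF3
        (gne hb.2.1.symm) (gne hc.2.1.symm) (gne nbc) cab cac cbc' (gne n12) (gne n13) (gne n23)
        c12 c13 c23 (inv_mul_eq_one.1 h).symm with h' | h' | h'
      · exact gne t1.1.1.2.1.symm h'
      · exact gne t2.1.1.2.1.symm h'
      · exact gne t3.1.1.2.1.symm h'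
    · exact inv_mul_eq_iff_eq_mul.1 h
  have inDc : ∀ {x y : ↥C}, (x : G) ∈ D → (y : G) ∈ D → π y ≠ π x → Commute (π x) (π y) →
      (y : G) ∈ Dc D x := fun hx hy h hc => ⟨hy, gne h, hcomm hx hy hc⟩
  have seven : ∃ y ∈ D, ∃ L : List G, L.length = 7 ∧ (∀ x ∈ L, x ∈ Dc D y) ∧ L.prod = 1 := by
    have h : π ((g * k * l)⁻¹ * (a * b * c * f)) = 1 := by
      simp only [map_mul, map_inv, inv_mul_eq_one]
      exact he7.symm
    have sq : ∀ {x : ↥C}, (x : G) ∈ D → (x : G) * x = 1 := fun h => sq_one H.grp.1 h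
    rcases hker _ h with h | h <;> simp only [Subgroup.coe_mul, Subgroup.coe_inv] at h
    · obtain ⟨tA, tb, tc, tf, tg, tk, tl⟩ := htcf ht
      refine ⟨t, hT, [(a : G), b, c, f, l, k, g], rfl, ?_, ?_⟩
      · simp only [List.mem_cons, List.not_mem_nil, or_false, forall_eq_or_imp, forall_eq]
        exact ⟨inDc hT hA tA.2.1.symm tA.2.2.symm, inDc hT hB ht.1.2.1.symm tb,
          inDc hT hCm ht.2.1.symm tc, inDc hT hF ntf tf, inDc hT hLm ntl tl, inDc hT hK ntk tk,
          inDc hT hG ntg tg⟩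
      · simp only [List.prod_cons, List.prod_nil, mul_one, ← mul_assoc]
        rw [← inv_mul_eq_one.1 h]
        simp [mul_assoc, mul_mul_cancel H.grp.1 hLm, mul_mul_cancel H.grp.1 hK, sq hG]
    · refine ⟨a, hA, [(f₁ : G), f₂, f₃, f, l, k, g], rfl, ?_, ?_⟩
      · simp only [List.mem_cons, List.not_mem_nil, or_false, forall_eq_or_imp, forall_eq]
        exact ⟨inDc hA hF1 t1.1.1.2.1 t1.1.1.2.2, inDc hA hF2 t2.1.1.2.1 t2.1.1.2.2,
          inDc hA hF3 t3.1.1.2.1 t3.1.1.2.2, inDc hA hF hf.2.1 hf.2.2, inDc hA hLm hl.2.1 hl.2.2,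
          inDc hA hK hk.2.1 hk.2.2, inDc hA hG hg.2.1 hg.2.2⟩
      · simp only [List.prod_cons, List.prod_nil, mul_one, ← mul_assoc]
        have h' := inv_mul_eq_iff_eq_mul.1 h
        rw [six, mul_assoc _ d (f : G), ← (hCcomm f.2).eq, ← mul_assoc] at h'
        rw [mul_right_cancel h']
        simp [mul_assoc, mul_mul_cancel H.grp.1 hLm, mul_mul_cancel H.grp.1 hK, sq hG]
  have hch := H.exists_chart seven
  -- `d` is a member
  have hdD : d ∈ D := by
    obtain ⟨tA1, tb1, tc1, -⟩ := htcf t1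
    obtain ⟨tA2, tb2, tc2, -⟩ := htcf t2
    obtain ⟨tA3, tb3, tc3, -⟩ := htcf t3
    have a1 := hcomm hA hF1 tA1.2.2
    have a2 := hcomm hA hF2 tA2.2.2
    have a3 := hcomm hA hF3 tA3.2.2
    have b1 := (hcomm hF1 hB tb1).symm
    have b2 := (hcomm hF2 hB tb2).symm
    have b3 := (hcomm hF3 hB tb3).symm
    have c1 := (hcomm hF1 hCm tc1).symm
    have c2 := (hcomm hF2 hCm tc2).symm
    have c3 := (hcomm hF3 hCm tc3).symm
    obtain ⟨L, hnd, hlen, hLD, hLc, hLp⟩ := H.exists_short hch [(f₃ : G), f₂, f₁, a, b, c]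
      (by simp [hA, hB, hCm, hF1, hF2, hF3]) (by
        simp only [List.mem_cons, List.not_mem_nil, or_false, forall_eq_or_imp, forall_eq]
        exact ⟨⟨Commute.refl _, c23.symm, c13.symm, a3.symm, b3.symm, c3.symm⟩,
          ⟨c23, Commute.refl _, c12.symm, a2.symm, b2.symm, c2.symm⟩,
          ⟨c13, c12, Commute.refl _, a1.symm, b1.symm, c1.symm⟩,
          ⟨a3, a2, a1, Commute.refl _, cab, cac⟩, ⟨b3, b2, b1, cab.symm, Commute.refl _, cbc'⟩,
          ⟨c3, c2, c1, cac.symm, cbc'.symm, Commute.refl _⟩⟩)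
    have hLd : L.prod = d := by
      rw [hLp]
      simp only [List.prod_cons, List.prod_nil, mul_one]
      rw [show (a : G) * (b * c) = f₁ * f₂ * f₃ * d from (mul_assoc _ _ _).symm.trans six]
      simp [mul_assoc, mul_mul_cancel H.grp.1 hF1, mul_mul_cancel H.grp.1 hF2,
        mul_mul_cancel H.grp.1 hF3]
    match L, hlen with
    | [], _ => exact absurd hLd.symm hd1
    | [p], _ => simp at hLd hLD; exact hLd ▸ hLD
    | [p, q], _ =>
      exfalso
      simp at hnd hLD hLd
      exact not_two hLD.1 hLD.2 hnd (hLc p (by simp) q (by simp)) hLd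
    | [p, q, r], _ =>
      exfalso
      simp at hnd hLD hLd
      exact not_three hLD.1 hLD.2.1 hLD.2.2 hnd.1.1 hnd.1.2 hnd.2 (hLc p (by simp) q (by simp))
        (hLc p (by simp) r (by simp)) (hLc q (by simp) r (by simp)) (by rw [mul_assoc]; exact hLd)
  -- the chart at `d`
  have hDc : ∀ {x}, x ∈ Dc D d → x ∈ C := fun hx => hmemC hx.2.2.symm
  have hcl : Subgroup.closure (Dc D d) = C := by
    refine le_antisymm ((Subgroup.closure_le _).2 fun y hy => hDc hy) fun x hx => ?_
    haveI : ((Subgroup.closure (Dc D d)).subgroupOf C).Normal := ⟨fun n hn g => by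
      rw [Subgroup.mem_subgroupOf] at hn ⊢
      have hc := (stab_of_normal H.grp (g : G)).carries.dc d
      rw [hconjd g.2] at hc
      have : (Subgroup.closure (Dc D d)).map (MulAut.conj (g : G)).toMonoidHom ≤
          Subgroup.closure (Dc D d) := by
        rw [MonoidHom.map_closure, Subgroup.closure_le]
        rintro _ ⟨y, hy, rfl⟩
        exact Subgroup.subset_closure (hc.1 y hy)
      exact this (Subgroup.mem_map_of_mem _ hn)⟩
    have := top_of ((Subgroup.closure (Dc D d)).subgroupOf C) e'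
      (Subgroup.mem_subgroupOf.2 (Subgroup.subset_closure ⟨he, hed, hde⟩))
      fun h => (hker _ h).elim (ne_one H.grp.1 he) hed
    exact Subgroup.mem_subgroupOf.1 (this ▸ Subgroup.mem_top (⟨x, hx⟩ : ↥C))
  refine ⟨hdD, hcl.symm, hch,
    { Q := ↥C ⧸ Z
      E := E
      m22 := HQ
      π := π.comp (Subgroup.inclusion hcl.le)
      surj := hπ.comp fun x => ⟨⟨x.1, hcl.ge x.2⟩, rfl⟩
      ker := fun x hx y => Subtype.ext
        (congrArg Subtype.val (hkerC _ hx (Subgroup.inclusion hcl.le y)).eq :)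
      map_mem := fun x hx => himg ⟨x, hDc hx⟩ hx.1 hx.2.1
      lift := fun β hβ => by
        obtain ⟨x, hx, rfl⟩ := hlift β hβ
        refine ⟨x, ⟨hx, fun h => ?_, (hCcomm x.2).symm⟩, rfl⟩
        exact ne_one HQ.grp.1 hβ ((congrArg π (Subtype.ext h : x = z)).trans hπz) }, hfull⟩

/-- An involution in the group at a member with a full chart is a product of commuting members. -/
theorem M23.short_of_chart (H : M23 D) (hch : ∀ a ∈ D, Nonempty (Chart D a)) {e t : G} (he : e ∈ D)
    (C : Chart D e) (hfull : M22.Full C.E) (htm : t ∈ Subgroup.closure (Dc D e)) (hte : Commute t e)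
    (ht : t * t = 1) :
    ∃ l : List G, l.Nodup ∧ l.length ≤ 3 ∧ (∀ x ∈ l, x ∈ D) ∧ (∀ x ∈ l, ∀ y ∈ l, Commute x y) ∧
      l.prod = t := by
  set S := Subgroup.closure (Dc D e)
  obtain ⟨L, -, -, hLE, hLc, hLp⟩ := hfull.short (C.π ⟨t, htm⟩) (by
    rw [← map_mul, show (⟨t, htm⟩ : ↥S) * ⟨t, htm⟩ = 1 from Subtype.ext ht, map_one])
  suffices key : ∀ m : List C.Q, (∀ p ∈ m, p ∈ C.E) → (∀ p ∈ m, ∀ q ∈ m, Commute p q) →
      ∃ (M : List G) (y : ↥S), (∀ x ∈ M, ∃ hx : x ∈ Dc D e, C.img hx ∈ m) ∧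
        (∀ x ∈ M, ∀ x' ∈ M, Commute x x') ∧ (y : G) = M.prod ∧ C.π y = m.prod by
    obtain ⟨M, y, hM, hMc, hy, hψy⟩ := key L hLE hLc
    have hψ : C.π (y⁻¹ * ⟨t, htm⟩) = 1 := by rw [map_mul, map_inv, hψy, hLp, inv_mul_cancel]
    have hz : ∀ p ∈ Dc D e, Commute ((y : G)⁻¹ * t) p := fun p hp =>
      congrArg Subtype.val (C.ker _ hψ ⟨p, Subgroup.subset_closure hp⟩).eq
    have hye : Commute (y : G) e := by
      rw [hy]
      exact Commute.list_prod_left M _ fun x hx => (hM x hx).1.2.2.symm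
    rcases H.eq_one_or_eq hch he (hye.inv_left.mul_left hte) hz with h | h
    · obtain ⟨l, h1, h2, h3, h4, h5⟩ := H.exists_short hch M (fun x hx => (hM x hx).1.1) hMc
      exact ⟨l, h1, h2, h3, h4, by rw [h5, ← hy, inv_mul_eq_one.1 h]⟩
    · obtain ⟨l, h1, h2, h3, h4, h5⟩ := H.exists_short hch (e :: M)
        (fun x hx => by
          rcases List.mem_cons.1 hx with rfl | hx
          exacts [he, (hM x hx).1.1]) (by
          intro p hp r hr
          simp only [List.mem_cons] at hp hr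
          rcases hp with rfl | hp <;> rcases hr with rfl | hr
          exacts [Commute.refl _, (hM r hr).1.2.2, (hM p hp).1.2.2.symm, hMc p hp r hr])
      exact ⟨l, h1, h2, h3, h4, by
        rw [h5, List.prod_cons, ← hy, inv_mul_eq_iff_eq_mul.1 h, hye.eq]⟩
  intro m
  induction m with
  | nil => exact fun _ _ => ⟨[], 1, by simp, by simp, rfl, map_one _⟩
  | cons p m ih =>
    intro hm hmc
    obtain ⟨M, y, hM, hMc, hy, hψy⟩ := ih (fun q hq => hm q (List.mem_cons_of_mem _ hq))
      fun q hq r hr => hmc q (List.mem_cons_of_mem _ hq) r (List.mem_cons_of_mem _ hr)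
    obtain ⟨x, hx, rfl⟩ := C.lift p (hm _ (by simp))
    have hxM : ∀ r ∈ M, Commute x r := fun r hr => by
      obtain ⟨hr', hrm⟩ := hM r hr
      exact (C.comm_iff H he hx hr').1 (hmc _ (by simp [Chart.img]) _ (List.mem_cons_of_mem _ hrm))
    refine ⟨x :: M, ⟨x, Subgroup.subset_closure hx⟩ * y, ?_, ?_, by simp [hy], by
      rw [map_mul, hψy, List.prod_cons]⟩
    · intro r hr
      rcases List.mem_cons.1 hr with rfl | hr
      · exact ⟨hx, by simp [Chart.img]⟩
      · exact ⟨(hM r hr).1, List.mem_cons_of_mem _ (hM r hr).2⟩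
    · intro r hr r' hr'
      rcases List.mem_cons.1 hr with h1 | h1 <;> rcases List.mem_cons.1 hr' with h2 | h2
      exacts [by rw [h1, h2], h1 ▸ hxM r' h2, h2 ▸ (hxM r h1).symm, hMc r h1 r' h2]

/-- Every involution is a product of at most three commuting members. -/
theorem M23.exists_short_invol (H : M23 D) {d : G} (hq : QuasiInvol22 d) {t : G} (ht : t * t = 1) :
    ∃ l : List G, l.Nodup ∧ l.length ≤ 3 ∧ (∀ x ∈ l, x ∈ D) ∧ (∀ x ∈ l, ∀ y ∈ l, Commute x y) ∧
      l.prod = t := by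
  obtain ⟨hd, hcent, hch, C₀, hfull⟩ := H.mem_of_quasisimple hq
  obtain ⟨e, he, hte⟩ := H.exists_fixed ht
  obtain ⟨g, rfl⟩ := H.trans d hd e he
  set C := C₀.conj H g
  have htm : t ∈ Subgroup.closure (Dc D (g * d * g⁻¹)) := by
    have h1 : g⁻¹ * t * g ∈ Subgroup.closure (Dc D d) := hcent ▸
      Subgroup.mem_centralizer_singleton_iff.2 (show Commute (g⁻¹ * t * g) d by
        refine (commute_conj_iff g).1 ?_
        rw [show g * (g⁻¹ * t * g) * g⁻¹ = t by group]
        exact hte).eq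
    have h2 : (Subgroup.closure (Dc D d)).map (MulAut.conj g).toMonoidHom ≤
        Subgroup.closure (Dc D (g * d * g⁻¹)) := by
      rw [MonoidHom.map_closure, Subgroup.closure_le]
      rintro _ ⟨y, hy, rfl⟩
      exact Subgroup.subset_closure (((stab_of_normal H.grp g).carries.dc d).1 y hy)
    have := h2 (Subgroup.mem_map_of_mem _ h1)
    rwa [show (MulAut.conj g).toMonoidHom (g⁻¹ * t * g) = t by simp [mul_assoc]] at this
  exact H.short_of_chart hch he C hfull htm hte ht

/-- The class of 3-transpositions is unique. -/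
theorem M23.unique_class (H : M23 D) {d : G} (hq : QuasiInvol22 d) {D' : Set G}
    (hD' : IsThreeTranspositionClass D') : D' = D := by
  have hT := Fischer.TClass.of hD'
  obtain ⟨-, -, hch, -⟩ := H.mem_of_quasisimple hq
  obtain ⟨e, he⟩ := hT.nonempty
  have key : ∀ g : G, (e * (g * e * g⁻¹)) ^ 2 = 1 ∨ (e * (g * e * g⁻¹)) ^ 3 = 1 := fun g =>
    hT.ord e he _ (hT.conj g e he)
  have heD : e ∈ D := by
    obtain ⟨l, hnd, hlen, hlD, hlc, hlp⟩ := H.exists_short_invol hq (hT.sq e he)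
    match l, hlen with
    | [], _ => exact absurd hlp.symm (hT.ne_one e he)
    | [p], _ => simp at hlp hlD; exact hlp ▸ hlD
    | [p, q], _ =>
      exfalso
      simp at hnd hlD hlp
      have cpq : Commute p q := hlc p (by simp) q (by simp)
      obtain ⟨C⟩ := hch p hlD.1
      have hq' : q ∈ Dc D p := ⟨hlD.2, Ne.symm hnd, cpq⟩
      obtain ⟨γ, hγ⟩ := (C.m22.model _ (C.img_mem hq')).1
      obtain ⟨c, hc, rfl⟩ := C.lift γ hγ.1
      have hcq : c ≠ q := fun h => hγ.2.1 (C.img_congr hc hq' h)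
      have cqc : Commute q c := (C.comm_iff H hlD.1 hq' hc).1 hγ.2.2
      obtain ⟨r, s, g, hr, hs, npr, nqr, csp, csq, csr, e1, e2, -⟩ := H.exists_path hch hc.1
        (p := p) ⟨hlD.1, hc.2.1.symm, hc.2.2.symm⟩ (q := q) ⟨hlD.2, hcq.symm, cqc.symm⟩ hnd cpq
      obtain ⟨h1, h2⟩ := path_order H.tr hlD.1 hlD.2 hr.1 hs.1 hnd cpq npr nqr csp csq csr
      have := key g
      rw [← hlp, show g * (p * q) * g⁻¹ = (g * p * g⁻¹) * (g * q * g⁻¹) by group, e1, e2, csr.eq,
        ← mul_assoc] at this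
      exact this.elim h1 h2
    | [p, q, c], _ =>
      exfalso
      simp at hnd hlD hlp
      have cpq : Commute p q := hlc p (by simp) q (by simp)
      obtain ⟨r, s, g, hr, hs, npr, nqr, csp, csq, csr, e1, e2, e3⟩ := H.exists_path hch hlD.2.2
        (p := p) ⟨hlD.1, hnd.1.2, hlc c (by simp) p (by simp)⟩
        (q := q) ⟨hlD.2.1, hnd.2, hlc c (by simp) q (by simp)⟩ hnd.1.1 cpq
      obtain ⟨h1, h2⟩ := path_order H.tr hlD.1 hlD.2.1 hr.1 hs.1 hnd.1.1 cpq npr nqr csp csq csr
      have := key g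
      rw [← hlp, ← mul_assoc p q c,
        show g * (p * q * c) * g⁻¹ = (g * p * g⁻¹) * (g * q * g⁻¹) * (g * c * g⁻¹) by group,
        e1, e2, e3, csr.eq, show p * q * c * (r * s * c) = p * q * r * s by
          rw [mul_assoc (p * q), ← mul_assoc c, (hr.2.2.mul_right hs.2.2).eq, mul_assoc (r * s),
            sq_one H.grp.1 hlD.2.2, mul_one, ← mul_assoc]] at this
      exact this.elim h1 h2
  refine Set.ext fun x => ⟨fun hx => ?_, fun hx => ?_⟩
  · obtain ⟨g, rfl⟩ := hT.trans e he x hx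
    exact H.conj_mem g heD
  · obtain ⟨g, rfl⟩ := H.trans e heD x hx
    exact hT.conj g e he

end Cfsg.Agent.Transpos
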