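import Cfsg.Agent.Lib.Presented.Fi23Tree
import Cfsg.Agent.Lib.Presented.Fi23Mult

/-!
# A copy of Fi23 from the centraliser of an involution

`Chart D u`: an isomorphism of the double cover in `Fi23` onto the centraliser of `u` carrying the
transpositions onto the members of `D`.  From a chart at every member a tenth generator is found and
`Fi23` maps into the group extending the chart (`exists_hom`).
-/

set_option autoImplicit false
set_option maxRecDepth 20000

namespace Cfsg.Agent.Transpos.M23Recog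

open Cfsg.Spor Cfsg.Agent.Presented Fi23Index Fi23Transp Fi23Pts

variable {G : Type*} [Group G]

/-- The centraliser of `u` as the double cover, with its members of `D`. -/
structure Chart (D : Set G) (u : G) where
  f : hSub →* G
  inj : Function.Injective f
  range_eq : f.range = Subgroup.centralizer ({u} : Set G)
  map_z : f Fi23Cover.z = u
  mem : ∀ y : hSub, f y ∈ D ↔ (y : Fi23) ∈ conjugatesOf t

theorem coe_comm {x y : hSub} : Commute x y ↔ Commute (x : Fi23) (y : Fi23) :=
  ⟨fun h => congrArg Subtype.val h.eq, fun h => Subtype.ext h.eq⟩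

theorem mem_hSub {x : Fi23} (h : Commute t x) : x ∈ hSub := by
  rw [← centralizer_eq]
  exact Subgroup.mem_centralizer_singleton_iff.2 h.eq.symm

theorem coe_zc : ((Fi23Cover.z : hSub) : Fi23) = t := coe_z

theorem conj_mem_class {x : Fi23} (g : Fi23) (hx : x ∈ conjugatesOf t) : g * x * g⁻¹ ∈ conjugatesOf t := by
  obtain ⟨a, rfl⟩ := isConj_iff.1 hx
  exact isConj_iff.2 ⟨g * a, by group⟩

namespace Chart

variable {D : Set G} {u : G} (c : Chart D u)

theorem commute_iff {x y : hSub} : Commute (c.f x) (c.f y) ↔ Commute (x : Fi23) (y : Fi23) := by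
  rw [← coe_comm]
  exact ⟨fun h => c.inj (by rw [map_mul, map_mul]; exact h.eq), fun h => h.map c.f⟩

theorem exists_pre {x : G} (h : Commute u x) : ∃ y, c.f y = x := by
  have : x ∈ c.f.range := by
    rw [c.range_eq]; exact Subgroup.mem_centralizer_singleton_iff.2 h.eq.symm
  exact this

theorem commute_u (y : hSub) : Commute u (c.f y) := by
  have h : c.f y ∈ Subgroup.centralizer ({u} : Set G) := c.range_eq ▸ ⟨y, rfl⟩
  exact (Subgroup.mem_centralizer_singleton_iff.1 h).symm

include c in
theorem u_mem : u ∈ D := by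
  rw [← c.map_z, c.mem, coe_zc]; exact mem_conjugatesOf_self

/-- The chart at a conjugate. -/
def conj (g : G) (hD : ∀ x, g * x * g⁻¹ ∈ D ↔ x ∈ D) : Chart D (g * u * g⁻¹) where
  f := (MulAut.conj g).toMonoidHom.comp c.f
  inj := (MulAut.conj g).injective.comp c.inj
  range_eq := by
    rw [MonoidHom.range_comp, c.range_eq]
    ext x
    simp only [Subgroup.mem_map, Subgroup.mem_centralizer_singleton_iff, MulEquiv.coe_toMonoidHom,
      MulAut.conj_apply]
    constructor
    · rintro ⟨y, hy, rfl⟩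
      calc g * y * g⁻¹ * (g * u * g⁻¹) = g * (y * u) * g⁻¹ := by group
        _ = _ := by rw [hy]; group
    · intro hx
      refine ⟨g⁻¹ * x * g, ?_, by group⟩
      calc g⁻¹ * x * g * u = g⁻¹ * (x * (g * u * g⁻¹)) * g := by group
        _ = _ := by rw [hx]; group
  map_z := by simp [c.map_z]
  mem y := by simp [hD, c.mem]

include c in
/-- The chart with a given member at the first generator. -/
theorem normalise {x : G} (hx : x ∈ D) (hne : x ≠ u) (hc : Commute u x) :
    ∃ c' : Chart D u, ∀ y : hSub, (y : Fi23) = gen 0 → c'.f y = x := by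
  obtain ⟨y, rfl⟩ := c.exists_pre hc
  have hy : (y : Fi23) ∈ conjugatesOf t := (c.mem y).1 hx
  have hct : Commute t (y : Fi23) := by
    have h := (c.commute_iff (x := Fi23Cover.z) (y := y)).1 (by rw [c.map_z]; exact hc)
    rwa [coe_zc] at h
  obtain ⟨h, hh, e⟩ := exists_conj_gen0 hy (fun e => hne (by
    rw [show y = Fi23Cover.z from Subtype.ext (e.trans coe_zc.symm), c.map_z])) hct
  let θ := MulAut.conj (⟨h, hh⟩ : hSub)
  have hz : θ Fi23Cover.z = Fi23Cover.z := by
    show (⟨h, hh⟩ : hSub) * Fi23Cover.z * (⟨h, hh⟩ : hSub)⁻¹ = _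
    rw [Fi23Cover.z_central, mul_inv_cancel_right]
  refine ⟨{ f := c.f.comp θ.toMonoidHom
            inj := c.inj.comp θ.injective
            range_eq := by
              rw [MonoidHom.range_comp, MonoidHom.range_eq_top.2 θ.surjective, ← MonoidHom.range_eq_map,
                c.range_eq]
            map_z := by
              show c.f (θ Fi23Cover.z) = u
              rw [hz, c.map_z]
            mem := fun w => by
              show c.f (θ w) ∈ D ↔ _
              rw [c.mem]
              constructor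
              · intro hw
                have := conj_mem_class h⁻¹ hw
                simpa [θ, mul_assoc] using this
              · exact fun hw => conj_mem_class h hw }, fun w hw => ?_⟩
  show c.f (θ w) = c.f y
  congr 1
  apply Subtype.ext
  show h * (w : Fi23) * h⁻¹ = _
  rw [hw, e]

/-- The transpositions behind two members commuting with `u`. -/
theorem exists_member {x : G} (hx : x ∈ D) (hc : Commute u x) :
    ∃ y : hSub, c.f y = x ∧ (y : Fi23) ∈ conjugatesOf t := by
  obtain ⟨y, rfl⟩ := c.exists_pre hc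
  exact ⟨y, rfl, (c.mem y).1 hx⟩

end Chart

/-! ## Commutations of the generators -/

/-- The coset of a generator. -/
def ptOf (k : ℕ) : ℕ := [11589, 8004, 8003, 8000, 8001, 8002, 8005, 8006, 7999, 8007].getD k 0

theorem ι_ptOf {k : ℕ} (hk : k < 10) : ι (ptOf k) = gen k ∧ ptOf k < Cc.N := by
  have hc : ∀ k : Fin 10, ∃ x ∈ genPts, x.1 = k.1 ∧ x.2.1 = ptOf k.1 := by decide +kernel
  obtain ⟨⟨k', p, w⟩, hx, h1, h2⟩ := hc ⟨k, hk⟩
  obtain rfl : k' = k := h1
  obtain rfl : p = ptOf k' := h2
  exact ι_gen hx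

theorem comm_gen {i k : ℕ} (hi : i < 10) (hk : k < 10) :
    Commute (gen i) (gen k) ↔ Nat.beq (Cc.actOf (ptOf k) i) (ptOf k) = true := by
  obtain ⟨e, hp⟩ := ι_ptOf hk
  have hlt : ∀ g ∈ [i], g < Cc.m := fun g hg => by
    rw [List.mem_singleton.1 hg]
    exact lt_of_lt_of_le hi (le_of_eq (show (10 : ℕ) = Cc.m from by decide +kernel))
  have h := commute_word hlt hp
  rw [e, CosetCert.path_cons, CosetCert.path_nil] at h
  rw [Nat.beq_eq, ← h]
  simp [wval]

theorem gen_eq_iff {i k : ℕ} (hi : i < 10) (hk : k < 10) :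
    gen i = gen k ↔ Nat.beq (ptOf i) (ptOf k) = true := by
  obtain ⟨e, hp⟩ := ι_ptOf hi
  obtain ⟨e', hp'⟩ := ι_ptOf hk
  rw [← e, ← e', Nat.beq_eq]
  exact ⟨ι_inj hp hp', congrArg ι⟩

/-- A numbered configuration has the rows of the diagram. -/
noncomputable def rowsFit : List (List Bool) → List ℕ → List ℕ → Bool
  | [], _, [] => true
  | row :: rows, pre, k :: ks => Nat.blt k 10 && ((row.zip pre).all fun x => Nat.blt x.2 10 &&
      !(Nat.beq (ptOf k) (ptOf x.2)) && (Nat.beq (Cc.actOf (ptOf k) x.2) (ptOf k) == x.1)) &&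
      rowsFit rows (pre ++ [k]) ks
  | _, _, _ => false

theorem compat_of_fit {v : ℕ → Fi23} {S : List ℕ} (hok : ∀ k ∈ S, Fi23Tree.Ok (v k))
    (hne : ∀ i ∈ S, ∀ k ∈ S, v i = v k → gen i = gen k)
    (hcom : ∀ i ∈ S, ∀ k ∈ S, (Commute (v i) (v k) ↔ Commute (gen i) (gen k))) :
    ∀ (rows : List (List Bool)) (pre ks : List ℕ), rowsFit rows pre ks = true →
      (∀ k ∈ pre ++ ks, k ∈ S) → Fi23Tree.Compat rows (pre.map v) (ks.map v)
  | [], _, [], _, _ => trivial
  | [], _, _ :: _, h, _ => by simp [rowsFit] at h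
  | _ :: _, _, [], h, _ => by simp [rowsFit] at h
  | row :: rows, pre, k :: ks, h, hS => by
    simp only [rowsFit, Bool.and_eq_true, List.all_eq_true, Nat.blt_eq] at h
    obtain ⟨⟨hk, hr⟩, hrest⟩ := h
    have hkS : k ∈ S := hS k (by simp)
    refine ⟨hok k hkS, fun q hq => ?_, ?_⟩
    · rw [List.zip_map_right, List.mem_map] at hq
      obtain ⟨⟨b, i⟩, hbi, rfl⟩ := hq
      obtain ⟨⟨hi, hne'⟩, hb⟩ := hr _ hbi
      have hiS : i ∈ S := hS i (List.mem_append_left _ (List.of_mem_zip hbi).2)
      refine ⟨fun e => ?_, ?_⟩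
      · rw [(gen_eq_iff hk hi).1 (hne k hkS i hiS e)] at hne'
        simp at hne'
      · show Commute (v i) (v k) ↔ b = true
        rw [hcom i hiS k hkS, comm_gen hi hk]
        rw [beq_iff_eq] at hb
        rw [hb]
    · have := compat_of_fit hok hne hcom rows (pre ++ [k]) ks hrest (by simpa [List.append_assoc] using hS)
      simpa using this

/-- The pullback of generators commuting with the base member to a chart there. -/
theorem exists_config {D : Set G} {d u : G} (c : Chart D d) {kb : ℕ} (hkb : kb ∈ Fi23Cover.idx)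
    (hu : c.f (Fi23Cover.sH kb) = u) (cu₀ : Chart D u) :
    ∃ (cu : Chart D u) (w0 : hSub) (v : ℕ → hSub), (w0 : Fi23) = gen 0 ∧ cu.f w0 = d ∧
      ∀ S : List ℕ, (S.all fun k => Fi23Cover.idx.contains k && !(Nat.beq k kb) &&
          Nat.beq (Cc.actOf (ptOf k) kb) (ptOf k)) = true →
        (∀ k ∈ S, cu.f (v k) = c.f (Fi23Cover.sH k)) ∧
        ∀ rows, rowsFit rows [] S = true → Fi23Tree.Compat rows [] (S.map fun k => (v k : Fi23)) := by
  classical
  have hidx : ∀ {k}, k ∈ Fi23Cover.idx → k < 10 := fun {k} hk => by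
    simp only [Fi23Cover.idx, List.mem_cons, List.not_mem_nil, or_false] at hk
    omega
  have hmemD : ∀ {k}, k ∈ Fi23Cover.idx → c.f (Fi23Cover.sH k) ∈ D := fun {k} hk => by
    rw [c.mem, Fi23Cover.coe_sH hk]; exact gen_mem_class (hidx hk)
  have hne_t : ∀ {k}, k ∈ Fi23Cover.idx → gen k ≠ t := fun {k} hk e => by
    obtain ⟨e', hp⟩ := ι_ptOf (hidx hk)
    have h0 := ι_inj hp (q := 0) (by decide +kernel) (by rw [e', ι_zero, e])
    have : ∀ k ∈ Fi23Cover.idx, ptOf k ≠ 0 := by decide +kernel
    exact this k hk h0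
  have hdu : d ≠ u := fun e => hne_t hkb (by
    have h := c.inj ((hu.trans e.symm).trans c.map_z.symm)
    rw [← Fi23Cover.coe_sH hkb, h, coe_zc])
  have hcu : Commute u d := by rw [← hu]; exact (c.commute_u _).symm
  obtain ⟨cu, hcu0⟩ := cu₀.normalise c.u_mem hdu hcu
  have h0mem : gen 0 ∈ hSub := Fi23Cover.gen_mem (by decide)
  let w0 : hSub := ⟨gen 0, h0mem⟩
  have hw0 : cu.f w0 = d := hcu0 w0 rfl
  let v : ℕ → hSub := fun k =>
    if h : ∃ y, cu.f y = c.f (Fi23Cover.sH k) then h.choose else 1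
  refine ⟨cu, w0, v, rfl, hw0, fun S hS => ?_⟩
  simp only [List.all_eq_true, Bool.and_eq_true, List.contains_eq_mem, decide_eq_true_eq,
    Bool.not_eq_true'] at hS
  have hv : ∀ k ∈ S, cu.f (v k) = c.f (Fi23Cover.sH k) := fun k hk => by
    obtain ⟨⟨hki, -⟩, hcomm⟩ := hS k hk
    have hcc : Commute u (c.f (Fi23Cover.sH k)) := by
      rw [← hu, c.commute_iff, Fi23Cover.coe_sH hkb, Fi23Cover.coe_sH hki, comm_gen (hidx hkb) (hidx hki)]
      exact hcomm
    have he := cu.exists_pre hcc
    simp only [v, dif_pos he]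
    exact he.choose_spec
  refine ⟨hv, fun rows hrows => ?_⟩
  have hok : ∀ k ∈ S, Fi23Tree.Ok (v k : Fi23) := fun k hk => by
    obtain ⟨⟨hki, hkne⟩, -⟩ := hS k hk
    refine ⟨(cu.mem _).1 (hv k hk ▸ hmemD hki), fun e => ?_, ?_, fun e => ?_, ?_⟩
    · have e1 : cu.f (v k) = u := by
        rw [show v k = Fi23Cover.z from Subtype.ext (e.trans coe_zc.symm), cu.map_z]
      rw [hv k hk, ← hu] at e1
      have e2 := congrArg Subtype.val (c.inj e1)
      rw [Fi23Cover.coe_sH hki, Fi23Cover.coe_sH hkb, gen_eq_iff (hidx hki) (hidx hkb)] at e2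
      have : ∀ i ∈ Fi23Cover.idx, ∀ j ∈ Fi23Cover.idx,
          Nat.beq (ptOf i) (ptOf j) = true → Nat.beq i j = true := by decide +kernel
      rw [this k hki kb hkb e2] at hkne
      simp at hkne
    · have := (cu.commute_iff (x := Fi23Cover.z) (y := v k)).1 (by rw [cu.map_z]; exact cu.commute_u _)
      rwa [coe_zc] at this
    · have e1 : cu.f (v k) = d := by rw [show v k = w0 from Subtype.ext e, hw0]
      have e2 := congrArg Subtype.val (c.inj (((hv k hk).symm.trans e1).trans c.map_z.symm))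
      rw [Fi23Cover.coe_sH hki, coe_zc] at e2
      exact hne_t hki e2
    · exact (cu.commute_iff (x := w0) (y := v k)).1 (by rw [hw0, hv k hk]; exact c.commute_u _)
  refine compat_of_fit (v := fun k => (v k : Fi23)) hok (fun i hi k hk e => ?_) (fun i hi k hk => ?_)
    rows [] S hrows (by simp)
  · have e1 : c.f (Fi23Cover.sH i) = c.f (Fi23Cover.sH k) := by
      rw [← hv i hi, ← hv k hk, Subtype.ext e]
    have e2 := congrArg Subtype.val (c.inj e1)
    rwa [Fi23Cover.coe_sH (hS i hi).1.1, Fi23Cover.coe_sH (hS k hk).1.1] at e2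
  · rw [← cu.commute_iff, hv i hi, hv k hk, c.commute_iff, Fi23Cover.coe_sH (hS i hi).1.1,
      Fi23Cover.coe_sH (hS k hk).1.1]

theorem value_word : (gen 9 * gen 8 * gen 6 * gen 5 * gen 4 * gen 3 * gen 2) ^ 9 = t := by
  have e := Fi23Cover.eq_of_same (List.replicate 9 [2, 3, 4, 5, 6, 8, 9]).flatten Fi23Chain.zWord
    (by decide +kernel)
  rw [wval_replicate] at e
  have e' : wval gen [2, 3, 4, 5, 6, 8, 9] ^ 9 = t := e
  rw [← e']
  simp [wval, mul_assoc]

variable (D : Set G) in
/-- The tenth generator. -/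
theorem exists_tenth {d : G} (c : Chart D d) (hch : ∀ x ∈ D, Nonempty (Chart D x)) :
    ∃ j ∈ D, (∀ k ∈ [0, 1, 2, 3, 4, 5, 8, 9], Commute (c.f (Fi23Cover.sH k)) j) ∧
      ¬ Commute d j ∧ (c.f (Fi23Cover.sH 6) * j) ^ 3 = 1 := by
  have hmemD : ∀ k ∈ Fi23Cover.idx, c.f (Fi23Cover.sH k) ∈ D := fun k hk => by
    rw [c.mem, Fi23Cover.coe_sH hk]
    exact gen_mem_class (by simp only [Fi23Cover.idx, List.mem_cons, List.not_mem_nil, or_false] at hk; omega)
  -- at `a`
  obtain ⟨ca₀⟩ := hch _ (hmemD 0 (by decide))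
  obtain ⟨ca, w0, v, hw0, hw0d, hS⟩ := exists_config c (kb := 0) (by decide) rfl ca₀
  obtain ⟨hv, hcompat⟩ := hS [3, 2, 4, 5, 8, 9, 6] (by decide +kernel)
  have hcompat' := hcompat Fi23Tree.rowsA (by decide +kernel)
  simp only [List.map_cons, List.map_nil] at hcompat'
  have hval : ((v 9 : Fi23) * v 8 * v 6 * v 5 * v 4 * v 3 * v 2) ^ 9 = gen 0 := by
    have e : (v 9 * v 8 * v 6 * v 5 * v 4 * v 3 * v 2) ^ 9 = w0 := by
      apply ca.inj
      rw [hw0d]
      simp only [map_pow, map_mul, hv 9 (by simp), hv 8 (by simp), hv 6 (by simp), hv 5 (by simp),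
        hv 4 (by simp), hv 3 (by simp), hv 2 (by simp)]
      conv_rhs => rw [← c.map_z]
      rw [← map_mul, ← map_mul, ← map_mul, ← map_mul, ← map_mul, ← map_mul, ← map_pow]
      congr 1
      apply Subtype.ext
      simp only [Subgroup.coe_pow, Subgroup.coe_mul, coe_zc,
        Fi23Cover.coe_sH (show 9 ∈ Fi23Cover.idx by decide), Fi23Cover.coe_sH (show 8 ∈ Fi23Cover.idx by decide),
        Fi23Cover.coe_sH (show 6 ∈ Fi23Cover.idx by decide), Fi23Cover.coe_sH (show 5 ∈ Fi23Cover.idx by decide),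
        Fi23Cover.coe_sH (show 4 ∈ Fi23Cover.idx by decide), Fi23Cover.coe_sH (show 3 ∈ Fi23Cover.idx by decide),
        Fi23Cover.coe_sH (show 2 ∈ Fi23Cover.idx by decide), value_word]
    rw [← hw0, ← e]
    simp
  obtain ⟨x, hx, hxt, htx, hn0, xc, xd, xe, xf, xh, xi, xg⟩ := Fi23Tree.exists_witness hcompat' hval
  let xx : hSub := ⟨x, mem_hSub htx⟩
  set j := ca.f xx with hj
  have hjD : j ∈ D := (ca.mem xx).2 hx
  have tr : ∀ k ∈ [3, 2, 4, 5, 8, 9, 6], (Commute (c.f (Fi23Cover.sH k)) j ↔ Commute (v k : Fi23) x) :=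
    fun k hk => by rw [← hv k hk, hj, ca.commute_iff]
  have hja : Commute (c.f (Fi23Cover.sH 0)) j := ca.commute_u xx
  have hjd : ¬ Commute d j := by
    rw [← hw0d, hj, ca.commute_iff, hw0]; exact hn0
  have hjg : ¬ Commute (c.f (Fi23Cover.sH 6)) j := fun h => xg ((tr 6 (by simp)).1 h)
  have hc : ∀ k ∈ [0, 2, 3, 4, 5, 8, 9], Commute (c.f (Fi23Cover.sH k)) j := by
    intro k hk
    simp only [List.mem_cons, List.not_mem_nil, or_false] at hk
    rcases hk with rfl | rfl | rfl | rfl | rfl | rfl | rfl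
    exacts [hja, (tr 2 (by simp)).2 xc, (tr 3 (by simp)).2 xd, (tr 4 (by simp)).2 xe,
      (tr 5 (by simp)).2 xf, (tr 8 (by simp)).2 xh, (tr 9 (by simp)).2 xi]
  -- at `i`
  obtain ⟨ci₀⟩ := hch _ (hmemD 9 (by decide))
  obtain ⟨ci, u0, r, hu0, hu0d, hT⟩ := exists_config c (kb := 9) (by decide) rfl ci₀
  obtain ⟨hr, hcompat2⟩ := hT [0, 1, 2, 3, 4, 5, 6] (by decide +kernel)
  have hcompat2' := hcompat2 Fi23Tree.rowsI (by decide +kernel)
  simp only [List.map_cons, List.map_nil] at hcompat2'
  obtain ⟨y, hy, hyc⟩ := ci.exists_member hjD (hc 9 (by simp))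
  have tr2 : ∀ k ∈ [0, 1, 2, 3, 4, 5, 6],
      (Commute (c.f (Fi23Cover.sH k)) j ↔ Commute (r k : Fi23) (y : Fi23)) :=
    fun k hk => by rw [← hr k hk, ← hy, ci.commute_iff]
  have hyt : (y : Fi23) ≠ t := fun e => by
    have e1 : j = c.f (Fi23Cover.sH 9) := by
      rw [← hy, show y = Fi23Cover.z from Subtype.ext (e.trans coe_zc.symm), ci.map_z]
    exact hjd (e1 ▸ c.commute_u _)
  have hty : Commute t (y : Fi23) := by
    have := (ci.commute_iff (x := Fi23Cover.z) (y := y)).1 (by rw [ci.map_z]; exact ci.commute_u _)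
    rwa [coe_zc] at this
  have hb := Fi23Tree.forced hcompat2' hyc hyt hty (fun h => hjd (by
      rw [← hu0d, ← hy, ci.commute_iff, hu0]; exact h))
    ((tr2 0 (by simp)).1 (hc 0 (by simp))) ((tr2 2 (by simp)).1 (hc 2 (by simp)))
    ((tr2 3 (by simp)).1 (hc 3 (by simp))) ((tr2 4 (by simp)).1 (hc 4 (by simp)))
    ((tr2 5 (by simp)).1 (hc 5 (by simp))) fun h => hjg ((tr2 6 (by simp)).2 h)
  refine ⟨j, hjD, fun k hk => ?_, hjd, ?_⟩
  · simp only [List.mem_cons, List.not_mem_nil, or_false] at hk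
    rcases hk with rfl | rfl | rfl | rfl | rfl | rfl | rfl | rfl
    exacts [hja, (tr2 1 (by simp)).2 hb, hc 2 (by simp), hc 3 (by simp), hc 4 (by simp), hc 5 (by simp),
      hc 8 (by simp), hc 9 (by simp)]
  · rw [← hv 6 (by simp), hj, ← map_mul, ← map_pow, ← ca.f.map_one]
    congr 1
    apply Subtype.ext
    have hmem : (v 6 : Fi23) ∈ conjugatesOf t := (ca.mem _).1 (hv 6 (by simp) ▸ hmemD 6 (by decide))
    rcases threeTransp.1.2 _ hmem x hx with h | h
    · exfalso
      apply xg
      have hs : ∀ {p : Fi23}, p ∈ conjugatesOf t → p * p = 1 := fun {p} hp => by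
        obtain ⟨a, rfl⟩ := isConj_iff.1 hp
        calc a * t * a⁻¹ * (a * t * a⁻¹) = a * (t * t) * a⁻¹ := by group
          _ = 1 := by rw [t_sq]; group
      rw [pow_two] at h
      show _ * _ = _ * _
      calc (v 6 : Fi23) * x = ((v 6 : Fi23) * x)⁻¹ := (inv_eq_of_mul_eq_one_right h).symm
        _ = _ := by rw [mul_inv_rev, inv_eq_of_mul_eq_one_right (hs hx), inv_eq_of_mul_eq_one_right (hs hmem)]
    · simpa [xx] using h

/-- The chart extends to an embedding of `Fi23`. -/
theorem exists_hom {D : Set G} (hsq : ∀ x ∈ D, x * x = 1) {d : G} (c : Chart D d)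
    (hch : ∀ x ∈ D, Nonempty (Chart D x)) :
    ∃ ψ : Fi23 →* G, Function.Injective ψ ∧ (∀ y : hSub, ψ y = c.f y) ∧ ψ (gen 7) ∈ D := by
  obtain ⟨j, hjD, hcomm, hjd, hg3⟩ := exists_tenth D c hch
  let T : ℕ → G := fun k => if k = 7 then j else c.f (Fi23Cover.sH k)
  have hj2 : j * j = 1 := hsq j hjD
  have hT : ∀ k, T k * T k = 1 := fun k => by
    by_cases h : k = 7
    · simp only [T, if_pos h]; exact hj2
    · simp only [T, if_neg h, ← map_mul, Fi23Cover.sH_sq, map_one]
  have hbase : ∀ b ∈ Fi23Mult.coxWords ++ [Fi23Mult.w9, Fi23Mult.spider], wval T b = 1 := by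
    have low : ∀ b : List ℕ, Fi23Cover.sameH b [] = true → (∀ a ∈ b, a ≠ 7) → wval T b = 1 := by
      intro b h h7
      have e : wval T b = c.f (wval Fi23Cover.sH b) := by
        rw [Fi23Cover.map_wval]
        induction b with
        | nil => rfl
        | cons a l ih =>
          have : ∀ (l : List ℕ), (∀ a ∈ l, a ≠ 7) → wval T l = wval (fun i => c.f (Fi23Cover.sH i)) l := by
            intro l
            induction l with
            | nil => intro _; rfl
            | cons a l ih =>
              intro h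
              rw [wval, wval, ih fun x hx => h x (List.mem_cons_of_mem _ hx)]
              simp [T, h a List.mem_cons_self]
          exact this (a :: l) h7
      rw [e, Fi23Cover.eq_of_sameH h]
      exact map_one _
    intro b hb
    rcases List.mem_append.mp hb with hb | hb
    · simp only [Fi23Mult.coxWords, List.mem_flatMap, List.mem_map, List.mem_range] at hb
      obtain ⟨x, hx, y, hy, rfl⟩ := hb
      by_cases h7 : x = 7 ∨ y = 7
      swap
      · push Not at h7
        refine low _ ?_ fun a ha => ?_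
        · have hall : ∀ x < 10, ∀ y < 10, x ≠ 7 → y ≠ 7 → Fi23Cover.sameH
              (List.replicate (Fi23Mult.label x y) [x, y]).flatten [] = true := by decide +kernel
          exact hall x hx y hy h7.1 h7.2
        · simp only [List.mem_flatten, List.mem_replicate] at ha
          obtain ⟨_, ⟨-, rfl⟩, ha⟩ := ha
          simp only [List.mem_cons, List.not_mem_nil, or_false] at ha
          rcases ha with rfl | rfl
          exacts [h7.1, h7.2]
      rw [wval_replicate]
      simp only [wval, one_mul]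
      have hlab : ∀ k < 10, k ≠ 7 → (k = 6 → Fi23Mult.label k 7 = 3 ∧ Fi23Mult.label 7 k = 3) ∧
          (k ≠ 6 → Fi23Mult.label k 7 = 2 ∧ Fi23Mult.label 7 k = 2) := by decide +kernel
      have hT7 : T 7 = j := if_pos rfl
      have h3' : (j * c.f (Fi23Cover.sH 6)) ^ 3 = 1 := by
        have e : j * c.f (Fi23Cover.sH 6) = j * (c.f (Fi23Cover.sH 6) * j) * j⁻¹ := by group
        rw [e, conj_pow, hg3]; group
      have two : ∀ {p q : G}, p * p = 1 → q * q = 1 → Commute p q → (p * q) ^ 2 = 1 := fun {p q} hp hq h => by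
        rw [h.mul_pow, pow_two, pow_two, hp, hq, one_mul]
      have hcj : ∀ k < 10, k ≠ 7 → k ≠ 6 → Commute (T k) j := fun k hk h7 h6 => by
        simp only [T, if_neg h7]
        refine hcomm k ?_
        simp only [List.mem_cons, List.not_mem_nil, or_false]
        omega
      rcases h7 with rfl | rfl
      · by_cases hyy : y = 7
        · subst hyy
          rw [show Fi23Mult.label 7 7 = 1 by decide +kernel, pow_one]; exact hT 7
        by_cases hy6 : y = 6
        · subst hy6
          rw [((hlab 6 hy hyy).1 rfl).2, hT7]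
          simpa [T] using hg3
        · rw [((hlab y hy hyy).2 hy6).2, hT7]
          exact two (hT y) hj2 (hcj y hy hyy hy6)
      · by_cases hxx : x = 7
        · subst hxx
          rw [show Fi23Mult.label 7 7 = 1 by decide +kernel, pow_one]; exact hT 7
        by_cases hx6 : x = 6
        · subst hx6
          rw [((hlab 6 hx hxx).1 rfl).1, hT7]
          simpa [T] using h3'
        · rw [((hlab x hx hxx).2 hx6).1, hT7]
          exact two hj2 (hT x) (hcj x hx hxx hx6).symm
    · simp only [List.mem_cons, List.not_mem_nil, or_false] at hb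
      rcases hb with rfl | rfl <;> exact low _ (by decide +kernel) (by decide +kernel)
  have hrel : ∀ r ∈ coxRelators Fi23.edges ∪ {r | r ∈ Fi23.extra},
      FreeGroup.lift (fun x => T (gens.idxOf x)) r = 1 := by
    intro r hr
    rw [lift_eq_wval _ (fun x => hT _) gens_all T (fun _ => rfl)]
    refine Fi23Mult.wval_fromBase hT hbase ?_
    have hall : (((relList gens Fi23.edges Fi23.extra).map (letters gens)).all fun w =>
        Fi23Mult.fromBase (Fi23Mult.coxWords ++ [Fi23Mult.w9, Fi23Mult.spider]) w) = true := by decide +kernel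
    exact List.all_eq_true.mp hall _ (List.mem_map.mpr ⟨r, mem_relList gens_all hr, rfl⟩)
  let ψ : Fi23 →* G := PresentedGroup.toGroup hrel
  have hψ : ∀ k < 10, ψ (gen k) = T k := by
    intro k hk
    have hlt : k < gens.length := hk
    rw [show gen k = PresentedGroup.of gens[k] from by simp [gen, genFun, hlt], PresentedGroup.toGroup.of,
      gens_nodup.idxOf_getElem _ hlt]
  have hsub : ∀ y : hSub, ψ y = c.f y := by
    intro y
    have hy : y ∈ Subgroup.closure (Fi23Cover.sH '' {k | k ∈ Fi23Cover.idx}) := by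
      rw [Fi23Cover.closure_sH]; trivial
    induction hy using Subgroup.closure_induction with
    | mem w hw =>
      obtain ⟨k, hk, rfl⟩ := hw
      have h7 : k ≠ 7 ∧ k < 10 := by
        simp only [Set.mem_ofPred_eq, Fi23Cover.idx, List.mem_cons, List.not_mem_nil, or_false] at hk
        omega
      rw [Fi23Cover.coe_sH hk, hψ k h7.2]
      simp [T, h7.1]
    | one => simp
    | mul a b _ _ ha hb => rw [Subgroup.coe_mul, map_mul, map_mul, ha, hb]
    | inv a _ ha => rw [Subgroup.coe_inv, map_inv, map_inv, ha]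
  refine ⟨ψ, ?_, hsub, ?_⟩
  · haveI := Fi23Order.simple_fi23
    rw [← MonoidHom.ker_eq_bot_iff]
    refine (IsSimpleGroup.eq_bot_or_eq_top_of_normal _ inferInstance).resolve_right fun h => ?_
    have h1 : ψ t = 1 := by rw [← MonoidHom.mem_ker, h]; trivial
    rw [← coe_zc, hsub, ← map_one c.f] at h1
    exact Fi23Cover.z_ne (c.inj h1)
  · rw [hψ 7 (by norm_num)]
    simpa [T] using hjD

end Cfsg.Agent.Transpos.M23Recog
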