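import Cfsg.Agent.Lib.Transpos.M23Chart

/-!
# Products of commuting members in type M(23)

With a chart at every member: only `1` and `a` commute with `a` and the members commuting with `a`,
four commuting members have the product of three, and paths exist inside every commuting set.
-/

set_option autoImplicit false

namespace Cfsg.Agent.Transpos

open Cfsg

universe u

variable {G : Type u} [Group G] [Finite G] {D : Set G} (H : M23 D)
  (hch : ∀ a ∈ D, Nonempty (Chart D a))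
include H hch

/-- Only `1` and `a` commute with `a` and all members commuting with `a`. -/
theorem M23.eq_one_or_eq {a z : G} (ha : a ∈ D) (hza : Commute z a)
    (hzA : ∀ y ∈ Dc D a, Commute z y) : z = 1 ∨ z = a := by
  obtain ⟨Ca⟩ := hch a ha
  obtain ⟨β, hβ⟩ : Ca.E.Nonempty := by
    by_contra hne
    rw [Set.not_nonempty_iff_eq_empty] at hne
    have hgen := Ca.m22.grp.2.2
    rw [hne, Subgroup.closure_empty] at hgen
    have hA : ∀ x ∈ Dc D a, False := fun x hx => by
      have := Ca.map_mem x hx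
      rw [hne] at this
      exact this
    obtain ⟨-, d, hd, c, hc, hdc, h22, -⟩ := H.type
    obtain ⟨e, he, hne'⟩ := exists_commuting_pair h22
    obtain ⟨x, hx, -⟩ := he
    obtain ⟨g, rfl⟩ := H.trans d hd a ha
    exact hA (g * x * g⁻¹) (((stab_of_normal H.grp g).carries.dc d).1 x hx)
  obtain ⟨b, hb, -⟩ := Ca.lift β hβ
  have hab := mem_dc_symm ha hb
  obtain ⟨C⟩ := hch b hb.1
  have hE := C.m22
  obtain ⟨ω, hω⟩ := (hE.model _ (C.img_mem hab)).1
  obtain ⟨ξ, hξ, hnξ⟩ := hE.exists_opp (C.img_mem hab) hω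
  obtain ⟨w, hw, rfl⟩ := C.lift ω hω.1
  obtain ⟨x, hx, rfl⟩ := C.lift ξ hξ.1
  change C.img hw ∈ _ at hω
  change ¬ Commute (C.img hab) (C.img hx) at hnξ
  change C.img hx ∈ Dc C.E (C.img hw) at hξ
  have hax : ¬ Commute a x := fun h => hnξ ((C.comm_iff H hb.1 hab hx).2 h)
  have hfix : ∀ {p}, p ∈ Dc D a → z * p * z⁻¹ = p := fun hp => by
    rw [(hzA _ hp).eq, mul_inv_cancel_right]
  have hza' : z * a * z⁻¹ = a := by rw [hza.eq, mul_inv_cancel_right]
  have hwa : w ∈ Dc D a :=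
    ⟨hw.1, fun e => hω.2.1 (C.img_congr hw hab e), (C.comm_iff H hb.1 hab hw).1 hω.2.2⟩
  have hy : z * x * z⁻¹ ∈ Dc D b := by
    have := ((stab_of_normal H.grp z).carries.dc b).1 x hx
    rwa [hfix hb] at this
  have hay : ¬ Commute a (z * x * z⁻¹) := fun h => hax (by
    rw [← hza'] at h; exact (commute_conj_iff z).1 h)
  have hnyw : C.img hy ∈ Dc C.E (C.img hw) := by
    refine ⟨C.img_mem hy, fun e => hay ?_, (C.comm_iff H hb.1 hw hy).2 ?_⟩
    · rw [C.inj H hb.1 hy hw e]; exact hwa.2.2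
    · have := (commute_conj_iff z).2 ((C.comm_iff H hb.1 hw hx).1 hξ.2.2)
      rwa [hfix hwa] at this
  have hs : Same (Dc (Dc C.E (C.img hw)) (C.img hab)) (C.img hx) (C.img hy) := by
    intro p hp
    obtain ⟨q, hq, rfl⟩ := C.lift p hp.1.1
    change Commute (C.img hq) _ ↔ Commute (C.img hq) _
    rw [C.comm_iff H hb.1 hq hx, C.comm_iff H hb.1 hq hy]
    have hqa : q ∈ Dc D a :=
      ⟨hq.1, fun e => hp.2.1 (C.img_congr hq hab e), (C.comm_iff H hb.1 hab hq).1 hp.2.2⟩
    conv_rhs => rw [← hfix hqa]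
    exact (commute_conj_iff z).symm
  have key : ∀ k, Commute k a → (∀ y ∈ Dc D a, Commute k y) → Commute k x → k = 1 := by
    intro k ka kA kx
    have hmem : ∀ {p : G}, Commute k p → p ∈ Subgroup.centralizer ({k} : Set G) :=
      fun h => Subgroup.mem_centralizer_singleton_iff.2 h.eq.symm
    obtain ⟨η, hη, hηx⟩ := exists_not_commute hE.grp hE.conn hE.line hE.good (C.img_mem hab) hω hξ hnξ
    obtain ⟨y₀, hy₀, rfl⟩ := C.lift η hη.1
    change C.img hy₀ ∈ _ at hη
    have hy₀a : y₀ ∈ Dc D a :=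
      ⟨hy₀.1, fun e => hη.2.1 (C.img_congr hy₀ hab e), (C.comm_iff H hb.1 hab hy₀).1 hη.2.2⟩
    have hy₀x : ¬ Commute y₀ x := fun h => hηx ((C.comm_iff H hb.1 hy₀ hx).2 h)
    have hgood : ∀ a ∈ D, Conn (Dc D a) ∧ AllActive (Dc D a) := fun a ha =>
      ⟨(H.sec a ha).1, (H.sec a ha).2.1⟩
    have hall : D ⊆ Subgroup.centralizer ({k} : Set G) := fun v hv =>
      mem_of_two H.grp hgood _ ha hb (hmem ka) (fun y hy => hmem (kA y hy)) hx (hmem kx)
        hax hy₀a hy₀x (H.conn a ha v hv)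
    have hc : k ∈ Subgroup.center G := Subgroup.mem_center_iff.2 fun g =>
      (Subgroup.mem_centralizer_singleton_iff.1
        (((Subgroup.closure_le _).2 hall) (H.grp.2.2 ▸ Subgroup.mem_top g)))
    rwa [H.center, Subgroup.mem_bot] at hc
  have ha2 : a * a = 1 := sq_one H.grp.1 ha
  obtain ⟨M⟩ := (hE.model _ hω.1).2
  rcases M.eq_or_conj hE hω.1 (mem_dc_symm (C.img_mem hab) hω) hξ hnyw hnξ
      (fun h => hay ((C.comm_iff H hb.1 hab hy).1 h)) hs with e | e
  · exact Or.inl (key z hza hzA (mul_inv_eq_iff_eq_mul.1 (C.inj H hb.1 hy hx e)))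
  · right
    have haxa : a * x * a ∈ Dc D b := (H.tr.dc hb.1).conj a hab x hx
    have e1 : C.img haxa = C.img hab * C.img hx * C.img hab := by
      show C.π _ = C.π _ * C.π _ * C.π _
      rw [← map_mul, ← map_mul]
      rfl
    have e' : z * x * z⁻¹ = a * x * a := C.inj H hb.1 hy haxa (e.trans e1.symm)
    have hk := key (a * z) ((Commute.refl a).mul_left hza)
      (fun y hy => hy.2.2.mul_left (hzA y hy)) (by
        show a * z * x = x * (a * z)
        rw [mul_assoc, mul_inv_eq_iff_eq_mul.1 e', ← mul_assoc, ← mul_assoc, ← mul_assoc, ha2,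
          one_mul, mul_assoc])
    rw [← mul_mul_cancel H.grp.1 ha z, hk, mul_one]

/-- Four commuting distinct members have the product of three. -/
theorem M23.reduce_four {a b c f : G} (ha : a ∈ D) (hb : b ∈ Dc D a) (hc : c ∈ Dc D a)
    (hf : f ∈ Dc D a) (nbc : b ≠ c) (nbf : b ≠ f) (ncf : c ≠ f) (cbc : Commute b c)
    (cbf : Commute b f) (ccf : Commute c f) :
    ∃ g k l : G, g ∈ D ∧ k ∈ D ∧ l ∈ D ∧ a * b * c * f = g * k * l ∧
      (Commute g k ∧ Commute g l ∧ Commute k l) ∧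
      ∀ x ∈ D, Commute x a → Commute x b → Commute x c → Commute x f →
        Commute x g ∧ Commute x k ∧ Commute x l := by
  obtain ⟨C⟩ := hch a ha
  have hne : ∀ {p q} (hp : p ∈ Dc D a) (hq : q ∈ Dc D a), p ≠ q → C.img hp ≠ C.img hq :=
    fun hp hq h e => h (C.inj H ha hp hq e)
  have hcm : ∀ {p q} (hp : p ∈ Dc D a) (hq : q ∈ Dc D a), Commute p q →
      Commute (C.img hp) (C.img hq) := fun hp hq h => (C.comm_iff H ha hp hq).2 h
  have hcb : C.img hc ∈ Dc C.E (C.img hb) := ⟨C.img_mem hc, (hne hb hc nbc).symm, hcm hb hc cbc⟩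
  have hfc : C.img hf ∈ Dc (Dc C.E (C.img hb)) (C.img hc) :=
    ⟨⟨C.img_mem hf, (hne hb hf nbf).symm, hcm hb hf cbf⟩, (hne hc hf ncf).symm, hcm hc hf ccf⟩
  obtain ⟨g₁, g₂, g₃, ⟨t1, t2, t3⟩, ⟨n12, n13, n23⟩, -, he⟩ := C.m22.triple (C.img_mem hb) hcb hfc
  have k12 := M22.twin_commute t1 t2
  have k13 := M22.twin_commute t1 t3
  have k23 := M22.twin_commute t2 t3
  obtain ⟨g, hg, rfl⟩ := C.lift g₁ t1.1.1.1
  obtain ⟨k, hk, rfl⟩ := C.lift g₂ t2.1.1.1
  obtain ⟨l, hl, rfl⟩ := C.lift g₃ t3.1.1.1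
  have cgk : Commute g k := (C.comm_iff H ha hg hk).1 k12
  have cgl : Commute g l := (C.comm_iff H ha hg hl).1 k13
  have ckl : Commute k l := (C.comm_iff H ha hk hl).1 k23
  have htw : ∀ {t} (ht : t ∈ Dc D a), Twin C.E (C.img hb) (C.img hc) (C.img hf) (C.img ht) →
      t ≠ b ∧ ∀ x ∈ D, Commute x a → Commute x b → Commute x c → Commute x f → Commute x t := by
    intro t ht h
    refine ⟨fun e => h.1.1.2.1 (C.img_congr ht hb e), fun x hx k1 k2 k3 k4 => ?_⟩
    by_cases e : x = a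
    · subst e; exact ht.2.2
    have hxm : x ∈ Dc D a := ⟨hx, e, k1.symm⟩
    refine (C.comm_iff H ha hxm ht).1 ?_
    by_cases e1 : C.img hxm = C.img hb
    · rw [e1]; exact h.1.1.2.2
    by_cases e2 : C.img hxm = C.img hc
    · rw [e2]; exact h.1.2.2
    exact (h.2.2.2 _ ⟨⟨C.img_mem hxm, e1, hcm hb hxm k2.symm⟩, e2, hcm hc hxm k3.symm⟩).1
      (hcm hxm hf k4)
  obtain ⟨ngb, hxg⟩ := htw hg t1
  obtain ⟨nkb, hxk⟩ := htw hk t2
  obtain ⟨nlb, hxl⟩ := htw hl t3
  refine ⟨g, k, l, hg.1, hk.1, hl.1, ?_, ⟨cgk, cgl, ckl⟩,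
    fun x hx k1 k2 k3 k4 => ⟨hxg x hx k1 k2 k3 k4, hxk x hx k1 k2 k3 k4, hxl x hx k1 k2 k3 k4⟩⟩
  set S := Subgroup.closure (Dc D a)
  let el : ∀ {p}, p ∈ Dc D a → ↥S := fun {p} hp => ⟨p, Subgroup.subset_closure hp⟩
  have hπ : C.π ((el hb * el hc * el hf)⁻¹ * (el hg * el hk * el hl)) = 1 := by
    rw [map_mul, map_inv, inv_mul_eq_one, map_mul, map_mul, map_mul, map_mul]
    exact he.symm
  have hz : ∀ y ∈ Dc D a, Commute ((b * c * f)⁻¹ * (g * k * l)) y := fun y hy =>
    congrArg Subtype.val (C.ker _ hπ (el hy)).eq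
  rcases H.eq_one_or_eq hch ha ((((hb.2.2.mul_right hc.2.2).mul_right hf.2.2).inv_right.mul_right
      ((hg.2.2.mul_right hk.2.2).mul_right hl.2.2)).symm) hz with e | e
  · exfalso
    rcases mem_of_prod_three H.tr H.noTwin₂ H.noTwin₃ hb.1 hc.1 hf.1 hg.1 hk.1 hl.1 nbc nbf ncf cbc
      cbf ccf (fun h => n12 (C.img_congr hg hk h)) (fun h => n13 (C.img_congr hg hl h))
      (fun h => n23 (C.img_congr hk hl h)) cgk cgl ckl (inv_mul_eq_one.1 e) with h | h | h
    exacts [ngb h.symm, nkb h.symm, nlb h.symm]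
  · rw [inv_mul_eq_iff_eq_mul] at e
    rw [e, ← ((hb.2.2.mul_right hc.2.2).mul_right hf.2.2).eq]
    simp only [mul_assoc]

/-- A product of pairwise commuting members is one of at most three distinct ones. -/
theorem M23.exists_short (L : List G) (hL : ∀ x ∈ L, x ∈ D)
    (hc : ∀ x ∈ L, ∀ y ∈ L, Commute x y) :
    ∃ l : List G, l.Nodup ∧ l.length ≤ 3 ∧ (∀ x ∈ l, x ∈ D) ∧ (∀ x ∈ l, ∀ y ∈ l, Commute x y) ∧
      l.prod = L.prod := by
  classical
  generalize hn : L.length = n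
  induction n using Nat.strong_induction_on generalizing L with
  | _ n ih =>
    by_cases hnd : L.Nodup
    swap
    · obtain ⟨x, hx⟩ := List.exists_duplicate_iff_not_nodup.2 hnd
      have hx1 : x ∈ L := hx.mem
      have hx2 : x ∈ L.erase x := by
        rw [← List.one_le_count_iff, List.count_erase_self]
        have := List.duplicate_iff_two_le_count.1 hx
        omega
      have hperm : L.Perm (x :: x :: (L.erase x).erase x) :=
        (List.perm_cons_erase hx1).trans ((List.perm_cons_erase hx2).cons x)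
      have hprod : L.prod = ((L.erase x).erase x).prod := by
        rw [hperm.prod_eq' (List.pairwise_of_forall_mem_list hc), List.prod_cons, List.prod_cons,
          mul_mul_cancel H.grp.1 (hL x hx1)]
      have hsub : ∀ y ∈ (L.erase x).erase x, y ∈ L := fun y hy =>
        hperm.mem_iff.2 (List.mem_cons_of_mem _ (List.mem_cons_of_mem _ hy))
      have hlen := hperm.length_eq
      simp only [List.length_cons] at hlen
      obtain ⟨l, h1, h2, h3, h4, h5⟩ := ih _ (by omega) ((L.erase x).erase x)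
        (fun y hy => hL y (hsub y hy)) (fun y hy z hz => hc y (hsub y hy) z (hsub z hz)) rfl
      exact ⟨l, h1, h2, h3, h4, h5.trans hprod.symm⟩
    by_cases hlen : L.length ≤ 3
    · exact ⟨L, hnd, hlen, hL, hc, rfl⟩
    match L, hlen with
    | [], h | [_], h | [_, _], h | [_, _, _], h => simp at h
    | a :: b :: c :: f :: rest, _ =>
      simp only [List.nodup_cons, List.mem_cons, not_or] at hnd
      obtain ⟨⟨nab, nac, naf, -⟩, ⟨nbc, nbf, -⟩, ⟨ncf, -⟩, -⟩ := hnd
      have C : ∀ {x y}, x ∈ a :: b :: c :: f :: rest → y ∈ a :: b :: c :: f :: rest → Commute x y :=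
        fun hx hy => hc _ hx _ hy
      have ha := hL a (by simp)
      have hb : b ∈ Dc D a := ⟨hL b (by simp), Ne.symm nab, C (by simp) (by simp)⟩
      have hcm : c ∈ Dc D a := ⟨hL c (by simp), Ne.symm nac, C (by simp) (by simp)⟩
      have hf : f ∈ Dc D a := ⟨hL f (by simp), Ne.symm naf, C (by simp) (by simp)⟩
      simp only [List.length_cons] at hn
      obtain ⟨g, k, l, hg, hk, hl, he, ⟨c1, c2, c3⟩, hx⟩ := H.reduce_four hch ha hb hcm hf nbc nbf
        ncf (C (by simp) (by simp)) (C (by simp) (by simp)) (C (by simp) (by simp))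
      have hr : ∀ z ∈ rest, ∀ w ∈ [g, k, l], Commute z w := fun z hz w hw => by
        obtain ⟨h1, h2, h3⟩ := hx z (hL z (by simp [hz])) (C (by simp [hz]) (by simp))
          (C (by simp [hz]) (by simp)) (C (by simp [hz]) (by simp)) (C (by simp [hz]) (by simp))
        simp at hw
        rcases hw with rfl | rfl | rfl
        exacts [h1, h2, h3]
      have hnew : ∀ x ∈ [g, k, l], ∀ y ∈ [g, k, l], Commute x y := by
        simp [c1, c1.symm, c2, c2.symm, c3, c3.symm]
      have hlt : ([g, k, l] ++ rest).length < n := by simp; omega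
      obtain ⟨m, k1, k2, k3, k4, k5⟩ := ih _ hlt ([g, k, l] ++ rest)
        (fun x hx' => (List.mem_append.1 hx').elim
          (fun h => by simp at h; rcases h with rfl | rfl | rfl <;> assumption) fun h => hL x (by simp [h]))
        (fun x hx' y hy => by
          rcases List.mem_append.1 hx' with hx' | hx' <;> rcases List.mem_append.1 hy with hy | hy
          exacts [hnew x hx' y hy, (hr y hy x hx').symm, hr x hx' y hy,
            C (by simp [hx']) (by simp [hy])]) rfl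
      exact ⟨m, k1, k2, k3, k4, k5.trans (by
        simp only [List.prod_append, List.prod_cons, List.prod_nil, mul_one, ← mul_assoc]
        rw [← he])⟩

/-- Two members commuting with `c` have a conjugate pair completing a path. -/
theorem M23.exists_path {p q c : G} (hc : c ∈ D) (hp : p ∈ Dc D c) (hq : q ∈ Dc D c) (hpq : p ≠ q)
    (cpq : Commute p q) : ∃ r s g : G, r ∈ Dc D c ∧ s ∈ Dc D c ∧ ¬ Commute p r ∧ ¬ Commute q r ∧
      Commute s p ∧ Commute s q ∧ Commute s r ∧
      g * p * g⁻¹ = s ∧ g * q * g⁻¹ = r ∧ g * c * g⁻¹ = c := by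
  obtain ⟨C⟩ := hch c hc
  have hne : C.img hp ≠ C.img hq := fun e => hpq (C.inj H hc hp hq e)
  have hq' : C.img hq ∈ Dc C.E (C.img hp) :=
    ⟨C.img_mem hq, hne.symm, (C.comm_iff H hc hp hq).2 cpq⟩
  obtain ⟨γ, hγ⟩ := (C.m22.line _ (C.img_mem hp)).1 _ hq'
  obtain ⟨r', s', g', hr', hs', npr, nqr, csp, csq, csr, e1, e2, -⟩ := C.m22.exists_path hγ.1.1
    (mem_dc_symm (C.img_mem hp) hγ.1) (mem_dc_symm (C.img_mem hq) ⟨hγ.1.1, hγ.2.1, hγ.2.2⟩) hne
    hq'.2.2
  obtain ⟨r, hr, rfl⟩ := C.lift r' hr'.1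
  obtain ⟨s, hs, rfl⟩ := C.lift s' hs'.1
  obtain ⟨y, rfl⟩ := C.surj g'
  have hy : ∀ {t} (ht : t ∈ Dc D c), (y : G) * t * (y : G)⁻¹ ∈ Dc D c := fun ht =>
    ((H.tr.dc hc).stab_closure y.2 _ ht).1
  have himg : ∀ {t} (ht : t ∈ Dc D c), C.img (hy ht) = C.π y * C.img ht * (C.π y)⁻¹ := fun ht => by
    show C.π _ = C.π _ * C.π _ * _
    rw [← map_inv, ← map_mul, ← map_mul]
    rfl
  have hyc : (y : G) * c * (y : G)⁻¹ = c := by
    have hle : Subgroup.closure (Dc D c) ≤ Subgroup.centralizer ({c} : Set G) :=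
      (Subgroup.closure_le _).2 fun x hx => Subgroup.mem_centralizer_singleton_iff.2 hx.2.2.eq.symm
    rw [Subgroup.mem_centralizer_singleton_iff.1 (hle y.2), mul_inv_cancel_right]
  exact ⟨r, s, y, hr, hs, fun h => npr ((C.comm_iff H hc hp hr).2 h),
    fun h => nqr ((C.comm_iff H hc hq hr).2 h), (C.comm_iff H hc hs hp).1 csp,
    (C.comm_iff H hc hs hq).1 csq, (C.comm_iff H hc hs hr).1 csr,
    C.inj H hc (hy hp) hs ((himg hp).trans e1), C.inj H hc (hy hq) hr ((himg hq).trans e2), hyc⟩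

end Cfsg.Agent.Transpos
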