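import Cfsg.Agent.Lib.Transpos.M24Invol

/-!
# Centralisers of members in type M(24)

The centraliser of a member is generated by the members commuting with it.
-/

set_option autoImplicit false
set_option linter.style.haveILetI false

namespace Cfsg.Agent.Transpos

open Cfsg

universe u

variable {G : Type u} [Group G] [Finite G] {D : Set G}

namespace M24

variable (H : M24 D)
include H

/-- The group of the common commuting members of a pair contains `b` or `b * a`. -/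
theorem mem_pair_closure {a b : G} (ha : a ∈ D) (hb : b ∈ Dc D a) :
    b ∈ Subgroup.closure (Dc (Dc D a) b) ∨ b * a ∈ Subgroup.closure (Dc (Dc D a) b) := by
  obtain ⟨C, hC⟩ := H.chart a ha
  obtain ⟨p, q, r, f₁, f₂, f₃, ⟨hp, hq, hr⟩, ⟨h1, h2, h3⟩, he⟩ := hC.six (C.img_mem hb)
  obtain ⟨p, hpa, rfl⟩ := C.lift p hp.1
  obtain ⟨q, hqa, rfl⟩ := C.lift q hq.1
  obtain ⟨r, hra, rfl⟩ := C.lift r hr.1
  obtain ⟨f₁, hf₁, rfl⟩ := C.lift f₁ h1.1
  obtain ⟨f₂, hf₂, rfl⟩ := C.lift f₂ h2.1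
  obtain ⟨f₃, hf₃, rfl⟩ := C.lift f₃ h3.1
  set T := Subgroup.closure (Dc (Dc D a) b)
  have hm : ∀ {x} (hx : x ∈ Dc D a), C.img hx ∈ Dc C.E (C.img hb) → x ∈ T :=
    fun hx h => Subgroup.subset_closure ((C.dc_iff hb hx).1 h)
  set s := (f₁ * f₂ * f₃)⁻¹ * (p * q * r) with hs
  have hsT : s ∈ T := mul_mem (inv_mem (mul_mem (mul_mem (hm hf₁ h1) (hm hf₂ h2)) (hm hf₃ h3)))
    (mul_mem (mul_mem (hm hpa hp) (hm hqa hq)) (hm hra hr))
  let el : ∀ {x}, x ∈ Dc D a → ↥(Subgroup.closure (Dc D a)) :=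
    fun {x} hx => ⟨x, Subgroup.subset_closure hx⟩
  have hπ : C.π ((el hb)⁻¹ * ((el hf₁ * el hf₂ * el hf₃)⁻¹ * (el hpa * el hqa * el hra))) = 1 := by
    rw [map_mul, map_inv, inv_mul_eq_one, map_mul, map_inv, eq_inv_mul_iff_mul_eq, map_mul, map_mul,
      map_mul, map_mul]
    exact he.symm
  have hz : ∀ y ∈ Dc D a, Commute (b⁻¹ * s) y := fun y hy =>
    congrArg Subtype.val (C.ker _ hπ (el hy)).eq
  have hza : Commute (b⁻¹ * s) a :=
    hb.2.2.symm.inv_left.mul_left (((hf₁.2.2.mul_right hf₂.2.2).mul_right hf₃.2.2).symm.inv_left.mul_left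
      ((hpa.2.2.mul_right hqa.2.2).mul_right hra.2.2).symm)
  rcases H.eq_one_or_eq ha hza hz with e | e
  · exact Or.inl (inv_mul_eq_one.1 e ▸ hsT)
  · exact Or.inr (inv_mul_eq_iff_eq_mul.1 e ▸ hsT)

/-- A member lies in the group generated by those commuting with it. -/
theorem mem_closure_dc {a : G} (ha : a ∈ D) : a ∈ Subgroup.closure (Dc D a) := by
  obtain ⟨b, hb⟩ := H.dc_nonempty ha
  set K := Subgroup.closure (Dc D a)
  have hbK : b ∈ K := Subgroup.subset_closure hb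
  have hle : Subgroup.closure (Dc (Dc D a) b) ≤ K := Subgroup.closure_mono fun x hx => hx.1
  have hab := mem_dc_symm ha hb
  have h2 := H.mem_pair_closure hb.1 hab
  rw [dc_comm D b a] at h2
  rcases h2 with h | h
  · exact hle h
  · have := mul_mem (hle h) (inv_mem hbK)
    rwa [mul_inv_cancel_right] at this

/-- The centraliser of a member is generated by the members commuting with it. -/
theorem cent_eq {a : G} (ha : a ∈ D) :
    Subgroup.centralizer ({a} : Set G) = Subgroup.closure (Dc D a) := by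
  set K := Subgroup.closure (Dc D a)
  have hKle : K ≤ Subgroup.centralizer ({a} : Set G) :=
    (Subgroup.closure_le _).2 fun y hy => Subgroup.mem_centralizer_singleton_iff.2 hy.2.2.eq.symm
  have hKc : ∀ {y}, y ∈ K → Commute y a := fun hy =>
    Subgroup.mem_centralizer_singleton_iff.1 (hKle hy)
  refine le_antisymm (fun t ht => ?_) hKle
  have hta : Commute t a := Subgroup.mem_centralizer_singleton_iff.1 ht
  haveI : Nonempty D := ⟨⟨a, ha⟩⟩
  obtain ⟨b, hb⟩ := H.dc_nonempty ha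
  obtain ⟨C, hC⟩ := H.chart a ha
  obtain ⟨φ, hp, hφ⟩ := C.exists_auto (H.carries_dc hta)
  -- fix `b`
  obtain ⟨q, hq⟩ := hC.trans _ ((hp _).2 (C.img_mem hb)) _ (C.img_mem hb)
  obtain ⟨y, rfl⟩ := C.surj q
  set u := (y : G) * t with hu
  have hub : Commute u b := ((C.fix_iff (hφ.mul y) hb).1 hq).symm
  have hua : Commute u a := (hKc y.2).mul_left hta
  suffices huK : u ∈ K by
    have := mul_mem (inv_mem y.2) huK
    rwa [hu, inv_mul_cancel_left] at this
  -- fix `c`
  set T := Subgroup.closure (Dc (Dc D a) b)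
  obtain ⟨C₂, hC₂⟩ := H.chart₂ ha hb
  obtain ⟨c, hc⟩ := H.dc₂_nonempty ha hb
  obtain ⟨φ₂, hp₂, hφ₂⟩ := C₂.exists_auto (H.carries_dc₂ hua hub)
  obtain ⟨q₂, hq₂⟩ := hC₂.trans _ ((hp₂ _).2 (C₂.img_mem hc)) _ (C₂.img_mem hc)
  obtain ⟨y₂, rfl⟩ := C₂.surj q₂
  have hTK : T ≤ K := Subgroup.closure_mono fun x hx => hx.1
  have hTa : ∀ {x}, x ∈ T → Commute x a := fun hx => hKc (hTK hx)
  have hTb : ∀ {x}, x ∈ T → Commute x b := fun hx => Subgroup.mem_centralizer_singleton_iff.1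
    ((Subgroup.closure_le _).2 (fun z hz => Subgroup.mem_centralizer_singleton_iff.2 hz.2.2.eq.symm)
      hx)
  set v := (y₂ : G) * u with hv
  have hva : Commute v a := (hTa y₂.2).mul_left hua
  have hvb : Commute v b := (hTb y₂.2).mul_left hub
  have hvc : Commute v c := ((C₂.fix_iff (hφ₂.mul y₂) hc).1 hq₂).symm
  suffices hvK : v ∈ K by
    have := mul_mem (inv_mem (hTK y₂.2)) hvK
    rwa [hv, inv_mul_cancel_left] at this
  -- `v` acts on the cover of the pair as one of its elements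
  obtain ⟨z, hz⟩ := H.exists_inner ha hb hc hva hvb hvc C₂ hC₂
    (hp₂.trans (preserves_conj hC₂.grp _)) (hφ₂.mul y₂)
  obtain ⟨w, rfl⟩ := C₂.surj z
  have hw : ∀ x ∈ Dc (Dc D a) b, Commute ((w : G)⁻¹ * v) x := fun x hx => by
    obtain ⟨hx', e'⟩ := hφ₂.mul y₂ x hx
    exact C₂.commute_of_img w hx hx' (e'.symm.trans (hz _))
  have hbK : b ∈ K := Subgroup.subset_closure hb
  have haK := H.mem_closure_dc ha
  rcases H.mem_pair ha hb ((hTa w.2).inv_left.mul_left hva) ((hTb w.2).inv_left.mul_left hvb) hw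
    with h | h | h | h
  · exact inv_mul_eq_one.1 h ▸ hTK w.2
  all_goals rw [inv_mul_eq_iff_eq_mul.1 h]
  · exact mul_mem (hTK w.2) haK
  · exact mul_mem (hTK w.2) hbK
  · exact mul_mem (hTK w.2) (mul_mem hbK haK)

/-- The form asked by the statements. -/
theorem closure_eq_centralizer {d : G} (hd : d ∈ D) :
    Subgroup.closure {y : G | y ∈ D ∧ y ≠ d ∧ Commute d y} = Subgroup.centralizer ({d} : Set G) :=
  (H.cent_eq hd).symm

end M24

end Cfsg.Agent.Transpos
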