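import Cfsg.Agent.Lib.Transpos.M24Cover
import Cfsg.Agent.Lib.Transpos.M22Auto

/-!
# Type M(24): covers, rigidity and fixed members

Every member has a cover of type M(23), every commuting pair one of type M(22).  Only `1` and `a`
centralise `a` and the members commuting with it, and every involution fixes a member.
-/

set_option autoImplicit false

namespace Cfsg.Agent.Transpos

open Cfsg Cfsg.Agent.ClassicalSimple

universe u

variable {G : Type u} [Group G] [Finite G] {D : Set G}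

namespace M23

variable (H : M23 D)
include H

theorem allActive : AllActive D := allActive_of_center H.tr H.grp.2.2 H.center

/-- A member not commuting with `a` misses some member commuting with `a`. -/
theorem exists_not_commute {a x : G} (ha : a ∈ D) (hx : x ∈ D) (hax : ¬ Commute a x) :
    ∃ y ∈ Dc D a, ¬ Commute y x := by
  by_contra hall
  push Not at hall
  obtain ⟨g, hg⟩ := H.dc_nonempty ha
  have hag := mem_dc_symm ha hg
  have hxg : x ∈ Dc D g := ⟨hx, fun e => hax (e ▸ hg.2.2), hall g hg⟩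
  obtain ⟨C⟩ := H.charts g hg.1
  have hnax : ¬ Commute (C.img hag) (C.img hxg) := fun h => hax ((C.comm_iff H hg.1 hag hxg).1 h)
  obtain ⟨β, hβ⟩ := (C.m22.model _ (C.img_mem hag)).1
  have key : ∀ y (hy : y ∈ Dc D g), C.img hy ∈ Dc C.E (C.img hag) →
      Commute (C.img hy) (C.img hxg) := by
    intro y hy h
    have hya := (C.dc_iff H hg.1 hag hy).1 h
    exact (C.comm_iff H hg.1 hy hxg).2 (hall y ⟨hy.1, hya.2.1, hya.2.2⟩)
  obtain ⟨b, hb, rfl⟩ := C.lift β hβ.1
  have hxb : C.img hxg ∈ Dc C.E (C.img hb) :=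
    ⟨C.img_mem hxg, fun e => hnax (e ▸ hβ.2.2), key b hb hβ⟩
  obtain ⟨η, hη, hηx⟩ := Transpos.exists_not_commute C.m22.grp C.m22.conn C.m22.line C.m22.good
    (C.img_mem hag) hβ hxb hnax
  obtain ⟨y, hy, rfl⟩ := C.lift η hη.1
  exact hηx (key y hy hη)

/-- An automorphism fixing `a` and the members commuting with it is `1` or conjugation by `a`. -/
theorem auto_eq {φ : G ≃* G} (hφ : Preserves D φ) {a : G} (ha : a ∈ D) (hfa : φ a = a)
    (hA : ∀ x ∈ Dc D a, φ x = x) : (∀ g, φ g = g) ∨ ∀ g, φ g = a * g * a := by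
  obtain ⟨b, hb⟩ := H.dc_nonempty ha
  have hab := mem_dc_symm ha hb
  obtain ⟨C⟩ := H.charts b hb.1
  have hE := C.m22
  obtain ⟨ω, hω⟩ := (hE.model _ (C.img_mem hab)).1
  obtain ⟨ξ, hξ, hnξ⟩ := hE.exists_opp (C.img_mem hab) hω
  obtain ⟨w, hw, rfl⟩ := C.lift ω hω.1
  obtain ⟨x, hx, rfl⟩ := C.lift ξ hξ.1
  change C.img hw ∈ _ at hω
  change ¬ Commute (C.img hab) (C.img hx) at hnξ
  change C.img hx ∈ Dc C.E (C.img hw) at hξ
  have hax : ¬ Commute a x := fun h => hnξ ((C.comm_iff H hb.1 hab hx).2 h)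
  have hwa : w ∈ Dc D a :=
    ⟨hw.1, fun e => hω.2.1 (C.img_congr hw hab e), (C.comm_iff H hb.1 hab hw).1 hω.2.2⟩
  have hy : φ x ∈ Dc D b := (hφ.mem_dc_fix (hA b hb)).2 hx
  have hay : ¬ Commute a (φ x) := fun h => hax (by
    rw [← hfa] at h; exact Preserves.commute.1 h)
  have hnyw : C.img hy ∈ Dc C.E (C.img hw) := by
    refine ⟨C.img_mem hy, fun e => hay ?_, (C.comm_iff H hb.1 hw hy).2 ?_⟩
    · rw [C.inj H hb.1 hy hw e]; exact hwa.2.2
    · rw [← hA w hwa]; exact Preserves.commute.2 ((C.comm_iff H hb.1 hw hx).1 hξ.2.2)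
  have hs : Same (Dc (Dc C.E (C.img hw)) (C.img hab)) (C.img hx) (C.img hy) := by
    intro p hp
    obtain ⟨q, hq, rfl⟩ := C.lift p hp.1.1
    change Commute (C.img hq) _ ↔ Commute (C.img hq) _
    rw [C.comm_iff H hb.1 hq hx, C.comm_iff H hb.1 hq hy]
    have hqa : q ∈ Dc D a :=
      ⟨hq.1, fun e => hp.2.1 (C.img_congr hq hab e), (C.comm_iff H hb.1 hab hq).1 hp.2.2⟩
    conv_rhs => rw [← hA q hqa]
    exact Preserves.commute.symm
  obtain ⟨y₀, hy₀, hy₀x⟩ := H.exists_not_commute ha hx.1 hax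
  have hgood : ∀ a ∈ D, Conn (Dc D a) ∧ AllActive (Dc D a) := fun a ha =>
    ⟨(H.sec a ha).1, (H.sec a ha).2.1⟩
  have key : ∀ ψ : G →* G, ψ a = a → (∀ y ∈ Dc D a, ψ y = y) → ψ x = x → ∀ g, ψ g = g := by
    intro ψ ka kA kx g
    have hall : D ⊆ (MonoidHom.eqLocus ψ (MonoidHom.id G) : Set G) := fun v hv =>
      mem_of_two H.grp hgood (MonoidHom.eqLocus ψ (MonoidHom.id G)) ha hb ka kA hx kx hax hy₀ hy₀x
        (H.conn a ha v hv)
    exact ((Subgroup.closure_le _).2 hall) (H.grp.2.2 ▸ Subgroup.mem_top g)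
  obtain ⟨M⟩ := (hE.model _ hω.1).2
  rcases M.eq_or_conj hE hω.1 (mem_dc_symm (C.img_mem hab) hω) hξ hnyw hnξ
      (fun h => hay ((C.comm_iff H hb.1 hab hy).1 h)) hs with e | e
  · exact Or.inl (key φ.toMonoidHom hfa hA (C.inj H hb.1 hy hx e))
  · right
    intro g
    have ha2 := sq_one H.grp.1 ha
    have haxa : a * x * a ∈ Dc D b := (H.tr.dc hb.1).conj a hab x hx
    have e1 : C.img haxa = C.img hab * C.img hx * C.img hab := by
      show C.π _ = C.π _ * C.π _ * C.π _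
      rw [← map_mul, ← map_mul]
      rfl
    have e' : φ x = a * x * a := C.inj H hb.1 hy haxa (e.trans e1.symm)
    have hi := inv_eq H.grp.1 ha
    have h := key (φ.trans (MulAut.conj a)).toMonoidHom
      (by show a * φ a * a⁻¹ = a; rw [hfa, hi, ha2, one_mul])
      (fun y hy => by
        show a * φ y * a⁻¹ = y
        rw [hA y hy, hi, conj_of_commute H.grp.1 ha hy.2.2])
      (by show a * φ x * a⁻¹ = x; rw [e', hi, conj_involutive H.grp.1 ha]) g
    change a * φ g * a⁻¹ = g at h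
    rw [hi] at h
    rw [← h, conj_involutive H.grp.1 ha, h]

end M23

/-- The hypotheses used for type M(24). -/
structure M24 (D : Set G) : Prop where
  grp : IsThreeTranspositionGroup D
  conn : ∀ a ∈ D, ∀ v ∈ D, Relation.ReflTransGen (Fischer.CAdj D) a v
  trans : ∀ a ∈ D, ∀ b ∈ D, ∃ g : G, g * a * g⁻¹ = b
  sec : Sec D
  center : Subgroup.center G = ⊥
  chart : ∀ a ∈ D, ∃ C : Cover.{u} (Dc D a), M23 C.E

/-- A primitive group of type M(24) satisfies all of `M24`. -/
theorem M24.of_type (hD : IsThreeTranspositionGroup D) (hprim : IsPrimitiveUnderConj D)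
    (h24 : IsOfTypeM24 G D) : M24 D := by
  have hsec := sec_of_type hD hprim.1 (Or.inr h24)
  obtain ⟨hZ, d, hd, -, -, -, h23, -⟩ := h24
  have hpair : ∃ d ∈ D, (Dc D d).Nonempty := by
    obtain ⟨-, e, ⟨x, hx, -⟩, -⟩ := id h23
    exact ⟨d, hd, x, hx⟩
  refine ⟨hD, conn_of_primitive_pair hD hprim hpair, hprim.1, hsec, hZ, ?_⟩
  have hE := tr_of_group hD
  have hS := hE.dc hd
  have hA : AllActive (Dc D d) := (hsec d hd).2.1
  have hgrp : IsThreeTranspositionGroup (qimg (Dc D d)) := qimg_group_of hS hA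
  let C : Cover (Dc D d) := Cover.ofQimg hS hA hgrp h23.1
  have hC : M23 C.E := M23.of_group hgrp h23
  intro a ha
  obtain ⟨g, rfl⟩ := hprim.1 d hd a ha
  exact ⟨C.conj g ((stab_of_normal hD g).carries.dc d) (hE.dc ha), hC⟩

namespace M24

variable (H : M24 D)
include H

theorem tr : Tr D := tr_of_group H.grp

theorem noTwin₂ : ∀ a ∈ D, NoTwin (Dc D a) := fun a ha => (H.sec a ha).2.2.1

theorem noTwin₃ : ∀ a ∈ D, ∀ b ∈ Dc D a, NoTwin (Dc (Dc D a) b) :=
  fun a ha => (H.sec a ha).2.2.2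

theorem conj_mem (g : G) {x : G} (hx : x ∈ D) : g * x * g⁻¹ ∈ D := H.grp.2.1 g x hx

/-- Every commuting pair has a cover of type M(22). -/
theorem chart₂ {a b : G} (ha : a ∈ D) (hb : b ∈ Dc D a) :
    ∃ C : Cover.{u} (Dc (Dc D a) b), M22 C.E := by
  obtain ⟨C, hC⟩ := H.chart a ha
  obtain ⟨C'⟩ := hC.charts _ (C.img_mem hb)
  exact ⟨C.sub hb (C'.toCover hC (C.img_mem hb)), C'.m22⟩

theorem dc_nonempty {a : G} (ha : a ∈ D) : (Dc D a).Nonempty := by
  obtain ⟨C, hC⟩ := H.chart a ha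
  obtain ⟨-, β, hβ, -⟩ := hC.type
  obtain ⟨x, hx, -⟩ := C.lift β hβ
  exact ⟨x, hx⟩

theorem dc₂_nonempty {a b : G} (ha : a ∈ D) (hb : b ∈ Dc D a) : (Dc (Dc D a) b).Nonempty := by
  obtain ⟨C, hC⟩ := H.chart a ha
  obtain ⟨β, hβ⟩ := hC.dc_nonempty (C.img_mem hb)
  obtain ⟨x, hx, rfl⟩ := C.lift β hβ.1
  exact ⟨x, (C.dc_iff hb hx).1 hβ⟩

/-- Conjugation by an element centralising `a` stabilises the members commuting with `a`. -/
theorem carries_dc {t a : G} (hta : Commute t a) : Carries t (Dc D a) (Dc D a) := by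
  have := (stab_of_normal H.grp t).carries.dc a
  rwa [hta.eq, mul_inv_cancel_right] at this

theorem exists_not_commute {a x : G} (ha : a ∈ D) (hx : x ∈ D) (hax : ¬ Commute a x) :
    ∃ y ∈ Dc D a, ¬ Commute y x := by
  by_contra hall
  push Not at hall
  obtain ⟨g, hg⟩ := H.dc_nonempty ha
  have hag := mem_dc_symm ha hg
  have hxg : x ∈ Dc D g := ⟨hx, fun e => hax (e ▸ hg.2.2), hall g hg⟩
  obtain ⟨C, hC⟩ := H.chart g hg.1
  obtain ⟨η, hη, hηx⟩ := hC.exists_not_commute (C.img_mem hag) (C.img_mem hxg)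
    fun h => hax ((C.comm_iff hag hxg).1 h)
  obtain ⟨y, hy, rfl⟩ := C.lift η hη.1
  have hya := (C.dc_iff hag hy).1 hη
  exact hηx ((C.comm_iff hy hxg).2 (hall y ⟨hy.1, hya.2.1, hya.2.2⟩))

/-- In the cover at `b`, an element centralising `a` and the common commuting members of `a` and
`b` acts on the members commuting with `b` as `1` or as `a`. -/
theorem pair_rigid {a b z : G} (ha : a ∈ D) (hb : b ∈ Dc D a) (hza : Commute z a)
    (hzb : Commute z b) (hz : ∀ x ∈ Dc (Dc D b) a, Commute z x) :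
    (∀ x ∈ Dc D b, Commute z x) ∨ ∀ x ∈ Dc D b, Commute (a * z) x := by
  obtain ⟨C, hC⟩ := H.chart b hb.1
  have hab := mem_dc_symm ha hb
  obtain ⟨φ, hp, hφ⟩ := C.exists_auto (H.carries_dc hzb)
  rcases hC.auto_eq hp (C.img_mem hab) ((C.fix_iff hφ hab).2 hza.symm) (fun β hβ => by
      obtain ⟨x, hx, rfl⟩ := C.lift β hβ.1
      exact (C.fix_iff hφ hx).2 (hz x ((C.dc_iff hab hx).1 hβ)).symm) with e | e
  · exact Or.inl fun x hx => ((C.fix_iff hφ hx).1 (e _)).symm
  · refine Or.inr fun x hx => ?_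
    obtain ⟨hx', e'⟩ := hφ x hx
    have h := C.commute_of_img ⟨a, Subgroup.subset_closure hab⟩ hx hx' (by
      rw [← e', e, inv_eq hC.grp.1 (C.map_mem a hab)]
      rfl)
    rwa [inv_eq H.grp.1 ha] at h

/-- Only `1` and `a` centralise `a` and the members commuting with `a`. -/
theorem eq_one_or_eq {a z : G} (ha : a ∈ D) (hza : Commute z a)
    (hzA : ∀ y ∈ Dc D a, Commute z y) : z = 1 ∨ z = a := by
  obtain ⟨b, hb⟩ := H.dc_nonempty ha
  obtain ⟨C, hC⟩ := H.chart b hb.1
  have hab := mem_dc_symm ha hb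
  obtain ⟨-, η, hη, hηa⟩ := hC.allActive _ (C.img_mem hab)
  obtain ⟨x, hx, rfl⟩ := C.lift η hη
  have hax : ¬ Commute a x := fun h => hηa ((C.comm_iff hab hx).2 h)
  obtain ⟨y₀, hy₀, hy₀x⟩ := H.exists_not_commute ha hx.1 hax
  have hgood : ∀ a ∈ D, Conn (Dc D a) ∧ AllActive (Dc D a) := fun a ha =>
    ⟨(H.sec a ha).1, (H.sec a ha).2.1⟩
  have key : ∀ k, Commute k a → (∀ y ∈ Dc D a, Commute k y) → Commute k x → k = 1 := by
    intro k ka kA kx
    have hmem : ∀ {p : G}, Commute k p → p ∈ Subgroup.centralizer ({k} : Set G) :=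
      fun h => Subgroup.mem_centralizer_singleton_iff.2 h.eq.symm
    have hall : D ⊆ Subgroup.centralizer ({k} : Set G) := fun v hv =>
      mem_of_two H.grp hgood _ ha hb (hmem ka) (fun y hy => hmem (kA y hy)) hx (hmem kx)
        hax hy₀ hy₀x (H.conn a ha v hv)
    have hc : k ∈ Subgroup.center G := Subgroup.mem_center_iff.2 fun g =>
      (Subgroup.mem_centralizer_singleton_iff.1
        (((Subgroup.closure_le _).2 hall) (H.grp.2.2 ▸ Subgroup.mem_top g)))
    rwa [H.center, Subgroup.mem_bot] at hc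
  rcases H.pair_rigid ha hb hza (hzA b hb)
    (fun y hy => hzA y (dc_dc_symm hy).1) with h | h
  · exact Or.inl (key z hza hzA (h x hx))
  · right
    have hk := key (a * z) ((Commute.refl a).mul_left hza)
      (fun y hy => hy.2.2.mul_left (hzA y hy)) (h x hx)
    rw [← mul_mul_cancel H.grp.1 ha z, hk, mul_one]

/-- What centralises a commuting pair and the members commuting with both is in the pair's group. -/
theorem mem_pair {e b z : G} (he : e ∈ D) (hb : b ∈ Dc D e) (hze : Commute z e) (hzb : Commute z b)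
    (hz : ∀ x ∈ Dc (Dc D e) b, Commute z x) : z = 1 ∨ z = e ∨ z = b ∨ z = b * e := by
  have hb2 := sq_one H.grp.1 hb.1
  rcases H.pair_rigid hb.1 (mem_dc_symm he hb) hzb hze hz with h | h
  · rcases H.eq_one_or_eq he hze h with e1 | e1
    exacts [Or.inl e1, Or.inr (Or.inl e1)]
  · rcases H.eq_one_or_eq he (hb.2.2.symm.mul_left hze) h with e1 | e1
    · exact Or.inr (Or.inr (Or.inl (by rw [← mul_mul_cancel H.grp.1 hb.1 z, e1, mul_one])))
    · exact Or.inr (Or.inr (Or.inr (by rw [← mul_mul_cancel H.grp.1 hb.1 z, e1])))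

/-- Every involution fixes a member. -/
theorem exists_fixed [Nonempty D] {t : G} (ht : t * t = 1) : ∃ e ∈ D, Commute t e := by
  by_contra hno
  push Not at hno
  obtain ⟨⟨d, hd⟩⟩ := ‹Nonempty D›
  have hti : t⁻¹ = t := inv_eq_of_mul_eq_one_left ht
  have tt : ∀ x, t * (t * x * t) * t = x := fun x => by
    simp [← mul_assoc, ht, mul_assoc _ t t]
  set e := t * d * t with he'
  have he : e ∈ D := by
    have := H.conj_mem t hd
    rwa [hti] at this
  have hfix : ∀ {x}, t * x * t = x → Commute t x := fun {x} h =>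
    calc t * x = t * x * t * t := by rw [mul_assoc _ t t, ht, mul_one]
      _ = x * t := by rw [h]
  have hed : e ≠ d := fun h => hno d hd (hfix h)
  have hcde : Commute d e := by
    by_contra hc
    refine hno (d * e * d) (H.tr.conj d hd e he) (hfix ?_)
    have h2 : t * (d * e * d) * t = (t * d * t) * (t * e * t) * (t * d * t) := by
      simp [← mul_assoc, ht, mul_assoc _ t t]
    rw [h2, show t * e * t = d from tt d, ← he', braid H.grp.1 hd he hc]
  have hed' : e ∈ Dc D d := ⟨he, hed, hcde⟩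
  obtain ⟨C, hC⟩ := H.chart₂ hd hed'
  obtain ⟨x, hx⟩ := H.dc₂_nonempty hd hed'
  have hc : Carries t (Dc (Dc D d) e) (Dc (Dc D d) e) := by
    have h := ((stab_of_normal H.grp t).carries.dc d).dc e
    rw [hti, ← he', show t * e * t = d from tt d] at h
    exact ⟨fun x hx => dc_dc_symm (h.1 x hx), fun x hx => h.2 x (dc_dc_symm hx)⟩
  obtain ⟨φ, hp, hφ⟩ := C.exists_auto hc
  haveI : Nonempty C.E := ⟨⟨_, C.img_mem hx⟩⟩
  obtain ⟨β, hβ, hfβ⟩ := hC.exists_fixed_of_involutory hp (C.involutory_of_sq hφ fun y _ => by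
    rw [ht]; exact Commute.one_left y)
  obtain ⟨y, hy, rfl⟩ := C.lift β hβ
  exact hno y hy.1.1 ((C.fix_iff hφ hy).1 hfβ).symm

end M24

end Cfsg.Agent.Transpos
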