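import Cfsg.Agent.Lib.Transpos.M24Invol
import Cfsg.Agent.Lib.Transpos.M23InvolClasses

/-!
# The classes of involutions and of 3-transpositions in type M(24)

Products of one to four distinct commuting members form the four classes of involutions
(`M24.invol_classes`); only the first is a class of 3-transpositions (`M24.unique_class`).
-/

set_option autoImplicit false

namespace Cfsg.Agent.Transpos

open Cfsg

universe u

variable {G : Type u} [Group G] {D : Set G}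

theorem IsFrameProd.four {x : G} (h : IsFrameProd D 4 x) : ∃ p q r s, p ∈ D ∧ q ∈ Dc D p ∧
    r ∈ Dc (Dc D p) q ∧ s ∈ Dc (Dc (Dc D p) q) r ∧ p * q * r * s = x := by
  obtain ⟨l, hn, hl, hD, hc, rfl⟩ := h
  match l, hl with
  | [p, q, r, s], _ =>
    simp only [List.nodup_cons, List.mem_cons, List.not_mem_nil, or_false, not_or] at hn
    obtain ⟨⟨npq, npr, nps⟩, ⟨nqr, nqs⟩, nrs, -⟩ := hn
    have hC : ∀ {a b}, a ∈ [p, q, r, s] → b ∈ [p, q, r, s] → Commute a b := fun ha hb => hc _ ha _ hb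
    refine ⟨p, q, r, s, hD p (by simp), ⟨hD q (by simp), Ne.symm npq, hC (by simp) (by simp)⟩,
      ⟨⟨hD r (by simp), Ne.symm npr, hC (by simp) (by simp)⟩, Ne.symm nqr, hC (by simp) (by simp)⟩,
      ⟨⟨⟨hD s (by simp), Ne.symm nps, hC (by simp) (by simp)⟩, Ne.symm nqs, hC (by simp) (by simp)⟩,
        Ne.symm nrs, hC (by simp) (by simp)⟩, by simp [mul_assoc]⟩

theorem isFrameProd_two {p q : G} (hp : p ∈ D) (hq : q ∈ Dc D p) : IsFrameProd D 2 (p * q) :=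
  ⟨[p, q], by simp [hq.2.1.symm], rfl, by simp [hp, hq.1], by simp [hq.2.2, hq.2.2.symm], by simp⟩

theorem isFrameProd_three {p q r : G} (hp : p ∈ D) (hq : q ∈ Dc D p) (hr : r ∈ Dc (Dc D p) q) :
    IsFrameProd D 3 (p * q * r) :=
  ⟨[p, q, r], by simp [hq.2.1.symm, hr.1.2.1.symm, hr.2.1.symm], rfl,
    by simp [hp, hq.1, hr.1.1],
    by simp [hq.2.2, hq.2.2.symm, hr.1.2.2, hr.1.2.2.symm, hr.2.2, hr.2.2.symm],
    by simp [mul_assoc]⟩

theorem isFrameProd_four {p q r s : G} (hp : p ∈ D) (hq : q ∈ Dc D p) (hr : r ∈ Dc (Dc D p) q)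
    (hs : s ∈ Dc (Dc (Dc D p) q) r) : IsFrameProd D 4 (p * q * r * s) :=
  ⟨[p, q, r, s], by simp [hq.2.1.symm, hr.1.2.1.symm, hr.2.1.symm, hs.1.1.2.1.symm, hs.1.2.1.symm,
      hs.2.1.symm], rfl,
    by simp [hp, hq.1, hr.1.1, hs.1.1.1],
    by simp [hq.2.2, hq.2.2.symm, hr.1.2.2, hr.1.2.2.symm, hr.2.2, hr.2.2.symm, hs.1.1.2.2,
      hs.1.1.2.2.symm, hs.1.2.2, hs.1.2.2.symm, hs.2.2, hs.2.2.symm],
    by simp [mul_assoc]⟩

variable [Finite G]

namespace M24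

variable (H : M24 D)
include H

theorem one_ne_two {x : G} (h : IsFrameProd D 1 x) : ¬ IsFrameProd D 2 x := fun h' => by
  obtain ⟨p, q, hp, hq, e⟩ := h'.two
  exact member_ne_two H.tr H.noTwin₂ h.one hp hq e

theorem one_ne_three {x : G} (h : IsFrameProd D 1 x) : ¬ IsFrameProd D 3 x := fun h' => by
  obtain ⟨p, q, r, hp, hq, hr, e⟩ := h'.three
  exact member_ne_three H.tr H.noTwin₂ h.one hp hq hr e

/-- A product of one to four distinct commuting members is an involution. -/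
theorem orderOf_frame {m : ℕ} {x : G} (h1 : 1 ≤ m) (h4 : m ≤ 4) (h : IsFrameProd D m x) :
    orderOf x = 2 := by
  obtain ⟨l, hn, hl, hD, hc, hp⟩ := id h
  have hsq : ∀ l : List G, (∀ a ∈ l, a ∈ D) → (∀ a ∈ l, ∀ b ∈ l, Commute a b) →
      l.prod * l.prod = 1 := by
    intro l
    induction l with
    | nil => simp
    | cons a l ih =>
      intro hD hc
      have k : Commute a l.prod := Commute.list_prod_right _ _ fun b hb => hc a (by simp) b (by simp [hb])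
      rw [List.prod_cons, k.symm.mul_mul_mul_comm, sq_one H.grp.1 (hD a (by simp)), one_mul,
        ih (fun b hb => hD b (by simp [hb])) fun b hb c hc' => hc b (by simp [hb]) c (by simp [hc'])]
  refine orderOf_eq_prime (by rw [pow_two, ← hp]; exact hsq l hD hc) fun e => ?_
  subst e
  interval_cases m
  · exact ne_one H.grp.1 h.one rfl
  · obtain ⟨p, q, hp, hq, e⟩ := h.two
    exact hq.2.1 (by rw [eq_inv_of_mul_eq_one_right e, inv_eq H.grp.1 hp])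
  · obtain ⟨p, q, r, hp, hq, hr, e⟩ := h.three
    exact member_ne_two H.tr H.noTwin₂ hr.1.1 hp hq
      ((eq_inv_of_mul_eq_one_left e).trans (inv_eq H.grp.1 hr.1.1))
  · obtain ⟨p, q, r, s, hp, hq, hr, hs, e⟩ := h.four
    exact member_ne_three H.tr H.noTwin₂ hs.1.1.1 hp hq hr
      ((eq_inv_of_mul_eq_one_left e).trans (inv_eq H.grp.1 hs.1.1.1))

theorem one_ne_four {x : G} (h : IsFrameProd D 1 x) : ¬ IsFrameProd D 4 x := fun h' => by
  obtain ⟨p, q, r, s, hp, hq, hr, hs, e⟩ := h'.four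
  have hx := h.one
  have cp : Commute p (q * r * s) := (hq.2.2.mul_right hr.1.2.2).mul_right hs.1.1.2.2
  have e' : p * (q * r * s) = x := by rw [← e]; simp only [mul_assoc]
  have hqrs : IsFrameProd D 3 (q * r * s) :=
    isFrameProd_three hq.1 ⟨hr.1.1, hr.2⟩ ⟨⟨hs.1.1.1, hs.1.2⟩, hs.2⟩
  have hxp : x ∈ Dc D p := by
    refine ⟨hx, fun h => ?_, e' ▸ (Commute.refl p).mul_right cp⟩
    have := H.orderOf_frame (by norm_num) (by norm_num) hqrs
    rw [mul_eq_left.1 (e'.trans h), orderOf_one] at this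
    norm_num at this
  obtain ⟨C, hC⟩ := H.chart p hp
  let el : ∀ {y}, y ∈ Dc D p → ↥(Subgroup.closure (Dc D p)) :=
    fun {y} hy => ⟨y, Subgroup.subset_closure hy⟩
  have hπ := C.pi_eq (el hq * el hr.1 * el hs.1.1) (el hxp) fun y hy => by
    show Commute ((q * r * s)⁻¹ * x) y
    rw [← e', ← mul_assoc, cp.symm.inv_left.eq, mul_assoc, inv_mul_cancel, mul_one]
    exact hy.2.2
  rw [map_mul, map_mul] at hπ
  exact member_ne_three C.tr_E hC.noTwin₂ (C.img_mem hxp) (C.img_mem hq)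
    ((C.dc_iff hq hr.1).2 hr) ((C.dc2_iff hq hr.1 hs.1.1).2 hs) hπ

theorem two_ne_three {x : G} (h : IsFrameProd D 2 x) : ¬ IsFrameProd D 3 x := fun h' => by
  obtain ⟨p, q, hp, hq, rfl⟩ := h.two
  obtain ⟨g, k, l, hg, hk, hl, e⟩ := h'.three
  have cm : ∀ {u : G}, u ∈ D → Commute u (p * q) → Commute u g ∧ Commute u k ∧ Commute u l :=
    fun hu h => commute_three H.grp.1 hg hk.1 hl.1.1 hu hk.2.1.symm hl.1.2.1.symm hl.2.1.symm
      hk.2.2 hl.1.2.2 hl.2.2 (by rw [e]; exact h)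
  obtain ⟨pg, -, -⟩ := cm hp ((Commute.refl p).mul_right hq.2.2)
  obtain ⟨qg, -, -⟩ := cm hq.1 (hq.2.2.symm.mul_right (Commute.refl q))
  have hkl : l ∈ Dc D k := ⟨hl.1.1, hl.2⟩
  have npg : p ≠ g := fun h => member_ne_two H.tr H.noTwin₂ hq.1 hk.1 hkl
    (mul_left_cancel (a := g) (by rw [← mul_assoc, e, h]))
  have nqg : q ≠ g := fun h => member_ne_two H.tr H.noTwin₂ hp hk.1 hkl
    (mul_left_cancel (a := g) (by rw [← mul_assoc, e, hq.2.2.eq, h]))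
  have nkp : k ≠ p := fun h => member_ne_two H.tr H.noTwin₂ hq.1 hg hl.1
    (mul_left_cancel (a := k) (by rw [← mul_assoc, hk.2.2.symm.eq, e, h]))
  have nkq : k ≠ q := fun h => member_ne_two H.tr H.noTwin₂ hp hg hl.1
    (mul_left_cancel (a := k) (by rw [← mul_assoc, hk.2.2.symm.eq, e, hq.2.2.eq, h]))
  obtain ⟨C, hC⟩ := H.chart g hg
  have hpm : p ∈ Dc D g := ⟨hp, npg, pg.symm⟩
  have hqm : q ∈ Dc D g := ⟨hq.1, nqg, qg.symm⟩
  let el : ∀ {x}, x ∈ Dc D g → ↥(Subgroup.closure (Dc D g)) :=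
    fun {x} hx => ⟨x, Subgroup.subset_closure hx⟩
  have hπ := C.pi_eq (el hk * el hl.1) (el hpm * el hqm) fun y hy => by
    show Commute ((k * l)⁻¹ * (p * q)) y
    rw [← e, mul_assoc g k l, ← mul_assoc, (hk.2.2.mul_right hl.1.2.2).inv_right.symm.eq, mul_assoc,
      inv_mul_cancel, mul_one]
    exact hy.2.2
  rw [map_mul, map_mul] at hπ
  rcases mem_of_prod_two C.tr_E hC.noTwin₂ (C.img_mem hk) (C.img_mem hl.1) (C.img_mem hpm)
    (C.img_mem hqm) (fun h => hl.2.1.symm (C.inj hk hl.1 h)) (fun h => hq.2.1.symm (C.inj hpm hqm h))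
    ((C.comm_iff hk hl.1).2 hl.2.2) ((C.comm_iff hpm hqm).2 hq.2.2) hπ with h | h
  · exact nkp (C.inj hk hpm h)
  · exact nkq (C.inj hk hqm h)

theorem two_ne_four {x : G} (h : IsFrameProd D 2 x) : ¬ IsFrameProd D 4 x := fun h' => by
  obtain ⟨p, q, hp, hq, rfl⟩ := h.two
  obtain ⟨g, k, l, o, hg, hk, hl, ho, e⟩ := h'.four
  have cg : Commute g (k * l * o) := (hk.2.2.mul_right hl.1.2.2).mul_right ho.1.1.2.2
  have e' : g * (k * l * o) = p * q := by rw [← e]; simp only [mul_assoc]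
  obtain ⟨gp, gq⟩ := commute_both H.grp.1 hp hq.1 hg hq.2.1.symm hq.2.2
    (e' ▸ (Commute.refl g).mul_right cg)
  have hl' : l ∈ Dc D k := ⟨hl.1.1, hl.2⟩
  have ho' : o ∈ Dc (Dc D k) l := ⟨⟨ho.1.1.1, ho.1.2⟩, ho.2⟩
  have off : ∀ {u w}, u ∈ D → w ∈ D → u * w = p * q → u ≠ g := fun {u w} _ hw he h =>
    member_ne_three H.tr H.noTwin₂ hw hk.1 hl' ho'
      (mul_left_cancel (a := g) (by rw [e', ← he, h]))
  have hpm : p ∈ Dc D g := ⟨hp, off hp hq.1 rfl, gp⟩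
  have hqm : q ∈ Dc D g := ⟨hq.1, off hq.1 hp hq.2.2.symm.eq, gq⟩
  obtain ⟨C, hC⟩ := H.chart g hg
  let el : ∀ {x}, x ∈ Dc D g → ↥(Subgroup.closure (Dc D g)) :=
    fun {x} hx => ⟨x, Subgroup.subset_closure hx⟩
  have hπ := C.pi_eq (el hk * el hl.1 * el ho.1.1) (el hpm * el hqm) fun y hy => by
    show Commute ((k * l * o)⁻¹ * (p * q)) y
    rw [← e', ← mul_assoc, cg.symm.inv_left.eq, mul_assoc, inv_mul_cancel, mul_one]
    exact hy.2.2
  rw [map_mul, map_mul, map_mul] at hπ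
  exact hC.two_ne_three (C.img_mem hpm) ((C.dc_iff hpm hqm).2 ⟨hqm, hq.2⟩) (C.img_mem hk)
    ((C.dc_iff hk hl.1).2 hl) ((C.dc2_iff hk hl.1 ho.1.1).2 ho) hπ

theorem three_ne_four {x : G} (h : IsFrameProd D 3 x) : ¬ IsFrameProd D 4 x := fun h' => by
  obtain ⟨p, q, r, hp, hq, hr, rfl⟩ := h.three
  obtain ⟨g, k, l, o, hg, hk, hl, ho, e⟩ := h'.four
  have cg : Commute g (k * l * o) := (hk.2.2.mul_right hl.1.2.2).mul_right ho.1.1.2.2
  have e' : g * (k * l * o) = p * q * r := by rw [← e]; simp only [mul_assoc]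
  obtain ⟨gp, gq, gr⟩ := commute_three H.grp.1 hp hq.1 hr.1.1 hg hq.2.1.symm hr.1.2.1.symm
    hr.2.1.symm hq.2.2 hr.1.2.2 hr.2.2 (e' ▸ (Commute.refl g).mul_right cg)
  have hl' : l ∈ Dc D k := ⟨hl.1.1, hl.2⟩
  have ho' : o ∈ Dc (Dc D k) l := ⟨⟨ho.1.1.1, ho.1.2⟩, ho.2⟩
  -- no factor repeats
  have off : ∀ {u v w}, v ∈ D → w ∈ Dc D v → u * (v * w) = p * q * r → u ≠ g :=
      fun {u v w} hv hw he h => by
    refine H.two_ne_three (isFrameProd_two hv hw) ?_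
    rw [mul_left_cancel (a := g) (show g * (v * w) = g * (k * l * o) by rw [e', ← he, h])]
    exact isFrameProd_three hk.1 hl' ho'
  have hrq : r ∈ Dc D q := ⟨hr.1.1, hr.2⟩
  have hpm : p ∈ Dc D g := ⟨hp, off hq.1 hrq (mul_assoc p q r).symm, gp⟩
  have hqm : q ∈ Dc D g := ⟨hq.1, off hp hr.1 (by rw [← mul_assoc, hq.2.2.eq]), gq⟩
  have hrm : r ∈ Dc D g :=
    ⟨hr.1.1, off hp hq (by rw [(hr.1.2.2.symm.mul_right hr.2.2.symm).eq]), gr⟩
  obtain ⟨C, hC⟩ := H.chart g hg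
  let el : ∀ {x}, x ∈ Dc D g → ↥(Subgroup.closure (Dc D g)) :=
    fun {x} hx => ⟨x, Subgroup.subset_closure hx⟩
  have hπ := C.pi_eq (el hpm * el hqm * el hrm) (el hk * el hl.1 * el ho.1.1) fun y hy => by
    show Commute ((p * q * r)⁻¹ * (k * l * o)) y
    rw [← e', mul_inv_rev, mul_assoc, inv_eq H.grp.1 hg, cg.eq, ← mul_assoc, inv_mul_cancel, one_mul]
    exact hy.2.2
  rw [map_mul, map_mul, map_mul, map_mul] at hπ
  have ne : ∀ {a b} (ha : a ∈ Dc D g) (hb : b ∈ Dc D g), a ≠ b → C.img ha ≠ C.img hb :=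
    fun ha hb h he => h (C.inj ha hb he)
  have off' : ∀ {a b c}, (ha : a ∈ Dc D g) → b ∈ Dc D g → c ∈ Dc (Dc D g) b →
      a * (b * c) = k * l * o → p ≠ a := fun {a b c} ha hb hc he h => by
    refine H.two_ne_three (isFrameProd_two hq.1 hrq) ?_
    rw [show q * r = g * b * c from mul_left_cancel (a := a) (by
      rw [← h, ← mul_assoc, ← e', ← he, ← h]
      simp only [← mul_assoc]
      rw [gp.eq])]
    exact isFrameProd_three hg hb hc
  rcases mem_of_prod_three C.tr_E hC.noTwin₂ hC.noTwin₃ (C.img_mem hpm) (C.img_mem hqm)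
    (C.img_mem hrm) (C.img_mem hk) (C.img_mem hl.1) (C.img_mem ho.1.1)
    (ne hpm hqm hq.2.1.symm) (ne hpm hrm hr.1.2.1.symm) (ne hqm hrm hr.2.1.symm)
    ((C.comm_iff hpm hqm).2 hq.2.2) ((C.comm_iff hpm hrm).2 hr.1.2.2)
    ((C.comm_iff hqm hrm).2 hr.2.2) (ne hk hl.1 hl.2.1.symm) (ne hk ho.1.1 ho.1.2.1.symm)
    (ne hl.1 ho.1.1 ho.2.1.symm) ((C.comm_iff hk hl.1).2 hl.2.2)
    ((C.comm_iff hk ho.1.1).2 ho.1.2.2) ((C.comm_iff hl.1 ho.1.1).2 ho.2.2) hπ with h | h | h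
  · exact off' hk hl.1 ⟨ho.1.1, ho.2⟩ (mul_assoc k l o).symm (C.inj hpm hk h)
  · exact off' hl.1 hk ho.1 (by rw [← mul_assoc, hl.2.2.eq]) (C.inj hpm hl.1 h)
  · exact off' ho.1.1 hk hl (by rw [(ho.1.2.2.symm.mul_right ho.2.2.symm).eq]) (C.inj hpm ho.1.1 h)

/-- An element of the cover at `p` is induced by one centralising `p`. -/
theorem lift_conj {p : G} (C : Cover (Dc D p)) (z : C.Q) : ∃ g : G, g * p * g⁻¹ = p ∧
    ∀ x (hx : x ∈ Dc D p), ∃ hx' : g * x * g⁻¹ ∈ Dc D p, C.img hx' = z * C.img hx * z⁻¹ := by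
  obtain ⟨y, rfl⟩ := C.surj z
  have hle : Subgroup.closure (Dc D p) ≤ Subgroup.centralizer ({p} : Set G) :=
    (Subgroup.closure_le _).2 fun x hx => Subgroup.mem_centralizer_singleton_iff.2 hx.2.2.eq.symm
  exact ⟨y, by rw [Subgroup.mem_centralizer_singleton_iff.1 (hle y.2), mul_inv_cancel_right],
    fun x hx => ⟨C.conj_mem y hx, C.img_pi y hx _⟩⟩

theorem conj_pair {p q p' q' : G} (hp : p ∈ D) (hq : q ∈ Dc D p) (hp' : p' ∈ D) (hq' : q' ∈ Dc D p') :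
    ∃ g : G, g * p * g⁻¹ = p' ∧ g * q * g⁻¹ = q' := by
  obtain ⟨g, rfl⟩ := H.trans p hp p' hp'
  have hq'' := ((stab_of_normal H.grp g).carries.dc p).1 q hq
  obtain ⟨C, hC⟩ := H.chart _ hp'
  obtain ⟨z, hz⟩ := hC.trans _ (C.img_mem hq'') _ (C.img_mem hq')
  obtain ⟨y, hy, hyx⟩ := H.lift_conj C z
  obtain ⟨k, ek⟩ := hyx _ hq''
  refine ⟨y * g, ?_, ?_⟩
  · exact (show y * g * p * (y * g)⁻¹ = y * (g * p * g⁻¹) * y⁻¹ by group).trans hy
  · exact (show y * g * q * (y * g)⁻¹ = y * (g * q * g⁻¹) * y⁻¹ by group).trans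
      (C.inj k hq' (ek.trans hz))

theorem conj_triple {p q r p' q' r' : G} (hp : p ∈ D) (hq : q ∈ Dc D p) (hr : r ∈ Dc (Dc D p) q)
    (hp' : p' ∈ D) (hq' : q' ∈ Dc D p') (hr' : r' ∈ Dc (Dc D p') q') :
    ∃ g : G, g * p * g⁻¹ = p' ∧ g * q * g⁻¹ = q' ∧ g * r * g⁻¹ = r' := by
  obtain ⟨g, rfl⟩ := H.trans p hp p' hp'
  have hc := (stab_of_normal H.grp g).carries.dc p
  obtain ⟨C, hC⟩ := H.chart _ hp'
  have hr'' := (hc.dc q).1 r hr
  obtain ⟨z, hz1, hz2⟩ := hC.conj_pair (C.img_mem (hc.1 q hq))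
    ((C.dc_iff (hc.1 q hq) hr''.1).2 hr'') (C.img_mem hq') ((C.dc_iff hq' hr'.1).2 hr')
  obtain ⟨y, hy, hyx⟩ := H.lift_conj C z
  obtain ⟨k₁, e₁⟩ := hyx _ (hc.1 q hq)
  obtain ⟨k₂, e₂⟩ := hyx _ hr''.1
  have key : ∀ x, y * g * x * (y * g)⁻¹ = y * (g * x * g⁻¹) * y⁻¹ := fun x => by group
  exact ⟨y * g, (key p).trans hy, (key q).trans (C.inj k₁ hq' (e₁.trans hz1)),
    (key r).trans (C.inj k₂ hr'.1 (e₂.trans hz2))⟩

theorem conj_quad {p q r s p' q' r' s' : G} (hp : p ∈ D) (hq : q ∈ Dc D p) (hr : r ∈ Dc (Dc D p) q)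
    (hs : s ∈ Dc (Dc (Dc D p) q) r) (hp' : p' ∈ D) (hq' : q' ∈ Dc D p')
    (hr' : r' ∈ Dc (Dc D p') q') (hs' : s' ∈ Dc (Dc (Dc D p') q') r') :
    ∃ g : G, g * p * g⁻¹ = p' ∧ g * q * g⁻¹ = q' ∧ g * r * g⁻¹ = r' ∧ g * s * g⁻¹ = s' := by
  obtain ⟨g, rfl⟩ := H.trans p hp p' hp'
  have hc := (stab_of_normal H.grp g).carries.dc p
  obtain ⟨C, hC⟩ := H.chart _ hp'
  have hq'' := hc.1 q hq
  have hr'' := (hc.dc q).1 r hr
  have hs'' := ((hc.dc q).dc r).1 s hs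
  obtain ⟨z, hz1, hz2, hz3⟩ := hC.conj_triple (C.img_mem hq'') ((C.dc_iff hq'' hr''.1).2 hr'')
    ((C.dc2_iff hq'' hr''.1 hs''.1.1).2 hs'') (C.img_mem hq') ((C.dc_iff hq' hr'.1).2 hr')
    ((C.dc2_iff hq' hr'.1 hs'.1.1).2 hs')
  obtain ⟨y, hy, hyx⟩ := H.lift_conj C z
  obtain ⟨k₁, e₁⟩ := hyx _ hq''
  obtain ⟨k₂, e₂⟩ := hyx _ hr''.1
  obtain ⟨k₃, e₃⟩ := hyx _ hs''.1.1
  have key : ∀ x, y * g * x * (y * g)⁻¹ = y * (g * x * g⁻¹) * y⁻¹ := fun x => by group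
  exact ⟨y * g, (key p).trans hy, (key q).trans (C.inj k₁ hq' (e₁.trans hz1)),
    (key r).trans (C.inj k₂ hr'.1 (e₂.trans hz2)), (key s).trans (C.inj k₃ hs'.1.1 (e₃.trans hz3))⟩

theorem conj_frame {m : ℕ} (h1 : 1 ≤ m) (h4 : m ≤ 4) {x y : G} (hx : IsFrameProd D m x)
    (hy : IsFrameProd D m y) : IsConj x y := by
  rw [isConj_iff]
  interval_cases m
  · exact H.trans x hx.one y hy.one
  · obtain ⟨p, q, hp, hq, rfl⟩ := hx.two
    obtain ⟨p', q', hp', hq', rfl⟩ := hy.two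
    obtain ⟨g, rfl, rfl⟩ := H.conj_pair hp hq hp' hq'
    exact ⟨g, by group⟩
  · obtain ⟨p, q, r, hp, hq, hr, rfl⟩ := hx.three
    obtain ⟨p', q', r', hp', hq', hr', rfl⟩ := hy.three
    obtain ⟨g, rfl, rfl, rfl⟩ := H.conj_triple hp hq hr hp' hq' hr'
    exact ⟨g, by group⟩
  · obtain ⟨p, q, r, s, hp, hq, hr, hs, rfl⟩ := hx.four
    obtain ⟨p', q', r', s', hp', hq', hr', hs', rfl⟩ := hy.four
    obtain ⟨g, rfl, rfl, rfl, rfl⟩ := H.conj_quad hp hq hr hs hp' hq' hr' hs'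
    exact ⟨g, by group⟩

/-- Four distinct commuting members exist. -/
theorem exists_quad [Nonempty D] : ∃ u c p q, u ∈ D ∧ c ∈ Dc D u ∧ p ∈ Dc (Dc D u) c ∧
    q ∈ Dc (Dc (Dc D u) c) p := by
  obtain ⟨⟨u, hu⟩⟩ := ‹Nonempty D›
  obtain ⟨c, hc⟩ := H.dc_nonempty hu
  obtain ⟨p, hp⟩ := H.dc₂_nonempty hu hc
  obtain ⟨C, hC⟩ := H.chart₂ hu hc
  obtain ⟨β, hβ⟩ := (hC.model _ (C.img_mem hp)).1
  obtain ⟨q, hq, rfl⟩ := C.lift β hβ.1
  exact ⟨u, c, p, q, hu, hc, hp, (C.dc_iff hp hq).1 hβ⟩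

/-- The four classes of involutions. -/
theorem invol_classes [Nonempty D] :
    (∀ x : G, orderOf x = 2 → ∃ m : ℕ, 1 ≤ m ∧ m ≤ 4 ∧ IsFrameProd D m x) ∧
    (∀ m : ℕ, 1 ≤ m → m ≤ 4 → (∃ x : G, orderOf x = 2 ∧ IsFrameProd D m x) ∧
      ∀ x y : G, IsFrameProd D m x → IsFrameProd D m y → IsConj x y) ∧
    ∀ (m m' : ℕ) (x : G), 1 ≤ m → m ≤ 4 → 1 ≤ m' → m' ≤ 4 →
      IsFrameProd D m x → IsFrameProd D m' x → m = m' := by
  refine ⟨fun x hx => ?_, fun m h1 h4 => ⟨?_, fun x y => H.conj_frame h1 h4⟩,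
    fun m m' x h1 h4 h1' h4' hx hx' => ?_⟩
  · have h2 : x * x = 1 := by have := pow_orderOf_eq_one x; rwa [hx, pow_two] at this
    obtain ⟨l, hn, hl, hD, hc, hp⟩ := H.short_invol h2
    refine ⟨l.length, ?_, hl, l, hn, rfl, hD, hc, hp⟩
    rcases l with - | ⟨a, l⟩
    · rw [← hp, List.prod_nil, orderOf_one] at hx; norm_num at hx
    · simp
  · obtain ⟨u, c, p, q, hu, hc, hp, hq⟩ := H.exists_quad
    suffices h : ∃ x, IsFrameProd D m x from
      h.imp fun x hx => ⟨H.orderOf_frame h1 h4 hx, hx⟩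
    interval_cases m
    · exact ⟨u, [u], by simp, rfl, by simp [hu], by simp, by simp⟩
    · exact ⟨_, isFrameProd_two hu hc⟩
    · exact ⟨_, isFrameProd_three hu hc hp⟩
    · exact ⟨_, isFrameProd_four hu hc hp hq⟩
  · interval_cases m <;> interval_cases m' <;>
      first
        | rfl
        | exact absurd hx' (H.one_ne_two hx) | exact absurd hx' (H.one_ne_three hx)
        | exact absurd hx' (H.one_ne_four hx) | exact absurd hx' (H.two_ne_three hx)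
        | exact absurd hx' (H.two_ne_four hx) | exact absurd hx' (H.three_ne_four hx)
        | exact absurd hx (H.one_ne_two hx') | exact absurd hx (H.one_ne_three hx')
        | exact absurd hx (H.one_ne_four hx') | exact absurd hx (H.two_ne_three hx')
        | exact absurd hx (H.two_ne_four hx') | exact absurd hx (H.three_ne_four hx')

/-- The class of 3-transpositions is unique. -/
theorem unique_class [Nonempty D] {D' : Set G} (hD' : IsThreeTranspositionClass D') : D' = D := by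
  have hT := Fischer.TClass.of hD'
  obtain ⟨e, he⟩ := hT.nonempty
  obtain ⟨m, h1, h4, hm⟩ := H.invol_classes.1 e
    (orderOf_eq_prime (by rw [pow_two]; exact hT.sq e he) (hT.ne_one e he))
  have heD : e ∈ D := by
    by_contra hne
    have hm2 : 2 ≤ m := by
      by_contra h
      obtain rfl : m = 1 := by omega
      exact hne hm.one
    obtain ⟨u, c, p, q, hu, hc, hp, hq⟩ := H.exists_quad
    obtain ⟨C, hC⟩ := H.chart u hu
    have hpc : C.img hp.1 ∈ Dc C.E (C.img hc) := (C.dc_iff hc hp.1).2 hp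
    have hqc : C.img hq.1.1 ∈ Dc C.E (C.img hc) := (C.dc_iff hc hq.1.1).2 hq.1
    obtain ⟨r', s', g, hr', hs', npr, nqr, csp, csq, csr, -⟩ := hC.exists_path hC.charts
      (C.img_mem hc) hpc hqc (fun h => hq.2.1.symm (C.inj hp.1 hq.1.1 h))
      ((C.comm_iff hp.1 hq.1.1).2 hq.2.2)
    obtain ⟨r, hr, rfl⟩ := C.lift r' hr'.1
    obtain ⟨s, hs, rfl⟩ := C.lift s' hs'.1
    have hrc : r ∈ Dc (Dc D u) c := (C.dc_iff hc hr).1 hr'
    have hsc : s ∈ Dc (Dc D u) c := (C.dc_iff hc hs).1 hs'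
    have npr' : ¬ Commute p r := fun h => npr ((C.comm_iff hp.1 hr).2 h)
    have nqr' : ¬ Commute q r := fun h => nqr ((C.comm_iff hq.1.1 hr).2 h)
    have csp' : Commute s p := (C.comm_iff hs hp.1).1 csp
    have csq' : Commute s q := (C.comm_iff hs hq.1.1).1 csq
    have csr' : Commute s r := (C.comm_iff hs hr).1 csr
    have hrs : s ≠ r := fun h => npr' (h ▸ csp').symm
    obtain ⟨k2, k3⟩ := path_order H.tr hp.1.1 hq.1.1.1 hr.1 hs.1 hq.2.1.symm hq.2.2 npr' nqr'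
      csp' csq' csr'
    have hmem : ∀ {X}, IsFrameProd D m X → X ∈ D' := fun hX => by
      obtain ⟨g, rfl⟩ := isConj_iff.1 (H.conj_frame h1 h4 hm hX)
      exact hT.conj g e he
    have cu : Commute u (p * q) ∧ Commute u (r * s) :=
      ⟨hp.1.2.2.mul_right hq.1.1.2.2, hr.2.2.mul_right hs.2.2⟩
    have cc : Commute c (p * q) ∧ Commute c (r * s) :=
      ⟨hp.2.2.mul_right hq.1.2.2, hrc.2.2.mul_right hsc.2.2⟩
    suffices h : ∃ X Y, IsFrameProd D m X ∧ IsFrameProd D m Y ∧ X * Y = p * q * r * s by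
      obtain ⟨X, Y, hX, hY, e'⟩ := h
      have := hT.ord X (hmem hX) Y (hmem hY)
      rw [e'] at this
      exact this.elim k2 k3
    interval_cases m
    · exact ⟨_, _, isFrameProd_two hp.1.1 (q := q) ⟨hq.1.1.1, hq.2⟩,
        isFrameProd_two hr.1 ⟨hs.1, hrs, csr'.symm⟩, (mul_assoc (p * q) r s).symm⟩
    · refine ⟨c * p * q, c * r * s, isFrameProd_three hc.1 ⟨hp.1.1, hp.2⟩
          ⟨⟨hq.1.1.1, hq.1.2⟩, hq.2⟩,
        isFrameProd_three hc.1 ⟨hr.1, hrc.2⟩ ⟨⟨hs.1, hsc.2⟩, hrs, csr'.symm⟩, ?_⟩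
      rw [mul_assoc c r s, mul_assoc c p q, ← mul_assoc (c * (p * q)), mul_assoc c (p * q) c,
        ← cc.1.eq, ← mul_assoc c c, sq_one H.grp.1 hc.1, one_mul, mul_assoc (p * q) r s]
    · refine ⟨u * c * p * q, u * c * r * s, isFrameProd_four hu hc hp hq,
        isFrameProd_four hu hc hrc ⟨hsc, hrs, csr'.symm⟩, ?_⟩
      have cuc : Commute (u * c) (p * q) := cu.1.mul_left cc.1
      have h2 : u * c * (u * c) = 1 := by
        rw [hc.2.2.symm.mul_mul_mul_comm, sq_one H.grp.1 hu, sq_one H.grp.1 hc.1, one_mul]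
      rw [mul_assoc (u * c) r s, mul_assoc (u * c) p q, ← mul_assoc (u * c * (p * q)),
        mul_assoc (u * c) (p * q) (u * c), ← cuc.eq, ← mul_assoc (u * c) (u * c), h2, one_mul,
        mul_assoc (p * q) r s]
  refine Set.ext fun x => ⟨fun hx => ?_, fun hx => ?_⟩
  · obtain ⟨g, rfl⟩ := hT.trans e he x hx
    exact H.conj_mem g heD
  · obtain ⟨g, rfl⟩ := H.trans e heD x hx
    exact hT.conj g e he

end M24

end Cfsg.Agent.Transpos
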