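import Cfsg.Agent.Lib.Transpos.M24Star
import Cfsg.Agent.Lib.Transpos.M22Outer
import Cfsg.Agent.Lib.Transpos.M24Classes

/-!
# Isomorphisms at two commuting members that agree on their common members

Given a `Star` at `a`, each member `b` commuting with `a` has one with the same values on the common
members of `a` and `b`: the other class of automorphisms of the common members exchanges the two kinds
of traces, which are different.
-/

set_option autoImplicit false
set_option linter.style.haveILetI false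
set_option linter.unusedSectionVars false

namespace Cfsg.Agent.Transpos

open Cfsg Cfsg.Agent.ClassicalSimple

universe u v

variable {G : Type u} [Group G] {D : Set G} {G' : Type v} [Group G'] {D' : Set G'}

/-- The hypotheses of the uniqueness theorem of type M(24), with a sign. -/
structure M24F [Finite G] (D : Set G) : Prop extends M24 D where
  prim : IsPrimitiveUnderConj D
  type : IsOfTypeM24 G D
  sign : ∃ χ : G →* ℤˣ, ∀ d ∈ D, χ d = -1

theorem dc_dc_eq {a b : G} : Dc (Dc D a) b = Dc D a ∩ Dc D b :=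
  Set.ext fun _ => ⟨fun h => ⟨h.1, h.1.1, h.2⟩, fun h => ⟨h.1, h.2.2⟩⟩

/-- Conjugation carries commuting members to commuting members. -/
theorem conj_dc_iff (hD : IsThreeTranspositionGroup D) (g : G) {x d : G} :
    g * x * g⁻¹ ∈ Dc D (g * d * g⁻¹) ↔ x ∈ Dc D d := by
  refine ⟨fun h => ?_, fun h => ((stab_of_normal hD g).carries.dc d).1 x h⟩
  have := ((stab_of_normal hD g).carries.dc d).2 _ h
  rwa [show g⁻¹ * (g * x * g⁻¹) * g = x by group] at this

namespace Star

variable {a : G} {a' : G'} (s : Star D D' a a')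

/-- The image of the common members of `a` and a member commuting with it. -/
theorem image_common {b : G} (hb : b ∈ Dc D a) :
    s.f '' (Dc D a ∩ Dc D b) = Dc D' a' ∩ Dc D' (s.f b) := by
  refine Set.Subset.antisymm ?_ fun y hy => ?_
  · rintro _ ⟨x, hx, rfl⟩
    exact ⟨s.f_mem hx.1, (s.f_dc hb hx.1).2 hx.2⟩
  · obtain ⟨x, hx, rfl⟩ := s.exists_f hy.1
    exact ⟨x, ⟨hx, (s.f_dc hb hx).1 hy.2⟩, rfl⟩

/-- Restriction to the group generated by some of the members. -/
theorem exists_restrict {S : Set G} (hS : S ⊆ Dc D a) {S' : Set G'} (hS' : s.f '' S = S') :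
    ∃ r : ↥(Subgroup.closure S) ≃* ↥(Subgroup.closure S'),
      ∀ x : ↥(Subgroup.closure S), (r x : G') = s.f x := by
  have hle : Subgroup.closure S ≤ Subgroup.closure (Dc D a) := Subgroup.closure_mono hS
  have hmem : ∀ x ∈ Subgroup.closure S, s.f x ∈ Subgroup.closure S' := by
    intro x hx
    induction hx using Subgroup.closure_induction with
    | mem z hz => exact Subgroup.subset_closure (hS' ▸ ⟨z, hz, rfl⟩)
    | one =>
      rw [s.f_eq (one_mem _)]
      exact (congrArg Subtype.val (map_one s.θ)).symm ▸ one_mem _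
    | mul p q hp hq hp' hq' => rw [s.f_mul (hle hp) (hle hq)]; exact mul_mem hp' hq'
    | inv p hp hp' => rw [s.f_inv (hle hp)]; exact inv_mem hp'
  let F : ↥(Subgroup.closure S) →* ↥(Subgroup.closure S') :=
    { toFun := fun x => ⟨s.f x, hmem x x.2⟩
      map_one' := Subtype.ext (by
        show s.f 1 = 1
        rw [s.f_eq (one_mem _)]
        exact congrArg Subtype.val (map_one s.θ))
      map_mul' := fun x y => Subtype.ext (s.f_mul (hle x.2) (hle y.2)) }
  have hinj : Function.Injective F := fun x y e =>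
    Subtype.ext (s.f_inj (hle x.2) (hle y.2) (congrArg Subtype.val e))
  have hsurj : Function.Surjective F := by
    intro y
    have hsub : Subgroup.closure S' ≤ F.range.map (Subgroup.closure S').subtype := by
      refine (Subgroup.closure_le _).2 fun w hw => ?_
      obtain ⟨z, hz, rfl⟩ := hS'.ge hw
      exact ⟨_, ⟨⟨z, Subgroup.subset_closure hz⟩, rfl⟩, rfl⟩
    obtain ⟨w, ⟨x, rfl⟩, e⟩ := hsub y.2
    exact ⟨x, Subtype.ext e⟩
  exact ⟨MulEquiv.ofBijective F ⟨hinj, hsurj⟩, fun x => rfl⟩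

end Star

namespace Cover

variable {S : Set G} (C : Cover S)

/-- An automorphism of the group generated preserving the members induces one of the cover. -/
theorem exists_auto_of (κ : ↥(Subgroup.closure S) ≃* ↥(Subgroup.closure S))
    (hκ : ∀ x, (κ x : G) ∈ S ↔ (x : G) ∈ S) :
    ∃ φ : C.Q ≃* C.Q, Preserves C.E φ ∧ ∀ x, φ (C.π x) = C.π (κ x) := by
  classical
  have hker : Subgroup.center ↥(Subgroup.closure S) = C.π.ker := by
    refine le_antisymm (fun x hx => ?_) fun x hx => Subgroup.mem_center_iff.2 fun y =>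
      (C.ker x hx y).symm
    rw [MonoidHom.mem_ker, ← Subgroup.mem_bot, ← C.center]
    refine Subgroup.mem_center_iff.2 fun q => ?_
    obtain ⟨y, rfl⟩ := C.surj q
    rw [← map_mul, ← map_mul, Subgroup.mem_center_iff.1 hx y]
  let e : ↥(Subgroup.closure S) ⧸ Subgroup.center ↥(Subgroup.closure S) ≃* C.Q :=
    (QuotientGroup.quotientMulEquivOfEq hker).trans
      (QuotientGroup.quotientKerEquivOfSurjective C.π C.surj)
  have he : ∀ x, e (QuotientGroup.mk x) = C.π x := fun x => rfl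
  let φ : C.Q ≃* C.Q := e.symm.trans ((centerQuotientCongr κ).trans e)
  have hφ : ∀ x, φ (C.π x) = C.π (κ x) := fun x => by
    show e (centerQuotientCongr κ (e.symm (C.π x))) = C.π (κ x)
    rw [← he, e.symm_apply_apply, ← he]
    rfl
  refine ⟨φ, fun β => ⟨fun h => ?_, fun h => ?_⟩, hφ⟩
  · obtain ⟨y, hy, e'⟩ := C.lift _ h
    obtain ⟨x, hx⟩ := κ.surjective ⟨y, Subgroup.subset_closure hy⟩
    have hxS : (x : G) ∈ S := (hκ x).1 (by rw [hx]; exact hy)
    rw [← hx, ← hφ] at e'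
    rw [← φ.injective e']
    exact C.map_mem _ hxS
  · obtain ⟨x, hx, rfl⟩ := C.lift β h
    rw [hφ]
    exact C.map_mem _ ((hκ _).2 hx)

/-- An automorphism acting as a conjugation acts so on the members. -/
theorem eq_conj_of (z : ↥(Subgroup.closure S)) {x x' : G} (hx : x ∈ S) (hx' : x' ∈ S)
    (e : C.img hx' = C.π z * C.img hx * (C.π z)⁻¹) : x' = (z : G) * x * (z : G)⁻¹ :=
  C.inj hx' (C.conj_mem z hx) (e.trans (C.img_pi z hx (C.conj_mem z hx)).symm)

end Cover

variable [Finite G] [Finite G']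

namespace M24F

variable (H : M24F D)
include H

/-- An element of the group of the common members commutes with the pair. -/
theorem commute_closure_common {a b : G}
    (y : ↥(Subgroup.closure (Dc D a ∩ Dc D b))) : Commute (y : G) a ∧ Commute (y : G) b :=
  mem_centralizer_pair.1 ((Subgroup.closure_le _).2
    (fun _ hx => mem_centralizer_pair.2 ⟨hx.1.2.2.symm, hx.2.2.2.symm⟩) y.2)

/-- A commuting pair has a member at `a` off `b`. -/
theorem exists_off_pair {a b : G} (ha : a ∈ D) (hb : b ∈ Dc D a) :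
    ∃ d ∈ Dc D a, ¬ Commute b d := by
  obtain ⟨d, hd⟩ := Set.nonempty_of_ncard_ne_zero
    (H.toM24.ncard_off hb.1 (mem_dc_symm ha hb) ▸ (by norm_num : (28160 : ℕ) ≠ 0))
  exact ⟨d, hd.1, hd.2⟩

/-- An element exchanging `a` and `b` acts on their common members as no element of their group. -/
theorem no_twist {a b t : G} (ha : a ∈ D) (hb : b ∈ Dc D a) (hta : t * a * t⁻¹ = b)
    (htb : t * b * t⁻¹ = a) (y : ↥(Subgroup.closure (Dc D a ∩ Dc D b))) :
    ¬ ∀ x ∈ Dc D a ∩ Dc D b, t * x * t⁻¹ = (y : G) * x * (y : G)⁻¹ := by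
  intro hall
  obtain ⟨d, hd, hbd⟩ := H.exists_off_pair ha hb
  obtain ⟨hya, hyb⟩ := H.commute_closure_common y
  set g := (y : G)⁻¹ * t with hg
  have hga : g * a * g⁻¹ = b := by
    rw [show g * a * g⁻¹ = (y : G)⁻¹ * (t * a * t⁻¹) * y by rw [hg]; group, hta, mul_assoc,
      ← hyb.eq, inv_mul_cancel_left]
  have hgb : g * b * g⁻¹ = a := by
    rw [show g * b * g⁻¹ = (y : G)⁻¹ * (t * b * t⁻¹) * y by rw [hg]; group, htb, mul_assoc,
      ← hya.eq, inv_mul_cancel_left]
  have hgx : ∀ x ∈ Dc D a ∩ Dc D b, g * x * g⁻¹ = x := fun x hx => by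
    rw [show g * x * g⁻¹ = (y : G)⁻¹ * (t * x * t⁻¹) * y by rw [hg]; group, hall x hx]
    group
  refine H.toM24.no_common_trace H.prim H.type ha hb (c := g * d * g⁻¹) (hga ▸ (conj_dc_iff H.grp g).2 hd)
    (fun h => hbd ((commute_conj_iff g).1 (by rw [hgb]; exact h))) hd hbd fun x hx => ?_
  conv_lhs => rw [← hgx x hx]
  exact conj_dc_iff H.grp g

variable (H' : M24F D') (hrig : M23Rigid.{u, v})
include H' hrig

/-- An isomorphism at `b` agreeing with the one at `a` on their common members. -/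
theorem exists_compat {a b : G} {a' : G'} (ha : a ∈ D) (hb : b ∈ Dc D a) (ha' : a' ∈ D')
    (φ : Star D D' a a') :
    ∃ ψ : Star D D' b (φ.f b), ψ.f a = a' ∧ ∀ x ∈ Dc D a ∩ Dc D b, ψ.f x = φ.f x := by
  obtain ⟨χ, hχ⟩ := H.sign
  obtain ⟨χ', hχ'⟩ := H'.sign
  have hab := mem_dc_symm ha hb
  have hb' := φ.f_mem hb
  have hab' := mem_dc_symm ha' hb'
  obtain ⟨ψ, hψa⟩ := H.toM24.exists_star_map H'.toM24 hrig χ hχ χ' hχ' hb.1 hab hb'.1 hab'
  have hI : ψ.f '' (Dc D a ∩ Dc D b) = Dc D' a' ∩ Dc D' (φ.f b) := by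
    rw [Set.inter_comm, ψ.image_common hab,
      show Dc D' (ψ.f a) = Dc D' a' from congrArg (Dc D') hψa, Set.inter_comm]
  obtain ⟨rψ, hrψ⟩ := ψ.exists_restrict (S := Dc D a ∩ Dc D b) (fun x hx => hx.2) hI
  obtain ⟨rφ, hrφ⟩ := φ.exists_restrict (S := Dc D a ∩ Dc D b) (fun x hx => hx.1) (φ.image_common hb)
  set κ := rψ.trans rφ.symm with hκd
  have hκ : ∀ x, φ.f (κ x : G) = ψ.f x := fun x => by
    rw [← hrφ, ← hrψ]
    exact congrArg Subtype.val (rφ.apply_symm_apply (rψ x))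
  have hκmem : ∀ x, (κ x : G) ∈ Dc D a ∩ Dc D b ↔ (x : G) ∈ Dc D a ∩ Dc D b := by
    intro x
    have hxa : (x : G) ∈ Subgroup.closure (Dc D b) := Subgroup.closure_mono (fun z hz => hz.2) x.2
    have hκa : (κ x : G) ∈ Subgroup.closure (Dc D a) :=
      Subgroup.closure_mono (fun z hz => hz.1) (κ x).2
    constructor
    · intro h
      have h' := (φ.image_common hb).le ⟨_, h, rfl⟩
      rw [hκ, ← hI] at h'
      obtain ⟨z, hz, e⟩ := h'
      rw [← ψ.f_inj (Subgroup.subset_closure hz.2) hxa e]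
      exact hz
    · intro h
      have h' := hI.le ⟨_, h, rfl⟩
      rw [← hκ, ← φ.image_common hb] at h'
      obtain ⟨z, hz, e⟩ := h'
      rw [← φ.f_inj (Subgroup.subset_closure hz.1) hκa e]
      exact hz
  have hmb : ∀ {x}, x ∈ Dc D a ∩ Dc D b → x ∈ Subgroup.closure (Dc D b) :=
    fun hx => Subgroup.subset_closure hx.2
  obtain ⟨C, hC⟩ : ∃ C : Cover.{u} (Dc D a ∩ Dc D b), M22 C.E := by
    have h := H.toM24.chart₂ ha hb
    rwa [dc_dc_eq] at h
  obtain ⟨α, hαp, hα⟩ := C.exists_auto_of κ hκmem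
  have hαimg : ∀ x (hx : x ∈ Dc D a ∩ Dc D b),
      α (C.img hx) = C.img ((hκmem ⟨x, Subgroup.subset_closure hx⟩).2 hx) := fun x hx => hα _
  obtain ⟨t, hta, htb⟩ := H.toM24.conj_pair ha hb hb.1 hab
  have hcar : Carries t (Dc D a ∩ Dc D b) (Dc D a ∩ Dc D b) := by
    have h1 := (stab_of_normal H.grp t).carries.dc a
    have h2 := (stab_of_normal H.grp t).carries.dc b
    rw [hta] at h1
    rw [htb] at h2
    exact ⟨fun x hx => ⟨h2.1 x hx.2, h1.1 x hx.1⟩, fun x hx => ⟨h1.2 x hx.2, h2.2 x hx.1⟩⟩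
  obtain ⟨φs, hsp, hφs⟩ := C.exists_auto hcar
  have ns : ¬ ∃ y, ∀ g, φs g = y * g * y⁻¹ := by
    rintro ⟨q, hq⟩
    obtain ⟨y, rfl⟩ := C.surj q
    refine H.no_twist ha hb hta htb y fun x hx => ?_
    obtain ⟨hx', e⟩ := hφs x hx
    exact C.eq_conj_of y hx hx' (e.symm.trans (hq _))
  by_cases nα : ∃ y, ∀ g, α g = y * g * y⁻¹
  · obtain ⟨q, hq⟩ := nα
    obtain ⟨y, rfl⟩ := C.surj q
    have hy : ∀ x (hx : x ∈ Dc D a ∩ Dc D b),
        φ.f ((y : G) * x * (y : G)⁻¹) = ψ.f x := fun x hx => by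
      rw [← hκ ⟨x, Subgroup.subset_closure hx⟩,
        ← C.eq_conj_of y hx _ ((hαimg x hx).symm.trans (hq _))]
    have hyb : (y : G) ∈ Subgroup.closure (Dc D b) := Subgroup.closure_mono (fun z hz => hz.2) y.2
    let w : ↥(Subgroup.closure (Dc D' (φ.f b))) := ⟨(ψ.f y)⁻¹, inv_mem (ψ.f_mem_closure hyb)⟩
    have hw : ∀ {x}, x ∈ Subgroup.closure (Dc D b) →
        (ψ.conj H'.grp hb'.1 w).f x = ψ.f ((y : G)⁻¹ * x * y) := fun {x} hx => by
      rw [ψ.conj_f H'.grp hb'.1 w hx, ψ.f_mul (mul_mem (inv_mem hyb) hx) hyb,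
        ψ.f_mul (inv_mem hyb) hx, ψ.f_inv hyb]
      show (ψ.f y)⁻¹ * ψ.f x * (ψ.f y)⁻¹⁻¹ = _
      rw [inv_inv]
    refine ⟨ψ.conj H'.grp hb'.1 w, ?_, fun x hx => ?_⟩
    · rw [hw (Subgroup.subset_closure hab), mul_assoc, ← (H.commute_closure_common y).1.eq,
        inv_mul_cancel_left, hψa]
    · rw [hw (hmb hx)]
      have hx' : (y : G)⁻¹ * x * y ∈ Dc D a ∩ Dc D b := by
        have h := C.conj_mem y⁻¹ hx
        rwa [Subgroup.coe_inv, inv_inv] at h
      rw [← hy _ hx']
      congr 1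
      group
  · exfalso
    obtain ⟨q, hq⟩ := hC.outer_two hαp hsp nα ns
    obtain ⟨y, rfl⟩ := C.surj q
    set g := (y : G) * t with hgd
    have hgx : ∀ x (hx : x ∈ Dc D a ∩ Dc D b), φ.f (g * x * g⁻¹) = ψ.f x := fun x hx => by
      obtain ⟨hx', e⟩ := hφs x hx
      have h := C.eq_conj_of y hx' _ ((hαimg x hx).symm.trans ((hq _).trans (by rw [e])))
      rw [← hκ ⟨x, Subgroup.subset_closure hx⟩, h, hgd]
      congr 1
      group
    obtain ⟨hya, hyb⟩ := H.commute_closure_common y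
    have hga : g * a * g⁻¹ = b := by
      rw [show g * a * g⁻¹ = (y : G) * (t * a * t⁻¹) * (y : G)⁻¹ by rw [hgd]; group, hta, hyb.eq,
        mul_inv_cancel_right]
    have hgb : g * b * g⁻¹ = a := by
      rw [show g * b * g⁻¹ = (y : G) * (t * b * t⁻¹) * (y : G)⁻¹ by rw [hgd]; group, htb, hya.eq,
        mul_inv_cancel_right]
    obtain ⟨c, hc, hac⟩ := H.exists_off_pair hb.1 hab
    have hd : g * c * g⁻¹ ∈ Dc D a := hgb ▸ (conj_dc_iff H.grp g).2 hc
    have hbd : ¬ Commute b (g * c * g⁻¹) := fun h =>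
      hac ((commute_conj_iff g).1 (by rw [hga]; exact h))
    refine H'.toM24.no_common_trace H'.prim H'.type ha' hb' (c := ψ.f c) (d := φ.f (g * c * g⁻¹))
      (ψ.f_mem hc) (fun h => hac ?_) (φ.f_mem hd) (fun h => hbd ?_) fun x' hx' => ?_
    · exact (ψ.f_comm (Subgroup.subset_closure hab) (Subgroup.subset_closure hc)).1
        (hψa.symm ▸ h)
    · exact (φ.f_comm (Subgroup.subset_closure hb) (Subgroup.subset_closure hd)).1 h
    rw [← hI] at hx'
    obtain ⟨x, hx, rfl⟩ := hx'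
    rw [ψ.f_dc hc hx.2, ← hgx x hx, φ.f_dc hd ?_, conj_dc_iff H.grp g]
    exact hgb ▸ (conj_dc_iff H.grp g).2 hx.2

end M24F

end Cfsg.Agent.Transpos
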