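import Cfsg.Agent.Lib.Transpos.M24Cent
import Cfsg.Agent.Lib.Transpos.M23Count
import Cfsg.Agent.Lib.Transpos.Inverting
import Cfsg.Agent.S0293

/-!
# The order of a group of type M(24)

`M24.pair_data`: two non-commuting members have 3240 common commuting members and 275264 members do
not commute with a given one; so there are 306936 members.  The number is pinned by the trace of the
commuting graph, a strongly regular graph with parameters `(306936, 31671, 3510, 3240)`.
-/

set_option autoImplicit false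
set_option linter.style.haveILetI false
set_option linter.unusedSectionVars false

namespace Cfsg.Agent.Transpos

open Cfsg

universe u

variable {G : Type u} [Group G] {D : Set G}

/-- A strongly regular commuting graph: a prime dividing the discriminant of its eigenvalues
divides the trace of the nilpotent matrix it gives. -/
theorem srg_trace {G : Type u} [Group G] [Finite G] {D : Set G} {k l μ p : ℕ} [Fact p.Prime]
    (hk : ∀ a ∈ D, (Dc D a).ncard = k)
    (hl : ∀ a ∈ D, ∀ b ∈ Dc D a, (Dc D a ∩ Dc D b).ncard = l)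
    (hμ : ∀ a ∈ D, ∀ c ∈ D, ¬ Commute a c → (Dc D a ∩ Dc D c).ncard = μ)
    (hcount : ((D.ncard : ℤ) - (k + 1)) * μ = k * ((k : ℤ) - 1 - l))
    (hdisc : ((((l : ℤ) - μ) ^ 2 + 4 * ((k : ℤ) - μ) : ℤ) : ZMod p) = 0)
    (hv : (D.ncard : ZMod p) ≠ 0) :
    ((2 * (k : ℤ) + ((l : ℤ) - μ) * ((D.ncard : ℤ) - 1) : ℤ) : ZMod p) = 0 := by
  classical
  haveI : Fintype ↥D := Fintype.ofFinite _
  set δ : ZMod p := (l : ZMod p) - (μ : ZMod p) with hδ
  set n : ZMod p := (D.ncard : ZMod p) with hn
  set A : Matrix ↥D ↥D (ZMod p) :=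
    Matrix.of fun x y => if (y : G) ∈ Dc D (x : G) then 1 else 0 with hA
  set J : Matrix ↥D ↥D (ZMod p) := Matrix.of fun _ _ => 1 with hJ
  have hcard : Fintype.card ↥D = D.ncard := by
    rw [← Nat.card_eq_fintype_card, Nat.card_coe_set_eq]
  have hsum : ∀ S : Set G, S ⊆ D → (∑ y : ↥D, if (y : G) ∈ S then (1 : ZMod p) else 0) = S.ncard := by
    intro S hS
    rw [Finset.sum_boole]
    congr 1
    rw [← Set.ncard_coe_finset]
    refine Set.ncard_congr (fun y _ => (y : G)) (fun y hy => by simpa using hy)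
      (fun x y _ _ e => Subtype.ext e) fun g hg => ⟨⟨g, hS hg⟩, by simpa using hg, rfl⟩
  have hsymm : ∀ x y : ↥D, ((y : G) ∈ Dc D (x : G)) ↔ ((x : G) ∈ Dc D (y : G)) := fun x y =>
    ⟨fun h => mem_dc_symm x.2 h, fun h => mem_dc_symm y.2 h⟩
  have hAA : A * A = ((k : ZMod p) - (μ : ZMod p)) • 1 + δ • A + (μ : ZMod p) • J := by
    ext x z
    have e : (A * A) x z = ((Dc D (x : G) ∩ Dc D (z : G)).ncard : ZMod p) := by
      rw [Matrix.mul_apply, ← hsum _ (Set.inter_subset_left.trans fun y hy => hy.1)]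
      refine Finset.sum_congr rfl fun y _ => ?_
      simp only [hA, Matrix.of_apply, Set.mem_inter_iff, hsymm y z]
      split_ifs <;> simp_all
    rw [e]
    simp only [Matrix.add_apply, Matrix.smul_apply, Matrix.one_apply, hA, hJ, Matrix.of_apply,
      smul_eq_mul, mul_one, hδ]
    by_cases hxz : x = z
    · subst hxz
      rw [Set.inter_self, hk x x.2, if_pos rfl,
        if_neg fun h : (x : G) ∈ Dc D (x : G) => h.2.1 rfl]
      push_cast
      ring
    · rw [if_neg hxz]
      by_cases hc : Commute (x : G) (z : G)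
      · have hz : (z : G) ∈ Dc D (x : G) := ⟨z.2, fun e => hxz (Subtype.ext e.symm), hc⟩
        rw [hl x x.2 z hz, if_pos hz]
        push_cast
        ring
      · rw [hμ x x.2 z z.2 hc, if_neg fun h : (z : G) ∈ Dc D (x : G) => hc h.2.2]
        ring
  have hAJ : A * J = (k : ZMod p) • J := by
    ext x z
    simp only [Matrix.mul_apply, Matrix.smul_apply, hA, hJ, Matrix.of_apply, mul_one, smul_eq_mul]
    rw [hsum _ fun y hy => hy.1, hk x x.2]
  have hJA : J * A = (k : ZMod p) • J := by
    ext x z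
    simp only [Matrix.mul_apply, Matrix.smul_apply, hA, hJ, Matrix.of_apply, one_mul, mul_one,
      smul_eq_mul, hsymm _ z]
    rw [hsum _ fun y hy => hy.1, hk z z.2]
  have hJJ : J * J = n • J := by
    ext x z
    simp [Matrix.mul_apply, hJ, hn, hcard]
  set b : ZMod p := 2 * (k : ZMod p) - δ with hb
  set t : ZMod p := -b / n with ht
  have hd : δ ^ 2 + 4 * ((k : ZMod p) - (μ : ZMod p)) = 0 := by
    rw [← hdisc, hδ]; push_cast; ring
  have htn : t * n = -b := div_mul_cancel₀ _ hv
  -- `M = 2 A - δ + t J` squares to zero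
  set M : Matrix ↥D ↥D (ZMod p) := (2 : ZMod p) • A + (-δ) • 1 + t • J with hM
  have hsq : M * M = 0 := by
    have key : (4 : ZMod p) * μ + 2 * t * b + t ^ 2 * n = 0 := by
      have h0 : n * (4 * (μ : ZMod p) + 2 * t * b + t ^ 2 * n) = 4 * μ * n - b ^ 2 := by
        linear_combination (t * n + b) * htn
      have hbn : b ^ 2 = 4 * μ * n := by
        have := congrArg (Int.cast : ℤ → ZMod p) hcount
        push_cast at this
        rw [hb, hδ, hn]
        linear_combination hd - 4 * this
      exact (mul_eq_zero.1 (by rw [h0, hbn, sub_self] :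
        n * (4 * (μ : ZMod p) + 2 * t * b + t ^ 2 * n) = 0)).resolve_left hv
    calc M * M = (4 : ZMod p) • (A * A) + (-(4 * δ)) • A + (δ ^ 2) • 1 +
          (2 * t) • (A * J) + (2 * t) • (J * A) + (-(2 * t * δ)) • J + (t ^ 2) • (J * J) := by
            simp only [hM, Matrix.add_mul, Matrix.mul_add, Matrix.smul_mul, Matrix.mul_smul,
              Matrix.one_mul, Matrix.mul_one, smul_smul, smul_add]
            module
      _ = (δ ^ 2 + 4 * ((k : ZMod p) - (μ : ZMod p))) • 1 +
          ((4 : ZMod p) * μ + 2 * t * b + t ^ 2 * n) • J := by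
            rw [hAA, hAJ, hJA, hJJ, hb]
            simp only [smul_add, smul_smul]
            module
      _ = 0 := by rw [hd, key, zero_smul, zero_smul, add_zero]
  have htr := (Matrix.isNilpotent_trace_of_isNilpotent (M := M) ⟨2, by rw [pow_two, hsq]⟩).eq_zero
  have hA0 : A.trace = 0 := Finset.sum_eq_zero fun x _ => if_neg fun h => h.2.1 rfl
  have hJn : J.trace = n := by simp [Matrix.trace, Matrix.diag, hJ, hn, hcard]
  rw [hM, Matrix.trace_add, Matrix.trace_add, Matrix.trace_smul, Matrix.trace_smul, Matrix.trace_smul,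
    Matrix.trace_one, hA0, hJn, hcard, smul_eq_mul, smul_eq_mul, smul_eq_mul, htn, hb] at htr
  push_cast
  rw [hδ] at htr
  linear_combination -htr

/-- The order of `PΩ⁺₈(3)`. -/
theorem card_pomega_eight_three :
    Nat.card (POmega (ZMod 3) (quadFormPlus 4 (ZMod 3))) = 4952179814400 := by
  have h := S0293.result (F := ZMod 3) (q := 3) (ZMod.card 3) 4 le_rfl
  norm_num [Finset.prod_range_succ] at h
  omega

variable [Finite G]

namespace M24

variable (H : M24 D)
include H

/-- A member commutes with 31671 others. -/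
theorem ncard_dc {a : G} (ha : a ∈ D) : (Dc D a).ncard = 31671 := by
  obtain ⟨C, hC⟩ := H.chart a ha
  rw [C.ncard_eq, hC.ncard_class hC.primitive]

/-- Two commuting members have 3510 common commuting members. -/
theorem ncard_dc_dc {a b : G} (ha : a ∈ D) (hb : b ∈ Dc D a) :
    (Dc D a ∩ Dc D b).ncard = 3510 := by
  obtain ⟨C, hC⟩ := H.chart a ha
  rw [show Dc D a ∩ Dc D b = {x | x ∈ Dc D a ∧ x ∈ Dc (Dc D a) b} from Set.ext fun x =>
      ⟨fun h => ⟨h.1, h.1, h.2.2.1, h.2.2.2⟩, fun h => ⟨h.1, h.1.1, h.2.2.1, h.2.2.2⟩⟩,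
    C.ncard_img (fun x => x ∈ Dc (Dc D a) b) (fun β => β ∈ Dc C.E (C.img hb))
      fun x hx => C.dc_iff hb hx]
  rw [← hC.ncard_dc (C.img_mem hb)]
  congr 1
  exact Set.ext fun β => ⟨fun h => h.2, fun h => ⟨h.1, h⟩⟩

/-- The members not commuting with `a` among those commuting with `b ∈ Dc D a`. -/
theorem ncard_off {a b : G} (ha : a ∈ D) (hb : b ∈ Dc D a) :
    {y | y ∈ Dc D b ∧ ¬ Commute a y}.ncard = 28160 := by
  obtain ⟨C, hC⟩ := H.chart b hb.1
  have hab := mem_dc_symm ha hb
  rw [C.ncard_img (fun y => ¬ Commute a y) (fun β => ¬ Commute (C.img hab) β)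
    fun x hx => not_congr (C.comm_iff hab hx)]
  obtain ⟨c, hc, hac⟩ := hC.exists_off (C.img_mem hab)
  exact (hC.pair_data hC.primitive (C.img_mem hab) hc hac).2.1

/-- Every member has one not commuting with it. -/
theorem exists_off {a : G} (ha : a ∈ D) : ∃ c ∈ D, ¬ Commute a c := by
  obtain ⟨b, hb⟩ := H.dc_nonempty ha
  have h := H.ncard_off ha hb
  obtain ⟨y, hy, hay⟩ := Set.nonempty_of_ncard_ne_zero (h ▸ (by norm_num : (28160 : ℕ) ≠ 0))
  exact ⟨y, hy.1, hay⟩

/-- The map of the group of the members commuting with `a` has kernel generated by `a`. -/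
theorem ker_chart {a : G} (ha : a ∈ D) (C : Cover (Dc D a)) :
    C.π.ker = (Subgroup.zpowers a).subgroupOf (Subgroup.closure (Dc D a)) := by
  have hKc : ∀ {y}, y ∈ Subgroup.closure (Dc D a) → Commute y a := fun hy =>
    Subgroup.mem_centralizer_singleton_iff.1 ((H.cent_eq ha).ge hy)
  ext z
  rw [MonoidHom.mem_ker, Subgroup.mem_subgroupOf]
  constructor
  · intro hz
    rcases H.eq_one_or_eq ha (hKc z.2)
      (fun y hy => congrArg Subtype.val (C.ker z hz ⟨y, Subgroup.subset_closure hy⟩).eq) with e | e <;>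
      rw [e]
    exacts [one_mem _, Subgroup.mem_zpowers a]
  · intro hz
    obtain ⟨k, hk⟩ := Subgroup.mem_zpowers_iff.1 hz
    refine C.pi_eq_one z fun x hx => ?_
    rw [← hk]
    exact hx.2.2.zpow_left k

/-- The centraliser of a member has order twice that of a group of type M(23). -/
theorem card_centralizer_member {a : G} (ha : a ∈ D) :
    Nat.card ↥(Subgroup.centralizer ({a} : Set G)) = 8178940946586009600 := by
  obtain ⟨C, hC⟩ := H.chart a ha
  rw [H.cent_eq ha]
  have h1 := Subgroup.card_eq_card_quotient_mul_card_subgroup C.π.ker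
  rw [Nat.card_congr (QuotientGroup.quotientKerEquivOfSurjective C.π C.surj).toEquiv,
    hC.card_group hC.primitive, H.ker_chart ha C,
    Nat.card_congr (Subgroup.subgroupOfEquivOfLe
      (Subgroup.zpowers_le.2 (H.mem_closure_dc ha))).toEquiv,
    Nat.card_zpowers, H.grp.1.1 a ha] at h1
  rw [h1]
  norm_num

/-- Splitting the class at a member. -/
theorem ncard_eq {a : G} (ha : a ∈ D) :
    D.ncard = 31672 + {y | y ∈ D ∧ ¬ Commute a y}.ncard := by
  have h := ncard_split (D := D) ha
  rw [H.ncard_dc ha] at h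
  rw [h, show {x | x ∈ D ∧ ¬ Commute x a} = {y | y ∈ D ∧ ¬ Commute a y} from Set.ext fun x =>
    and_congr_right fun _ => not_congr ⟨Commute.symm, Commute.symm⟩]

/-- Counting the triples of a member, one commuting with it and one commuting only with the second. -/
theorem ncard_mul_of_regular {μ : ℕ}
    (hμ : ∀ a ∈ D, ∀ c ∈ D, ¬ Commute a c → (Dc D a ∩ Dc D c).ncard = μ) {a : G} (ha : a ∈ D) :
    {y | y ∈ D ∧ ¬ Commute a y}.ncard * μ = 31671 * 28160 := by
  classical
  haveI : Fintype G := Fintype.ofFinite G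
  set O := {y | y ∈ D ∧ ¬ Commute a y}
  have h1 : ∑ y ∈ O.toFinset, ((Dc D a).toFinset.filter fun b => b ∈ Dc D y).card =
      ∑ b ∈ (Dc D a).toFinset, (O.toFinset.filter fun y => b ∈ Dc D y).card := by
    simp only [Finset.card_filter]
    exact Finset.sum_comm
  have hL : ∀ y ∈ O.toFinset, ((Dc D a).toFinset.filter fun b => b ∈ Dc D y).card = μ := fun y hy => by
    have hy' := Set.mem_toFinset.1 hy
    rw [← hμ a ha y hy'.1 hy'.2, ← Set.ncard_coe_finset]
    congr 1
    ext b
    simp [Set.mem_inter_iff]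
  have hR : ∀ b ∈ (Dc D a).toFinset,
      (O.toFinset.filter fun y => b ∈ Dc D y).card = 28160 := fun b hb => by
    have hb' := Set.mem_toFinset.1 hb
    rw [← H.ncard_off ha hb', ← Set.ncard_coe_finset]
    congr 1
    ext y
    simp only [Finset.coe_filter, Set.mem_toFinset, Set.mem_ofPred_eq]
    constructor
    · rintro ⟨⟨hy, hay⟩, hby⟩
      exact ⟨⟨hy, fun e => hay (e ▸ hb'.2.2), hby.2.2.symm⟩, hay⟩
    · rintro ⟨hy, hya⟩
      exact ⟨⟨hy.1, hya⟩, hb'.1, hy.2.1.symm, hy.2.2.symm⟩
  rw [Finset.sum_congr rfl hL, Finset.sum_congr rfl hR, Finset.sum_const, Finset.sum_const,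
    smul_eq_mul, smul_eq_mul, ← Set.ncard_eq_toFinset_card', ← Set.ncard_eq_toFinset_card',
    H.ncard_dc ha] at h1
  exact h1

end M24

variable (H : M24 D) (hprim : IsPrimitiveUnderConj D) (h24 : IsOfTypeM24 G D)
include H hprim

namespace M24

/-- The centraliser of a member is transitive on the members not commuting with it. -/
theorem exists_conj_off {a c c' : G} (ha : a ∈ D) (hc : c ∈ D) (hac : ¬ Commute a c) (hc' : c' ∈ D)
    (hac' : ¬ Commute a c') : ∃ g, g * a * g⁻¹ = a ∧ g * c * g⁻¹ = c' := by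
  have hT := Fischer.TClass.of_primitive H.grp hprim
  refine Fischer.nbr_transitive hT (fun N hN hsol _ => ?_) H.conn ha ⟨hc, hac⟩ ⟨hc', hac'⟩
  obtain ⟨b, hb⟩ := H.dc_nonempty ha
  obtain ⟨h2, h3⟩ := Fischer.cores_central hT hprim ⟨a, ha, b, hb.1, hb.2.1.symm, hb.2.2⟩
  haveI := hN
  haveI := hsol
  exact eq_bot_iff.2 ((Fischer.solvable_le_center hT hprim.2.1 h2 h3).trans H.center.le)

omit [Finite G] hprim in
theorem carries_common {a c a' c' g : G} (hga : g * a * g⁻¹ = a') (hgc : g * c * g⁻¹ = c') :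
    (Dc D a ∩ Dc D c).ncard = (Dc D a' ∩ Dc D c').ncard := by
  have hA : Carries g (Dc D a) (Dc D a') := by
    have := (stab_of_normal H.grp g).carries.dc a; rwa [hga] at this
  have hC : Carries g (Dc D c) (Dc D c') := by
    have := (stab_of_normal H.grp g).carries.dc c; rwa [hgc] at this
  exact Set.ncard_congr (fun x _ => g * x * g⁻¹) (fun x hx => ⟨hA.1 x hx.1, hC.1 x hx.2⟩)
    (fun x x' _ _ e => mul_left_cancel (mul_right_cancel e))
    fun z hz => ⟨g⁻¹ * z * g, ⟨hA.2 z hz.1, hC.2 z hz.2⟩, by group⟩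

include h24 in
/-- Non-commuting members have 3240 common commuting members. -/
theorem pair_data {a c : G} (ha : a ∈ D) (hc : c ∈ D) (hac : ¬ Commute a c) :
    (Dc D a ∩ Dc D c).ncard = 3240 ∧ {y | y ∈ D ∧ ¬ Commute a y}.ncard = 275264 ∧
      Nat.card ↥(Subgroup.centralizer ({a} : Set G) ⊓ Subgroup.centralizer ({c} : Set G)) =
        29713078886400 := by
  classical
  set O := {y | y ∈ D ∧ ¬ Commute a y} with hO
  have hstab := card_eq_orbit_mul (Subgroup.centralizer ({a} : Set G)) c O (fun k hk => by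
      refine ⟨H.conj_mem k hc, fun h => hac ((commute_conj_iff k).1 ?_)⟩
      rwa [mul_inv_eq_iff_eq_mul.2 (Subgroup.mem_centralizer_singleton_iff.1 hk)])
    (fun o ho => by
      obtain ⟨g, hga, hgc⟩ := H.exists_conj_off hprim ha hc hac ho.1 ho.2
      exact ⟨g, Subgroup.mem_centralizer_singleton_iff.2 (mul_inv_eq_iff_eq_mul.1 hga), hgc⟩)
  rw [H.card_centralizer_member ha] at hstab
  set S := Dc D a ∩ Dc D c with hS
  have hconst : ∀ a' ∈ D, ∀ c' ∈ D, ¬ Commute a' c' → (Dc D a' ∩ Dc D c').ncard = S.ncard := by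
    intro a' ha' c' hc' hac'
    obtain ⟨g, hg⟩ := H.trans a ha a' ha'
    obtain ⟨k, hka, hkc⟩ := H.exists_conj_off hprim ha' (H.conj_mem g hc)
      (by rw [← hg]; exact fun h => hac ((commute_conj_iff g).1 h)) hc' hac'
    exact ((carries_common H hg rfl).trans (carries_common H hka hkc)).symm
  have hcount := H.ncard_mul_of_regular hconst ha
  -- the joint centraliser contains the group with quotient `S₃`
  have hdvd : 29713078886400 ∣ Nat.card ↥(Subgroup.centralizer ({a} : Set G) ⊓
      Subgroup.centralizer ({c} : Set G)) := by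
    obtain ⟨-, d, hd, e, he, hde, -, hL⟩ := h24
    obtain ⟨g, hg⟩ := H.trans d hd a ha
    have hge : ¬ Commute a (g * e * g⁻¹) := by
      rw [← hg]; exact fun h => hde ((commute_conj_iff g).1 h)
    obtain ⟨k, hka, hkc⟩ := H.exists_conj_off hprim ha (H.conj_mem g he) hge hc hac
    have h1 : 29713078886400 ∣ Nat.card ↥(Subgroup.closure (Dc D d ∩ Dc D e)) := by
      obtain ⟨N, hN, ⟨e1⟩, ⟨e2⟩⟩ := hL
      refine dvd_trans (dvd_of_eq ?_) (Subgroup.card_quotient_dvd_card (Subgroup.center
        ↥(Subgroup.closure (Dc D d ∩ Dc D e))))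
      have := Subgroup.card_eq_card_quotient_mul_card_subgroup N
      rw [Nat.card_congr e1.toEquiv, card_pomega_eight_three, Nat.card_congr e2.toEquiv,
        Nat.card_perm, Nat.card_fin] at this
      exact ((by norm_num [Nat.factorial] :
        (29713078886400 : ℕ) = Nat.factorial 3 * 4952179814400)).trans this.symm
    rw [← Subgroup.card_map_of_injective (f := (MulAut.conj (k * g)).toMonoidHom)
      (MulAut.conj (k * g)).injective] at h1
    refine h1.trans (Subgroup.card_dvd_of_le ?_)
    rw [MonoidHom.map_closure, Subgroup.closure_le]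
    rintro _ ⟨x, ⟨hx1, hx2⟩, rfl⟩
    have key : ∀ {p q : G}, Commute q x → k * (g * q * g⁻¹) * k⁻¹ = p →
        (MulAut.conj (k * g)).toMonoidHom x ∈ Subgroup.centralizer ({p} : Set G) := by
      intro p q hqx hp
      rw [Subgroup.mem_centralizer_singleton_iff, ← hp]
      have := (Commute.conj_iff (k * g)).2 hqx
      simp only [MulEquiv.coe_toMonoidHom, MulAut.conj_apply]
      rw [show k * (g * q * g⁻¹) * k⁻¹ = k * g * q * (k * g)⁻¹ by group]
      exact this.eq.symm
    exact ⟨key hx1.2.2 (by rw [hg, hka]), key hx2.2.2 hkc⟩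
  obtain ⟨m, hm⟩ := hdvd
  rw [hm] at hstab
  rw [← hO] at hcount
  have hOm : O.ncard * m = 275264 := by
    refine Nat.eq_of_mul_eq_mul_left (by norm_num : 0 < 29713078886400) ?_
    linarith [hstab, show O.ncard * (29713078886400 * m) = 29713078886400 * (O.ncard * m) by ring]
  have hn : S.ncard = 3240 * m := by
    refine Nat.eq_of_mul_eq_mul_left (n := O.ncard) (Nat.pos_of_ne_zero fun h => ?_) ?_
    · rw [h] at hOm; norm_num at hOm
    · rw [hcount, show O.ncard * (3240 * m) = 3240 * (O.ncard * m) by ring, hOm]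
  have hm9 : m ≤ 9 := by
    have : S.ncard ≤ (Dc D a).ncard := Set.ncard_le_ncard Set.inter_subset_left (Set.toFinite _)
    rw [hn, H.ncard_dc ha] at this
    omega
  have hkill : ∀ p : ℕ, p.Prime →
      ((((3510 : ℤ) - 3240 * m) ^ 2 + 4 * (31671 - 3240 * m) : ℤ) : ZMod p) = 0 →
      ((31672 + O.ncard : ℕ) : ZMod p) ≠ 0 →
      ((63342 + ((3510 : ℤ) - 3240 * m) * (((31672 + O.ncard : ℕ) : ℤ) - 1) : ℤ) : ZMod p) ≠ 0 →
      False := by
    intro p hp h1 h2 h3
    haveI := Fact.mk hp
    rw [← H.ncard_eq ha] at h2 h3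
    refine h3 ?_
    have := srg_trace (p := p) (fun x hx => H.ncard_dc hx) (fun x hx y hy => H.ncard_dc_dc hx hy)
      (fun a' ha' c' hc' h => (hconst a' ha' c' hc' h).trans hn)
      (by
        rw [H.ncard_eq ha, ← hO]
        have : ((O.ncard * m : ℕ) : ℤ) = ((275264 : ℕ) : ℤ) := by rw [hOm]
        push_cast at this ⊢
        linear_combination 3240 * this)
      (by push_cast at h1 ⊢; exact h1) h2
    push_cast at this ⊢
    exact this
  obtain rfl : m = 1 := by
    interval_cases m
    all_goals first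
      | rfl
      | omega
      | (exfalso
         have hOn : O.ncard = 137632 := by omega
         exact hkill 1721 (by norm_num) (by decide +kernel) (by rw [hOn]; decide +kernel)
           (by rw [hOn]; decide +kernel))
      | (exfalso
         have hOn : O.ncard = 68816 := by omega
         exact hkill 821 (by norm_num) (by decide +kernel) (by rw [hOn]; decide +kernel)
           (by rw [hOn]; decide +kernel))
      | (exfalso
         have hOn : O.ncard = 34408 := by omega
         exact hkill 5099 (by norm_num) (by decide +kernel) (by rw [hOn]; decide +kernel)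
           (by rw [hOn]; decide +kernel))
  refine ⟨hn, ?_, hm⟩
  omega

include h24 in
/-- There are 306936 members. -/
theorem ncard_class : D.ncard = 306936 := by
  obtain ⟨a, ha, -⟩ := hprim.2.1
  obtain ⟨c, hc, hac⟩ := H.exists_off ha
  rw [H.ncard_eq ha, (H.pair_data hprim h24 ha hc hac).2.1]

include h24 in
/-- The order of the group. -/
theorem card_group : Nat.card G = 2 ^ 22 * 3 ^ 16 * 5 ^ 2 * 7 ^ 3 * 11 * 13 * 17 * 23 * 29 := by
  obtain ⟨a, ha, -⟩ := hprim.2.1
  have := card_eq_orbit_mul (⊤ : Subgroup G) a D (fun k _ => H.conj_mem k ha)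
    (fun o ho => (H.trans a ha o ho).imp fun g hg => ⟨Subgroup.mem_top g, hg⟩)
  rw [Subgroup.card_top, top_inf_eq, H.ncard_class hprim h24, H.card_centralizer_member ha] at this
  rw [this]
  norm_num

end M24

end Cfsg.Agent.Transpos
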