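import Cfsg.Agent.Lib.Transpos.M23Conn

/-!
# Covers of centreless 3-transposition groups

A `Cover S` maps the group generated by `S` onto a centreless 3-transposition group, with central
kernel and the members of `S` onto the class.  Covers restrict to the members commuting with one
(`Cover.sub`) and carry automorphisms (`Cover.exists_auto`).
-/

set_option autoImplicit false

namespace Cfsg.Agent.Transpos

open Cfsg Cfsg.Agent.ClassicalSimple

universe u

variable {G : Type u} [Group G]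

/-- A cover of a centreless 3-transposition group by the group generated by `S`. -/
structure Cover (S : Set G) where
  /-- The group. -/
  Q : Type u
  [grpQ : Group Q]
  [finQ : Finite Q]
  /-- The class. -/
  E : Set Q
  /-- The map. -/
  π : ↥(Subgroup.closure S) →* Q
  surj : Function.Surjective π
  ker : ∀ x, π x = 1 → ∀ y, Commute x y
  grp : IsThreeTranspositionGroup E
  center : Subgroup.center Q = ⊥
  map_mem : ∀ x (hx : x ∈ S), π ⟨x, Subgroup.subset_closure hx⟩ ∈ E
  lift : ∀ β ∈ E, ∃ x, ∃ hx : x ∈ S, π ⟨x, Subgroup.subset_closure hx⟩ = β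
  tr : Tr S
  act : AllActive S

attribute [instance] Cover.grpQ Cover.finQ

/-- The chart of a member of type M(23) as a cover. -/
def Chart.toCover {D : Set G} {a : G} (C : Chart D a) (H : M23 D) (ha : a ∈ D) : Cover (Dc D a) :=
  { Q := C.Q, E := C.E, π := C.π, surj := C.surj, ker := C.ker, grp := C.m22.grp
    center := C.m22.center, map_mem := C.map_mem, lift := C.lift
    tr := H.tr.dc ha, act := (H.sec a ha).2.1 }

/-- The chart modulo the centre. -/
def Cover.ofQimg [Finite G] {S : Set G} (hS : Tr S) (hA : AllActive S)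
    (hgrp : IsThreeTranspositionGroup (qimg S))
    (hc : Subgroup.center (↥(Subgroup.closure S) ⧸ Subgroup.center ↥(Subgroup.closure S)) = ⊥) :
    Cover S :=
  { Q := ↥(Subgroup.closure S) ⧸ Subgroup.center ↥(Subgroup.closure S)
    E := qimg S
    π := qpi S
    surj := QuotientGroup.mk'_surjective _
    ker := fun x hx y => (Subgroup.mem_center_iff.1 ((QuotientGroup.eq_one_iff x).1 hx) y).symm
    grp := hgrp, center := hc
    map_mem := fun x hx => ⟨_, hx, rfl⟩
    lift := fun β hβ => by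
      obtain ⟨x, hx, rfl⟩ := hβ
      exact ⟨x, hx, rfl⟩
    tr := hS, act := hA }

/-- The image modulo the centre of a set of 3-transpositions is a class. -/
theorem qimg_group_of {S : Set G} (hS : Tr S) (hA : AllActive S) :
    IsThreeTranspositionGroup (qimg S) := by
  have h1 : S \ {1} = S := Set.sdiff_singleton_eq_self fun h => ne_one hS.set h rfl
  have h2 : qimg S \ {1} = qimg S := by
    refine Set.sdiff_singleton_eq_self fun h => ?_
    obtain ⟨x, hx, e⟩ := h
    exact pi_ne_one (h1.symm ▸ hA x hx) e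
  refine ⟨(h2 ▸ tr_qimg (h1.symm ▸ hS)).set, fun g β hβ => ?_, closure_qimg _⟩
  obtain ⟨y, rfl⟩ := QuotientGroup.mk_surjective g
  obtain ⟨x, hx, rfl⟩ := hβ
  exact ⟨y * x * y⁻¹, (hS.stab_closure y.2 x hx).1, by simp⟩

namespace Cover

variable {S : Set G} (C : Cover S)

/-- The image of a member. -/
def img {x : G} (hx : x ∈ S) : C.Q := C.π ⟨x, Subgroup.subset_closure hx⟩

theorem img_mem {x : G} (hx : x ∈ S) : C.img hx ∈ C.E := C.map_mem x hx

theorem img_congr {x y : G} (hx : x ∈ S) (hy : y ∈ S) (e : x = y) : C.img hx = C.img hy := by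
  subst e; rfl

theorem img_pi (y : ↥(Subgroup.closure S)) {x : G} (hx : x ∈ S)
    (hy : (y : G) * x * (y : G)⁻¹ ∈ S) : C.img hy = C.π y * C.img hx * (C.π y)⁻¹ := by
  show C.π _ = C.π _ * C.π _ * _
  rw [← map_inv, ← map_mul, ← map_mul]
  rfl

include C in
theorem conj_mem (y : ↥(Subgroup.closure S)) {x : G} (hx : x ∈ S) :
    (y : G) * x * (y : G)⁻¹ ∈ S := (C.tr.stab_closure y.2 x hx).1

theorem comm_iff {x y : G} (hx : x ∈ S) (hy : y ∈ S) :
    Commute (C.img hx) (C.img hy) ↔ Commute x y := by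
  refine ⟨fun h => ?_, fun h => ((show Commute (⟨x, Subgroup.subset_closure hx⟩ :
    ↥(Subgroup.closure S)) ⟨y, Subgroup.subset_closure hy⟩ from Subtype.ext h).map C.π)⟩
  by_contra hne
  set p : ↥(Subgroup.closure S) := ⟨x, Subgroup.subset_closure hx⟩
  set q : ↥(Subgroup.closure S) := ⟨y, Subgroup.subset_closure hy⟩
  have hp : p * p = 1 := Subtype.ext (sq_one C.tr.set hx)
  have hq : q * q = 1 := Subtype.ext (sq_one C.tr.set hy)
  have h2 : C.π (p * q * (p * q)) = 1 := by
    have h' : Commute (C.π p) (C.π q) := h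
    rw [map_mul, map_mul, h'.symm.mul_mul_mul_comm, ← map_mul, ← map_mul, hp, hq, map_one, one_mul]
  have h3 : (p * q) ^ 3 = 1 := Subtype.ext (pow_three_of_not_commute C.tr.set hx hy hne)
  have h4 : C.π (p * q) = 1 := by
    have := congrArg C.π h3
    rwa [pow_succ', pow_two, map_mul, h2, mul_one, map_one] at this
  have h6 : p * (p * q) = p * q * p := (C.ker _ h4 p).eq.symm
  rw [mul_assoc p q p] at h6
  exact hne (congrArg Subtype.val (mul_left_cancel h6) : x * y = y * x)

theorem inj {x y : G} (hx : x ∈ S) (hy : y ∈ S) (e : C.img hx = C.img hy) : x = y := by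
  by_contra hne
  have hc : Commute x y := (C.comm_iff hx hy).1 (by rw [e])
  set p : ↥(Subgroup.closure S) := ⟨x, Subgroup.subset_closure hx⟩
  set q : ↥(Subgroup.closure S) := ⟨y, Subgroup.subset_closure hy⟩
  have hp : p * p = 1 := Subtype.ext (sq_one C.tr.set hx)
  have h1 : C.π (p * q) = 1 := by
    have e' : C.π p = C.π q := e
    rw [map_mul, ← e', ← map_mul, hp, map_one]
  obtain ⟨-, w, hw, hxw⟩ := C.act x hx
  exact hxw (commute_both C.tr.set hx hy hw hne hc
    (congrArg Subtype.val (C.ker _ h1 ⟨w, Subgroup.subset_closure hw⟩).eq.symm :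
      w * (x * y) = x * y * w)).1.symm

theorem dc_iff {b x : G} (hb : b ∈ S) (hx : x ∈ S) :
    C.img hx ∈ Dc C.E (C.img hb) ↔ x ∈ Dc S b :=
  ⟨fun h => ⟨hx, fun e => h.2.1 (C.img_congr hx hb e), (C.comm_iff hb hx).1 h.2.2⟩,
    fun h => ⟨C.img_mem hx, fun e => h.2.1 (C.inj hx hb e), (C.comm_iff hb hx).2 h.2.2⟩⟩

theorem dc2_iff {b g x : G} (hb : b ∈ S) (hg : g ∈ S) (hx : x ∈ S) :
    C.img hx ∈ Dc (Dc C.E (C.img hb)) (C.img hg) ↔ x ∈ Dc (Dc S b) g :=
  ⟨fun h => ⟨(C.dc_iff hb hx).1 h.1, fun e => h.2.1 (C.img_congr hx hg e),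
      (C.comm_iff hg hx).1 h.2.2⟩,
    fun h => ⟨(C.dc_iff hb hx).2 h.1, fun e => h.2.1 (C.inj hx hg e),
      (C.comm_iff hg hx).2 h.2.2⟩⟩

theorem twin_iff {b g c f : G} (hb : b ∈ S) (hg : g ∈ S) (hc : c ∈ S) (hf : f ∈ S) :
    Twin C.E (C.img hb) (C.img hg) (C.img hc) (C.img hf) ↔ Twin S b g c f := by
  refine and_congr (C.dc2_iff hb hg hf) (and_congr ?_ (and_congr (C.comm_iff hc hf) ?_))
  · exact not_congr ⟨C.inj hf hc, C.img_congr hf hc⟩
  · refine ⟨fun h x hx => ?_, fun h β hβ => ?_⟩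
    · rw [← C.comm_iff hx.1.1 hc, ← C.comm_iff hx.1.1 hf]
      exact h _ ((C.dc2_iff hb hg hx.1.1).2 hx)
    · obtain ⟨x, hx, rfl⟩ := C.lift β hβ.1.1
      change Commute (C.img hx) _ ↔ Commute (C.img hx) _
      rw [C.comm_iff hx hc, C.comm_iff hx hf]
      exact h x ((C.dc2_iff hb hg hx).1 hβ)

/-- The images of the members with a property. -/
theorem ncard_img (P : G → Prop) (P' : C.Q → Prop) (h : ∀ x (hx : x ∈ S), P' (C.img hx) ↔ P x) :
    {x | x ∈ S ∧ P x}.ncard = {β | β ∈ C.E ∧ P' β}.ncard := by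
  refine Set.ncard_congr (fun x hx => C.img hx.1) (fun x hx => ⟨C.img_mem hx.1, (h x hx.1).2 hx.2⟩)
    (fun x y hx hy e => C.inj hx.1 hy.1 e) fun β hβ => ?_
  obtain ⟨x, hx, rfl⟩ := C.lift β hβ.1
  exact ⟨x, ⟨hx, (h x hx).1 hβ.2⟩, rfl⟩

theorem ncard_eq : S.ncard = C.E.ncard := by
  simpa using C.ncard_img (fun _ => True) (fun _ => True) fun _ _ => Iff.rfl

/-- An element of the group generated centralising `S` maps to `1`. -/
theorem pi_eq_one (u : ↥(Subgroup.closure S)) (h : ∀ x ∈ S, Commute (u : G) x) : C.π u = 1 := by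
  have hc : C.π u ∈ Subgroup.center C.Q := by
    refine Subgroup.mem_center_iff.2 fun q => ?_
    obtain ⟨y, rfl⟩ := C.surj q
    have hle : Subgroup.closure S ≤ Subgroup.centralizer ({(u : G)} : Set G) :=
      (Subgroup.closure_le _).2 fun x hx =>
        Subgroup.mem_centralizer_singleton_iff.2 (h x hx).eq.symm
    rw [← map_mul, ← map_mul]
    exact congrArg C.π (Subtype.ext (Subgroup.mem_centralizer_singleton_iff.1 (hle y.2)))
  rwa [C.center, Subgroup.mem_bot] at hc

theorem pi_eq (u v : ↥(Subgroup.closure S)) (h : ∀ x ∈ S, Commute ((u : G)⁻¹ * v) x) :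
    C.π u = C.π v := by
  have := C.pi_eq_one (u⁻¹ * v) h
  rwa [map_mul, map_inv, inv_mul_eq_one] at this

/-- An element carried to a conjugation by `π y` differs from `y` by one centralising `S`. -/
theorem commute_of_img {t : G} (y : ↥(Subgroup.closure S)) {x : G} (hx : x ∈ S)
    (hx' : t * x * t⁻¹ ∈ S) (e : C.img hx' = C.π y * C.img hx * (C.π y)⁻¹) :
    Commute ((y : G)⁻¹ * t) x := by
  have h1 : t * x * t⁻¹ = (y : G) * x * (y : G)⁻¹ :=
    C.inj hx' (C.conj_mem y hx) (e.trans (C.img_pi y hx (C.conj_mem y hx)).symm)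
  refine (show (y : G)⁻¹ * t * x = x * ((y : G)⁻¹ * t) from mul_inv_eq_iff_eq_mul.1 ?_)
  rw [show (y : G)⁻¹ * t * x * ((y : G)⁻¹ * t)⁻¹ = (y : G)⁻¹ * (t * x * t⁻¹) * y by group, h1]
  group

/-- `φ` moves the images as conjugation by `t` moves the members. -/
def Induces (t : G) (φ : C.Q ≃* C.Q) : Prop :=
  ∀ x (hx : x ∈ S), ∃ hx' : t * x * t⁻¹ ∈ S, φ (C.img hx) = C.img hx'

theorem Induces.mul {C : Cover S} {t : G} {φ : C.Q ≃* C.Q} (h : C.Induces t φ)
    (y : ↥(Subgroup.closure S)) :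
    C.Induces ((y : G) * t) (φ.trans (MulAut.conj (C.π y))) := by
  intro x hx
  obtain ⟨hx', e⟩ := h x hx
  have h1 : (y : G) * t * x * ((y : G) * t)⁻¹ = (y : G) * (t * x * t⁻¹) * (y : G)⁻¹ := by group
  refine ⟨h1 ▸ C.conj_mem y hx', ?_⟩
  show C.π y * φ (C.img hx) * (C.π y)⁻¹ = _
  rw [e, ← C.img_pi y hx' (C.conj_mem y hx')]
  exact C.img_congr _ _ h1.symm

theorem fix_iff {t : G} {φ : C.Q ≃* C.Q} (h : C.Induces t φ) {x : G} (hx : x ∈ S) :
    φ (C.img hx) = C.img hx ↔ Commute x t := by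
  obtain ⟨hx', e⟩ := h x hx
  rw [e]
  refine ⟨fun h => ?_, fun h => C.img_congr hx' hx (by rw [← h.eq, mul_inv_cancel_right])⟩
  exact (show t * x = x * t from mul_inv_eq_iff_eq_mul.1 (C.inj hx' hx h)).symm

theorem sq_iff {t : G} {φ : C.Q ≃* C.Q} (h : C.Induces t φ) {x : G} (hx : x ∈ S) :
    φ (φ (C.img hx)) = C.img hx ↔ Commute (t * t) x := by
  obtain ⟨hx', e⟩ := h x hx
  obtain ⟨hx'', e'⟩ := h _ hx'
  rw [e, e']
  have e2 : t * (t * x * t⁻¹) * t⁻¹ = t * t * x * (t * t)⁻¹ := by group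
  refine ⟨fun h => ?_, fun h => C.img_congr hx'' hx (by rw [e2, h.eq, mul_inv_cancel_right])⟩
  exact (show t * t * x = x * (t * t) from mul_inv_eq_iff_eq_mul.1 (e2.symm.trans (C.inj hx'' hx h)))

/-- An element stabilising `S` induces an automorphism. -/
theorem exists_auto {t : G} (hc : Carries t S S) :
    ∃ φ : C.Q ≃* C.Q, Preserves C.E φ ∧ C.Induces t φ := by
  classical
  set T := Subgroup.closure S
  have himg : (MulAut.conj t).toMonoidHom '' S = S := by
    refine Set.Subset.antisymm ?_ fun y hy => ⟨_, hc.2 y hy, ?_⟩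
    · rintro _ ⟨x, hx, rfl⟩
      exact hc.1 x hx
    · show t * (t⁻¹ * y * t) * t⁻¹ = y
      group
  let χ : ↥T ≃* ↥T := ((MulAut.conj t).subgroupMap T).trans
    (MulEquiv.subgroupCongr ((MonoidHom.map_closure _ _).trans (congrArg Subgroup.closure himg)))
  have hker : Subgroup.center ↥T = C.π.ker := by
    refine le_antisymm (fun x hx => ?_) fun x hx => Subgroup.mem_center_iff.2 fun y =>
      (C.ker x hx y).symm
    rw [MonoidHom.mem_ker, ← Subgroup.mem_bot, ← C.center]
    refine Subgroup.mem_center_iff.2 fun q => ?_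
    obtain ⟨y, rfl⟩ := C.surj q
    rw [← map_mul, ← map_mul, Subgroup.mem_center_iff.1 hx y]
  let e : ↥T ⧸ Subgroup.center ↥T ≃* C.Q :=
    (QuotientGroup.quotientMulEquivOfEq hker).trans
      (QuotientGroup.quotientKerEquivOfSurjective C.π C.surj)
  have he : ∀ x, e (QuotientGroup.mk x) = C.π x := fun x => rfl
  let φ : C.Q ≃* C.Q := e.symm.trans ((centerQuotientCongr χ).trans e)
  have hφ : C.Induces t φ := fun x hx => by
    refine ⟨hc.1 x hx, ?_⟩
    show e (centerQuotientCongr χ (e.symm (C.π _))) = C.π _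
    rw [← he, e.symm_apply_apply, ← he]
    rfl
  refine ⟨φ, fun β => ⟨fun h => ?_, fun h => ?_⟩, hφ⟩
  · obtain ⟨y, hy, e⟩ := C.lift _ h
    obtain ⟨hx', e'⟩ := hφ _ (hc.2 y hy)
    rw [C.img_congr hx' hy (by group)] at e'
    rw [← φ.injective (e'.trans e)]
    exact C.img_mem _
  · obtain ⟨x, hx, rfl⟩ := C.lift β h
    obtain ⟨hx', e'⟩ := hφ x hx
    exact e' ▸ C.img_mem hx'

theorem tr_E : Tr C.E := tr_of_group C.grp

theorem act_E : AllActive C.E := allActive_of_center C.tr_E C.grp.2.2 C.center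

theorem involutory_of_sq {t : G} {φ : C.Q ≃* C.Q} (h : C.Induces t φ)
    (h2 : ∀ x ∈ S, Commute (t * t) x) : ∀ q, φ (φ q) = q := by
  intro q
  have hall : C.E ⊆ (MonoidHom.eqLocus (φ.trans φ).toMonoidHom (MonoidHom.id C.Q) : Set C.Q) :=
    fun β hβ => by
      obtain ⟨x, hx, rfl⟩ := C.lift β hβ
      exact (C.sq_iff h hx).2 (h2 x hx)
  exact ((Subgroup.closure_le _).2 hall) (C.grp.2.2 ▸ Subgroup.mem_top q)

/-- A cover of a cover. -/
def sub {b : G} (hb : b ∈ S) (C' : Cover (Dc C.E (C.img hb))) : Cover (Dc S b) :=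
  have hmem : ∀ x : ↥(Subgroup.closure (Dc S b)),
      C.π (Subgroup.inclusion (Subgroup.closure_mono (Dc_subset b)) x) ∈
        Subgroup.closure (Dc C.E (C.img hb)) := by
    intro x
    have hle : Subgroup.closure (Dc S b) ≤
        ((Subgroup.closure (Dc C.E (C.img hb))).comap C.π).map (Subgroup.closure S).subtype :=
      (Subgroup.closure_le _).2 fun y hy =>
        ⟨⟨y, Subgroup.subset_closure hy.1⟩,
          Subgroup.subset_closure ((C.dc_iff hb hy.1).2 hy), rfl⟩
    obtain ⟨y, hy, e⟩ := hle x.2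
    rwa [show Subgroup.inclusion (Subgroup.closure_mono (Dc_subset b)) x = y from
      Subtype.ext e.symm]
  let κ : ↥(Subgroup.closure (Dc S b)) →* ↥(Subgroup.closure (Dc C.E (C.img hb))) :=
    (C.π.comp (Subgroup.inclusion (Subgroup.closure_mono (Dc_subset b)))).codRestrict _ hmem
  { Q := C'.Q
    E := C'.E
    π := C'.π.comp κ
    surj := C'.surj.comp (by
      intro q
      have hle : Subgroup.closure (Dc C.E (C.img hb)) ≤
          κ.range.map (Subgroup.closure (Dc C.E (C.img hb))).subtype := by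
        refine (Subgroup.closure_le _).2 fun β hβ => ?_
        obtain ⟨x, hx, rfl⟩ := C.lift β hβ.1
        exact ⟨_, ⟨⟨x, Subgroup.subset_closure ((C.dc_iff hb hx).1 hβ)⟩, rfl⟩, rfl⟩
      obtain ⟨r, ⟨x, rfl⟩, e⟩ := hle q.2
      exact ⟨x, Subtype.ext e⟩)
    ker := fun x hx y => by
      let v : ↥(Subgroup.closure S) := Subgroup.inclusion (Subgroup.closure_mono (Dc_subset b)) x
      have hcomm : ∀ z ∈ Dc S b, Commute (x : G) z := fun z hz => by
        have hz' : (v : G) * z * (v : G)⁻¹ ∈ S := C.conj_mem v hz.1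
        have h := congrArg Subtype.val
          (C'.ker _ hx ⟨C.img hz.1, Subgroup.subset_closure ((C.dc_iff hb hz.1).2 hz)⟩).eq
        refine (show (x : G) * z = z * x from mul_inv_eq_iff_eq_mul.1 (C.inj hz' hz.1 ?_))
        exact (C.img_pi v hz.1 hz').trans (mul_inv_eq_iff_eq_mul.2 h)
      have hle : Subgroup.closure (Dc S b) ≤ Subgroup.centralizer ({(x : G)} : Set G) :=
        (Subgroup.closure_le _).2 fun z hz =>
          Subgroup.mem_centralizer_singleton_iff.2 (hcomm z hz).eq.symm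
      exact Subtype.ext (Subgroup.mem_centralizer_singleton_iff.1 (hle y.2)).symm
    grp := C'.grp
    center := C'.center
    map_mem := fun x hx => C'.map_mem _ ((C.dc_iff hb hx.1).2 hx)
    lift := fun β hβ => by
      obtain ⟨γ, hγ, rfl⟩ := C'.lift β hβ
      obtain ⟨x, hx, rfl⟩ := C.lift γ hγ.1
      exact ⟨x, (C.dc_iff hb hx).1 hγ, rfl⟩
    tr := C.tr.dc hb
    act := fun x hx => by
      obtain ⟨-, β, hβ, hxβ⟩ := C'.act _ ((C.dc_iff hb hx.1).2 hx)
      obtain ⟨y, hy, rfl⟩ := C.lift β hβ.1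
      exact ⟨hx, y, (C.dc_iff hb hy).1 hβ, fun h => hxβ ((C.comm_iff hx.1 hy).2 h)⟩ }

/-- The cover of a conjugate set. -/
def conj (g : G) {S' : Set G} (hc : Carries g S S') (htr : Tr S') : Cover S' :=
  have hle : ∀ x ∈ Subgroup.closure S', g⁻¹ * x * g ∈ Subgroup.closure S := by
    intro x hx
    have hle' : Subgroup.closure S' ≤ (Subgroup.closure S).comap (MulAut.conj g⁻¹).toMonoidHom :=
      (Subgroup.closure_le _).2 fun y hy => by
        show g⁻¹ * y * g⁻¹⁻¹ ∈ Subgroup.closure S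
        rw [inv_inv]
        exact Subgroup.subset_closure (hc.2 y hy)
    simpa using hle' hx
  let κ : ↥(Subgroup.closure S') →* ↥(Subgroup.closure S) :=
    { toFun := fun x => ⟨g⁻¹ * x * g, hle x x.2⟩
      map_one' := Subtype.ext (by simp)
      map_mul' := fun x y => Subtype.ext (by simp [mul_assoc]) }
  { Q := C.Q
    E := C.E
    π := C.π.comp κ
    surj := C.surj.comp fun y => by
      refine ⟨⟨g * y * g⁻¹, ?_⟩, Subtype.ext (by simp [κ, mul_assoc])⟩
      have hle' : Subgroup.closure S ≤ (Subgroup.closure S').comap (MulAut.conj g).toMonoidHom :=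
        (Subgroup.closure_le _).2 fun z hz => Subgroup.subset_closure (hc.1 z hz)
      exact hle' y.2
    ker := fun x hx y => by
      have := congrArg Subtype.val (C.ker (κ x) hx (κ y)).eq
      refine Subtype.ext ((commute_conj_iff g⁻¹).1 ?_)
      simpa [Commute, SemiconjBy, κ] using this
    grp := C.grp
    center := C.center
    map_mem := fun x hx => C.map_mem (g⁻¹ * x * g) (hc.2 x hx)
    lift := fun β hβ => by
      obtain ⟨x, hx, e⟩ := C.lift β hβ
      refine ⟨g * x * g⁻¹, hc.1 x hx, ?_⟩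
      rw [← e]
      exact congrArg C.π (Subtype.ext (by simp [κ, mul_assoc]))
    tr := htr
    act := fun x hx => by
      obtain ⟨-, y, hy, hxy⟩ := C.act _ (hc.2 x hx)
      refine ⟨hx, g * y * g⁻¹, hc.1 y hy, fun h => hxy ((commute_conj_iff g).1 ?_)⟩
      rwa [show g * (g⁻¹ * x * g) * g⁻¹ = x by group] }

end Cover

end Cfsg.Agent.Transpos
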