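import Cfsg.Agent.Lib.Transpos.M24Chart

/-!
# Involutions in type M(24)

No involution induces a field automorphism at a commuting triple (`M24.not_field`: it would be an odd
permutation of `D`), so every involution is a product of at most four commuting members.
-/

set_option autoImplicit false

namespace Cfsg.Agent.Transpos

open Cfsg Cfsg.Agent.ClassicalSimple

universe u

variable {G : Type u} [Group G]

theorem dc_comm (A : Set G) (b c : G) : Dc (Dc A b) c = Dc (Dc A c) b :=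
  Set.ext fun _ => ⟨fun h => ⟨⟨h.1.1, h.2⟩, h.1.2⟩, fun h => ⟨⟨h.1.1, h.2⟩, h.1.2⟩⟩

/-- Members commuting with `s`: `b`, those commuting with `b`, the rest. -/
theorem ncard_fixed_at [Finite G] {A : Set G} {b s : G} (hb : b ∈ A) (hbs : Commute b s) :
    {x | x ∈ A ∧ Commute x s}.ncard = 1 + {x | x ∈ Dc A b ∧ Commute x s}.ncard +
      {x | x ∈ A ∧ (Commute x s ∧ ¬ Commute x b)}.ncard := by
  rw [← Set.ncard_inter_add_ncard_sdiff_eq_ncard {x | x ∈ A ∧ Commute x s} {x | Commute x b}]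
  congr 1
  · rw [show {x | x ∈ A ∧ Commute x s} ∩ {x | Commute x b} =
      insert b {x | x ∈ Dc A b ∧ Commute x s} by
        ext x
        constructor
        · rintro ⟨⟨hx, hs⟩, hc⟩
          by_cases h : x = b
          · exact Or.inl h
          · exact Or.inr ⟨⟨hx, h, (hc : Commute x b).symm⟩, hs⟩
        · rintro (rfl | ⟨hx, hs⟩)
          exacts [⟨⟨hb, hbs⟩, Commute.refl x⟩, ⟨⟨hx.1, hs⟩, hx.2.2.symm⟩],
      Set.ncard_insert_of_notMem fun h => h.1.2.1 rfl, add_comm]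
  · congr 1
    ext x
    exact and_assoc

/-- Modulo four only the members commuting with one of two commuting fixed members count. -/
theorem count_split_of [Finite G] {A : Set G} (hE : Tr A) {a b s : G} (ha : a ∈ A) (hb : b ∈ Dc A a)
    (hsa : Commute a s) (hsb : Commute b s) : {x | x ∈ A ∧ Commute x s}.ncard % 4 =
      (1 + {x | x ∈ Dc A a ∧ Commute x s}.ncard +
        {x | x ∈ Dc A b ∧ (Commute x s ∧ ¬ Commute x a)}.ncard) % 4 := by
  rw [ncard_fixed_at ha hsa]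
  set R := {x | x ∈ A ∧ (Commute x s ∧ ¬ Commute x a)}
  have h1 := Set.ncard_inter_add_ncard_sdiff_eq_ncard R {x | Commute x b}
  have e2 : R ∩ {x | Commute x b} = {x | x ∈ Dc A b ∧ (Commute x s ∧ ¬ Commute x a)} := by
    ext x
    constructor
    · rintro ⟨⟨hx, hxs, hxa⟩, hxb⟩
      exact ⟨⟨hx, fun h => hxa (h ▸ hb.2.2.symm), (hxb : Commute x b).symm⟩, hxs, hxa⟩
    · rintro ⟨hx, hxs, hxa⟩
      exact ⟨⟨hx.1, hxs, hxa⟩, hx.2.2.symm⟩
  have h4 : 4 ∣ (R \ {x | Commute x b}).ncard := by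
    have cc : ∀ {p u : G}, p ∈ A → Commute p u → ∀ {x}, (Commute (p * x * p) u ↔ Commute x u) :=
      fun {p u} hp hpu {x} => commute_conj_fix (sq_one hE.set hp) hpu
    refine four_dvd_off hE ha hb _ (fun x hx => hx.1.1) ?_ ?_ fun x hx => ⟨hx.1.2.2, hx.2⟩
    · exact fun x hx => ⟨⟨hE.conj a ha x hx.1.1, (cc ha hsa).2 hx.1.2.1,
        fun h => hx.1.2.2 ((cc ha (Commute.refl a)).1 h)⟩, fun h => hx.2 ((cc ha hb.2.2).1 h)⟩
    · exact fun x hx => ⟨⟨hE.conj b hb.1 x hx.1.1, (cc hb.1 hsb).2 hx.1.2.1,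
        fun h => hx.1.2.2 ((cc hb.1 hb.2.2.symm).1 h)⟩,
        fun h => hx.2 ((cc hb.1 (Commute.refl b)).1 h)⟩
  rw [e2] at h1
  omega

/-- The fixed members modulo four, from those one and two levels down. -/
theorem fixed_level [Finite G] {A : Set G} (hA : Tr A) {b c s : G} (hb : b ∈ A) (hc : c ∈ Dc A b)
    (hbs : Commute b s) (hcs : Commute c s)
    (h1 : 4 ∣ {x | x ∈ Dc A b ∧ Commute x s}.ncard) (h2 : 4 ∣ {x | x ∈ Dc A c ∧ Commute x s}.ncard)
    (h3 : ({x | x ∈ Dc (Dc A b) c ∧ Commute x s}.ncard + 1) % 4 = 0) :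
    {x | x ∈ A ∧ Commute x s}.ncard % 4 = 1 := by
  have e := count_split_of hA hb hc hbs hcs
  have e' := ncard_fixed_at (mem_dc_symm hb hc) hbs
  rw [dc_comm A c b] at e'
  omega

namespace Cover

/-- Covers with the same members commuting with a member show the same lines there. -/
theorem fieldAt_transfer {S S' : Set G} (C : Cover S) (C' : Cover S') {b b' : G} (hb : b ∈ S)
    (hb' : b' ∈ S') (hset : Dc S b = Dc S' b') {s : G} {φ : C.Q ≃* C.Q} (hφ : C.Induces s φ)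
    {φ' : C'.Q ≃* C'.Q} (hφ' : C'.Induces s φ') (hf : FieldAt C.E φ (C.img hb)) :
    FieldAt C'.E φ' (C'.img hb') := by
  obtain ⟨γ, hγ, hfγ, c, f₁, f₂, hc, h1, h2, hfc, hf1, hf2⟩ := hf
  obtain ⟨g, hg, rfl⟩ := C.lift γ hγ.1
  obtain ⟨c, hc', rfl⟩ := C.lift c hc.1.1
  obtain ⟨f₁, hf₁, rfl⟩ := C.lift f₁ h1.1.1.1
  obtain ⟨f₂, hf₂, rfl⟩ := C.lift f₂ h2.1.1.1
  change C.img hg ∈ _ at hγ
  change C.img hc' ∈ Dc (Dc C.E _) (C.img hg) at hc
  change Twin C.E _ (C.img hg) (C.img hc') (C.img hf₁) at h1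
  change Twin C.E _ (C.img hg) (C.img hc') (C.img hf₂) at h2
  have gm := (C.dc_iff hb hg).1 hγ
  have cm := (C.dc2_iff hb hg hc').1 hc
  have w1 := (C.twin_iff hb hg hc' hf₁).1 h1
  have w2 := (C.twin_iff hb hg hc' hf₂).1 h2
  rw [hset] at gm cm
  unfold Twin at w1 w2
  rw [hset] at w1 w2
  have fix : ∀ {x} (hx : x ∈ S) (hx' : x ∈ S'), φ (C.img hx) = C.img hx →
      φ' (C'.img hx') = C'.img hx' := fun hx hx' e => (C'.fix_iff hφ' hx').2 ((C.fix_iff hφ hx).1 e)
  refine ⟨C'.img gm.1, (C'.dc_iff hb' gm.1).2 gm, fix hg _ hfγ, C'.img cm.1.1, C'.img w1.1.1.1,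
    C'.img w2.1.1.1, (C'.dc2_iff hb' gm.1 cm.1.1).2 cm,
    (C'.twin_iff hb' gm.1 cm.1.1 w1.1.1.1).2 w1, (C'.twin_iff hb' gm.1 cm.1.1 w2.1.1.1).2 w2,
    fix hc' _ hfc, fix hf₁ _ hf1, fun e => ?_⟩
  exact hf2 ((C.fix_iff hφ hf₂).2 ((C'.fix_iff hφ' w2.1.1.1).1 e))

variable {S : Set G} (C : Cover S) (hC : M22 C.E) {s : G} {φ : C.Q ≃* C.Q}
  (hp : Preserves C.E φ) (hφ : C.Induces s φ) {c : G} (hc : c ∈ S) (hcs : Commute c s)
  (hf : FieldAt C.E φ (C.img hc))
include hC hp hφ hcs hf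

/-- With a line at `c`, the square centralises `S` once it does at `c`. -/
theorem field_commute (h2 : ∀ x ∈ Dc S c, Commute (s * s) x) : ∀ x ∈ S, Commute (s * s) x := by
  intro x hx
  refine (C.sq_iff hφ hx).1 (hC.field_sq hp (C.img_mem hc) ((C.fix_iff hφ hc).2 hcs) hf
    (fun β hβ => ?_) _)
  obtain ⟨y, hy, rfl⟩ := C.lift β hβ.1
  exact (C.sq_iff hφ hy).2 (h2 y ((C.dc_iff hc hy).1 hβ))

/-- The fixed members of a field automorphism modulo four. -/
theorem field_counts (h2 : ∀ x ∈ S, Commute (s * s) x) :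
    4 ∣ {x | x ∈ S ∧ Commute x s}.ncard ∧
      ({x | x ∈ Dc S c ∧ Commute x s}.ncard + 1) % 4 = 0 := by
  have hinv := C.involutory_of_sq hφ h2
  have hfc := (C.fix_iff hφ hc).2 hcs
  refine ⟨?_, ?_⟩
  · rw [C.ncard_img (fun x => Commute x s) (fun β => φ β = β) fun x hx => C.fix_iff hφ hx]
    exact hC.fixed_mod_four hp (C.img_mem hc) hfc hf hinv
  · rw [show {x | x ∈ Dc S c ∧ Commute x s} = {x | x ∈ S ∧ (x ∈ Dc S c ∧ Commute x s)} from
      Set.ext fun x => ⟨fun h => ⟨h.1.1, h⟩, fun h => h.2⟩,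
      C.ncard_img (fun x => x ∈ Dc S c ∧ Commute x s)
        (fun β => β ∈ Dc C.E (C.img hc) ∧ φ β = β)
        (fun x hx => by rw [C.dc_iff hc hx, C.fix_iff hφ hx]),
      show {β | β ∈ C.E ∧ (β ∈ Dc C.E (C.img hc) ∧ φ β = β)} =
        {β | β ∈ Dc C.E (C.img hc) ∧ φ β = β} from
      Set.ext fun β => ⟨fun h => h.2, fun h => ⟨h.1.1, h⟩⟩]
    exact hC.fixed_dc_mod_four hp (C.img_mem hc) hfc hf fun β _ => hinv β

end Cover

variable [Finite G] {D : Set G}

namespace M24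

variable (H : M24 D)
include H

theorem carries_dc₂ {t a b : G} (hta : Commute t a) (htb : Commute t b) :
    Carries t (Dc (Dc D a) b) (Dc (Dc D a) b) := by
  have := (H.carries_dc hta).dc b
  rwa [htb.eq, mul_inv_cancel_right] at this

theorem card_dc {a : G} (ha : a ∈ D) : (Dc D a).ncard % 4 = 3 := by
  obtain ⟨C, hC⟩ := H.chart a ha
  obtain ⟨-, β, hβ, -⟩ := hC.type
  obtain ⟨γ, hγ⟩ := hC.dc_nonempty hβ
  rw [C.ncard_eq]
  exact hC.card_mod_four hβ hγ

theorem card_dc₂ {a b : G} (ha : a ∈ D) (hb : b ∈ Dc D a) : (Dc (Dc D a) b).ncard % 4 = 2 := by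
  obtain ⟨C, hC⟩ := H.chart₂ ha hb
  obtain ⟨x, hx⟩ := H.dc₂_nonempty ha hb
  haveI : Nonempty C.E := ⟨⟨_, C.img_mem hx⟩⟩
  rw [C.ncard_eq]
  exact hC.card_mod_four

/-- `|D| ≡ 0 mod 4`, and so are the members not commuting with one. -/
theorem card_mod_four {a : G} (ha : a ∈ D) :
    D.ncard % 4 = 0 ∧ 4 ∣ {x | x ∈ D ∧ ¬ Commute x a}.ncard := by
  obtain ⟨b, hb⟩ := H.dc_nonempty ha
  have one : ∀ A : Set G, {x | x ∈ A ∧ Commute x (1 : G)} = A := fun A =>
    Set.ext fun x => and_iff_left (Commute.one_right x)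
  have h := count_split_of H.tr ha hb (Commute.one_right a) (Commute.one_right b)
  have h' := ncard_fixed_at (mem_dc_symm ha hb) (Commute.one_right a)
  have h'' := ncard_fixed_at ha (Commute.one_right a)
  rw [one, one] at h h' h''
  rw [dc_comm D b a] at h'
  have := H.card_dc ha
  have := H.card_dc hb.1
  have := H.card_dc₂ ha hb
  have e : {x | x ∈ D ∧ (Commute x (1 : G) ∧ ¬ Commute x a)} = {x | x ∈ D ∧ ¬ Commute x a} :=
    Set.ext fun x => and_congr_right fun _ => and_iff_right (Commute.one_right x)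
  rw [e] at h''
  refine ⟨by omega, ?_⟩
  omega

/-- An involution fixing `2 mod 4` members would be an odd permutation; there is none. -/
theorem false_of_fixed_two [Nonempty D] {s : G} (hs : s * s = 1)
    (hF : {x | x ∈ D ∧ Commute x s}.ncard % 4 = 2) : False := by
  classical
  have := Fintype.ofFinite ↥D
  let ρ : G →* Equiv.Perm ↥D :=
    { toFun := fun g =>
        { toFun := fun x => ⟨g * x * g⁻¹, H.conj_mem g x.2⟩
          invFun := fun x => ⟨g⁻¹ * x * g, (stab_of_normal H.grp g x x.2).2⟩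
          left_inv := fun x => Subtype.ext (by simp [mul_assoc])
          right_inv := fun x => Subtype.ext (by simp [mul_assoc]) }
      map_one' := Equiv.ext fun x => Subtype.ext (by simp)
      map_mul' := fun g k => Equiv.ext fun x => Subtype.ext (by simp [mul_assoc]) }
  have hsgn : ∀ t : G, t * t = 1 → Equiv.Perm.sign (ρ t) =
      (-1) ^ ((D.ncard - {x | x ∈ D ∧ Commute x t}.ncard) / 2) := by
    intro t ht
    have hsq : ρ t ^ 2 = 1 := by rw [← map_pow, pow_two, ht, map_one]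
    have hfix : Fintype.card (Function.fixedPoints (ρ t)) =
        {x | x ∈ D ∧ Commute x t}.ncard := by
      rw [← Nat.card_eq_fintype_card, ← Nat.card_coe_set_eq {x | x ∈ D ∧ Commute x t}]
      exact Nat.card_congr
        { toFun := fun x => ⟨x.1.1, x.1.2,
            (show t * x.1.1 = x.1.1 * t from mul_inv_eq_iff_eq_mul.1 (congrArg Subtype.val x.2)).symm⟩
          invFun := fun x => ⟨⟨x.1, x.2.1⟩, Subtype.ext (by
            show t * x.1 * t⁻¹ = x.1
            rw [← x.2.2.eq, mul_inv_cancel_right])⟩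
          left_inv := fun x => Subtype.ext (Subtype.ext rfl)
          right_inv := fun x => Subtype.ext rfl }
    rw [Equiv.Perm.sign_of_pow_two_eq_one hsq, hfix, ← Nat.card_eq_fintype_card, Nat.card_coe_set_eq]
  have hmem : ∀ x ∈ D, Equiv.Perm.sign (ρ x) = 1 := by
    intro x hx
    rw [hsgn x (sq_one H.grp.1 hx)]
    obtain ⟨h0, k, hk⟩ := H.card_mod_four hx
    have h := Set.ncard_inter_add_ncard_sdiff_eq_ncard D {y | Commute y x}
    have e1 : D ∩ {y | Commute y x} = {y | y ∈ D ∧ Commute y x} := rfl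
    have e2 : D \ {y | Commute y x} = {y | y ∈ D ∧ ¬ Commute y x} := rfl
    rw [e1, e2] at h
    rw [show (D.ncard - {y | y ∈ D ∧ Commute y x}.ncard) / 2 = 2 * k by omega, pow_mul, neg_one_sq,
      one_pow]
  have hall : D ⊆ ((Equiv.Perm.sign.comp ρ).ker : Set G) := fun x hx => hmem x hx
  have h1 : Equiv.Perm.sign (ρ s) = 1 :=
    ((Subgroup.closure_le _).2 hall) (H.grp.2.2 ▸ Subgroup.mem_top s)
  obtain ⟨⟨a, ha⟩⟩ := ‹Nonempty D›
  have h0 := (H.card_mod_four ha).1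
  have hle : {x | x ∈ D ∧ Commute x s}.ncard ≤ D.ncard :=
    Set.ncard_le_ncard (fun x hx => hx.1) (Set.toFinite _)
  obtain ⟨m, hm⟩ : ∃ m, (D.ncard - {x | x ∈ D ∧ Commute x s}.ncard) / 2 = 2 * m + 1 :=
    ⟨(D.ncard - {x | x ∈ D ∧ Commute x s}.ncard) / 4, by omega⟩
  rw [hsgn s hs, hm, pow_succ, pow_mul, neg_one_sq, one_pow, one_mul] at h1
  exact absurd h1 (by decide)

/-- No field automorphism at a commuting triple comes from the group. -/
theorem not_field [Nonempty D] {e b c s : G} (he : e ∈ D) (hb : b ∈ Dc D e)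
    (hc : c ∈ Dc (Dc D e) b) (hse : Commute s e) (hsb : Commute s b) (hsc : Commute s c)
    (C : Cover (Dc (Dc D e) b)) (hC : M22 C.E) {φ : C.Q ≃* C.Q} (hp : Preserves C.E φ)
    (hφ : C.Induces s φ) (hf : FieldAt C.E φ (C.img hc))
    (h2 : ∀ x ∈ Dc (Dc (Dc D e) b) c, Commute (s * s) x) : False := by
  have hbc : c ∈ Dc D b := ⟨hc.1.1, hc.2⟩
  have hec := mem_dc_symm hb hc
  have hbe := mem_dc_symm he hb
  have hebc : e ∈ Dc (Dc D b) c := ⟨hbe, hc.1.2.1.symm, hc.1.2.2.symm⟩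
  have sC := C.field_commute hC hp hφ hc hsc.symm hf h2
  -- the other two pairs
  obtain ⟨C₁, hC₁⟩ := H.chart₂ he hc.1
  obtain ⟨φ₁, hp₁, hφ₁⟩ := C₁.exists_auto (H.carries_dc₂ hse hsc)
  have hset₁ : Dc (Dc (Dc D e) b) c = Dc (Dc (Dc D e) c) b := dc_comm _ b c
  have hf₁ := C.fieldAt_transfer C₁ hc hec hset₁ hφ hφ₁ hf
  have sC₁ := C₁.field_commute hC₁ hp₁ hφ₁ hec hsb.symm hf₁ fun x hx =>
    sC x (hset₁ ▸ hx : x ∈ Dc (Dc (Dc D e) b) c).1
  obtain ⟨C₂, hC₂⟩ := H.chart₂ hb.1 hbc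
  obtain ⟨φ₂, hp₂, hφ₂⟩ := C₂.exists_auto (H.carries_dc₂ hsb hsc)
  have hset₂ : Dc (Dc (Dc D e) b) c = Dc (Dc (Dc D b) c) e := by
    rw [dc_comm D e b, dc_comm (Dc D b) e c]
  have hf₂ := C.fieldAt_transfer C₂ hc hebc hset₂ hφ hφ₂ hf
  have sC₂ := C₂.field_commute hC₂ hp₂ hφ₂ hebc hse.symm hf₂ fun x hx =>
    sC x (hset₂ ▸ hx : x ∈ Dc (Dc (Dc D e) b) c).1
  have hs : s * s = 1 := by
    rcases H.mem_pair he hb (hse.mul_left hse) (hsb.mul_left hsb) sC with h | h | h | h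
    · exact h
    · exfalso
      obtain ⟨-, y, hy, hey⟩ := C₂.act e hebc
      exact hey (h ▸ sC₂ y hy)
    · exfalso
      obtain ⟨-, y, hy, hby⟩ := C₁.act b hec
      exact hby (h ▸ sC₁ y hy)
    · exfalso
      obtain ⟨-, y, hy, hby⟩ := C₁.act b hec
      have h' : Commute (b * e * e) y := (h ▸ sC₁ y hy : Commute (b * e) y).mul_left hy.1.2.2
      rw [mul_assoc, sq_one H.grp.1 he, mul_one] at h'
      exact hby h'
  -- counting
  obtain ⟨k1, k3⟩ := C.field_counts hC hp hφ hc hsc.symm hf sC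
  obtain ⟨k2, -⟩ := C₁.field_counts hC₁ hp₁ hφ₁ hec hsb.symm hf₁ sC₁
  obtain ⟨k2', -⟩ := C₂.field_counts hC₂ hp₂ hφ₂ hebc hse.symm hf₂ sC₂
  have he' := fixed_level (H.tr.dc he) hb hc hsb.symm hsc.symm k1 k2 k3
  have hb' := fixed_level (H.tr.dc hb.1) hbe (show c ∈ Dc (Dc D b) e from dc_dc_symm hc)
    hse.symm hsc.symm (by rwa [dc_comm D b e]) k2' (by rwa [dc_comm D b e])
  have h := count_split_of H.tr he hb hse.symm hsb.symm
  have h' := ncard_fixed_at hbe hse.symm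
  rw [dc_comm D b e] at h'
  refine H.false_of_fixed_two hs ?_
  omega

/-- An element fixing a commuting triple acts on the cover of the pair as an element of it. -/
theorem exists_inner [Nonempty D] {e b c t : G} (he : e ∈ D) (hb : b ∈ Dc D e)
    (hc : c ∈ Dc (Dc D e) b) (hte : Commute t e) (htb : Commute t b) (htc : Commute t c)
    (C : Cover (Dc (Dc D e) b)) (hC : M22 C.E) {φ : C.Q ≃* C.Q} (hp : Preserves C.E φ)
    (hφ : C.Induces t φ) : ∃ y : C.Q, ∀ g, φ g = y * g * y⁻¹ := by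
  classical
  have hfc : φ (C.img hc) = C.img hc := (C.fix_iff hφ hc).2 htc.symm
  obtain ⟨M⟩ := (hC.model _ (C.img_mem hc)).2
  obtain ⟨Ψ, τ, hΨ, hact⟩ := M.exists_semi hC (C.img_mem hc) hp hfc
  rcases U6.aut_eq M.c τ with hid | hσ
  · obtain ⟨z, -, e⟩ := hC.inner_of_linear (C.img_mem hc) M hp hfc
      (Ψ := Ψ) ⟨hΨ.add, fun m v => by rw [hΨ.smul, hid, id], fun v w => by rw [hΨ.form, hid, id]⟩
      hact
    exact ⟨z, e⟩
  · exfalso
    obtain ⟨z, hz, hzc, hf, h2⟩ := hC.exists_adjust hp (C.img_mem hc) hfc M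
      (Ψ := Ψ) ⟨hΨ.add, fun m v => by rw [hΨ.smul, hσ], fun v w => by rw [hΨ.form, hσ]⟩ hact
    obtain ⟨z, rfl⟩ := C.surj z
    have hzm : ∀ {u : G}, (∀ x ∈ Dc (Dc D e) b, Commute x u) → Commute (z : G) u := fun {u} hu =>
      Subgroup.mem_centralizer_singleton_iff.1 ((Subgroup.closure_le _).2
        (fun x hx => Subgroup.mem_centralizer_singleton_iff.2 (hu x hx).eq) z.2)
    have hze := hzm fun x hx => hx.1.2.2.symm
    have hzb := hzm fun x hx => hx.2.2.symm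
    have hzc' : Commute (z : G) c := mul_inv_eq_iff_eq_mul.1
      (C.inj (C.conj_mem z hc) hc ((C.img_pi z hc (C.conj_mem z hc)).trans hzc))
    refine H.not_field he hb hc (hze.mul_left hte) (hzb.mul_left htb) (hzc'.mul_left htc) C hC
      (hp.trans (preserves_conj hC.grp _)) (hφ.mul z) hf fun x hx => ?_
    exact (C.sq_iff (hφ.mul z) hx.1).1 (h2 _ ((C.dc_iff hc hx.1).2 hx))

end M24

namespace Cover

variable {S : Set G} (C : Cover S)

include C in
theorem list_prod_mem {L : List G} (hL : ∀ x ∈ L, x ∈ S) : L.prod ∈ Subgroup.closure S :=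
  _root_.list_prod_mem fun x hx => Subgroup.subset_closure (hL x hx)

/-- The images of a list of members. -/
theorem exists_img_list : ∀ (L : List G) (hL : ∀ x ∈ L, x ∈ S), ∃ l : List C.Q,
    (∀ β ∈ l, ∃ x ∈ L, ∃ hx : x ∈ S, C.img hx = β) ∧
      C.π ⟨L.prod, C.list_prod_mem hL⟩ = l.prod
  | [], _ => ⟨[], by simp, (map_one C.π : _)⟩
  | x :: L, hL => by
    obtain ⟨l, hl, e⟩ := exists_img_list L fun y hy => hL y (List.mem_cons_of_mem _ hy)
    have hx : x ∈ S := hL x List.mem_cons_self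
    refine ⟨C.img hx :: l, fun β hβ => ?_, ?_⟩
    · rcases List.mem_cons.1 hβ with rfl | hβ
      · exact ⟨x, List.mem_cons_self, hx, rfl⟩
      · obtain ⟨y, hy, h⟩ := hl β hβ
        exact ⟨y, List.mem_cons_of_mem _ hy, h⟩
    · refine ((congrArg C.π (Subtype.ext List.prod_cons)).trans
        (map_mul C.π ⟨x, Subgroup.subset_closure hx⟩
          ⟨L.prod, C.list_prod_mem fun y hy => hL y (by simp [hy])⟩)).trans ?_
      rw [e, List.prod_cons]
      rfl

/-- Members with a list of images. -/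
theorem exists_lift_list : ∀ (l : List C.Q), (∀ β ∈ l, β ∈ C.E) → ∃ L : List G, ∃ hL : ∀ x ∈ L, x ∈ S,
    (∀ x (hx : x ∈ L), C.img (hL x hx) ∈ l) ∧ L.length = l.length ∧ (l.Nodup → L.Nodup) ∧
      C.π ⟨L.prod, C.list_prod_mem hL⟩ = l.prod
  | [], _ => ⟨[], by simp, by simp, rfl, fun _ => List.nodup_nil, (map_one C.π : _)⟩
  | β :: l, h => by
    obtain ⟨L, hL, hmem, hlen, hnd, e⟩ := exists_lift_list l fun γ hγ => h γ (List.mem_cons_of_mem _ hγ)
    obtain ⟨x, hx, rfl⟩ := C.lift β (h β List.mem_cons_self)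
    refine ⟨x :: L, fun y hy => (List.mem_cons.1 hy).elim (fun e => e ▸ hx) (hL y), fun y hy => ?_,
      by simp [hlen], fun hn => ?_, ?_⟩
    · rcases List.mem_cons.1 hy with rfl | hy'
      · exact List.mem_cons_self
      · exact List.mem_cons_of_mem _ (hmem y hy')
    · rw [List.nodup_cons] at hn ⊢
      exact ⟨fun h' => hn.1 (hmem x h'), hnd hn.2⟩
    · refine ((congrArg C.π (Subtype.ext List.prod_cons)).trans
        (map_mul C.π ⟨x, Subgroup.subset_closure hx⟩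
          ⟨L.prod, C.list_prod_mem fun y hy => hL y (by simp [hy])⟩)).trans ?_
      rw [e, List.prod_cons]

/-- A lifted product differs from the element by one centralising `S`. -/
theorem commute_of_list {t : G} (y : C.Q) {φ : C.Q ≃* C.Q} (hφ : C.Induces t φ)
    (hy : ∀ g, φ g = y * g * y⁻¹) {L : List G} (hL : ∀ x ∈ L, x ∈ S)
    (e : C.π ⟨L.prod, C.list_prod_mem hL⟩ = y) : ∀ x ∈ S, Commute (L.prod⁻¹ * t) x := fun x hx => by
  obtain ⟨hx', e'⟩ := hφ x hx
  exact C.commute_of_img ⟨L.prod, C.list_prod_mem hL⟩ hx hx' (e'.symm.trans (by rw [hy, e]))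

end Cover

namespace M24

variable (H : M24 D)
include H

/-- An involution is a product of commuting members at a fixed member `e`, up to `e`. -/
theorem exists_list [Nonempty D] {e t : G} (he : e ∈ D) (ht : t * t = 1) (hte : Commute t e) :
    ∃ L : List G, (∀ x ∈ L, x ∈ Dc D e) ∧ (∀ x ∈ L, ∀ y ∈ L, Commute x y) ∧
      (L.prod⁻¹ * t = 1 ∨ L.prod⁻¹ * t = e) := by
  obtain ⟨b, hb, htb⟩ : ∃ b ∈ Dc D e, Commute t b := by
    by_contra hno
    push Not at hno
    obtain ⟨C, hC⟩ := H.chart e he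
    refine Nat.not_even_iff_odd.2 (C.ncard_eq ▸ hC.odd_card)
      (even_of_invol (Set.toFinite _) (fun x => t * x * t⁻¹)
        fun x hx => ⟨(H.carries_dc hte).1 x hx, ?_, fun h => hno x hx ?_⟩)
    · rw [show t * (t * x * t⁻¹) * t⁻¹ = t * t * x * (t * t)⁻¹ by group, ht]; simp
    · exact mul_inv_eq_iff_eq_mul.1 h
  obtain ⟨C, hC⟩ := H.chart₂ he hb
  obtain ⟨φ, hp, hφ⟩ := C.exists_auto (H.carries_dc₂ hte htb)
  obtain ⟨x, hx⟩ := H.dc₂_nonempty he hb
  haveI : Nonempty C.E := ⟨⟨_, C.img_mem hx⟩⟩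
  have hinv := C.involutory_of_sq hφ fun y _ => by rw [ht]; exact Commute.one_left y
  obtain ⟨β, hβ, hfβ⟩ := hC.exists_fixed_of_involutory hp hinv
  obtain ⟨c, hc, rfl⟩ := C.lift β hβ
  obtain ⟨y, hy⟩ := H.exists_inner he hb hc hte htb ((C.fix_iff hφ hc).1 hfβ).symm C hC hp hφ
  have hy2 : y * y = 1 := by
    have hcen : y * y ∈ Subgroup.center C.Q := Subgroup.mem_center_iff.2 fun g => by
      have := hinv g
      rw [hy, hy] at this
      exact (mul_inv_eq_iff_eq_mul.1 (show y * y * g * (y * y)⁻¹ = g by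
        rw [← show y * (y * g * y⁻¹) * y⁻¹ = y * y * g * (y * y)⁻¹ by group]; exact this)).symm
    rwa [hC.center, Subgroup.mem_bot] at hcen
  obtain ⟨l, -, -, hlE, hlc, rfl⟩ := hC.full'.short y hy2
  obtain ⟨L, hL, hmem, -, -, hprod⟩ := C.exists_lift_list l hlE
  have hLc : ∀ x ∈ L, ∀ z ∈ L, Commute x z := fun x hx z hz =>
    (C.comm_iff (hL x hx) (hL z hz)).1 (hlc _ (hmem x hx) _ (hmem z hz))
  have hLu : ∀ {u : G}, (∀ x ∈ Dc (Dc D e) b, Commute u x) → Commute u L.prod := fun {u} hu =>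
    Commute.list_prod_right _ _ fun x hx => hu x (hL x hx)
  have hLe : Commute e L.prod := hLu fun x hx => hx.1.2.2
  have hLb : Commute b L.prod := hLu fun x hx => hx.2.2
  have hw := H.mem_pair he hb (hLe.symm.inv_left.mul_left hte) (hLb.symm.inv_left.mul_left htb)
    (C.commute_of_list _ hφ hy hL hprod)
  have hb2 := sq_one H.grp.1 hb.1
  have hL' : ∀ x ∈ b :: L, x ∈ Dc D e := fun x hx =>
    (List.mem_cons.1 hx).elim (fun h => h ▸ hb) fun h => (hL x h).1
  have hLc' : ∀ x ∈ b :: L, ∀ z ∈ b :: L, Commute x z := fun x hx z hz => by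
    rcases List.mem_cons.1 hx with h1 | h1 <;> rcases List.mem_cons.1 hz with h2 | h2
    exacts [h1 ▸ h2 ▸ Commute.refl _, h1 ▸ (hL z h2).2.2, h2 ▸ (hL x h1).2.2.symm, hLc x h1 z h2]
  have key : ∀ w, L.prod⁻¹ * t = b * w → (b :: L).prod⁻¹ * t = w := fun w h => by
    rw [List.prod_cons, hLb.eq, mul_inv_rev, inv_eq H.grp.1 hb.1, mul_assoc, h,
      ← mul_assoc, hb2, one_mul]
  rcases hw with h | h | h | h
  · exact ⟨L, fun x hx => (hL x hx).1, hLc, Or.inl h⟩
  · exact ⟨L, fun x hx => (hL x hx).1, hLc, Or.inr h⟩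
  · exact ⟨b :: L, hL', hLc', Or.inl (key 1 (by rw [h, mul_one]))⟩
  · exact ⟨b :: L, hL', hLc', Or.inr (key e h)⟩

/-- Every involution is a product of at most four distinct commuting members. -/
theorem short_invol [Nonempty D] {t : G} (ht : t * t = 1) :
    ∃ l : List G, l.Nodup ∧ l.length ≤ 4 ∧ (∀ x ∈ l, x ∈ D) ∧ (∀ x ∈ l, ∀ y ∈ l, Commute x y) ∧
      l.prod = t := by
  obtain ⟨e, he, hte⟩ := H.exists_fixed ht
  obtain ⟨L, hL, hLc, hw⟩ := H.exists_list he ht hte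
  obtain ⟨C, hC⟩ := H.chart e he
  obtain ⟨m, hm, hmp⟩ := C.exists_img_list L hL
  obtain ⟨l, hnd, hlen, hlE, hlc, hlp⟩ := hC.exists_short hC.charts m
    (fun β hβ => by obtain ⟨x, -, hx, rfl⟩ := hm β hβ; exact C.img_mem hx)
    (fun β hβ γ hγ => by
      obtain ⟨x, hx, hx', rfl⟩ := hm β hβ
      obtain ⟨y, hy, hy', rfl⟩ := hm γ hγ
      exact (C.comm_iff hx' hy').2 (hLc x hx y hy))
  obtain ⟨K, hK, hmem, hKlen, hKnd, hKp⟩ := C.exists_lift_list l hlE
  have hKc : ∀ x ∈ K, ∀ z ∈ K, Commute x z := fun x hx z hz =>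
    (C.comm_iff (hK x hx) (hK z hz)).1 (hlc _ (hmem x hx) _ (hmem z hz))
  have heK : Commute e K.prod := Commute.list_prod_right _ _ fun x hx => (hK x hx).2.2
  have hv : ∀ x ∈ Dc D e, Commute (K.prod⁻¹ * t) x := by
    intro x hx
    have h1 : C.π (⟨K.prod, C.list_prod_mem hK⟩⁻¹ * ⟨L.prod, C.list_prod_mem hL⟩) = 1 := by
      rw [map_mul, map_inv, hKp, hmp, hlp, inv_mul_cancel]
    have h2 : Commute (K.prod⁻¹ * L.prod) x :=
      congrArg Subtype.val (C.ker _ h1 ⟨x, Subgroup.subset_closure hx⟩).eq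
    have h3 : Commute (L.prod⁻¹ * t) x := by
      rcases hw with h | h <;> rw [h]
      exacts [Commute.one_left x, hx.2.2]
    have := h2.mul_left h3
    rwa [mul_assoc, mul_inv_cancel_left] at this
  rcases H.eq_one_or_eq he (heK.symm.inv_left.mul_left hte) hv with h | h
  · exact ⟨K, hKnd hnd, by omega, fun x hx => (hK x hx).1, hKc, inv_mul_eq_one.1 h⟩
  · refine ⟨e :: K, List.nodup_cons.2 ⟨fun h' => (hK e h').2.1 rfl, hKnd hnd⟩,
      by simp only [List.length_cons]; omega,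
      fun x hx => (List.mem_cons.1 hx).elim (fun h => h ▸ he) fun h => (hK x h).1,
      fun x hx z hz => ?_, ?_⟩
    · rcases List.mem_cons.1 hx with h1 | h1 <;> rcases List.mem_cons.1 hz with h2 | h2
      exacts [h1 ▸ h2 ▸ Commute.refl _, h1 ▸ (hK z h2).2.2, h2 ▸ (hK x h1).2.2.symm, hKc x h1 z h2]
    · rw [List.prod_cons, heK.eq, inv_mul_eq_iff_eq_mul.1 h]

end M24

end Cfsg.Agent.Transpos
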