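import Cfsg.Agent.Lib.Transpos.M24Third

/-!
# Closed sets of common members in type M(24)

`M24.equitable`: when `S` is closed under commuting inside the common members of non-commuting `a` and
`c`, a member commuting with `a` and not with `c` commutes with exactly a ninth of `S`.
-/

set_option autoImplicit false
set_option linter.style.haveILetI false
set_option linter.unusedSectionVars false

namespace Cfsg.Agent.Transpos

open Cfsg Cfsg.Agent.ClassicalSimple

universe u

variable {G : Type u} [Group G] {D : Set G}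

/-- `S` is closed under commuting inside `T`. -/
def ClosedIn (D T S : Set G) : Prop :=
  S ⊆ T ∧ ∀ b ∈ S, ∀ x ∈ T, x ∈ Dc D b → x ∈ S

theorem closedIn_self (T : Set G) : ClosedIn D T T := ⟨le_rfl, fun _ _ _ hx _ => hx⟩

theorem ClosedIn.sdiff {T S : Set G} (hT : T ⊆ D) (h : ClosedIn D T S) : ClosedIn D T (T \ S) :=
  ⟨Set.sdiff_subset, fun _ hb x hx hbx =>
    ⟨hx, fun hxS => hb.2 (h.2 x hxS _ hb.1 (mem_dc_symm (hT hb.1) hbx))⟩⟩

variable [Finite G]

namespace M24

variable (H : M24 D)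
include H

/-- Three pairwise commuting members have 693 common commuting members. -/
theorem ncard_three_adj {a b b' : G} (ha : a ∈ D) (hb : b ∈ Dc D a) (hb' : b' ∈ Dc D a)
    (hbb : b' ∈ Dc D b) : ((Dc D a ∩ Dc D b) ∩ Dc D b').ncard = 693 := by
  obtain ⟨C, hC⟩ := H.chart a ha
  rw [show (Dc D a ∩ Dc D b) ∩ Dc D b' = {x | x ∈ Dc D a ∧ x ∈ Dc D b ∩ Dc D b'} from
      Set.ext fun x => ⟨fun h => ⟨h.1.1, h.1.2, h.2⟩, fun h => ⟨⟨h.1, h.2.1⟩, h.2.2⟩⟩,
    C.ncard_img (fun x => x ∈ Dc D b ∩ Dc D b')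
      (fun β => β ∈ Dc C.E (C.img hb) ∩ Dc C.E (C.img hb'))
      fun x hx => C.img_common_iff hb hb' hx]
  rw [← hC.ncard_dc_dc (C.img_mem hb) ((C.dc_iff hb hb').2 ⟨hb', hbb.2.1, hbb.2.2⟩)]
  congr 1
  exact Set.ext fun β => ⟨fun h => h.2, fun h => ⟨h.1.1, h⟩⟩

variable (hprim : IsPrimitiveUnderConj D) (h24 : IsOfTypeM24 G D)
include hprim h24

/-- A member commuting with `a` and not with `c` commutes with a ninth of a closed set. -/
theorem equitable {a c : G} (ha : a ∈ D) (hc : c ∈ D) (hac : ¬ Commute a c) {S : Set G}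
    (hS : ClosedIn D (Dc D a ∩ Dc D c) S) {y : G} (hy : y ∈ Dc D a) (hyc : y ∉ Dc D c) :
    9 * (S ∩ Dc D y).ncard = S.ncard := by
  classical
  haveI : Fintype G := Fintype.ofFinite G
  have card_set : ∀ (p : G → Prop) [DecidablePred p] (X : Set G),
      (X.toFinset.filter p).card = {x | x ∈ X ∧ p x}.ncard := fun p _ X => by
    rw [← Set.ncard_coe_finset]
    congr 1
    ext x
    simp
  set A := (Dc D a).toFinset with hA
  set T := A.filter fun z => z ∈ Dc D c with hT
  set U := A.filter fun z => ¬ z ∈ Dc D c with hU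
  set Sf := S.toFinset with hSf
  have memS : ∀ {b}, b ∈ Sf ↔ b ∈ S := Set.mem_toFinset
  have split : ∀ (p : G → Prop) [DecidablePred p],
      (U.filter p).card + (T.filter p).card = (A.filter p).card := fun p _ => by
    have e1 : U.filter p = (A.filter p).filter fun z => ¬ z ∈ Dc D c := Finset.filter_comm _ _ _
    have e2 : T.filter p = (A.filter p).filter fun z => z ∈ Dc D c := Finset.filter_comm _ _ _
    rw [e1, e2, add_comm, Finset.card_filter_add_card_filter_not]
  have cA : ∀ (p : G → Prop) [DecidablePred p], (A.filter p).card = {x | x ∈ Dc D a ∧ p x}.ncard :=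
    fun p _ => card_set p _
  have cT : ∀ (p : G → Prop) [DecidablePred p],
      (T.filter p).card = {x | x ∈ Dc D a ∩ Dc D c ∧ p x}.ncard := fun p _ => by
    rw [hT, Finset.filter_filter, cA]
    congr 1
    exact Set.ext fun x => ⟨fun h => ⟨⟨h.1, h.2.1⟩, h.2.2⟩, fun h => ⟨h.1.1, h.1.2, h.2⟩⟩
  have hUcard : U.card = 28431 := by
    have h := split fun _ => True
    rw [cA, cT] at h
    simp only [Finset.filter_true, and_true, Set.ofPred_mem_eq] at h
    rw [H.ncard_dc ha, (H.pair_data hprim h24 ha hc hac).1] at h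
    omega
  have hTN : ∀ b ∈ S, (T.filter fun z => z ∈ Dc D b).card = 351 := fun b hb => by
    rw [cT]
    exact H.ncard_common_adj ha hc hac (hS.1 hb)
  have hSN : ∀ z ∈ S, (Sf.filter fun b => b ∈ Dc D z).card = 351 := fun z hz => by
    rw [card_set, ← H.ncard_common_adj ha hc hac (hS.1 hz)]
    congr 1
    exact Set.ext fun x => ⟨fun h => ⟨hS.1 h.1, h.2⟩, fun h => ⟨hS.2 z hz x h.1 h.2, h.2⟩⟩
  -- the first moment
  set ν : G → ℕ := fun z => (Sf.filter fun b => b ∈ Dc D z).card with hν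
  have hsym : ∀ {b z}, b ∈ S → z ∈ A → (b ∈ Dc D z ↔ z ∈ Dc D b) := fun hb hz =>
    ⟨fun h => mem_dc_symm (Set.mem_toFinset.1 hz).1 h, fun h => mem_dc_symm (hS.1 hb).1.1 h⟩
  have m1 : ∑ z ∈ U, ν z = Sf.card * 3159 := by
    rw [← smul_eq_mul, ← Finset.sum_const, hν]
    simp only [Finset.card_filter]
    rw [Finset.sum_comm]
    simp only [← Finset.card_filter]
    refine Finset.sum_congr rfl fun b hb => ?_
    have hb' := memS.1 hb
    rw [Finset.filter_congr fun z hz => hsym hb' (Finset.mem_filter.1 hz).1]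
    have h := split fun z => z ∈ Dc D b
    rw [hTN b hb', cA,
      show {x | x ∈ Dc D a ∧ x ∈ Dc D b}.ncard = 3510 from H.ncard_dc_dc ha (hS.1 hb').1] at h
    simp only [hU] at h
    omega
  -- the second moment
  have m2 : ∑ z ∈ U, ν z * ν z = Sf.card * (351 * Sf.card) := by
    rw [← smul_eq_mul (Sf.card), ← Finset.sum_const, hν]
    rw [Finset.sum_congr rfl (g := fun z =>
      ((Sf ×ˢ Sf).filter fun q => q.1 ∈ Dc D z ∧ q.2 ∈ Dc D z).card) fun z _ => by
        dsimp only
        rw [← Finset.card_product, Finset.filter_product (fun b => b ∈ Dc D z) (fun b => b ∈ Dc D z)]]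
    simp only [Finset.card_filter]
    rw [Finset.sum_comm, Finset.sum_product]
    simp only [← Finset.card_filter]
    refine Finset.sum_congr rfl fun b hb => ?_
    have hb' := memS.1 hb
    have e1 : ∀ b' ∈ Sf, (U.filter fun z => b ∈ Dc D z ∧ b' ∈ Dc D z).card +
        (T.filter fun z => z ∈ Dc D b ∧ z ∈ Dc D b').card =
        351 + (if b' = b then 3159 else 0) + (if b' ∈ Dc D b then 342 else 0) := fun b' hb'' => by
      have hs' := memS.1 hb''
      rw [Finset.filter_congr fun z hz => and_congr (hsym hb' (Finset.mem_filter.1 hz).1)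
        (hsym hs' (Finset.mem_filter.1 hz).1), split, cA]
      have e : {x | x ∈ Dc D a ∧ x ∈ Dc D b ∧ x ∈ Dc D b'} = (Dc D a ∩ Dc D b) ∩ Dc D b' :=
        Set.ext fun x => ⟨fun h => ⟨⟨h.1, h.2.1⟩, h.2.2⟩, fun h => ⟨h.1.1, h.1.2, h.2⟩⟩
      rw [e]
      by_cases hbe : b' = b
      · subst hbe
        rw [if_pos rfl, if_neg fun h => h.2.1 rfl, Set.inter_assoc, Set.inter_self,
          H.ncard_dc_dc ha (hS.1 hs').1]
      · rw [if_neg hbe]
        by_cases hcomm : b' ∈ Dc D b
        · rw [if_pos hcomm, H.ncard_three_adj ha (hS.1 hb').1 (hS.1 hs').1 hcomm]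
        · rw [if_neg hcomm, Set.inter_assoc, Set.inter_comm]
          have hnc : ¬ Commute b b' := fun h => hcomm ⟨(hS.1 hs').1.1, hbe, h⟩
          rw [H.ncard_common_adj (hS.1 hb').1.1 (hS.1 hs').1.1 hnc
            ⟨mem_dc_symm ha (hS.1 hb').1, mem_dc_symm ha (hS.1 hs').1⟩]
    have e2 : ∑ b' ∈ Sf, (T.filter fun z => z ∈ Dc D b ∧ z ∈ Dc D b').card = 351 * 351 := by
      simp only [← Finset.filter_filter]
      simp only [Finset.card_filter]
      rw [Finset.sum_comm]
      simp only [← Finset.card_filter]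
      rw [Finset.sum_congr rfl (g := fun _ => 351) fun z hz => ?_, Finset.sum_const, hTN b hb',
        smul_eq_mul]
      obtain ⟨hzT, hzb⟩ := Finset.mem_filter.1 hz
      obtain ⟨hzA, hzc⟩ := Finset.mem_filter.1 hzT
      have hzS : z ∈ S := hS.2 b hb' z ⟨Set.mem_toFinset.1 hzA, hzc⟩ hzb
      rw [← hSN z hzS]
      congr 1
      exact Finset.filter_congr fun b' hb'' => (hsym (memS.1 hb'') hzA).symm
    have e3 : ∑ b' ∈ Sf, ((U.filter fun z => b ∈ Dc D z ∧ b' ∈ Dc D z).card +
        (T.filter fun z => z ∈ Dc D b ∧ z ∈ Dc D b').card) = 351 * Sf.card + 123201 := by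
      rw [Finset.sum_congr rfl e1, Finset.sum_add_distrib, Finset.sum_add_distrib, Finset.sum_const,
        Finset.sum_ite_eq', if_pos hb, ← Finset.sum_filter, Finset.sum_const, hSN b hb', smul_eq_mul,
        smul_eq_mul]
      omega
    rw [Finset.sum_add_distrib, e2] at e3
    omega
  have hsum : ∑ z ∈ U, ((9 * ν z : ℕ) - (Sf.card : ℤ)) ^ 2 = 0 := by
    have h1 : ∑ z ∈ U, (ν z : ℤ) = (Sf.card : ℤ) * 3159 := by exact_mod_cast m1
    have h2 : ∑ z ∈ U, (ν z : ℤ) * ν z = (Sf.card : ℤ) * (351 * Sf.card) := by exact_mod_cast m2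
    calc ∑ z ∈ U, ((9 * ν z : ℕ) - (Sf.card : ℤ)) ^ 2
        = 81 * ∑ z ∈ U, (ν z : ℤ) * ν z - 18 * (Sf.card : ℤ) * ∑ z ∈ U, (ν z : ℤ) +
            (U.card : ℤ) * (Sf.card : ℤ) ^ 2 := by
          rw [Finset.mul_sum, Finset.mul_sum, ← Finset.sum_sub_distrib, ← nsmul_eq_mul,
            ← Finset.sum_const, ← Finset.sum_add_distrib]
          refine Finset.sum_congr rfl fun z _ => ?_
          push_cast
          ring
      _ = 0 := by rw [h1, h2, hUcard]; push_cast; ring
  have hyU : y ∈ U := Finset.mem_filter.2 ⟨Set.mem_toFinset.2 hy, hyc⟩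
  have h := (Finset.sum_eq_zero_iff_of_nonneg fun z _ => sq_nonneg _).1 hsum y hyU
  rw [sq_eq_zero_iff, sub_eq_zero] at h
  have hS' : S.ncard = Sf.card := Set.ncard_eq_toFinset_card' S
  rw [hS', show (S ∩ Dc D y).ncard = ν y from (card_set (fun b => b ∈ Dc D y) S).symm]
  exact_mod_cast h

end M24

end Cfsg.Agent.Transpos
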