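import Cfsg.Agent.Lib.Transpos.M24Compat
import Cfsg.Agent.Lib.Transpos.M24PairCent

/-!
# The image of the common members of two non-commuting members

`M24F.image_far`: a `Star` at `a` maps the common members of `a` and `c` onto those of `a'` and the
value at `c` of a compatible `Star` at any of them.  `M24F.far_comm`: so it respects commuting of the
members not commuting with `a`.
-/

set_option autoImplicit false
set_option linter.style.haveILetI false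
set_option linter.unusedSectionVars false

namespace Cfsg.Agent.Transpos

open Cfsg Cfsg.Agent.ClassicalSimple

universe u v

theorem M23Rigid.symm (h : M23Rigid.{u, v}) : M23Rigid.{v, u} := by
  intro Q _ _ E Q' _ _ E' hE hE'
  obtain ⟨e, he⟩ := h E' E hE' hE
  refine ⟨e.symm, ?_⟩
  rw [← he, ← Set.image_comp]
  simp

variable {G : Type u} [Group G] {D : Set G} {G' : Type v} [Group G'] {D' : Set G'}

/-- The inverse. -/
def Star.symm {a : G} {a' : G'} (s : Star D D' a a') (hac : a ∈ Subgroup.closure (Dc D a)) :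
    Star D' D a' a where
  θ := s.θ.symm
  mem_iff y := by rw [← s.mem_iff, s.θ.apply_symm_apply]
  self ha' := by
    have : s.θ ⟨a, hac⟩ = ⟨a', ha'⟩ := Subtype.ext (s.self hac)
    rw [← this, s.θ.symm_apply_apply]

theorem Star.symm_f {a : G} {a' : G'} (s : Star D D' a a') (hac : a ∈ Subgroup.closure (Dc D a))
    {x : G} (hx : x ∈ Subgroup.closure (Dc D a)) : (s.symm hac).f (s.f x) = x := by
  rw [Star.f_eq _ (s.f_mem_closure hx)]
  show ((s.θ.symm ⟨s.f x, _⟩ : ↥(Subgroup.closure (Dc D a))) : G) = x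
  rw [show (⟨s.f x, s.f_mem_closure hx⟩ : ↥(Subgroup.closure (Dc D' a'))) = s.θ ⟨x, hx⟩ from
    Subtype.ext (s.f_eq hx), s.θ.symm_apply_apply]

/-- A third member has the same commuting members among those commuting with `a`. -/
theorem common_third (hD : IsThreeTranspositionGroup D) {a c : G} (ha : a ∈ D) (hc : c ∈ D)
    (hac : ¬ Commute a c) : Dc D a ∩ Dc D (a * c * a) = Dc D a ∩ Dc D c := by
  have key : ∀ {c}, c ∈ D → ¬ Commute a c → Dc D a ∩ Dc D c ⊆ Dc D a ∩ Dc D (a * c * a) :=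
    fun {c} hc hac x hx => by
      obtain ⟨-, -, -, hna, h⟩ := third_props hD ha hc hac
      exact ⟨hx.1, hx.1.1, fun e => hna (e ▸ hx.1.2.2.symm), h hx.1.2.2 hx.2.2.2⟩
  refine Set.Subset.antisymm ?_ (key hc hac)
  obtain ⟨h3, -, -, hna, -⟩ := third_props hD ha hc hac
  have := key h3 fun h => hna h.symm
  rwa [conj_involutive hD.1 ha] at this

variable [Finite G] [Finite G']

/-- Every commuting pair has a cover with `ThirdEq`. -/
theorem M24.chart₂_third (H : M24 D) {a b : G} (ha : a ∈ D) (hb : b ∈ Dc D a) :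
    ∃ C : Cover.{u} (Dc (Dc D a) b), ThirdEq C.E := by
  obtain ⟨C, hC⟩ := H.chart a ha
  obtain ⟨C', hp, h22⟩ := hC.chart22 (C.img_mem hb)
  exact ⟨C.sub hb (C'.toCover hC (C.img_mem hb)), C'.m22.thirdEq C'.m22.grp hp h22⟩

namespace M24F

variable (H : M24F D) (H' : M24F D') (hrig : M23Rigid.{u, v})
include H H' hrig

variable {a c : G} {a' : G'} (ha : a ∈ D) (hc : c ∈ D) (hac : ¬ Commute a c) (ha' : a' ∈ D')
  (φ : Star D D' a a')
include ha hc hac ha'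

/-- Compatible stars at commuting common members give the same common members of `a'` and the
value at `c`. -/
theorem edge {b b₂ : G} (hb : b ∈ Dc D a ∩ Dc D c) (hb₂ : b₂ ∈ Dc D a ∩ Dc D c) (hbb : b₂ ∈ Dc D b)
    (ψ : Star D D' b (φ.f b)) (hψa : ψ.f a = a') (hψ : ∀ x ∈ Dc D a ∩ Dc D b, ψ.f x = φ.f x)
    (ψ₂ : Star D D' b₂ (φ.f b₂)) (hψa₂ : ψ₂.f a = a')
    (hψ₂ : ∀ x ∈ Dc D a ∩ Dc D b₂, ψ₂.f x = φ.f x) :
    Dc D' a' ∩ Dc D' (ψ₂.f c) = Dc D' a' ∩ Dc D' (ψ.f c) := by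
  have hcb := mem_dc_symm hc hb.2
  have hcb₂ := mem_dc_symm hc hb₂.2
  have hab := mem_dc_symm ha hb.1
  have hab₂ := mem_dc_symm ha hb₂.1
  have hu := ψ.f_mem hcb
  have hv := ψ₂.f_mem hcb₂
  have hnu : ¬ Commute a' (ψ.f c) := fun h => hac
    ((ψ.f_comm (Subgroup.subset_closure hab) (Subgroup.subset_closure hcb)).1 (hψa.symm ▸ h))
  have hnv : ¬ Commute a' (ψ₂.f c) := fun h => hac
    ((ψ₂.f_comm (Subgroup.subset_closure hab₂) (Subgroup.subset_closure hcb₂)).1 (hψa₂.symm ▸ h))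
  -- all three lie at the pair
  have hb' := φ.f_mem hb.1
  have hb₂' : φ.f b₂ ∈ Dc D' (φ.f b) := (φ.f_dc hb.1 hb₂.1).2 hbb
  have hb₂b : ψ.f b₂ = φ.f b₂ := hψ b₂ ⟨hb₂.1, hbb⟩
  have hbb₂ : ψ₂.f b = φ.f b := hψ₂ b ⟨hb.1, mem_dc_symm hb.1.1 hbb⟩
  have hbb' := mem_dc_symm hb.1.1 hbb
  have hu₂ : ψ.f c ∈ Dc D' (φ.f b₂) := hb₂b ▸ (ψ.f_dc hbb hcb).2 hcb₂
  have hv₁ : ψ₂.f c ∈ Dc D' (φ.f b) := hbb₂ ▸ (ψ₂.f_dc hbb' hcb₂).2 hcb
  have mem2 : ∀ {y}, y ∈ Dc D' (φ.f b) → y ∈ Dc D' (φ.f b₂) → y ∈ Dc (Dc D' (φ.f b)) (φ.f b₂) :=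
    fun h1 h2 => by rw [dc_dc_eq]; exact ⟨h1, h2⟩
  have hA := mem2 (mem_dc_symm ha' hb') (mem_dc_symm ha' (φ.f_mem hb₂.1))
  have hU := mem2 hu hu₂
  have hV := mem2 hv₁ hv
  obtain ⟨C, hC⟩ := H'.toM24.chart₂_third hb'.1 hb₂'
  have h3 : a' * ψ.f c * a' ∈ Dc (Dc D' (φ.f b)) (φ.f b₂) := C.tr.conj a' hA _ hU
  have e3 : C.img h3 = C.img hA * C.img hU * C.img hA := by
    show C.π _ = C.π _ * C.π _ * C.π _
    rw [← map_mul, ← map_mul]
    rfl
  have hall : ∀ β ∈ Dc C.E (C.img hA) ∩ Dc C.E (C.img hU), Commute (C.img hV) β := by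
    rintro β hβ
    obtain ⟨y, hy, rfl⟩ := C.lift β hβ.1.1
    refine (C.comm_iff hV hy).2 ?_
    have hya := (C.dc_iff hA hy).1 hβ.1
    have hyu := (C.dc_iff hU hy).1 hβ.2
    obtain ⟨z, hz, rfl⟩ := ψ.exists_f hy.1
    have hza : z ∈ Dc D a := by
      refine (ψ.f_dc hab hz).1 ?_
      rw [hψa]
      exact ⟨hy.1.1, hya.2⟩
    have hzc : z ∈ Dc D c := (ψ.f_dc hcb hz).1 ⟨hy.1.1, hyu.2⟩
    have hzb₂ : z ∈ Dc D b₂ := (ψ.f_dc hbb hz).1 (hb₂b.symm ▸ ⟨hy.1.1, hy.2⟩)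
    rw [hψ z ⟨hza, hz⟩, ← hψ₂ z ⟨hza, hzb₂⟩]
    exact (ψ₂.f_comm (Subgroup.subset_closure hcb₂) (Subgroup.subset_closure hzb₂)).2 hzc.2.2
  rcases hC (C.img_mem hA) (C.img_mem hU) (C.img_mem hV)
      (fun h => hnu ((C.comm_iff hA hU).1 h)) hall with k | k | k
  · exact absurd (C.inj hV hA k) fun e => hnv (by rw [e])
  · rw [C.inj hV hU k]
  · rw [C.inj hV h3 (k.trans e3.symm)]
    exact common_third H'.grp ha' hu.1 hnu

/-- The image of the common members. -/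
theorem image_far {b : G} (hb : b ∈ Dc D a ∩ Dc D c) (ψ : Star D D' b (φ.f b)) (hψa : ψ.f a = a')
    (hψ : ∀ x ∈ Dc D a ∩ Dc D b, ψ.f x = φ.f x) :
    φ.f '' (Dc D a ∩ Dc D c) = Dc D' a' ∩ Dc D' (ψ.f c) := by
  classical
  have hcb := mem_dc_symm hc hb.2
  have hnu : ¬ Commute a' (ψ.f c) := fun h => hac ((ψ.f_comm
    (Subgroup.subset_closure (mem_dc_symm ha hb.1)) (Subgroup.subset_closure hcb)).1 (hψa.symm ▸ h))
  choose Ψ hΨa hΨ using fun x (hx : x ∈ Dc D a ∩ Dc D c) =>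
    H.exists_compat H' hrig ha hx.1 ha' φ
  set T' := Dc D' a' ∩ Dc D' (ψ.f c) with hT'
  set S := {x | ∃ hx : x ∈ Dc D a ∩ Dc D c, Dc D' a' ∩ Dc D' ((Ψ x hx).f c) = T'} with hS
  have hclS : ∀ x ∈ S, ∀ y ∈ Dc D a ∩ Dc D c, y ∈ Dc D x → y ∈ S := by
    rintro x ⟨hx, e⟩ y hy hxy
    exact ⟨hy, (H.edge H' hrig ha hc hac ha' φ hx hy hxy _ (hΨa x hx) (hΨ x hx) _ (hΨa y hy)
      (hΨ y hy)).trans e⟩
  have hbT' : ∀ x (hx : x ∈ Dc D a ∩ Dc D c), φ.f x ∈ Dc D' a' ∩ Dc D' ((Ψ x hx).f c) :=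
    fun x hx => ⟨φ.f_mem hx.1, mem_dc_symm (φ.f_mem hx.1).1 ((Ψ x hx).f_mem (mem_dc_symm hc hx.2))⟩
  -- some member has the value of `ψ`
  obtain ⟨e, he, heb⟩ : ∃ e ∈ Dc D a ∩ Dc D c, e ∈ Dc D b := by
    obtain ⟨z, hz⟩ := Set.nonempty_of_ncard_ne_zero
      ((H.toM24.ncard_common_adj ha hc hac hb) ▸ (by norm_num : (351 : ℕ) ≠ 0))
    exact ⟨z, hz.1, hz.2⟩
  have heS : e ∈ S := ⟨he, H.edge H' hrig ha hc hac ha' φ hb he heb ψ hψa hψ _ (hΨa e he) (hΨ e he)⟩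
  have hcl' : ClosedIn D' T' (φ.f '' S) := by
    refine ⟨?_, ?_⟩
    · rintro _ ⟨x, ⟨hx, ex⟩, rfl⟩
      exact ex.le (hbT' x hx)
    · rintro _ ⟨x, hxS, rfl⟩ y hy hxy
      obtain ⟨hx, ex⟩ := hxS
      have hxb := mem_dc_symm hc hx.2
      have hax := mem_dc_symm ha hx.1
      obtain ⟨z, hz, rfl⟩ := (Ψ x hx).exists_f hxy
      have hza : z ∈ Dc D a := ((Ψ x hx).f_dc hax hz).1 (by rw [hΨa x hx]; exact hy.1)
      have hzc : z ∈ Dc D c := ((Ψ x hx).f_dc hxb hz).1 (ex.ge hy).2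
      exact ⟨z, hclS x ⟨hx, ex⟩ z ⟨hza, hzc⟩ hz, (hΨ x hx z ⟨hza, hz⟩).symm⟩
  have hle : φ.f '' (Dc D a ∩ Dc D c) ⊆ T' := by
    rintro _ ⟨y, hy, rfl⟩
    by_contra hyT
    have hyS : y ∉ S := fun h => by
      obtain ⟨_, e'⟩ := h
      exact hyT (e'.le (hbT' y hy))
    have h9 := H'.toM24.equitable H'.prim H'.type ha' (ψ.f_mem hcb).1 hnu hcl' (φ.f_mem hy.1)
      fun h => hyT ⟨φ.f_mem hy.1, h⟩
    have hpos : 0 < (φ.f '' S).ncard :=
      (Set.ncard_pos (Set.toFinite _)).2 (Set.Nonempty.image _ ⟨e, heS⟩)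
    obtain ⟨_, ⟨x, hxS, rfl⟩, hxy⟩ : (φ.f '' S ∩ Dc D' (φ.f y)).Nonempty :=
      Set.nonempty_of_ncard_ne_zero (by omega)
    obtain ⟨hx, ex⟩ := hxS
    exact hyS (hclS x ⟨hx, ex⟩ y hy (mem_dc_symm hy.1.1 ((φ.f_dc hy.1 hx.1).1 hxy)))
  refine Set.eq_of_subset_of_ncard_le hle ?_ (Set.toFinite _)
  rw [Set.ncard_image_of_injOn fun x hx y hy k =>
      φ.f_inj (Subgroup.subset_closure hx.1) (Subgroup.subset_closure hy.1) k,
    (H'.toM24.pair_data H'.prim H'.type ha' (ψ.f_mem hcb).1 hnu).1,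
    (H.toM24.pair_data H.prim H.type ha hc hac).1]

/-- Commuting members off `a` go to commuting members. -/
theorem far_comm {u : G'} (hu : u ∈ D') (hau : ¬ Commute a' u)
    (hT : φ.f '' (Dc D a ∩ Dc D c) = Dc D' a' ∩ Dc D' u) {k : G}
    (hk : k ∈ Subgroup.closure (Dc D a)) (hcomm : Commute c (k * c * k⁻¹)) :
    Commute u (φ.f k * u * (φ.f k)⁻¹) := by
  have hka : Commute k a := Subgroup.mem_centralizer_singleton_iff.1
    ((H.toM24.cent_eq ha).ge hk)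
  by_cases hfix : k * c * k⁻¹ = c
  · -- the joint centraliser is generated by the common members
    obtain ⟨hgen, -⟩ := H.toM24.common_structure H.prim H.type ha hc hac
    have hkT : k ∈ Subgroup.closure (Dc D a ∩ Dc D c) :=
      hgen.ge (mem_centralizer_pair.2 ⟨hka, mul_inv_eq_iff_eq_mul.1 hfix⟩)
    obtain ⟨r, hr⟩ := φ.exists_restrict (fun x hx => hx.1) hT
    have h1 : φ.f k ∈ Subgroup.closure (Dc D' a' ∩ Dc D' u) := by
      rw [← hr ⟨k, hkT⟩]; exact SetLike.coe_mem _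
    have h2 := (mem_centralizer_pair.1 ((Subgroup.closure_le _).2
      (fun x hx => mem_centralizer_pair.2 ⟨hx.1.2.2.symm, hx.2.2.2.symm⟩) h1)).2
    rw [h2.eq, mul_inv_cancel_right]
  set c₂ := k * c * k⁻¹ with hc₂
  have hc₂D : c₂ ∈ D := H.toM24.conj_mem k hc
  have hc₂a : ¬ Commute a c₂ := fun h => hac ((commute_conj_iff k).1
    (by rw [hka.eq, mul_inv_cancel_right]; exact h))
  have hc₂c : c₂ ∈ Dc D c := ⟨hc₂D, hfix, hcomm⟩
  -- a common member commutes with both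
  obtain ⟨b, hbT, hbc₂⟩ : ((Dc D c ∩ Dc D a) ∩ Dc D c₂).Nonempty := by
    refine Set.nonempty_of_ncard_ne_zero fun h => ?_
    have h9 := H.toM24.equitable H.prim H.type hc ha (fun h => hac h.symm)
      (closedIn_self _) hc₂c fun h => hc₂a h.2.2
    rw [h, (H.toM24.pair_data H.prim H.type hc ha fun h => hac h.symm).1] at h9
    omega
  have hb : b ∈ Dc D a ∩ Dc D c := ⟨hbT.2, hbT.1⟩
  obtain ⟨ψ, hψa, hψ⟩ := H.exists_compat H' hrig ha hb.1 ha' φ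
  have hI := H.image_far H' hrig ha hc hac ha' φ hb ψ hψa hψ
  have hcb := mem_dc_symm hc hb.2
  have hc₂b := mem_dc_symm hc₂D hbc₂
  have hab := mem_dc_symm ha hb.1
  -- an element at the pair moving `c` to `c₂`
  obtain ⟨C, hC⟩ := H.toM24.chart b hb.1.1
  obtain ⟨q, hqa, hqc⟩ := hC.exists_conj_off hC.primitive (C.img_mem hab) (C.img_mem hcb)
    (fun h => hac ((C.comm_iff hab hcb).1 h)) (C.img_mem hc₂b)
    (fun h => hc₂a ((C.comm_iff hab hc₂b).1 h))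
  obtain ⟨y, rfl⟩ := C.surj q
  have ey : ∀ {x x'} (hx : x ∈ Dc D b) (hx' : x' ∈ Dc D b),
      C.π y * C.img hx * (C.π y)⁻¹ = C.img hx' → (y : G) * x * (y : G)⁻¹ = x' := fun hx hx' e =>
    C.inj (C.conj_mem y hx) hx' ((C.img_pi y hx (C.conj_mem y hx)).trans e)
  have hyc : (y : G) * c * (y : G)⁻¹ = c₂ := ey hcb hc₂b hqc
  have hya : Commute (y : G) a := mul_inv_eq_iff_eq_mul.1 (ey hab hab hqa)
  have hyb : Commute (y : G) b := Subgroup.mem_centralizer_singleton_iff.1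
    ((H.toM24.cent_eq hb.1.1).ge y.2)
  have hgen := H.toM24.cent_pair ha hb.1 hya hyb
  rw [dc_dc_eq] at hgen
  set Z := insert a (insert b (Dc D a ∩ Dc D b)) with hZ
  have hZa : ∀ x ∈ Z, x ∈ Subgroup.closure (Dc D a) := by
    rintro x (rfl | rfl | hx)
    exacts [H.toM24.mem_closure_dc ha, Subgroup.subset_closure hb.1, Subgroup.subset_closure hx.1]
  have hZb : ∀ x ∈ Z, x ∈ Subgroup.closure (Dc D b) := by
    rintro x (rfl | rfl | hx)
    exacts [Subgroup.subset_closure hab, H.toM24.mem_closure_dc hb.1.1, Subgroup.subset_closure hx.2]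
  have heq : ∀ x ∈ Subgroup.closure Z, φ.f x = ψ.f x := by
    intro x hx
    induction hx using Subgroup.closure_induction with
    | mem z hz =>
      rcases hz with rfl | rfl | hz
      · rw [hψa, φ.f_self (hZa _ (Or.inl rfl))]
      · rw [ψ.f_self (hZb _ (Or.inr (Or.inl rfl)))]
      · exact (hψ z hz).symm
    | one =>
      rw [φ.f_eq (one_mem _), ψ.f_eq (one_mem _)]
      exact (congrArg Subtype.val (map_one φ.θ)).trans (congrArg Subtype.val (map_one ψ.θ)).symm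
    | mul p q hp hq hp' hq' =>
      rw [φ.f_mul ((Subgroup.closure_le _).2 hZa hp) ((Subgroup.closure_le _).2 hZa hq),
        ψ.f_mul ((Subgroup.closure_le _).2 hZb hp) ((Subgroup.closure_le _).2 hZb hq), hp', hq']
    | inv p hp hp' =>
      rw [φ.f_inv ((Subgroup.closure_le _).2 hZa hp), ψ.f_inv ((Subgroup.closure_le _).2 hZb hp), hp']
  have hyA : (y : G) ∈ Subgroup.closure (Dc D a) := (Subgroup.closure_le _).2 hZa hgen
  -- `φ k` and `φ y` move `u` alike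
  have hkey : φ.f k * u * (φ.f k)⁻¹ = φ.f y * u * (φ.f y)⁻¹ := by
    have hky : (y : G)⁻¹ * k ∈ Subgroup.closure (Dc D a) := mul_mem (inv_mem hyA) hk
    obtain ⟨hgen', -⟩ := H.toM24.common_structure H.prim H.type ha hc hac
    have hT₁ : (y : G)⁻¹ * k ∈ Subgroup.closure (Dc D a ∩ Dc D c) := by
      refine hgen'.ge (mem_centralizer_pair.2 ⟨hya.inv_left.mul_left hka, mul_inv_eq_iff_eq_mul.1 ?_⟩)
      calc (y : G)⁻¹ * k * c * ((y : G)⁻¹ * k)⁻¹ = (y : G)⁻¹ * (k * c * k⁻¹) * y := by group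
        _ = c := by rw [← hc₂, ← hyc]; group
    obtain ⟨r, hr⟩ := φ.exists_restrict (fun x hx => hx.1) hT
    have h1 : φ.f ((y : G)⁻¹ * k) ∈ Subgroup.closure (Dc D' a' ∩ Dc D' u) := by
      rw [← hr ⟨_, hT₁⟩]; exact SetLike.coe_mem _
    have h2 : Commute (φ.f ((y : G)⁻¹ * k)) u := (mem_centralizer_pair.1 ((Subgroup.closure_le _).2
      (fun x hx => mem_centralizer_pair.2 ⟨hx.1.2.2.symm, hx.2.2.2.symm⟩) h1)).2
    rw [φ.f_mul (inv_mem hyA) hk, φ.f_inv hyA] at h2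
    calc φ.f k * u * (φ.f k)⁻¹
        = φ.f y * ((φ.f y)⁻¹ * φ.f k * u * ((φ.f y)⁻¹ * φ.f k)⁻¹) * (φ.f y)⁻¹ := by group
      _ = φ.f y * u * (φ.f y)⁻¹ := by rw [h2.eq, mul_inv_cancel_right]
  rw [hkey]
  -- transport by `ψ`
  have hcomm' : Commute (ψ.f c) (φ.f y * ψ.f c * (φ.f y)⁻¹) := by
    rw [heq _ hgen, ← ψ.f_inv y.2, ← ψ.f_mul y.2 (Subgroup.subset_closure hcb),
      ← ψ.f_mul (mul_mem y.2 (Subgroup.subset_closure hcb)) (inv_mem y.2), hyc]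
    exact (ψ.f_comm (Subgroup.subset_closure hcb) (Subgroup.subset_closure hc₂b)).2 hcomm
  have hnu : ¬ Commute a' (ψ.f c) := fun h => hac
    ((ψ.f_comm (Subgroup.subset_closure hab) (Subgroup.subset_closure hcb)).1 (hψa.symm ▸ h))
  rcases H'.toM24.thirdEq H'.prim H'.type ha' hu (ψ.f_mem hcb).1 hau (fun x hx => by
      rw [← hT, hI] at hx
      exact hx.2.2.2) with k' | k' | k'
  · exact absurd (by rw [k']) hnu
  · rwa [k'] at hcomm'
  · rw [k'] at hcomm'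
    have hφa : Commute (φ.f y) a' := by
      have h := (φ.f_comm hyA (hZa _ (Or.inl rfl))).2 hya
      rwa [φ.f_self (hZa _ (Or.inl rfl))] at h
    have hai := inv_eq H'.grp.1 ha'
    have e : φ.f y * (a' * u * a') * (φ.f y)⁻¹ = a' * (φ.f y * u * (φ.f y)⁻¹) * a' := by
      rw [show φ.f y * (a' * u * a') * (φ.f y)⁻¹ = φ.f y * a' * u * (a' * (φ.f y)⁻¹) by group,
        hφa.eq, ← hφa.inv_left.eq]
      group
    rw [e] at hcomm'
    refine (commute_conj_iff a').1 ?_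
    rw [hai]
    exact hcomm'

end M24F

end Cfsg.Agent.Transpos
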