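import Cfsg.Agent.Lib.Transpos.M24Local
import Cfsg.Agent.Lib.Transpos.M24Five
import Cfsg.Agent.Lib.Transpos.M24Eleven
import Cfsg.Agent.Lib.Transpos.M23Thirteen
import Cfsg.Agent.Lib.Transpos.M23PowThree

/-!
# Members fixed by subgroups of prime order five to twenty-three in type M(24)

None of the numbers is a multiple of 29.
-/

set_option autoImplicit false
set_option linter.style.haveILetI false
set_option linter.unusedSectionVars false

namespace Cfsg.Agent.Transpos

open Cfsg Equiv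

universe u

theorem ncard_isSwap_nine : ({σ : Perm (Fin 9) | σ.IsSwap} : Set (Perm (Fin 9))).ncard = 36 := by
  classical
  have e : ({σ : Perm (Fin 9) | σ.IsSwap} : Set (Perm (Fin 9))) =
      ↑((Finset.univ.filter fun p : Fin 9 × Fin 9 => p.1 < p.2).image fun p => swap p.1 p.2) := by
    ext σ
    simp only [Set.mem_ofPred_eq, Finset.coe_image, Set.mem_image, Finset.mem_coe, Finset.mem_filter,
      Finset.mem_univ, true_and]
    constructor
    · rintro ⟨i, j, hij, rfl⟩
      rcases lt_or_gt_of_ne hij with h | h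
      · exact ⟨(i, j), h, rfl⟩
      · exact ⟨(j, i), h, swap_comm _ _⟩
    · rintro ⟨⟨i, j⟩, h, rfl⟩
      exact ⟨i, j, ne_of_lt h, rfl⟩
  rw [e, Set.ncard_coe_finset]
  decide +kernel

namespace M24

variable {G : Type u} [Group G] [Finite G] {D : Set G} (H : M24 D)
include H

/-- The centraliser of two commuting members. -/
theorem card_two {a b : G} (ha : a ∈ D) (hb : b ∈ Dc D a) :
    Nat.card ↥(Subgroup.centralizer ({a} : Set G) ⊓ Subgroup.centralizer ({b} : Set G)) =
      258247006617600 := by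
  have h1 := card_eq_orbit_mul (Subgroup.centralizer ({a} : Set G)) b (Dc D a)
    (fun k hk => by
      have := ((stab_of_normal H.grp k).carries.dc a).1 b hb
      rwa [mul_inv_eq_iff_eq_mul.2 (Subgroup.mem_centralizer_singleton_iff.1 hk)] at this)
    fun o ho => by
      obtain ⟨g, hga, hgb⟩ := H.conj_pair ha hb ha ho
      exact ⟨g, Subgroup.mem_centralizer_singleton_iff.2 (mul_inv_eq_iff_eq_mul.1 hga), hgb⟩
  rw [H.card_centralizer_member ha, H.ncard_dc ha] at h1
  omega

variable (hprim : IsPrimitiveUnderConj D) (h24 : IsOfTypeM24 G D)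
include hprim h24

theorem fixed_ne_empty {q : ℕ} [Fact q.Prime] (hq : ¬ q ∣ 306936) {Y : Subgroup G}
    (hY : Nat.card Y = q) : (Fx D Y).Nonempty := by
  have h := FixGraph.modEq_fx (Fact.out : q.Prime) hY D fun x _ s hs => H.conj_mem x hs
  rw [H.ncard_class hprim h24] at h
  refine Set.nonempty_of_ncard_ne_zero fun h0 => hq ?_
  change _ ≡ (Fx D Y).ncard [MOD q] at h
  rw [h0] at h
  exact Nat.modEq_zero_iff_dvd.1 h

/-- When no two commute there are a power of three. -/
theorem fixed_pow_three {Y : Subgroup G} (hne : (Fx D Y).Nonempty)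
    (hw : ∀ a ∈ Fx D Y, ∀ b ∈ Fx D Y, b ∈ Dc D a → False) : ∃ k, (Fx D Y).ncard = 3 ^ k := by
  have hT := Fischer.TSet.ofSet H.grp.1 H.grp.2.1
  refine Large23.exists_pow_three hT (fun x hx => hx.1)
    (fun a ha b hb => ⟨?_, mul_mem (mul_mem ha.2 hb.2) ha.2⟩) (fun a ha b hb hc => ?_) hne
  · have := H.conj_mem a hb.1
    rwa [hT.inv_eq ha.1] at this
  · by_contra hab
    exact hw a ha b hb ⟨hb.1, Ne.symm hab, hc⟩

theorem large_pow_three {q : ℕ} (hq : q = 17 ∨ q = 23) {Y : Subgroup G} (hY : Nat.card Y = q) :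
    ∃ k, (Fx D Y).ncard = 3 ^ k := by
  haveI : Fact q.Prime := ⟨by rcases hq with rfl | rfl <;> norm_num⟩
  obtain ⟨k, hk⟩ := H.fixed_pow_three hprim h24
    (H.fixed_ne_empty hprim h24 (by rcases hq with rfl | rfl <;> norm_num) hY)
    fun a ha b hb hab => by
      have hd := hY ▸ Subgroup.card_dvd_of_le
        (le_inf (FixGraph.mem_fx.1 ha).2 (FixGraph.mem_fx.1 hb).2)
      rw [H.card_two ha.1 hab] at hd
      rcases hq with rfl | rfl <;> norm_num at hd
  exact ⟨k, hk⟩

theorem not_dvd_large {q : ℕ} (hq : q = 17 ∨ q = 23) {Y : Subgroup G} (hY : Nat.card Y = q) :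
    ¬ 29 ∣ (Fx D Y).ncard := by
  obtain ⟨k, hk⟩ := H.large_pow_three hprim h24 hq hY
  rw [hk]
  exact fun h => absurd ((by norm_num : Nat.Prime 29).dvd_of_dvd_pow h) (by norm_num)

theorem not_dvd_five {Y : Subgroup G} (hY : Nat.card Y = 5) : ¬ 29 ∣ (Fx D Y).ncard := by
  obtain ⟨θ, hθ, e⟩ := M24Five.graph_of_fx H hY (M24Five.exists_fx H hY hprim h24)
  rw [e, Set.ncard_image_of_injective _ hθ, ncard_isSwap_nine]
  norm_num

theorem not_dvd_eleven {Y : Subgroup G} (hY : Nat.card Y = 11) : ¬ 29 ∣ (Fx D Y).ncard := by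
  obtain ⟨d, -, b, -, c, -, e⟩ := H.eleven_fx hprim h24 hY
  rw [e]
  intro h
  have h3 : ({d, b, c} : Set G).ncard ≤ 3 := (Set.ncard_insert_le _ _).trans
    (Nat.succ_le_succ ((Set.ncard_insert_le _ _).trans (by rw [Set.ncard_singleton])))
  have h1 : 0 < ({d, b, c} : Set G).ncard := (Set.ncard_pos (Set.toFinite _)).2 (Set.insert_nonempty _ _)
  have := Nat.le_of_dvd h1 h
  omega

/-- A subgroup of order 13 fixes a power of three members or at most thirteen. -/
theorem thirteen_count {Y : Subgroup G} (hY : Nat.card Y = 13) :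
    (∃ k, (Fx D Y).ncard = 3 ^ k) ∨ (Fx D Y).ncard = 6 := by
  classical
  haveI : Fact (Nat.Prime 13) := ⟨by norm_num⟩
  haveI : Fintype G := Fintype.ofFinite G
  have hne := H.fixed_ne_empty hprim h24 (by norm_num) hY
  have hN : ∀ f ∈ Fx D Y, (Dc D f ∩ Fx D Y).ncard ≤ 3 := by
    intro f hf
    obtain ⟨C, hC⟩ := H.chart f hf.1
    have hodd : Odd (Nat.card Y) := by rw [hY]; decide
    have hYf := (FixGraph.mem_fx.1 hf).2
    rw [← hC.thirteen_fx hC.primitive (X := C.image Y) (by rw [C.card_image H hf.1 hYf hodd, hY])]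
    refine le_of_eq ?_
    rw [show Dc D f ∩ Fx D Y = {x | x ∈ Dc D f ∧ x ∈ Fx D Y} from rfl,
      C.ncard_img (fun x => x ∈ Fx D Y) (fun β => β ∈ Fx C.E (C.image Y))
        fun x hx => C.img_fx H hf.1 hYf hodd hx]
    congr 1
    exact Set.ext fun β => ⟨fun h => h.2, fun h => ⟨h.1, h⟩⟩
  by_cases hpair : ∀ a ∈ Fx D Y, ∀ b ∈ Fx D Y, b ∈ Dc D a → False
  · exact Or.inl (H.fixed_pow_three hprim h24 hne hpair)
  push Not at hpair
  obtain ⟨a, ha, b₀, hb₀, hab₀, -⟩ := hpair
  set N := Dc D a ∩ Fx D Y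
  have hsub : Fx D Y ⊆ ↑({a} ∪ N.toFinset ∪ N.toFinset.biUnion fun b => (Dc D b ∩ Fx D Y).toFinset) := by
    intro y hy
    simp only [Finset.coe_union, Finset.coe_singleton, Set.coe_toFinset, Finset.coe_biUnion,
      Set.mem_union, Set.mem_singleton_iff, Set.mem_iUnion, exists_prop]
    by_cases hay : Commute a y
    · by_cases e : y = a
      · exact Or.inl (Or.inl e)
      · exact Or.inl (Or.inr ⟨⟨hy.1, e, hay⟩, hy⟩)
    right
    have h := FixGraph.modEq_fx (Fact.out : Nat.Prime 13) hY (Dc D a ∩ Dc D y) fun x hx s hs => by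
      have hA := ((stab_of_normal H.grp x).carries.dc a).1 s hs.1
      have hE := ((stab_of_normal H.grp x).carries.dc y).1 s hs.2
      rw [mul_inv_eq_iff_eq_mul.2 (FixGraph.commute_of_fx ha hx).eq] at hA
      rw [mul_inv_eq_iff_eq_mul.2 (FixGraph.commute_of_fx hy hx).eq] at hE
      exact ⟨hA, hE⟩
    rw [(H.pair_data hprim h24 ha.1 hy.1 hay).1] at h
    obtain ⟨w, hw⟩ : (Dc D a ∩ Dc D y ∩ (Subgroup.centralizer (Y : Set G) : Set G)).Nonempty :=
      Set.nonempty_of_ncard_ne_zero fun h0 => by rw [h0] at h; exact absurd h (by decide)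
    exact ⟨w, ⟨hw.1.1, hw.1.1.1, hw.2⟩, mem_dc_symm hy.1 hw.1.2, hy⟩
  have hcard := Set.ncard_le_ncard hsub (Finset.finite_toSet _)
  rw [Set.ncard_coe_finset] at hcard
  have h13 : ({a} ∪ N.toFinset ∪ N.toFinset.biUnion fun b => (Dc D b ∩ Fx D Y).toFinset).card ≤ 13 := by
    have hN3 : N.toFinset.card ≤ 3 := by rw [← Set.ncard_eq_toFinset_card']; exact hN a ha
    have hU : (N.toFinset.biUnion fun b => (Dc D b ∩ Fx D Y).toFinset).card ≤ N.toFinset.card * 3 :=
      Finset.card_biUnion_le_card_mul _ _ _ fun b hb => by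
        rw [← Set.ncard_eq_toFinset_card']
        exact hN b (Set.mem_toFinset.1 hb).2
    have := Finset.card_union_le ({a} ∪ N.toFinset)
      (N.toFinset.biUnion fun b => (Dc D b ∩ Fx D Y).toFinset)
    have h' := Finset.card_union_le {a} N.toFinset
    rw [Finset.card_singleton] at h'
    omega
  refine Or.inr ?_
  have hmod := FixGraph.modEq_fx (Fact.out : Nat.Prime 13) hY D fun x _ s hs => H.conj_mem x hs
  rw [H.ncard_class hprim h24] at hmod
  have h6 : 306936 % 13 = (Fx D Y).ncard % 13 := hmod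
  omega

theorem not_dvd_thirteen {Y : Subgroup G} (hY : Nat.card Y = 13) : ¬ 29 ∣ (Fx D Y).ncard := by
  rcases H.thirteen_count hprim h24 hY with ⟨k, hk⟩ | hk <;> rw [hk]
  · exact fun h => absurd ((by norm_num : Nat.Prime 29).dvd_of_dvd_pow h) (by norm_num)
  · norm_num

end M24

end Cfsg.Agent.Transpos
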