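import Cfsg.Agent.Lib.Transpos.M24Thirteen
import Cfsg.Agent.Lib.TrialityPair.Fixed
import Cfsg.Agent.Lib.Components.GenFitting

/-!
# The centraliser of two commuting non-commuting pairs fixed by a subgroup of order thirteen

Inside `C(a, d) = PΩ₈⁺(3):S₃` the members `b`, `c` induce outer involutions whose product has order three
outside, so their joint centraliser is `G₂(3)`.
-/

set_option autoImplicit false
set_option linter.style.haveILetI false
set_option linter.unusedSectionVars false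

namespace Cfsg.Agent.Transpos

open Cfsg Cfsg.Lie
open TrialityPair (fixGrp mem_fixGrp)

universe u

set_option synthInstance.maxSize 4000 in
theorem g2_perm_three_kill : ∀ σ τ k : Equiv.Perm (Fin 3), σ * σ = 1 → τ * τ = 1 → σ ≠ 1 → τ ≠ 1 →
    σ ≠ τ → k * σ = σ * k → k * τ = τ * k → k = 1 := by decide +kernel

theorem g2_perm_three_pair : ∀ σ k : Equiv.Perm (Fin 3), σ * σ = 1 → σ ≠ 1 → k * σ = σ * k →
    k = 1 ∨ k = σ := by decide +kernel

theorem g2_perm_three_invol : ∀ σ : Equiv.Perm (Fin 3), σ * σ = 1 → σ ≠ 1 →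
    σ = Equiv.swap 0 1 ∨ σ = Equiv.swap 0 2 ∨ σ = Equiv.swap 1 2 := by decide +kernel

theorem g2_perm_three_conj : ∀ σ τ : Equiv.Perm (Fin 3), σ * σ = 1 → σ ≠ 1 → τ * τ = 1 → τ ≠ 1 →
    ∃ k, k * σ * k⁻¹ = τ := by decide +kernel

namespace M24

variable {G : Type u} [Group G] [Finite G] {D : Set G} (H : M24 D) (hprim : IsPrimitiveUnderConj D)
  (h24 : IsOfTypeM24 G D)
include H hprim h24

variable {X : Subgroup G} (hX : Nat.card X = 13) {a d b c : G} (S : PairSix D a d b c) (hfa : a ∈ Fx D X)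
  (hfd : d ∈ Fx D X) (hfb : b ∈ Fx D X) (hfc : c ∈ Fx D X)
include hX S hfa hfd hfb hfc

/-- The centraliser of the two pairs is `G₂(3)`. -/
theorem thirteen_g2 : Nonempty (↥(Subgroup.centralizer
    (Subgroup.closure ({a, b, c, d} : Set G) : Set G)) ≃* ↥(chevG2.group (ZMod 3))) := by
  classical
  have hE := H.grp.1
  obtain ⟨L, hL, hKL, N, hNn, hF, ⟨eN⟩, ⟨eq⟩⟩ : ∃ L : Subgroup G,
      L = Subgroup.centralizer ({a, d} : Set G) ∧ Subgroup.closure (Dc D a ∩ Dc D d) = L ∧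
      ∃ (N : Subgroup ↥L) (_ : N.Normal), generalizedFittingSubgroup ↥L = N ∧
        Nonempty (↥N ≃* POmega (ZMod 3) (quadFormPlus 4 (ZMod 3))) ∧
        Nonempty (↥L ⧸ N ≃* Equiv.Perm (Fin 3)) :=
    ⟨_, rfl, H.common_structure hprim h24 S.ha S.hd S.had⟩
  have hmemL : ∀ {x : G}, x ∈ L ↔ Commute x a ∧ Commute x d := fun {x} => by
    rw [hL]; exact mem_centralizer_pair
  set W := Dc D a ∩ Dc D d with hW
  have hWn : W.ncard = 3240 := (H.pair_data hprim h24 S.ha S.hd S.had).1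
  have hNcard : Nat.card ↥N = 4952179814400 :=
    (Nat.card_congr eN.toEquiv).trans card_pomega_eight_three
  let q : ↥L →* Equiv.Perm (Fin 3) := eq.toMonoidHom.comp (QuotientGroup.mk' N)
  have hq : ∀ x, q x = 1 ↔ x ∈ N := fun x => by
    show eq (QuotientGroup.mk x) = 1 ↔ _
    rw [MulEquiv.map_eq_one_iff, QuotientGroup.eq_one_iff]
  have hqs : Function.Surjective q := eq.surjective.comp (QuotientGroup.mk'_surjective N)
  have hWL : ∀ {z}, z ∈ W → z ∈ L := fun hz => hKL ▸ Subgroup.subset_closure hz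
  let qf : G → Equiv.Perm (Fin 3) := fun z => if h : z ∈ L then q ⟨z, h⟩ else 1
  have qf_eq : ∀ {z} (h : z ∈ L), qf z = q ⟨z, h⟩ := fun h => dif_pos h
  have hconjW : ∀ (l : ↥L) {z}, z ∈ W → (l : G) * z * (l : G)⁻¹ ∈ W := fun l _ hz =>
    conj_common H.grp (hL ▸ l.2) hz
  have qf_conj : ∀ (l : ↥L) {z}, z ∈ W → qf ((l : G) * z * (l : G)⁻¹) = q l * qf z * (q l)⁻¹ := by
    intro l z hz
    rw [qf_eq (hWL (hconjW l hz)), qf_eq (hWL hz), ← map_inv, ← map_mul, ← map_mul]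
    rfl
  have qf_sq : ∀ {z}, z ∈ W → qf z * qf z = 1 := fun {z} hz => by
    rw [qf_eq (hWL hz), ← map_mul, show (⟨z, hWL hz⟩ : ↥L) * ⟨z, hWL hz⟩ = 1 from
      Subtype.ext (sq_one hE hz.1.1), map_one]
  have hcentN : Subgroup.centralizer (N : Set ↥L) ≤ N := by
    have h := Components.centralizer_generalizedFittingSubgroup_le (G := ↥L)
    rwa [hF] at h
  -- members lie outside the simple subgroup
  have qf_ne : ∀ {z}, z ∈ W → qf z ≠ 1 := by
    intro z hz hz1
    set M : Subgroup G := Subgroup.closure {y | y ∈ W ∧ qf y = 1}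
    have hML : M ≤ L := (Subgroup.closure_le _).2 fun y hy => hWL hy.1
    set M' : Subgroup ↥N := (M.subgroupOf L).subgroupOf N
    have hMn : M'.Normal := by
      refine ⟨fun m hm k => ?_⟩
      have hcar : M ≤ M.comap (MulAut.conj ((k : ↥L) : G)).toMonoidHom :=
        (Subgroup.closure_le _).2 fun y hy => Subgroup.subset_closure ⟨hconjW (k : ↥L) hy.1, by
          show qf ((k : ↥L) * y * ((k : ↥L) : G)⁻¹) = 1
          rw [qf_conj (k : ↥L) hy.1, hy.2, mul_one, mul_inv_cancel]⟩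
      exact hcar hm
    haveI := S0296.result (F := ZMod 3) 4 le_rfl
    haveI : IsSimpleGroup ↥N := ClassicalSimple.isSimpleGroup_of_equiv eN
    have hzN : (⟨z, hWL hz⟩ : ↥L) ∈ N := (hq _).1 ((qf_eq (hWL hz)).symm.trans hz1)
    have hMtop : M' = ⊤ := hMn.eq_bot_or_eq_top.resolve_left fun h => by
      have : (⟨⟨z, hWL hz⟩, hzN⟩ : ↥N) ∈ M' := Subgroup.subset_closure ⟨hz, hz1⟩
      rw [h, Subgroup.mem_bot] at this
      exact ne_one hE hz.1.1 (congrArg (fun w : ↥N => ((w : ↥L) : G)) this)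
    obtain ⟨v, hv, hv1⟩ : ∃ v ∈ W, qf v ≠ 1 := by
      by_contra hall
      push Not at hall
      obtain ⟨l, hl⟩ := hqs (Equiv.swap 0 1)
      have hle : Subgroup.closure W ≤ N.map L.subtype := (Subgroup.closure_le _).2 fun y hy =>
        ⟨⟨y, hWL hy⟩, (hq _).1 ((qf_eq (hWL hy)).symm.trans (hall y hy)), rfl⟩
      obtain ⟨m, hm, he⟩ := hle (le_of_eq hKL.symm l.2)
      rw [← Subtype.ext (a1 := m) (a2 := l) he, (hq m).2 hm] at hl
      exact absurd hl (by decide)
    have hMv : M ≤ Subgroup.centralizer ({v} : Set G) := (Subgroup.closure_le _).2 fun y hy => by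
      refine Subgroup.mem_centralizer_singleton_iff.2 ?_
      by_contra hne
      have hnc : ¬ Commute v y := fun h => hne h.eq.symm
      have hb := congrArg q (show (⟨v, hWL hv⟩ : ↥L) * ⟨y, hWL hy.1⟩ * ⟨v, hWL hv⟩ =
        ⟨y, hWL hy.1⟩ * ⟨v, hWL hv⟩ * ⟨y, hWL hy.1⟩ from Subtype.ext (braid hE hv.1.1 hy.1.1.1 hnc))
      rw [map_mul, map_mul, map_mul, map_mul, ← qf_eq (hWL hv), ← qf_eq (hWL hy.1), hy.2, one_mul,
        mul_one, qf_sq hv] at hb
      exact hv1 hb.symm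
    have hvC : (⟨v, hWL hv⟩ : ↥L) ∈ Subgroup.centralizer (N : Set ↥L) :=
      Subgroup.mem_centralizer_iff.2 fun n hn => by
        have hn' : (⟨n, hn⟩ : ↥N) ∈ M' := hMtop ▸ Subgroup.mem_top _
        exact Subtype.ext (Subgroup.mem_centralizer_singleton_iff.1 (hMv hn'))
    exact hv1 ((qf_eq (hWL hv)).trans ((hq _).2 (hcentN hvC)))
  have hdisj : ∀ {x y}, x ∈ W → y ∈ W → Commute x y → qf x = qf y := fun {x y} hx hy hxy => by
    rcases g2_perm_three_pair (qf x) (qf y) (qf_sq hx) (qf_ne hx) (by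
      rw [qf_eq (hWL hx), qf_eq (hWL hy), ← map_mul, ← map_mul]
      exact congrArg q (Subtype.ext hxy.eq.symm)) with h | h
    exacts [absurd h (qf_ne hy), h.symm]
  -- one class
  have hmove : ∀ {x y}, x ∈ W → y ∈ W → qf x ≠ qf y → ∃ l : ↥L, (l : G) * x * (l : G)⁻¹ = y := by
    intro x y hx hy hne
    refine ⟨⟨x, hWL hx⟩ * ⟨y, hWL hy⟩, ?_⟩
    have hnc : ¬ Commute x y := fun h => hne (hdisj hx hy h)
    show x * y * x * (x * y)⁻¹ = y
    rw [mul_inv_eq_iff_eq_mul, braid hE hx.1.1 hy.1.1 hnc]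
    group
  have htrans : ∀ {x y}, x ∈ W → y ∈ W → ∃ l : ↥L, (l : G) * x * (l : G)⁻¹ = y := by
    intro x y hx hy
    by_cases hxy : qf x = qf y
    · obtain ⟨σ, hσ2, hσ1, hσx⟩ : ∃ σ, σ * σ = 1 ∧ σ ≠ 1 ∧ σ ≠ qf x := by
        have : ∀ π : Equiv.Perm (Fin 3), ∃ σ, σ * σ = 1 ∧ σ ≠ 1 ∧ σ ≠ π := by decide +kernel
        exact this _
      obtain ⟨k, hk⟩ := g2_perm_three_conj (qf x) σ (qf_sq hx) (qf_ne hx) hσ2 hσ1
      obtain ⟨l, rfl⟩ := hqs k
      have hw := hconjW l hx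
      have hqw : qf ((l : G) * x * (l : G)⁻¹) = σ := (qf_conj l hx).trans hk
      obtain ⟨l', hl'⟩ := hmove hw hy (by rw [hqw, ← hxy]; exact hσx)
      refine ⟨l' * l, ?_⟩
      rw [Subgroup.coe_mul, show (l' : G) * l * x * ((l' : G) * l)⁻¹ =
        (l' : G) * ((l : G) * x * (l : G)⁻¹) * (l' : G)⁻¹ by group, hl']
    · exact hmove hx hy hxy
  -- `b` and `c` lie in different cosets
  have hbW : b ∈ W := ⟨S.mem_dc.1, ⟨S.hb, fun e => S.had (e ▸ S.hab), S.hdb⟩⟩
  have hcW : c ∈ W := ⟨S.mem_dc.2, ⟨S.hc, fun e => S.had (e ▸ S.hac), S.hdc⟩⟩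
  have hσ : qf b ≠ qf c := by
    intro hbc
    have hfix : W ∩ (Subgroup.centralizer (X : Set G) : Set G) ⊆ {z | qf z = qf b} := by
      rintro z ⟨hz, hzX⟩
      have hz' : z ∈ Fx D X ∩ Dc D a := ⟨⟨hz.1.1, hzX⟩, hz.1⟩
      rw [H.thirteen_nbr_eq hprim h24 hX S hfa hfd hfb hfc] at hz'
      rcases hz' with e | e | e
      · rw [e]; rfl
      · rw [e]; exact hbc.symm
      · show qf z = qf b
        have hconj : z = ((⟨b, hWL hbW⟩ : ↥L) : G) * c * ((⟨b, hWL hbW⟩ : ↥L) : G)⁻¹ := by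
          rw [e, inv_eq hE S.hb]
        rw [hconj, qf_conj _ hcW, ← qf_eq (hWL hbW), ← hbc, mul_inv_cancel_right]
    let F : Equiv.Perm (Fin 3) → Set G := fun σ => {z ∈ W | qf z = σ}
    have hXL : X ≤ L := fun x hx => hL.symm ▸
      mem_centralizer_pair.2 ⟨FixGraph.commute_of_fx hfa hx, FixGraph.commute_of_fx hfd hx⟩
    have hX1 : ∀ x (hx : x ∈ X), q ⟨x, hXL hx⟩ = 1 := fun x hx => by
      have h13 : (⟨x, hXL hx⟩ : ↥L) ^ 13 = 1 :=
        Subtype.ext (orderOf_dvd_iff_pow_eq_one.1 (hX ▸ Subgroup.orderOf_dvd_natCard X hx))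
      have h6 : ∀ σ : Equiv.Perm (Fin 3), σ ^ 13 = 1 → σ = 1 := by decide +kernel
      exact h6 _ (by rw [← map_pow, h13, map_one])
    have hmod : ∀ σ, σ ≠ qf b → 13 ∣ (F σ).ncard := fun σ hσ => by
      have h := FixGraph.modEq_fx (by norm_num : Nat.Prime 13) hX (F σ) fun x hx s hs =>
        ⟨hconjW ⟨x, hXL hx⟩ hs.1, by
          rw [show qf (x * s * x⁻¹) = _ from qf_conj ⟨x, hXL hx⟩ hs.1, hX1 x hx, one_mul, inv_one,
            mul_one, hs.2]⟩
      rw [show F σ ∩ (Subgroup.centralizer (X : Set G) : Set G) = ∅ from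
        Set.eq_empty_iff_forall_notMem.2 fun z hz => hσ (hz.1.2.symm.trans (hfix ⟨hz.1.1, hz.2⟩)),
        Set.ncard_empty] at h
      exact Nat.modEq_zero_iff_dvd.1 h
    have hsame : ∀ σ τ : Equiv.Perm (Fin 3), σ * σ = 1 → σ ≠ 1 → τ * τ = 1 → τ ≠ 1 →
        (F σ).ncard ≤ (F τ).ncard := by
      intro σ τ h1 h2 h3 h4
      obtain ⟨k, hk⟩ := g2_perm_three_conj σ τ h1 h2 h3 h4
      obtain ⟨l, rfl⟩ := hqs k
      exact Set.ncard_le_ncard_of_injOn (fun z => (l : G) * z * (l : G)⁻¹)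
        (fun z hz => ⟨hconjW l hz.1, by rw [qf_conj l hz.1, hz.2, hk]⟩)
        (fun z _ w _ e => (MulAut.conj (l : G)).injective e) (Set.toFinite _)
    have hu : W = (F (Equiv.swap 0 1) ∪ F (Equiv.swap 0 2)) ∪ F (Equiv.swap 1 2) := by
      ext z
      refine ⟨fun hz => ?_, ?_⟩
      · rcases g2_perm_three_invol _ (qf_sq hz) (qf_ne hz) with e | e | e
        exacts [Or.inl (Or.inl ⟨hz, e⟩), Or.inl (Or.inr ⟨hz, e⟩), Or.inr ⟨hz, e⟩]
      · rintro ((h | h) | h) <;> exact h.1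
    have hd : ∀ {σ τ}, σ ≠ τ → Disjoint (F σ) (F τ) := fun hne =>
      Set.disjoint_left.2 fun z h1 h2 => hne (h1.2.symm.trans h2.2)
    have h12 : Equiv.swap (0 : Fin 3) 1 ≠ Equiv.swap 0 2 := by decide
    have h13 : Equiv.swap (0 : Fin 3) 1 ≠ Equiv.swap 1 2 := by decide
    have h23 : Equiv.swap (0 : Fin 3) 2 ≠ Equiv.swap 1 2 := by decide
    have hsum := congrArg Set.ncard hu
    rw [hWn, Set.ncard_union_eq (Set.disjoint_union_left.2 ⟨hd h13, hd h23⟩) (Set.toFinite _)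
      (Set.toFinite _), Set.ncard_union_eq (hd h12) (Set.toFinite _) (Set.toFinite _)] at hsum
    have hn01 := hsame (Equiv.swap 0 1) (Equiv.swap 0 2) (by decide) (by decide) (by decide) (by decide)
    have hn10 := hsame (Equiv.swap 0 2) (Equiv.swap 0 1) (by decide) (by decide) (by decide) (by decide)
    have hn12 := hsame (Equiv.swap 0 2) (Equiv.swap 1 2) (by decide) (by decide) (by decide) (by decide)
    have hn21 := hsame (Equiv.swap 1 2) (Equiv.swap 0 2) (by decide) (by decide) (by decide) (by decide)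
    by_cases hb' : qf b = Equiv.swap 0 1
    · obtain ⟨m, hm⟩ := hmod (Equiv.swap 0 2) (fun e => h12 (hb'.symm.trans e.symm))
      omega
    · obtain ⟨m, hm⟩ := hmod (Equiv.swap 0 1) (fun e => hb' e.symm)
      omega
  -- the fixed points of `b`
  set B : ↥L := ⟨b, hWL hbW⟩ with hB
  set C : ↥L := ⟨c, hWL hcW⟩ with hC
  have hBB : B * B = 1 := Subtype.ext (sq_one hE S.hb)
  have hCC : C * C = 1 := Subtype.ext (sq_one hE S.hc)
  set CB := Subgroup.centralizer ({B} : Set ↥L) with hCB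
  have hLcard : Nat.card ↥L = 6 * 4952179814400 := by
    rw [Subgroup.card_eq_card_quotient_mul_card_subgroup N, Nat.card_congr eq.toEquiv, hNcard,
      Nat.card_perm, Nat.card_fin]
    rfl
  have horb := card_eq_orbit_mul (⊤ : Subgroup ↥L) B {z : ↥L | (z : G) ∈ W}
    (fun k _ => hconjW k hbW) (fun o ho => by
      obtain ⟨l, hl⟩ := htrans hbW ho
      exact ⟨l, Subgroup.mem_top _, Subtype.ext hl⟩)
  rw [show {z : ↥L | (z : G) ∈ W}.ncard = W.ncard from Set.ncard_congr (fun z _ => (z : G))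
    (fun z hz => hz) (fun z w _ _ e => Subtype.ext e) (fun z hz => ⟨⟨z, hWL hz⟩, hz, rfl⟩), hWn,
    top_inf_eq, Subgroup.card_top, hLcard, ← hCB] at horb
  let φ : ↥CB →* Equiv.Perm (Fin 3) := q.comp CB.subtype
  have hrange : φ.range = Subgroup.zpowers (q B) := by
    refine le_antisymm ?_ (Subgroup.zpowers_le.2
      ⟨⟨B, Subgroup.mem_centralizer_singleton_iff.2 rfl⟩, rfl⟩)
    rintro _ ⟨⟨k, hk⟩, rfl⟩
    have hb2 : q B * q B = 1 := by rw [← map_mul, hBB, map_one]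
    rcases g2_perm_three_pair (q B) (q k) hb2 (by rw [← qf_eq]; exact qf_ne hbW) (by
      rw [← map_mul, ← map_mul]
      exact congrArg q (Subgroup.mem_centralizer_singleton_iff.1 hk)) with h | h
    · show q k ∈ _
      rw [h]; exact one_mem _
    · show q k ∈ _
      rw [h]; exact Subgroup.mem_zpowers _
  have hcardφ : Nat.card φ.range = 2 := by
    rw [hrange, Nat.card_zpowers]
    exact orderOf_eq_prime (by rw [pow_two, ← map_mul, hBB, map_one])
      (by rw [← qf_eq]; exact qf_ne hbW)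
  have hker := φ.ker.card_mul_index
  rw [Subgroup.index_ker, hcardφ] at hker
  let cj : ↥L →* MulAut ↥N := MulAut.conjNormal
  have hcj : ∀ (l : ↥L) (n : ↥N), n ∈ fixGrp (cj l) ↔ Commute l (n : ↥L) := fun l n => by
    rw [mem_fixGrp, Subtype.ext_iff, show ((cj l n : ↥N) : ↥L) = l * n * l⁻¹ from
      MulAut.conjNormal_apply l n]
    exact mul_inv_eq_iff_eq_mul
  have hfixcard : Nat.card ↥(fixGrp (cj B)) = Nat.card φ.ker := Nat.card_congr
    { toFun := fun n => ⟨⟨(n.1 : ↥L), Subgroup.mem_centralizer_singleton_iff.2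
          ((hcj B n.1).1 n.2).eq.symm⟩, (hq _).2 n.1.2⟩
      invFun := fun k => ⟨⟨k.1.1, (hq _).1 k.2⟩, (hcj B _).2
          (Subgroup.mem_centralizer_singleton_iff.1 k.1.2).symm⟩
      left_inv := fun _ => rfl
      right_inv := fun _ => rfl }
  have hfix : Nat.card ↥(fixGrp (cj B)) = 4585351680 := by omega
  -- the pair
  have hnc : ¬ Commute b c := S.hbc
  have P : TrialityPair.IsPair 7 (cj B) (cj C) := by
    refine ⟨by rw [← map_mul, hBB, map_one], by rw [← map_mul, hCC, map_one], ?_, ?_,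
      by rw [hfix]; norm_num⟩
    · rw [← map_mul, ← map_pow, show (B * C) ^ 3 = 1 from
        Subtype.ext (mul_pow_three H.grp S.hb S.hc hnc), map_one]
    · rintro ⟨n, hn⟩
      have hmem : (n : ↥L)⁻¹ * (B * C) ∈ Subgroup.centralizer (N : Set ↥L) :=
        Subgroup.mem_centralizer_iff.2 fun y hy => by
          have h := congrArg (fun f : MulAut ↥N => ((f ⟨y, hy⟩ : ↥N) : ↥L)) hn
          rw [← map_mul] at h
          simp only [MulAut.conj_apply, Subgroup.coe_mul, Subgroup.coe_inv] at h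
          rw [show ((cj (B * C) ⟨y, hy⟩ : ↥N) : ↥L) = B * C * y * (B * C)⁻¹ from
            MulAut.conjNormal_apply (B * C) ⟨y, hy⟩] at h
          calc y * ((n : ↥L)⁻¹ * (B * C))
              = (n : ↥L)⁻¹ * ((n : ↥L) * y * (n : ↥L)⁻¹) * (B * C) := by group
            _ = (n : ↥L)⁻¹ * (B * C) * y := by rw [h]; group
      have hBC : B * C ∈ N := by
        have := mul_mem n.2 (hcentN hmem)
        rwa [mul_inv_cancel_left] at this
      have h1 := (hq _).2 hBC
      rw [map_mul] at h1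
      refine hσ ?_
      rw [qf_eq (hWL hbW), qf_eq (hWL hcW)]
      exact mul_eq_one_iff_eq_inv.1 h1 |>.trans (inv_eq_of_mul_eq_one_right
        (by rw [← map_mul, hCC, map_one]))
  obtain ⟨i⟩ := TrialityPair.fixed_pair_iso eN P hfix
  -- transport
  have hmap : ((fixGrp (cj B) ⊓ fixGrp (cj C)).map N.subtype).map L.subtype =
      Subgroup.centralizer (Subgroup.closure ({a, b, c, d} : Set G) : Set G) := by
    rw [Subgroup.centralizer_closure]
    ext k
    constructor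
    · rintro ⟨_, ⟨n, ⟨h1, h2⟩, rfl⟩, rfl⟩
      obtain ⟨ka, kd⟩ := hmemL.1 (n.1).2
      refine Subgroup.mem_centralizer_iff.2 fun f hf => ?_
      rcases hf with rfl | rfl | rfl | rfl
      exacts [ka.symm, congrArg Subtype.val ((hcj B n).1 h1).eq,
        congrArg Subtype.val ((hcj C n).1 h2).eq, kd.symm]
    · intro hk
      have h := fun f hf => (Subgroup.mem_centralizer_iff.1 hk f hf).symm
      have hkL : k ∈ L := hmemL.2 ⟨h a (by simp), h d (by simp)⟩
      have kb : Commute (⟨k, hkL⟩ : ↥L) B := Subtype.ext (h b (by simp))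
      have kc : Commute (⟨k, hkL⟩ : ↥L) C := Subtype.ext (h c (by simp))
      have hkN : (⟨k, hkL⟩ : ↥L) ∈ N := (hq _).1 (g2_perm_three_kill (q B) (q C) (q ⟨k, hkL⟩)
        (by rw [← map_mul, hBB, map_one]) (by rw [← map_mul, hCC, map_one])
        (by rw [← qf_eq]; exact qf_ne hbW) (by rw [← qf_eq]; exact qf_ne hcW)
        (by rw [← qf_eq, ← qf_eq]; exact hσ) (kb.map q).eq (kc.map q).eq)
      exact ⟨⟨k, hkL⟩, ⟨⟨_, hkN⟩, ⟨(hcj B _).2 kb.symm, (hcj C _).2 kc.symm⟩, rfl⟩, rfl⟩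
  exact ⟨((MulEquiv.subgroupCongr hmap).symm.trans
    ((Subgroup.equivMapOfInjective _ _ L.subtype_injective).symm.trans
      (Subgroup.equivMapOfInjective _ _ N.subtype_injective).symm)).trans i⟩

end M24

end Cfsg.Agent.Transpos
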