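import Cfsg.Agent.Lib.Transpos.M24Compat
import Cfsg.Agent.Lib.Transpos.M24Third

/-!
# The simple subgroup at two non-commuting members and the connected parts of their common members

`M24F.exists_core`: the joint centraliser of non-commuting members of type M(24) has a simple normal
subgroup containing the product of any two commuting common members; it lies in the group generated by each
connected part of the common members, since there are at most nine parts.
-/

set_option autoImplicit false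
set_option linter.style.haveILetI false
set_option linter.unusedSectionVars false

namespace Cfsg.Agent.Transpos

open Cfsg Cfsg.Agent.ClassicalSimple

universe u

variable {G : Type u} [Group G]

/-- The part of `b` in the graph of commuting members of `T`. -/
def commPart (T : Set G) (b : G) : Set G :=
  {x | Relation.ReflTransGen (fun p q => q ∈ T ∧ p ∈ T ∧ p ≠ q ∧ Commute p q) b x}

theorem mem_commPart_self (T : Set G) (b : G) : b ∈ commPart T b := Relation.ReflTransGen.refl

theorem commPart_subset {T : Set G} {b : G} (hb : b ∈ T) : commPart T b ⊆ T := by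
  intro x hx
  change Relation.ReflTransGen _ b x at hx
  induction hx with
  | refl => exact hb
  | tail _ h _ => exact h.1

theorem commPart_step {T : Set G} {b x y : G} (hx : x ∈ commPart T b) (hxT : x ∈ T) (hy : y ∈ T)
    (hne : x ≠ y) (hc : Commute x y) : y ∈ commPart T b :=
  Relation.ReflTransGen.tail hx ⟨hy, hxT, hne, hc⟩

theorem commPart_eq {T : Set G} {b x : G} (hx : x ∈ commPart T b) : commPart T x = commPart T b := by
  have hs : Std.Symm (fun p q : G => q ∈ T ∧ p ∈ T ∧ p ≠ q ∧ Commute p q) :=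
    ⟨fun p q h => ⟨h.2.1, h.1, h.2.2.1.symm, h.2.2.2.symm⟩⟩
  have hx' : Relation.ReflTransGen (fun p q => q ∈ T ∧ p ∈ T ∧ p ≠ q ∧ Commute p q) x b :=
    Std.Symm.symm _ _ hx
  exact Set.ext fun y => ⟨fun h => Relation.ReflTransGen.trans hx h,
    fun h => Relation.ReflTransGen.trans hx' h⟩

theorem conj_mem_commPart {T : Set G} {n : G} (hn : ∀ z ∈ T, n * z * n⁻¹ ∈ T) {b x : G}
    (hx : x ∈ commPart T b) : n * x * n⁻¹ ∈ commPart T (n * b * n⁻¹) := by
  change Relation.ReflTransGen _ b x at hx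
  induction hx with
  | refl => exact Relation.ReflTransGen.refl
  | tail _ h ih =>
    exact ih.tail ⟨hn _ h.1, hn _ h.2.1, fun e => h.2.2.1 (mul_left_cancel (mul_right_cancel e)),
      (Commute.conj_iff n).2 h.2.2.2⟩

variable [Finite G] {D : Set G}

namespace M24F

variable (H : M24F D)
include H

/-- The connected parts of the common members are large. -/
theorem le_ncard_part {a c b : G} (ha : a ∈ D) (hc : c ∈ D) (hac : ¬ Commute a c)
    (hb : b ∈ Dc D a ∩ Dc D c) : 352 ≤ (commPart (Dc D a ∩ Dc D c) b).ncard := by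
  have hsub : insert b ((Dc D a ∩ Dc D c) ∩ Dc D b) ⊆ commPart (Dc D a ∩ Dc D c) b :=
    Set.insert_subset (mem_commPart_self _ b) fun z hz =>
      commPart_step (mem_commPart_self _ b) hb hz.1 hz.2.2.1.symm hz.2.2.2
  have h := Set.ncard_le_ncard hsub (Set.toFinite _)
  rwa [Set.ncard_insert_of_notMem fun h => h.2.2.1 rfl, H.toM24.ncard_common_adj ha hc hac hb] at h

/-- There are at most nine parts. -/
theorem ncard_parts_le {a c : G} (ha : a ∈ D) (hc : c ∈ D) (hac : ¬ Commute a c) :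
    ((fun b => commPart (Dc D a ∩ Dc D c) b) '' (Dc D a ∩ Dc D c)).ncard ≤ 9 := by
  classical
  set T := Dc D a ∩ Dc D c with hT
  haveI : Fintype G := Fintype.ofFinite G
  set P := T.toFinset.image fun b => (commPart T b).toFinset with hP
  have hdisj : (P : Set (Finset G)).PairwiseDisjoint id := by
    intro s hs t ht hne
    simp only [hP, Finset.coe_image, Set.mem_image, Finset.mem_coe, Set.mem_toFinset] at hs ht
    obtain ⟨b, -, rfl⟩ := hs
    obtain ⟨b', -, rfl⟩ := ht
    refine Finset.disjoint_left.2 fun x hx hx' => hne ?_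
    simp only [id, Set.mem_toFinset] at hx hx'
    simp only [Set.toFinset_inj]
    rw [← commPart_eq hx, commPart_eq hx']
  have hsum : ∑ s ∈ P, s.card ≤ 3240 := by
    have h1 : (P.biUnion id).card = ∑ s ∈ P, s.card := Finset.card_biUnion hdisj
    have h2 : P.biUnion id ⊆ T.toFinset := by
      intro x hx
      simp only [hP, Finset.mem_biUnion, Finset.mem_image, Set.mem_toFinset, id] at hx
      obtain ⟨_, ⟨b, hb, rfl⟩, hxb⟩ := hx
      exact Set.mem_toFinset.2 (commPart_subset hb (Set.mem_toFinset.1 hxb))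
    have h3 := Finset.card_le_card h2
    rw [h1, ← Set.ncard_eq_toFinset_card', (H.toM24.pair_data H.prim H.type ha hc hac).1] at h3
    exact h3
  have hlow : P.card * 352 ≤ ∑ s ∈ P, s.card := by
    refine le_trans (le_of_eq (by simp)) (Finset.sum_le_sum (f := fun _ => 352) fun s hs => ?_)
    simp only [hP, Finset.mem_image, Set.mem_toFinset] at hs
    obtain ⟨b, hb, rfl⟩ := hs
    rw [← Set.ncard_eq_toFinset_card']
    exact H.le_ncard_part ha hc hac hb
  have himg : ((fun b => commPart T b) '' T).ncard = P.card := by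
    rw [← Set.ncard_coe_finset, hP, Finset.coe_image, Set.coe_toFinset]
    refine Set.ncard_congr (fun s _ => s.toFinset) ?_ (fun s t _ _ e => Set.toFinset_inj.1 e) ?_
    · rintro _ ⟨b, hb, rfl⟩
      exact ⟨b, hb, rfl⟩
    · rintro _ ⟨b, hb, rfl⟩
      exact ⟨_, ⟨b, hb, rfl⟩, rfl⟩
  rw [himg]
  omega

/-- The simple subgroup at two non-commuting members: products of commuting common members lie in it, and
it lies in the group of each part. -/
theorem exists_core {a c : G} (ha : a ∈ D) (hc : c ∈ D) (hac : ¬ Commute a c) :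
    ∃ N : Subgroup G,
      (∀ z ∈ Dc D a ∩ Dc D c, ∀ z' ∈ Dc D a ∩ Dc D c, Commute z z' → z * z' ∈ N) ∧
      ∀ b ∈ Dc D a ∩ Dc D c, N ≤ Subgroup.closure (commPart (Dc D a ∩ Dc D c) b) := by
  classical
  obtain ⟨χ, hχ⟩ := H.sign
  have hstr := H.toM24.common_structure H.prim H.type ha hc hac
  set L := Subgroup.centralizer ({a, c} : Set G)
  set T := Dc D a ∩ Dc D c with hT
  obtain ⟨hKL, N, hN, -, ⟨eN⟩, ⟨eq⟩⟩ := hstr
  haveI := S0296.result (F := ZMod 3) 4 le_rfl
  haveI hNs : IsSimpleGroup ↥N := ClassicalSimple.isSimpleGroup_of_equiv eN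
  have hNcard : Nat.card ↥N = 4952179814400 := (Nat.card_congr eN.toEquiv).trans card_pomega_eight_three
  have hTL : ∀ {z}, z ∈ T → z ∈ L := fun hz => hKL ▸ Subgroup.subset_closure hz
  let q : ↥L →* Equiv.Perm (Fin 3) := eq.toMonoidHom.comp (QuotientGroup.mk' N)
  have hq : ∀ x, q x = 1 ↔ x ∈ N := fun x => by
    show eq (QuotientGroup.mk x) = 1 ↔ _
    rw [MulEquiv.map_eq_one_iff, QuotientGroup.eq_one_iff]
  -- the sign is trivial on the simple subgroup
  have hχN : ∀ n : ↥N, χ ((n : ↥L) : G) = 1 := by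
    set f : ↥N →* ℤˣ := χ.comp (L.subtype.comp N.subtype) with hf
    rcases (MonoidHom.normal_ker f).eq_bot_or_eq_top with h | h
    · exfalso
      have h2 := Nat.card_le_card_of_injective f ((MonoidHom.ker_eq_bot_iff f).1 h)
      rw [hNcard, Nat.card_eq_fintype_card, Fintype.card_units_int] at h2
      omega
    · exact fun n => (MonoidHom.mem_ker).1 (h ▸ Subgroup.mem_top n : n ∈ f.ker)
  have hout : ∀ z (hz : z ∈ T), q ⟨z, hTL hz⟩ ≠ 1 := fun z hz h => by
    have h1 := hχN ⟨_, (hq _).1 h⟩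
    rw [hχ z hz.1.1] at h1
    exact absurd h1 (by decide)
  refine ⟨N.map L.subtype, fun z hz z' hz' hzz => ?_, fun b hb => ?_⟩
  · have hsq : ∀ {w} (hw : w ∈ T), q ⟨w, hTL hw⟩ * q ⟨w, hTL hw⟩ = 1 := fun {w} hw => by
      rw [← map_mul, show (⟨w, hTL hw⟩ : ↥L) * ⟨w, hTL hw⟩ = 1 from
        Subtype.ext (sq_one H.grp.1 hw.1.1), map_one]
    have e : q ⟨z, hTL hz⟩ = q ⟨z', hTL hz'⟩ := perm_three_inv_eq _ _ (hsq hz) (hsq hz') (by
      rw [← map_mul, ← map_mul]
      exact congrArg q (Subtype.ext hzz.eq)) (hout z hz) (hout z' hz')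
    exact ⟨⟨z, hTL hz⟩ * ⟨z', hTL hz'⟩, (hq _).1 (by rw [map_mul, e, hsq hz']), rfl⟩
  -- `N` fixes each part
  have hconj : ∀ n : ↥N, ∀ z ∈ T, ((n : ↥L) : G) * z * ((n : ↥L) : G)⁻¹ ∈ T := fun n z hz =>
    conj_common H.grp (n : ↥L).2 hz
  let cj : ↥N → G → G := fun n z => ((n : ↥L) : G) * z * ((n : ↥L) : G)⁻¹
  have hmap : ∀ (n : ↥N) {y}, y ∈ T → commPart T (cj n y) = cj n '' commPart T y := by
    intro n y _
    refine Set.Subset.antisymm (fun x hx => ?_) ?_
    · refine ⟨cj n⁻¹ x, ?_, by simp [cj, mul_assoc]⟩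
      have h := conj_mem_commPart (hconj n⁻¹) hx
      rwa [show ((n⁻¹ : ↥N) : ↥L).1 * cj n y * (((n⁻¹ : ↥N) : ↥L) : G)⁻¹ = y by
        simp [cj, mul_assoc]] at h
    · rintro _ ⟨x, hx, rfl⟩
      exact conj_mem_commPart (hconj n) hx
  set S := commPart T b with hS
  let Kst : Subgroup ↥N :=
    { carrier := {n | ∀ x, x ∈ S ↔ cj n x ∈ S}
      one_mem' := fun x => by simp [cj]
      mul_mem' := fun {m n} hm hn x => by
        rw [hn x, hm (cj n x)]
        simp [cj, mul_assoc]
      inv_mem' := fun {m} hm x => by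
        rw [hm (cj m⁻¹ x)]
        simp [cj, mul_assoc] }
  have hidx : Kst.index ≤ 9 := by
    rw [Subgroup.index]
    have hwd : ∀ m n : ↥N, QuotientGroup.leftRel Kst m n → cj m '' S = cj n '' S := by
      intro m n hmn
      rw [QuotientGroup.leftRel_apply] at hmn
      ext x
      constructor
      · rintro ⟨y, hy, rfl⟩
        refine ⟨cj (m⁻¹ * n)⁻¹ y, ?_, by simp [cj, mul_assoc]⟩
        exact ((inv_mem hmn : (m⁻¹ * n)⁻¹ ∈ Kst) y).1 hy
      · rintro ⟨y, hy, rfl⟩
        exact ⟨cj (m⁻¹ * n) y, (hmn y).1 hy, by simp [cj, mul_assoc]⟩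
    let F : ↥N ⧸ Kst → Set G := Quotient.lift (fun n => cj n '' S) hwd
    have hF : ∀ p, F p ∈ (fun b => commPart T b) '' T := by
      rintro ⟨n⟩
      exact ⟨cj n b, hconj n b hb, hmap n hb⟩
    have hinj : Function.Injective F := by
      rintro ⟨m⟩ ⟨n⟩ (e : cj m '' S = cj n '' S)
      refine Quotient.sound ?_
      show QuotientGroup.leftRel Kst m n
      rw [QuotientGroup.leftRel_apply]
      intro x
      have hcancel : ∀ {y}, y ∈ S ↔ cj m y ∈ cj m '' S := fun {y} =>
        ⟨fun h => ⟨y, h, rfl⟩, fun ⟨w, hw, hwy⟩ => by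
          rwa [← mul_left_cancel (mul_right_cancel hwy)]⟩
      rw [hcancel (y := cj (m⁻¹ * n) x), show cj m (cj (m⁻¹ * n) x) = cj n x by simp [cj, mul_assoc], e]
      exact ⟨fun h => ⟨x, h, rfl⟩, fun ⟨w, hw, hwy⟩ => by
        rwa [← mul_left_cancel (mul_right_cancel hwy)]⟩
    rw [← Nat.card_range_of_injective hinj]
    refine le_trans ?_ (H.ncard_parts_le ha hc hac)
    rw [← Nat.card_coe_set_eq]
    exact Nat.card_mono (Set.toFinite _) (Set.range_subset_iff.2 hF)
  have htop : Kst = ⊤ := by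
    by_contra hne
    set f := MulAction.toPermHom ↥N (↥N ⧸ Kst)
    have hker : f.ker = Kst.normalCore := Kst.normalCore_eq_ker.symm
    rcases (MonoidHom.normal_ker f).eq_bot_or_eq_top with h | h
    · have h2 := Nat.card_le_card_of_injective f ((MonoidHom.ker_eq_bot_iff f).1 h)
      rw [hNcard, Nat.card_perm] at h2
      have h3 : (Nat.card (↥N ⧸ Kst)).factorial ≤ Nat.factorial 9 := Nat.factorial_le hidx
      have h9 : Nat.factorial 9 = 362880 := by decide +kernel
      omega
    · exact hne (eq_top_iff.2 (le_trans (le_of_eq (h.symm.trans hker)) Kst.normalCore_le))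
  have hfix : ∀ (n : ↥N) x, x ∈ S → cj n x ∈ S := fun n x hx =>
    ((htop ▸ Subgroup.mem_top n : n ∈ Kst) x).1 hx
  -- the normal subgroup it meets
  set M : Subgroup ↥N := ((Subgroup.closure S).subgroupOf L).subgroupOf N
  have hMn : M.Normal := ⟨fun m hm n => by
    have hle : Subgroup.closure S ≤ (Subgroup.closure S).comap
        (MulAut.conj ((n : ↥L) : G)).toMonoidHom :=
      (Subgroup.closure_le _).2 fun x hx => Subgroup.subset_closure (hfix n x hx)
    exact hle hm⟩
  have hMtop : M = ⊤ := hMn.eq_bot_or_eq_top.resolve_left fun h => by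
    obtain ⟨e, he, hbe⟩ : (T ∩ Dc D b).Nonempty := Set.nonempty_of_ncard_ne_zero
      ((H.toM24.ncard_common_adj ha hc hac hb) ▸ (by norm_num : (351 : ℕ) ≠ 0))
    have hsqb := sq_one H.grp.1 hb.1.1
    have eS : e ∈ S := commPart_step (mem_commPart_self T b) hb he hbe.2.1.symm hbe.2.2
    have hsq' : ∀ {w} (hw : w ∈ T), q ⟨w, hTL hw⟩ * q ⟨w, hTL hw⟩ = 1 := fun {w} hw => by
      rw [← map_mul, show (⟨w, hTL hw⟩ : ↥L) * ⟨w, hTL hw⟩ = 1 from
        Subtype.ext (sq_one H.grp.1 hw.1.1), map_one]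
    have hqe : q ⟨b, hTL hb⟩ = q ⟨e, hTL he⟩ := perm_three_inv_eq _ _ (hsq' hb) (hsq' he) (by
      rw [← map_mul, ← map_mul]
      exact congrArg q (Subtype.ext hbe.2.2.eq)) (hout b hb) (hout e he)
    have hbeN : (⟨b, hTL hb⟩ * ⟨e, hTL he⟩ : ↥L) ∈ N :=
      (hq _).1 (by rw [map_mul, hqe, hsq' he])
    have hm : (⟨_, hbeN⟩ : ↥N) ∈ M :=
      mul_mem (Subgroup.subset_closure (mem_commPart_self T b)) (Subgroup.subset_closure eS)
    rw [h, Subgroup.mem_bot] at hm
    have h1 : b * e = 1 := congrArg (fun w : ↥N => ((w : ↥L) : G)) hm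
    exact hbe.2.1 (mul_left_cancel (h1.trans hsqb.symm))
  rintro _ ⟨x, hx, rfl⟩
  exact (hMtop ▸ Subgroup.mem_top (⟨x, hx⟩ : ↥N) : (⟨x, hx⟩ : ↥N) ∈ M)

end M24F

end Cfsg.Agent.Transpos
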