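import Cfsg.Agent.Lib.Transpos.M24IntoSetting
import Cfsg.Agent.Lib.Transpos.M24IntoCore

/-!
# The image of a member not commuting with the base member

For an isomorphism `φ` at `a` onto the centraliser of `d` and `c` not commuting with `a` there is a member
`u` of the target whose common commuting members with `d` are exactly the images of those of `a` and `c`, and
every compatible isomorphism at a common member sends `c` to `u` or to `d u d`.
-/

set_option autoImplicit false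
set_option linter.style.haveILetI false
set_option linter.unusedSectionVars false

namespace Cfsg.Agent.Transpos

open Cfsg Cfsg.Agent.ClassicalSimple

universe u v

variable {G : Type u} [Group G] [Finite G] {D : Set G}

namespace M24F

variable (H : M24F D)
include H

/-- In the chart at a common member only three members commute with the common members there. -/
theorem third_at_chart {a c b v : G} (ha : a ∈ D) (hc : c ∈ D) (hac : ¬ Commute a c)
    (hb : b ∈ Dc D a ∩ Dc D c) (hv : v ∈ Dc D b)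
    (hall : ∀ z ∈ Dc D a ∩ Dc D c, z ∈ Dc D b → Commute v z) : v = a ∨ v = c ∨ v = a * c * a := by
  obtain ⟨C, hC⟩ := H.toM24.chart b hb.1.1
  have hab := mem_dc_symm ha hb.1
  have hcb := mem_dc_symm hc hb.2
  have h3 : a * c * a ∈ Dc D b := C.tr.conj a hab c hcb
  have e3 : C.img h3 = C.img hab * C.img hcb * C.img hab := by
    show C.π _ = C.π _ * C.π _ * C.π _
    rw [← map_mul, ← map_mul]
    rfl
  rcases hC.thirdEq (C.img_mem hab) (C.img_mem hcb) (C.img_mem hv)
      (fun h => hac ((C.comm_iff hab hcb).1 h)) (fun β hβ => by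
        obtain ⟨z, hz, rfl⟩ := C.lift β hβ.1.1
        exact (C.comm_iff hv hz).2 (hall z ((C.img_common_iff hab hcb hz).1 hβ) hz)) with k | k | k
  · exact Or.inl (C.inj hv hab k)
  · exact Or.inr (Or.inl (C.inj hv hcb k))
  · exact Or.inr (Or.inr (C.inj hv h3 (k.trans e3.symm)))

/-- In the cover at two commuting common members only three members commute with the common ones. -/
theorem third_at_pair {a c b b₂ v : G} (ha : a ∈ D) (hc : c ∈ D) (hac : ¬ Commute a c)
    (hb : b ∈ Dc D a ∩ Dc D c) (hb₂ : b₂ ∈ Dc D a ∩ Dc D c) (hbb : b₂ ∈ Dc D b) (hv : v ∈ Dc D b)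
    (hv₂ : v ∈ Dc D b₂)
    (hall : ∀ z ∈ Dc D a ∩ Dc D c, z ∈ Dc D b → z ∈ Dc D b₂ → Commute v z) :
    v = a ∨ v = c ∨ v = a * c * a := by
  obtain ⟨C, hC⟩ := H.toM24.chart₂_third hb.1.1 hbb
  have mem2 : ∀ {y}, y ∈ Dc D b → y ∈ Dc D b₂ → y ∈ Dc (Dc D b) b₂ :=
    fun h1 h2 => by rw [dc_dc_eq]; exact ⟨h1, h2⟩
  have hA := mem2 (mem_dc_symm ha hb.1) (mem_dc_symm ha hb₂.1)
  have hU := mem2 (mem_dc_symm hc hb.2) (mem_dc_symm hc hb₂.2)
  have hV := mem2 hv hv₂
  have h3 : a * c * a ∈ Dc (Dc D b) b₂ := C.tr.conj a hA c hU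
  have e3 : C.img h3 = C.img hA * C.img hU * C.img hA := by
    show C.π _ = C.π _ * C.π _ * C.π _
    rw [← map_mul, ← map_mul]
    rfl
  rcases hC (C.img_mem hA) (C.img_mem hU) (C.img_mem hV)
      (fun h => hac ((C.comm_iff hA hU).1 h)) (fun β hβ => by
        obtain ⟨z, hz, rfl⟩ := C.lift β hβ.1.1
        have h1 := (C.dc_iff hA hz).1 hβ.1
        have h2 := (C.dc_iff hU hz).1 hβ.2
        obtain ⟨hzb, hzb₂⟩ : z ∈ Dc D b ∩ Dc D b₂ := (dc_dc_eq (D := D) (a := b) (b := b₂)) ▸ hz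
        exact (C.comm_iff hV hz).2 (hall z ⟨⟨hzb.1, h1.2⟩, hzb.1, h2.2⟩ hzb hzb₂)) with k | k | k
  · exact Or.inl (C.inj hV hA k)
  · exact Or.inr (Or.inl (C.inj hV hU k))
  · exact Or.inr (Or.inr (C.inj hV h3 (k.trans e3.symm)))

end M24F

variable {X : Type v} [Group X] {E : Set X}

/-- Commuting with `d` and with `u` means commuting with `d` and `d u d`. -/
theorem commute_conj_self {d u x : X} (hd : Commute x d) (hu : Commute x u) : Commute x (d * u * d) :=
  (hd.mul_right hu).mul_right hd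

/-- `d u d` twice. -/
theorem conj_conj_self {d : X} (hd : d * d = 1) (u : X) : d * (d * u * d) * d = u := by
  rw [show d * (d * u * d) * d = d * d * u * (d * d) by group, hd, one_mul, mul_one]

namespace InTo

variable (I : InTo D E) (H : M24F D) {a c : G} {d : X} (ha : a ∈ D) (hc : c ∈ D)
  (hac : ¬ Commute a c) (hd : d ∈ E) (φ : Star D E a d)
include I H ha hc hac hd

/-- Compatible isomorphisms at commuting common members send `c` alike up to `d`. -/
theorem adj {b b₂ : G} (hb : b ∈ Dc D a ∩ Dc D c) (hb₂ : b₂ ∈ Dc D a ∩ Dc D c) (hbb : b₂ ∈ Dc D b)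
    (ψ : Star D E b (φ.f b)) (hψa : ψ.f a = d) (hψ : ∀ x ∈ Dc D a ∩ Dc D b, ψ.f x = φ.f x)
    (ψ₂ : Star D E b₂ (φ.f b₂)) (hψa₂ : ψ₂.f a = d) (hψ₂ : ∀ x ∈ Dc D a ∩ Dc D b₂, ψ₂.f x = φ.f x) :
    ψ₂.f c = ψ.f c ∨ ψ₂.f c = d * ψ.f c * d := by
  have hcb := mem_dc_symm hc hb.2
  have hcb₂ := mem_dc_symm hc hb₂.2
  have hab := mem_dc_symm ha hb.1
  have hab₂ := mem_dc_symm ha hb₂.1
  have hbb' := mem_dc_symm hb.1.1 hbb
  have e1 : ψ.f b₂ = φ.f b₂ := hψ b₂ ⟨hb₂.1, hbb⟩
  have e2 : ψ₂.f b = φ.f b := hψ₂ b ⟨hb.1, hbb'⟩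
  have hv : ψ₂.f c ∈ Dc E (φ.f b) := e2 ▸ (ψ₂.f_dc hbb' hcb₂).2 hcb
  have hv₂ : ψ₂.f c ∈ Dc E (φ.f b₂) := ψ₂.f_mem hcb₂
  obtain ⟨x, hx, ex⟩ := ψ.exists_f hv
  have hx₂ : x ∈ Dc D b₂ := (ψ.f_dc hbb hx).1 (by rw [ex, e1]; exact hv₂)
  rcases H.third_at_pair ha hc hac hb hb₂ hbb hx hx₂ (fun z hz hzb hzb₂ => by
      refine (ψ.f_comm (Subgroup.subset_closure hx) (Subgroup.subset_closure hzb)).1 ?_
      rw [ex, hψ z ⟨hz.1, hzb⟩, ← hψ₂ z ⟨hz.1, hzb₂⟩]
      exact (ψ₂.f_comm (Subgroup.subset_closure hcb₂) (Subgroup.subset_closure hzb₂)).2 hz.2.2.2)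
    with k | k | k
  · subst k
    have e := ψ₂.f_inj (Subgroup.subset_closure hab₂) (Subgroup.subset_closure hcb₂)
      (hψa₂.trans (hψa.symm.trans ex))
    exact absurd (e ▸ Commute.refl x) hac
  · subst k
    exact Or.inl ex.symm
  · subst k
    right
    rw [← ex, ψ.f_mul (mul_mem (Subgroup.subset_closure hab) (Subgroup.subset_closure hcb))
      (Subgroup.subset_closure hab), ψ.f_mul (Subgroup.subset_closure hab) (Subgroup.subset_closure hcb),
      hψa]

/-- The image of a far member. -/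
theorem exists_far : ∃ u ∈ E, ¬ Commute d u ∧
    φ.f '' (Dc D a ∩ Dc D c) = Dc E d ∩ Dc E u ∧
    ∀ b ∈ Dc D a ∩ Dc D c, ∀ ψ : Star D E b (φ.f b), ψ.f a = d →
      (∀ x ∈ Dc D a ∩ Dc D b, ψ.f x = φ.f x) → ψ.f c = u ∨ ψ.f c = d * u * d := by
  classical
  have dd := I.sq d hd
  have haK := H.toM24.mem_closure_dc ha
  have hφa : φ.f a = d := φ.f_self haK
  set T := Dc D a ∩ Dc D c with hT
  choose Ψ hΨa hΨ using fun x (hx : x ∈ T) => I.compat H ha hx.1 hd φ
  obtain ⟨b, hb⟩ : T.Nonempty := H.toM24.common_nonempty H.prim H.type ha hc hac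
  have hcb := mem_dc_symm hc hb.2
  set u := (Ψ b hb).f c with hu
  have huE : u ∈ E := ((Ψ b hb).f_mem hcb).1
  have hdu : ¬ Commute d u := fun h => hac
    (((Ψ b hb).f_comm (Subgroup.subset_closure (mem_dc_symm ha hb.1)) (Subgroup.subset_closure hcb)).1
      (by rw [hΨa b hb]; exact h))
  -- the part of `b`
  set S := commPart T b with hS
  have hpart : ∀ x ∈ S, ∀ hx : x ∈ T, (Ψ x hx).f c = u ∨ (Ψ x hx).f c = d * u * d := by
    intro x hxS
    change Relation.ReflTransGen _ b x at hxS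
    induction hxS with
    | refl => intro hx; exact Or.inl rfl
    | tail _ hstep ih =>
      intro hy
      obtain ⟨-, hxT, hne, hcomm⟩ := hstep
      rcases I.adj H ha hc hac hd φ hxT hy ⟨hy.1.1, hne.symm, hcomm⟩ _ (hΨa _ hxT) (hΨ _ hxT) _
          (hΨa _ hy) (hΨ _ hy) with e | e <;> rcases ih hxT with e' | e' <;> rw [e, e']
      · exact Or.inl rfl
      · exact Or.inr rfl
      · exact Or.inr rfl
      · exact Or.inl (conj_conj_self dd u)
  have hSu : ∀ x ∈ S, Commute (φ.f x) u := fun x hxS => by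
    have hx : x ∈ T := commPart_subset hb hxS
    have h1 : Commute (φ.f x) ((Ψ x hx).f c) := ((Ψ x hx).f_mem (mem_dc_symm hc hx.2)).2.2
    rcases hpart x hxS hx with e | e <;> rw [e] at h1
    · exact h1
    · have h2 : Commute (φ.f x) d := (φ.f_mem hx.1).2.2.symm
      have h3 := commute_conj_self h2 h1
      rwa [conj_conj_self dd] at h3
  have hSle : Subgroup.closure S ≤ Subgroup.closure (Dc D a) :=
    Subgroup.closure_mono fun x hx => (commPart_subset hb hx).1
  have hcl : ∀ x ∈ Subgroup.closure S, Commute (φ.f x) u := by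
    intro x hx
    induction hx using Subgroup.closure_induction with
    | mem z hz => exact hSu z hz
    | one => rw [φ.f_one]; exact Commute.one_left u
    | mul p q hp hq hp' hq' => rw [φ.f_mul (hSle hp) (hSle hq)]; exact hp'.mul_left hq'
    | inv p hp hp' => rw [φ.f_inv (hSle hp)]; exact hp'.inv_left
  -- all common members
  obtain ⟨N, hN2, hNle⟩ := H.exists_core ha hc hac
  have hall : ∀ z ∈ T, Commute (φ.f z) u := by
    intro z hz
    obtain ⟨e, he, f, hf, hef⟩ : ∃ e ∈ T ∩ Dc D z, ∃ f ∈ T ∩ Dc D z, e ≠ f :=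
      (Set.one_lt_ncard (Set.toFinite _)).1
        (by rw [H.toM24.ncard_common_adj ha hc hac hz]; norm_num)
    have key : ∀ w ∈ T ∩ Dc D z, u * φ.f z * u⁻¹ = φ.f z ∨ u * φ.f z * u⁻¹ = φ.f w := fun w hw => by
      have hzc := Subgroup.subset_closure (k := Dc D a) hz.1
      have hwc := Subgroup.subset_closure (k := Dc D a) hw.1.1
      have h1 := hcl _ (hNle b hb (hN2 z hz w hw.1 hw.2.2.2))
      rw [φ.f_mul hzc hwc] at h1
      exact I.perm _ (φ.f_mem hz.1).1 _ ((φ.f_dc hz.1 hw.1.1).2 hw.2) u h1.symm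
    have e1 : u * φ.f z * u⁻¹ = φ.f z := by
      rcases key e he with h | h
      · exact h
      rcases key f hf with h' | h'
      · exact h'
      exact absurd (φ.f_inj (Subgroup.subset_closure he.1.1) (Subgroup.subset_closure hf.1.1)
        (h.symm.trans h')) hef
    exact (mul_inv_eq_iff_eq_mul.1 e1).symm
  have hne : ∀ {z}, z ∈ T → φ.f z ≠ u := fun hz e => hdu (e ▸ (φ.f_mem hz.1).2.2)
  -- every compatible value
  have hval : ∀ z ∈ T, ∀ ψ : Star D E z (φ.f z), ψ.f a = d →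
      (∀ x ∈ Dc D a ∩ Dc D z, ψ.f x = φ.f x) → ψ.f c = u ∨ ψ.f c = d * u * d := by
    intro z hz ψ hψa hψ
    have haz := Subgroup.subset_closure (k := Dc D z) (mem_dc_symm ha hz.1)
    have hcz := Subgroup.subset_closure (k := Dc D z) (mem_dc_symm hc hz.2)
    obtain ⟨x, hx, ex⟩ := ψ.exists_f (⟨huE, (hne hz).symm, hall z hz⟩ : u ∈ Dc E (φ.f z))
    rcases H.third_at_chart ha hc hac hz hx (fun w hw hwz => by
        refine (ψ.f_comm (Subgroup.subset_closure hx) (Subgroup.subset_closure hwz)).1 ?_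
        rw [ex, hψ w ⟨hw.1, hwz⟩]
        exact (hall w hw).symm) with k | k | k <;> subst k
    · rw [hψa] at ex
      exact absurd (ex ▸ Commute.refl d) hdu
    · exact Or.inl ex
    · rw [ψ.f_mul (mul_mem haz hcz) haz, ψ.f_mul haz hcz, hψa] at ex
      refine Or.inr ?_
      rw [← ex, conj_conj_self dd]
  refine ⟨u, huE, hdu, Set.Subset.antisymm ?_ ?_, hval⟩
  · rintro _ ⟨z, hz, rfl⟩
    exact ⟨φ.f_mem hz.1, (φ.f_mem hz.1).1, hne hz, (hall z hz).symm⟩
  rintro m ⟨hmd, hmu⟩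
  obtain ⟨y, hy, rfl⟩ := φ.exists_f hmd
  by_cases hyc : y ∈ Dc D c
  · exact ⟨y, ⟨hy, hyc⟩, rfl⟩
  exfalso
  obtain ⟨s, hs, hys⟩ : (T ∩ Dc D y).Nonempty := by
    refine Set.nonempty_of_ncard_ne_zero fun h0 => ?_
    have h9 := H.toM24.equitable H.prim H.type ha hc hac (closedIn_self _) hy hyc
    rw [h0, (H.toM24.pair_data H.prim H.type ha hc hac).1] at h9
    omega
  obtain ⟨ψ, hψa, hψ⟩ := I.compat H ha hs.1 hd φ
  have hcs := mem_dc_symm hc hs.2
  have hys' := mem_dc_symm hy.1 hys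
  have hyE : ψ.f y = φ.f y := hψ y ⟨hy, hys'⟩
  have hyu : Commute (φ.f y) u := hmu.2.2.symm
  have h1 : Commute (φ.f y) (ψ.f c) := by
    rcases hval s hs ψ hψa hψ with e | e <;> rw [e]
    · exact hyu
    · exact commute_conj_self hmd.2.2.symm hyu
  rw [← hyE] at h1
  have h2 := (ψ.f_comm (Subgroup.subset_closure hys') (Subgroup.subset_closure hcs)).1 h1
  exact hyc ⟨hy.1, fun e => hac (e ▸ hy.2.2), h2.symm⟩

end InTo

end Cfsg.Agent.Transpos
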