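import Cfsg.Agent.Lib.Transpos.M24IntoFar

/-!
# The local isomorphism of commuting graphs into a class that looks like type M(24)

`InTo.exists_map`: an isomorphism at one member continues equivariantly to an injection of the model class
carrying the members commuting with each member onto those commuting with its image.
-/

set_option autoImplicit false
set_option linter.style.haveILetI false
set_option linter.unusedSectionVars false

namespace Cfsg.Agent.Transpos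

open Cfsg Cfsg.Agent.ClassicalSimple

universe u v

variable {G : Type u} [Group G] [Finite G] {D : Set G} {X : Type v} [Group X] {E : Set X}

namespace InTo

variable (I : InTo D E) (H : M24F D)
include I H

/-- The members commuting with a member of `E` number 31671. -/
theorem ncard_dc {e : X} (he : e ∈ E) : (Dc E e).ncard = 31671 := by
  obtain ⟨a, ha, -⟩ := H.prim.2.1
  obtain ⟨s⟩ := I.exists_star H ha he
  rw [← H.toM24.ncard_dc ha]
  have h : s.f '' Dc D a = Dc E e := by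
    refine Set.Subset.antisymm ?_ fun y hy => ?_
    · rintro _ ⟨x, hx, rfl⟩
      exact s.f_mem hx
    · obtain ⟨x, hx, rfl⟩ := s.exists_f hy
      exact ⟨x, hx, rfl⟩
  rw [← h]
  exact Set.ncard_image_of_injOn fun x hx y hy e =>
    s.f_inj (Subgroup.subset_closure hx) (Subgroup.subset_closure hy) e

/-- The local isomorphism. -/
theorem exists_map : ∃ Φ : G → X, Set.MapsTo Φ D E ∧ Set.InjOn Φ D ∧
    (∀ x ∈ D, Φ '' Dc D x = Dc E (Φ x)) ∧
      ∃ a ∈ D, ∃ φ : Star D E a (Φ a), ∀ x ∈ Dc D a, Φ x = φ.f x := by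
  classical
  obtain ⟨a, ha, d, hd, ⟨φ⟩⟩ := I.star
  obtain ⟨c, hc, hac⟩ := H.toM24.exists_off ha
  obtain ⟨u, huE, hdu, hT, hval⟩ := I.exists_far H ha hc hac hd φ
  have dd := I.sq d hd
  have haK := H.toM24.mem_closure_dc ha
  have hφa : φ.f a = d := φ.f_self haK
  have hd1 : d⁻¹ = d := inv_eq_of_mul_eq_one_right dd
  set T := Dc D a ∩ Dc D c with hTdef
  set Γ := Subgroup.closure (Dc D a) with hΓ
  have hΓa : ∀ {g}, g ∈ Γ → Commute g a := fun hg =>
    Subgroup.mem_centralizer_singleton_iff.1 ((H.toM24.cent_eq ha).ge hg)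
  have hfa : ∀ {g}, g ∈ Γ → Commute (φ.f g) d := fun hg => by
    have h := (φ.f_comm hg haK).2 (hΓa hg)
    rwa [hφa] at h
  -- elements fixing `c` fix `u`
  have hTle : Subgroup.closure T ≤ Γ := Subgroup.closure_mono fun x hx => hx.1
  have hTu : ∀ {g}, g ∈ Subgroup.closure T → Commute (φ.f g) u := by
    intro g hg
    induction hg using Subgroup.closure_induction with
    | mem z hz =>
      have h := (hT.le ⟨z, hz, rfl⟩).2
      exact h.2.2.symm
    | one => rw [φ.f_one]; exact Commute.one_left u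
    | mul p q hp hq hp' hq' => rw [φ.f_mul (hTle hp) (hTle hq)]; exact hp'.mul_left hq'
    | inv p hp hp' => rw [φ.f_inv (hTle hp)]; exact hp'.inv_left
  have hfix : ∀ {g}, g ∈ Γ → g * c * g⁻¹ = c → φ.f g * u * (φ.f g)⁻¹ = u := by
    intro g hg e
    obtain ⟨hgen, -⟩ := H.toM24.common_structure H.prim H.type ha hc hac
    have hgT : g ∈ Subgroup.closure T :=
      hgen.ge (mem_centralizer_pair.2 ⟨hΓa hg, mul_inv_eq_iff_eq_mul.1 e⟩)
    rw [(hTu hgT).eq, mul_inv_cancel_right]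
  -- and conversely
  have hTmap : ∀ {g}, g ∈ Γ → φ.f g * u * (φ.f g)⁻¹ = u → ∀ x ∈ T, g * x * g⁻¹ ∈ T := by
    intro g hg e x hx
    have hxΓ : x ∈ Γ := Subgroup.subset_closure hx.1
    have hgx : g * x * g⁻¹ ∈ Γ := mul_mem (mul_mem hg hxΓ) (inv_mem hg)
    have hval' : φ.f (g * x * g⁻¹) = φ.f g * φ.f x * (φ.f g)⁻¹ := by
      rw [φ.f_mul (mul_mem hg hxΓ) (inv_mem hg), φ.f_mul hg hxΓ, φ.f_inv hg]
    have ed : φ.f g * d * (φ.f g)⁻¹ = d := by rw [(hfa hg).eq, mul_inv_cancel_right]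
    have hm : φ.f (g * x * g⁻¹) ∈ φ.f '' T := by
      rw [hT, hval']
      have h := hT.le ⟨x, hx, rfl⟩
      have h1 := (dc_conj_iff I.conj (φ.f g)).2 h.1
      have h2 := (dc_conj_iff I.conj (φ.f g)).2 h.2
      rw [ed] at h1
      rw [e] at h2
      exact ⟨h1, h2⟩
    obtain ⟨y, hy, ey⟩ := hm
    rw [← φ.f_inj (Subgroup.subset_closure hy.1) hgx ey]
    exact hy
  have hfix' : ∀ {g}, g ∈ Γ → φ.f g * u * (φ.f g)⁻¹ = u → g * c * g⁻¹ = c := by
    intro g hg e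
    have e' : φ.f g⁻¹ * u * (φ.f g⁻¹)⁻¹ = u := by
      rw [φ.f_inv hg, inv_inv]
      nth_rewrite 1 [← e]
      group
    have hcD : g * c * g⁻¹ ∈ D := H.toM24.conj_mem g hc
    rcases H.toM24.thirdEq H.prim H.type ha hc hcD hac (fun x hx => by
      have h := hTmap (inv_mem hg) e' x hx
      rw [inv_inv] at h
      have h2 : Commute (g * c * g⁻¹) (g * (g⁻¹ * x * g) * g⁻¹) := (Commute.conj_iff g).2 h.2.2.2
      rwa [show g * (g⁻¹ * x * g) * g⁻¹ = x by group] at h2) with k | k | k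
    · refine absurd ?_ hac
      have h2 : Commute (g * a * g⁻¹) (g * c * g⁻¹) := by
        rw [k, (hΓa hg).eq, mul_inv_cancel_right]
      exact (commute_conj_iff g).1 h2
    · exact k
    · exfalso
      have hg' : a * g ∈ Γ := mul_mem haK hg
      have hai := inv_eq H.grp.1 ha
      have e1 : a * g * c * (a * g)⁻¹ = c := by
        rw [show a * g * c * (a * g)⁻¹ = a * (g * c * g⁻¹) * a⁻¹ by group, k, hai,
          conj_involutive H.grp.1 ha]
      have e2 := hfix hg' e1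
      rw [φ.f_mul haK hg, hφa,
        show d * φ.f g * u * (d * φ.f g)⁻¹ = d * (φ.f g * u * (φ.f g)⁻¹) * d⁻¹ by group, e] at e2
      exact hdu (mul_inv_eq_iff_eq_mul.1 e2)
  have hfar : ∀ x ∈ D, ¬ Commute a x → ∃ g ∈ Γ, g * c * g⁻¹ = x := fun x hx hax => by
    obtain ⟨g, hga, hgc⟩ := H.toM24.exists_conj_off H.prim ha hc hac hx hax
    exact ⟨g, (H.toM24.cent_eq ha).le
      (Subgroup.mem_centralizer_singleton_iff.2 (mul_inv_eq_iff_eq_mul.1 hga)), hgc⟩
  have hfar' : ∀ {g}, g ∈ Γ → ¬ Commute a (g * c * g⁻¹) := fun {g} hg h =>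
    hac ((commute_conj_iff g).1 (by rw [(hΓa hg).eq, mul_inv_cancel_right]; exact h))
  let Φ : G → X := fun x => if x = a then d else if x ∈ Dc D a then φ.f x else
    if h : ∃ g ∈ Γ, g * c * g⁻¹ = x then φ.f h.choose * u * (φ.f h.choose)⁻¹ else 1
  have Φa : Φ a = d := if_pos rfl
  have Φn : ∀ {x}, x ∈ Dc D a → Φ x = φ.f x := fun {x} hx => by
    simp only [Φ, if_neg hx.2.1, if_pos hx]
  have Φf : ∀ {g}, g ∈ Γ → Φ (g * c * g⁻¹) = φ.f g * u * (φ.f g)⁻¹ := fun {g} hg => by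
    have h : ∃ h ∈ Γ, h * c * h⁻¹ = g * c * g⁻¹ := ⟨g, hg, rfl⟩
    have n1 : g * c * g⁻¹ ≠ a := fun e => hfar' hg (by rw [e])
    have n2 : g * c * g⁻¹ ∉ Dc D a := fun e => hfar' hg e.2.2
    simp only [Φ, if_neg n1, if_neg n2, dif_pos h]
    obtain ⟨hk, ek⟩ := h.choose_spec
    set k := h.choose
    have hgk : g⁻¹ * k ∈ Γ := mul_mem (inv_mem hg) hk
    have e : g⁻¹ * k * c * (g⁻¹ * k)⁻¹ = c := by
      rw [show g⁻¹ * k * c * (g⁻¹ * k)⁻¹ = g⁻¹ * (k * c * k⁻¹) * g by group, ek]; group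
    have e' := hfix hgk e
    rw [φ.f_mul (inv_mem hg) hk, φ.f_inv hg] at e'
    calc φ.f k * u * (φ.f k)⁻¹
        = φ.f g * ((φ.f g)⁻¹ * φ.f k * u * ((φ.f g)⁻¹ * φ.f k)⁻¹) * (φ.f g)⁻¹ := by group
      _ = φ.f g * u * (φ.f g)⁻¹ := by rw [e']
  have cases3 : ∀ x ∈ D, x = a ∨ x ∈ Dc D a ∨ ∃ g ∈ Γ, g * c * g⁻¹ = x := fun x hx => by
    by_cases hxa : x = a
    · exact Or.inl hxa
    by_cases h : Commute a x
    exacts [Or.inr (Or.inl ⟨hx, hxa, h⟩), Or.inr (Or.inr (hfar x hx h))]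
  have hfarΦ : ∀ {g}, g ∈ Γ → ¬ Commute d (φ.f g * u * (φ.f g)⁻¹) := fun {g} hg h =>
    hdu ((commute_conj_iff (φ.f g)).1 (by rw [(hfa hg).eq, mul_inv_cancel_right]; exact h))
  have hmaps : Set.MapsTo Φ D E := fun x hx => by
    rcases cases3 x hx with rfl | h | ⟨g, hg, rfl⟩
    · rw [Φa]; exact hd
    · rw [Φn h]; exact (φ.f_mem h).1
    · rw [Φf hg]; exact I.conj _ u huE
  have hinj : Set.InjOn Φ D := by
    intro x hx y hy e
    rcases cases3 x hx with rfl | hxn | ⟨g, hg, rfl⟩ <;>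
      rcases cases3 y hy with rfl | hyn | ⟨h, hh, rfl⟩
    · rfl
    · rw [Φa, Φn hyn] at e; exact absurd e.symm (φ.f_mem hyn).2.1
    · rw [Φa, Φf hh] at e; exact absurd (e ▸ Commute.refl d) (hfarΦ hh)
    · rw [Φa, Φn hxn] at e; exact absurd e (φ.f_mem hxn).2.1
    · rw [Φn hxn, Φn hyn] at e
      exact φ.f_inj (Subgroup.subset_closure hxn) (Subgroup.subset_closure hyn) e
    · rw [Φn hxn, Φf hh] at e; exact absurd (e ▸ (φ.f_mem hxn).2.2) (hfarΦ hh)
    · rw [Φa, Φf hg] at e; exact absurd (e.symm ▸ Commute.refl d) (hfarΦ hg)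
    · rw [Φn hyn, Φf hg] at e; exact absurd (e.symm ▸ (φ.f_mem hyn).2.2) (hfarΦ hg)
    · rw [Φf hg, Φf hh] at e
      have hgh : g⁻¹ * h ∈ Γ := mul_mem (inv_mem hg) hh
      have e' : φ.f (g⁻¹ * h) * u * (φ.f (g⁻¹ * h))⁻¹ = u := by
        rw [φ.f_mul (inv_mem hg) hh, φ.f_inv hg,
          show (φ.f g)⁻¹ * φ.f h * u * ((φ.f g)⁻¹ * φ.f h)⁻¹ =
            (φ.f g)⁻¹ * (φ.f h * u * (φ.f h)⁻¹) * φ.f g by group, ← e]
        group
      calc g * c * g⁻¹ = g * (g⁻¹ * h * c * (g⁻¹ * h)⁻¹) * g⁻¹ := by rw [hfix' hgh e']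
        _ = h * c * h⁻¹ := by group
  -- commuting members go to commuting members
  have hnf : ∀ z ∈ Dc D a, ∀ g ∈ Γ, Commute z (g * c * g⁻¹) →
      Commute (φ.f z) (φ.f g * u * (φ.f g)⁻¹) := by
    intro z hz g hg h
    have hw : g⁻¹ * z * g ∈ Dc D a := by
      have := ((H.toM24.tr.dc ha).stab_closure (inv_mem hg) z hz).1
      rwa [inv_inv] at this
    have hwΓ := Subgroup.subset_closure (k := Dc D a) hw
    have hzv : φ.f z = φ.f g * φ.f (g⁻¹ * z * g) * (φ.f g)⁻¹ := by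
      rw [← φ.f_inv hg, ← φ.f_mul hg hwΓ, ← φ.f_mul (mul_mem hg hwΓ) (inv_mem hg)]
      congr 1
      group
    have hwc : Commute (g⁻¹ * z * g) c := (commute_conj_iff g).1 (by
      rwa [show g * (g⁻¹ * z * g) * g⁻¹ = z by group])
    have hm := (hT.le ⟨_, ⟨hw, hw.1, fun e => hac (e ▸ hw.2.2), hwc.symm⟩, rfl⟩).2
    rw [hzv]
    exact (Commute.conj_iff (φ.f g)).2 hm.2.2.symm
  have hff : ∀ k ∈ Γ, Commute c (k * c * k⁻¹) → Commute u (φ.f k * u * (φ.f k)⁻¹) := by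
    intro k hk hcomm
    by_cases heq : k * c * k⁻¹ = c
    · rw [hfix hk heq]
    set c₂ := k * c * k⁻¹ with hc₂
    have hc₂D : c₂ ∈ D := H.toM24.conj_mem k hc
    have hc₂a : ¬ Commute a c₂ := hfar' hk
    have hc₂c : c₂ ∈ Dc D c := ⟨hc₂D, heq, hcomm⟩
    obtain ⟨b, hbT, hbc₂⟩ : ((Dc D c ∩ Dc D a) ∩ Dc D c₂).Nonempty := by
      refine Set.nonempty_of_ncard_ne_zero fun h => ?_
      have h9 := H.toM24.equitable H.prim H.type hc ha (fun h => hac h.symm)
        (closedIn_self _) hc₂c fun h => hc₂a h.2.2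
      rw [h, (H.toM24.pair_data H.prim H.type hc ha fun h => hac h.symm).1] at h9
      omega
    have hb : b ∈ Dc D a ∩ Dc D c := ⟨hbT.2, hbT.1⟩
    obtain ⟨ψ, hψa, hψ⟩ := I.compat H ha hb.1 hd φ
    have hcb := mem_dc_symm hc hb.2
    have hc₂b := mem_dc_symm hc₂D hbc₂
    have hab := mem_dc_symm ha hb.1
    obtain ⟨C, hC⟩ := H.toM24.chart b hb.1.1
    obtain ⟨q, hqa, hqc⟩ := hC.exists_conj_off hC.primitive (C.img_mem hab) (C.img_mem hcb)
      (fun h => hac ((C.comm_iff hab hcb).1 h)) (C.img_mem hc₂b)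
      (fun h => hc₂a ((C.comm_iff hab hc₂b).1 h))
    obtain ⟨y, rfl⟩ := C.surj q
    have ey : ∀ {x x'} (hx : x ∈ Dc D b) (hx' : x' ∈ Dc D b),
        C.π y * C.img hx * (C.π y)⁻¹ = C.img hx' → (y : G) * x * (y : G)⁻¹ = x' := fun hx hx' e =>
      C.inj (C.conj_mem y hx) hx' ((C.img_pi y hx (C.conj_mem y hx)).trans e)
    have hyc : (y : G) * c * (y : G)⁻¹ = c₂ := ey hcb hc₂b hqc
    have hya : Commute (y : G) a := mul_inv_eq_iff_eq_mul.1 (ey hab hab hqa)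
    have hyb : Commute (y : G) b := Subgroup.mem_centralizer_singleton_iff.1
      ((H.toM24.cent_eq hb.1.1).ge y.2)
    have hgen := H.toM24.cent_pair ha hb.1 hya hyb
    rw [dc_dc_eq] at hgen
    set Z := insert a (insert b (Dc D a ∩ Dc D b)) with hZ
    have hZa : Z ⊆ Γ := by
      rintro x (rfl | rfl | hx)
      exacts [haK, Subgroup.subset_closure hb.1, Subgroup.subset_closure hx.1]
    have hZb : Z ⊆ Subgroup.closure (Dc D b) := by
      rintro x (rfl | rfl | hx)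
      exacts [Subgroup.subset_closure hab, H.toM24.mem_closure_dc hb.1.1, Subgroup.subset_closure hx.2]
    have heqf : φ.f y = ψ.f y := φ.agree ψ hZa hZb (by
      rintro z (rfl | rfl | hz)
      · rw [hψa, hφa]
      · rw [ψ.f_self (hZb (Or.inr (Or.inl rfl)))]
      · exact (hψ z hz).symm) hgen
    have hyΓ : (y : G) ∈ Γ := (Subgroup.closure_le _).2 hZa hgen
    have hkey : φ.f k * u * (φ.f k)⁻¹ = φ.f y * u * (φ.f y)⁻¹ := by
      rw [← Φf hk, ← Φf hyΓ, hyc]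
    rw [hkey]
    have hcomm' : Commute (ψ.f c) (φ.f y * ψ.f c * (φ.f y)⁻¹) := by
      rw [heqf, ← ψ.f_inv y.2, ← ψ.f_mul y.2 (Subgroup.subset_closure hcb),
        ← ψ.f_mul (mul_mem y.2 (Subgroup.subset_closure hcb)) (inv_mem y.2), hyc]
      exact (ψ.f_comm (Subgroup.subset_closure hcb) (Subgroup.subset_closure hc₂b)).2 hcomm
    rcases hval b hb ψ hψa hψ with e | e
    · rwa [e] at hcomm'
    · rw [e] at hcomm'
      have hyd := hfa hyΓ
      have e2 : φ.f y * (d * u * d) * (φ.f y)⁻¹ = d * (φ.f y * u * (φ.f y)⁻¹) * d := by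
        rw [show φ.f y * (d * u * d) * (φ.f y)⁻¹ = φ.f y * d * u * (d * (φ.f y)⁻¹) by group,
          hyd.eq, ← hyd.inv_left.eq]
        group
      rw [e2] at hcomm'
      refine (commute_conj_iff d).1 ?_
      rwa [hd1]
  have hfwd : ∀ x ∈ D, ∀ y ∈ D, Commute x y → Commute (Φ x) (Φ y) := by
    intro x hx y hy hxy
    rcases cases3 x hx with rfl | hxn | ⟨g, hg, rfl⟩ <;>
      rcases cases3 y hy with rfl | hyn | ⟨h, hh, rfl⟩
    · exact Commute.refl _
    · rw [Φa, Φn hyn]; exact (φ.f_mem hyn).2.2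
    · exact absurd hxy (hfar' hh)
    · rw [Φa, Φn hxn]; exact (φ.f_mem hxn).2.2.symm
    · rw [Φn hxn, Φn hyn]
      exact (φ.f_comm (Subgroup.subset_closure hxn) (Subgroup.subset_closure hyn)).2 hxy
    · rw [Φn hxn, Φf hh]; exact hnf x hxn h hh hxy
    · exact absurd hxy.symm (hfar' hg)
    · rw [Φn hyn, Φf hg]; exact (hnf y hyn g hg hxy.symm).symm
    · rw [Φf hg, Φf hh]
      have hk : g⁻¹ * h ∈ Γ := mul_mem (inv_mem hg) hh
      have h1 : Commute c (g⁻¹ * h * c * (g⁻¹ * h)⁻¹) := (commute_conj_iff g).1 (by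
        rwa [show g * (g⁻¹ * h * c * (g⁻¹ * h)⁻¹) * g⁻¹ = h * c * h⁻¹ by group])
      have h2 := (Commute.conj_iff (φ.f g)).2 (hff _ hk h1)
      rwa [φ.f_mul (inv_mem hg) hh, φ.f_inv hg,
        show φ.f g * ((φ.f g)⁻¹ * φ.f h * u * ((φ.f g)⁻¹ * φ.f h)⁻¹) * (φ.f g)⁻¹ =
          φ.f h * u * (φ.f h)⁻¹ by group] at h2
  refine ⟨Φ, hmaps, hinj, fun x hx => ?_, a, ha, Φa.symm ▸ ⟨φ, fun z hz => Φn hz⟩⟩
  have hfin : (Dc E (Φ x)).Finite := Set.finite_of_ncard_ne_zero (by rw [I.ncard_dc H (hmaps hx)]; norm_num)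
  refine Set.eq_of_subset_of_ncard_le ?_ (le_of_eq ?_) hfin
  · rintro _ ⟨y, hy, rfl⟩
    exact ⟨hmaps hy.1, fun e => hy.2.1 (hinj hy.1 hx e), hfwd x hx y hy.1 hy.2.2⟩
  · rw [I.ncard_dc H (hmaps hx), (hinj.mono fun y hy => hy.1).ncard_image, H.toM24.ncard_dc hx]

end InTo

end Cfsg.Agent.Transpos
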