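import Cfsg.Agent.Lib.Transpos.M24Far

/-!
# A class that looks like type M(24) near each member

`InTo D E`: `E` is a class of a group `X` carrying, at some member, a `Star` from a model class `D` of
type M(24), with elements exchanging commuting pairs but none doing so trivially on their common members.
`InTo.compat`: isomorphisms at two commuting members agreeing on their common members exist.
-/

set_option autoImplicit false
set_option linter.style.haveILetI false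
set_option linter.unusedSectionVars false

namespace Cfsg.Agent.Transpos

open Cfsg Cfsg.Agent.ClassicalSimple

universe u v

variable {G : Type u} [Group G] {D : Set G} {X : Type v} [Group X] {E : Set X}

/-- `E` looks like type M(24) near each member. -/
structure InTo (D : Set G) (E : Set X) : Prop where
  conj : ∀ g : X, ∀ x ∈ E, g * x * g⁻¹ ∈ E
  trans : ∀ x ∈ E, ∀ y ∈ E, ∃ g : X, g * x * g⁻¹ = y
  sq : ∀ x ∈ E, x * x = 1
  star : ∃ a ∈ D, ∃ e ∈ E, Nonempty (Star D E a e)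
  cent : ∀ e ∈ E, Subgroup.centralizer ({e} : Set X) ≤ Subgroup.closure (Dc E e)
  perm : ∀ e ∈ E, ∀ f ∈ Dc E e, ∀ g : X, Commute g (e * f) → g * e * g⁻¹ = e ∨ g * e * g⁻¹ = f
  swap : ∀ e ∈ E, ∀ f ∈ Dc E e, ∃ g : X, g * e * g⁻¹ = f ∧ g * f * g⁻¹ = e
  noSwap : ∀ e ∈ E, ∀ f ∈ Dc E e, ∀ g : X, g * e * g⁻¹ = f → g * f * g⁻¹ = e →
    ¬ ∀ x ∈ Dc E e ∩ Dc E f, g * x * g⁻¹ = x

/-- Conjugation carries commuting members to commuting members. -/
theorem dc_conj_iff (hE : ∀ g : X, ∀ x ∈ E, g * x * g⁻¹ ∈ E) (g : X) {x d : X} :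
    g * x * g⁻¹ ∈ Dc E (g * d * g⁻¹) ↔ x ∈ Dc E d := by
  refine ⟨fun h => ⟨?_, fun e => h.2.1 (by rw [e]), (commute_conj_iff g).1 h.2.2⟩,
    fun h => ⟨hE g x h.1, fun e => h.2.1 (mul_left_cancel (mul_right_cancel e)),
      (Commute.conj_iff g).2 h.2.2⟩⟩
  have := hE g⁻¹ _ h.1
  rwa [show g⁻¹ * (g * x * g⁻¹) * g⁻¹⁻¹ = x by group] at this

/-- Conjugation between the groups generated by corresponding sets. -/
theorem exists_closure_conj {S T : Set X} (k : X) (h : ∀ x, k * x * k⁻¹ ∈ T ↔ x ∈ S) :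
    ∃ r : ↥(Subgroup.closure S) ≃* ↥(Subgroup.closure T),
      (∀ x : ↥(Subgroup.closure S), (r x : X) = k * x * k⁻¹) ∧
        ∀ y : ↥(Subgroup.closure T), (r.symm y : X) = k⁻¹ * y * k := by
  have himg : (MulAut.conj k).toMonoidHom '' S = T := by
    refine Set.Subset.antisymm ?_ fun y hy => ⟨k⁻¹ * y * k, (h _).1 ?_, ?_⟩
    · rintro _ ⟨x, hx, rfl⟩
      exact (h x).2 hx
    · rwa [show k * (k⁻¹ * y * k) * k⁻¹ = y by group]
    · show k * (k⁻¹ * y * k) * k⁻¹ = y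
      group
  let r : ↥(Subgroup.closure S) ≃* ↥(Subgroup.closure T) :=
    ((MulAut.conj k).subgroupMap (Subgroup.closure S)).trans
      (MulEquiv.subgroupCongr ((MonoidHom.map_closure _ _).trans (congrArg Subgroup.closure himg)))
  have hr : ∀ x : ↥(Subgroup.closure S), (r x : X) = k * x * k⁻¹ := fun x => rfl
  refine ⟨r, hr, fun y => ?_⟩
  have e := hr (r.symm y)
  rw [r.apply_symm_apply] at e
  rw [e]
  group

/-- A `Star` composed with conjugations on both sides. -/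
theorem Star.exists_conj {a : G} {e : X} (s : Star D E a e) (hD : ∀ g : G, ∀ x ∈ D, g * x * g⁻¹ ∈ D)
    (hE : ∀ g : X, ∀ x ∈ E, g * x * g⁻¹ ∈ E) (g : G) (k : X) {b : G} {f : X}
    (hb : g * a * g⁻¹ = b) (hf : k * e * k⁻¹ = f) :
    ∃ s' : Star D E b f, ∀ x ∈ Subgroup.closure (Dc D b),
      g⁻¹ * x * g ∈ Subgroup.closure (Dc D a) ∧ s'.f x = k * s.f (g⁻¹ * x * g) * k⁻¹ := by
  subst hb hf
  obtain ⟨rg, hrg, hrg'⟩ := exists_closure_conj (S := Dc D a) (T := Dc D (g * a * g⁻¹)) g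
    fun _ => dc_conj_iff hD g
  obtain ⟨rk, hrk, hrk'⟩ := exists_closure_conj (S := Dc E e) (T := Dc E (k * e * k⁻¹)) k
    fun _ => dc_conj_iff hE k
  let θ := rg.symm.trans (s.θ.trans rk)
  have hθ : ∀ x, (θ x : X) = k * (s.θ (rg.symm x) : X) * k⁻¹ := fun x => hrk _
  have hmem : ∀ x, (θ x : X) ∈ Dc E (k * e * k⁻¹) ↔ (x : G) ∈ Dc D (g * a * g⁻¹) := fun x => by
    rw [hθ, dc_conj_iff hE k, s.mem_iff, ← dc_conj_iff hD g (x := (rg.symm x : G)), hrg']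
    rw [show g * (g⁻¹ * (x : G) * g) * g⁻¹ = x by group]
  have hself : ∀ ha, (θ ⟨g * a * g⁻¹, ha⟩ : X) = k * e * k⁻¹ := fun ha => by
    have e1 : (rg.symm ⟨g * a * g⁻¹, ha⟩ : G) = a := by rw [hrg']; group
    have ha' : a ∈ Subgroup.closure (Dc D a) := by
      have h := (rg.symm ⟨g * a * g⁻¹, ha⟩).2
      rwa [e1] at h
    rw [hθ, show rg.symm ⟨g * a * g⁻¹, ha⟩ = ⟨a, ha'⟩ from Subtype.ext e1, s.self ha']
  refine ⟨⟨θ, hmem, hself⟩, fun x hx => ?_⟩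
  have e1 : (rg.symm ⟨x, hx⟩ : G) = g⁻¹ * x * g := hrg' _
  have hmem' : g⁻¹ * x * g ∈ Subgroup.closure (Dc D a) := e1 ▸ (rg.symm ⟨x, hx⟩).2
  refine ⟨hmem', ?_⟩
  rw [Star.f_eq _ hx, s.f_eq hmem']
  show (θ ⟨x, hx⟩ : X) = _
  rw [hθ, show rg.symm ⟨x, hx⟩ = ⟨g⁻¹ * x * g, hmem'⟩ from Subtype.ext e1]

/-- The value at `1`. -/
theorem Star.f_one {a : G} {e : X} (s : Star D E a e) : s.f 1 = 1 := by
  rw [s.f_eq (one_mem _)]
  exact congrArg Subtype.val (map_one s.θ)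

/-- Two maps at commuting members agreeing on the common members agree on the group they generate. -/
theorem Star.agree {a b : G} {a' b' : X} (φ : Star D E a a') (ψ : Star D E b b') {Z : Set G}
    (hZa : Z ⊆ Subgroup.closure (Dc D a)) (hZb : Z ⊆ Subgroup.closure (Dc D b))
    (h : ∀ z ∈ Z, φ.f z = ψ.f z) {x : G} (hx : x ∈ Subgroup.closure Z) : φ.f x = ψ.f x := by
  have la : Subgroup.closure Z ≤ Subgroup.closure (Dc D a) := (Subgroup.closure_le _).2 hZa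
  have lb : Subgroup.closure Z ≤ Subgroup.closure (Dc D b) := (Subgroup.closure_le _).2 hZb
  induction hx using Subgroup.closure_induction with
  | mem z hz => exact h z hz
  | one => rw [φ.f_one, ψ.f_one]
  | mul p q hp hq hp' hq' =>
    rw [φ.f_mul (la hp) (la hq), ψ.f_mul (lb hp) (lb hq), hp', hq']
  | inv p hp hp' => rw [φ.f_inv (la hp), ψ.f_inv (lb hp), hp']

variable [Finite G]

namespace InTo

variable (I : InTo D E) (H : M24F D)
include I H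

/-- There is a `Star` from each member to each member. -/
theorem exists_star {a : G} {e : X} (ha : a ∈ D) (he : e ∈ E) : Nonempty (Star D E a e) := by
  obtain ⟨a₀, ha₀, e₀, he₀, ⟨s⟩⟩ := I.star
  obtain ⟨g, hg⟩ := H.toM24.trans a₀ ha₀ a ha
  obtain ⟨k, hk⟩ := I.trans e₀ he₀ e he
  obtain ⟨s', -⟩ := s.exists_conj (fun g _ hx => H.toM24.conj_mem g hx) I.conj g k hg hk
  exact ⟨s'⟩

/-- An isomorphism at `b` agreeing with the one at `a` on their common members. -/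
theorem compat {a b : G} {a' : X} (ha : a ∈ D) (hb : b ∈ Dc D a) (ha' : a' ∈ E) (φ : Star D E a a') :
    ∃ ψ : Star D E b (φ.f b), ψ.f a = a' ∧ ∀ x ∈ Dc D a ∩ Dc D b, ψ.f x = φ.f x := by
  have hab := mem_dc_symm ha hb
  have hb' := φ.f_mem hb
  have hab' := mem_dc_symm ha' hb'
  have haK := H.toM24.mem_closure_dc ha
  have hφa : φ.f a = a' := φ.f_self haK
  obtain ⟨σ, hσa, hσb⟩ := I.swap a' ha' _ hb'
  obtain ⟨g, hga, hgb⟩ := H.toM24.conj_pair ha hb hb.1 hab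
  set S := Dc D a ∩ Dc D b with hS
  set S' := Dc E a' ∩ Dc E (φ.f b) with hS'
  have hSa : S ⊆ Dc D a := fun x hx => hx.1
  have hσS : ∀ x, σ * x * σ⁻¹ ∈ S' ↔ x ∈ S' := fun x => by
    have h1 : σ * x * σ⁻¹ ∈ Dc E (φ.f b) ↔ x ∈ Dc E a' := by
      rw [← hσa, dc_conj_iff I.conj σ]
    have h2 : σ * x * σ⁻¹ ∈ Dc E a' ↔ x ∈ Dc E (φ.f b) := by
      conv_lhs => rw [← hσb]
      exact dc_conj_iff I.conj σ
    exact ⟨fun h => ⟨h1.1 h.2, h2.1 h.1⟩, fun h => ⟨h2.2 h.2, h1.2 h.1⟩⟩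
  obtain ⟨rσ, hrσ, -⟩ := exists_closure_conj σ hσS
  obtain ⟨rφ, hrφ⟩ := φ.exists_restrict hSa (φ.image_common hb)
  set κ := rφ.trans (rσ.trans rφ.symm) with hκd
  have hκ : ∀ x, φ.f (κ x : G) = σ * φ.f x * σ⁻¹ := fun x => by
    rw [← hrφ, ← hrφ, ← hrσ]
    exact congrArg Subtype.val (rφ.apply_symm_apply (rσ (rφ x)))
  have hin : ∀ {x : G}, x ∈ Subgroup.closure S → x ∈ Subgroup.closure (Dc D a) :=
    fun hx => Subgroup.closure_mono hSa hx
  have hSiff : ∀ {x : G}, x ∈ Subgroup.closure S → (φ.f x ∈ S' ↔ x ∈ S) := fun {x} hx =>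
    ⟨fun h => by
      obtain ⟨z, hz, e⟩ := (φ.image_common hb).ge h
      rw [← φ.f_inj (Subgroup.subset_closure hz.1) (hin hx) e]
      exact hz, fun h => (φ.image_common hb).le ⟨x, h, rfl⟩⟩
  have hκmem : ∀ x, (κ x : G) ∈ S ↔ (x : G) ∈ S := fun x => by
    rw [← hSiff (κ x).2, hκ, hσS, hSiff x.2]
  obtain ⟨C, hC⟩ : ∃ C : Cover.{u} S, M22 C.E := by
    have h := H.toM24.chart₂ ha hb
    rwa [dc_dc_eq] at h
  obtain ⟨α, hαp, hα⟩ := C.exists_auto_of κ hκmem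
  have hαimg : ∀ x (hx : x ∈ S),
      α (C.img hx) = C.img ((hκmem ⟨x, Subgroup.subset_closure hx⟩).2 hx) := fun x _ => hα _
  have nα : ¬ ∃ y, ∀ q, α q = y * q * y⁻¹ := by
    rintro ⟨q, hq⟩
    obtain ⟨y, rfl⟩ := C.surj q
    obtain ⟨hya, hyb⟩ := H.commute_closure_common y
    have c1 : Commute (φ.f y) a' := by
      have h := (φ.f_comm (hin y.2) haK).2 hya
      rwa [hφa] at h
    have c2 : Commute (φ.f y) (φ.f b) := (φ.f_comm (hin y.2) (Subgroup.subset_closure hb)).2 hyb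
    refine I.noSwap a' ha' _ hb' ((φ.f y)⁻¹ * σ) ?_ ?_ fun w hw => ?_
    · rw [show (φ.f y)⁻¹ * σ * a' * ((φ.f y)⁻¹ * σ)⁻¹ = (φ.f y)⁻¹ * (σ * a' * σ⁻¹) * φ.f y by group,
        hσa, mul_assoc, ← c2.eq, inv_mul_cancel_left]
    · rw [show (φ.f y)⁻¹ * σ * φ.f b * ((φ.f y)⁻¹ * σ)⁻¹ = (φ.f y)⁻¹ * (σ * φ.f b * σ⁻¹) * φ.f y by
          group, hσb, mul_assoc, ← c1.eq, inv_mul_cancel_left]
    · obtain ⟨x, hx, rfl⟩ := (φ.image_common hb).ge hw
      have hxS := Subgroup.subset_closure (k := S) hx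
      have e := C.eq_conj_of y hx _ ((hαimg x hx).symm.trans (hq _))
      have e2 := hκ ⟨x, hxS⟩
      rw [e, φ.f_mul (mul_mem (hin y.2) (hin hxS)) (inv_mem (hin y.2)), φ.f_mul (hin y.2) (hin hxS),
        φ.f_inv (hin y.2)] at e2
      rw [show (φ.f y)⁻¹ * σ * φ.f x * ((φ.f y)⁻¹ * σ)⁻¹ = (φ.f y)⁻¹ * (σ * φ.f x * σ⁻¹) * φ.f y by
        group, ← e2]
      group
  have hcar : Carries g S S := by
    have h1 := (stab_of_normal H.grp g).carries.dc a
    have h2 := (stab_of_normal H.grp g).carries.dc b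
    rw [hga] at h1
    rw [hgb] at h2
    exact ⟨fun x hx => ⟨h2.1 x hx.2, h1.1 x hx.1⟩, fun x hx => ⟨h1.2 x hx.2, h2.2 x hx.1⟩⟩
  obtain ⟨φs, hsp, hφs⟩ := C.exists_auto hcar
  have ns : ¬ ∃ y, ∀ q, φs q = y * q * y⁻¹ := by
    rintro ⟨q, hq⟩
    obtain ⟨y, rfl⟩ := C.surj q
    refine H.no_twist ha hb hga hgb y fun x hx => ?_
    obtain ⟨hx', e⟩ := hφs x hx
    exact C.eq_conj_of y hx hx' (e.symm.trans (hq _))
  obtain ⟨q, hq⟩ := hC.outer_two hαp hsp nα ns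
  obtain ⟨y, rfl⟩ := C.surj q
  obtain ⟨hya, hyb⟩ := H.commute_closure_common y
  set w := (y : G) * g with hw
  have hwa : w * a * w⁻¹ = b := by
    rw [show w * a * w⁻¹ = (y : G) * (g * a * g⁻¹) * (y : G)⁻¹ by rw [hw]; group, hga, hyb.eq,
      mul_inv_cancel_right]
  have hwb : w * b * w⁻¹ = a := by
    rw [show w * b * w⁻¹ = (y : G) * (g * b * g⁻¹) * (y : G)⁻¹ by rw [hw]; group, hgb, hya.eq,
      mul_inv_cancel_right]
  have hwx : ∀ x (hx : x ∈ S), φ.f (w * x * w⁻¹) = σ * φ.f x * σ⁻¹ := fun x hx => by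
    obtain ⟨hx', e⟩ := hφs x hx
    have h := C.eq_conj_of y hx' _ ((hαimg x hx).symm.trans ((hq _).trans (by rw [e])))
    rw [← hκ ⟨x, Subgroup.subset_closure hx⟩, h, hw]
    congr 1
    group
  obtain ⟨ψ, hψ⟩ := φ.exists_conj (fun g _ hx => H.toM24.conj_mem g hx) I.conj w σ hwa hσa
  refine ⟨ψ, ?_, fun x hx => ?_⟩
  · rw [(hψ a (Subgroup.subset_closure hab)).2,
      show w⁻¹ * a * w = b by rw [← hwb]; group, hσb]
  · rw [(hψ x (Subgroup.subset_closure hx.2)).2]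
    have hx0 : w⁻¹ * x * w ∈ S := by
      have h2 : g⁻¹ * ((y : G)⁻¹ * x * y) * g ∈ S := hcar.2 _ (by
        have := C.conj_mem y⁻¹ hx
        rwa [Subgroup.coe_inv, inv_inv] at this)
      rwa [show w⁻¹ * x * w = g⁻¹ * ((y : G)⁻¹ * x * y) * g by rw [hw]; group]
    rw [← hwx _ hx0]
    congr 1
    group

end InTo

end Cfsg.Agent.Transpos
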