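import Cfsg.Agent.Lib.Transpos.M24Count
import Cfsg.Agent.Lib.Transpos.M23Main
import Cfsg.Agent.Lib.Components.Quasisimple
import Cfsg.Agent.Lib.Components.Layer

/-!
# Groups of type M(24): width and layer

The width is 24; given a sign character the commutator subgroup has index 2, is simple and is the
layer.
-/

set_option autoImplicit false
set_option linter.style.haveILetI false
set_option linter.unusedSectionVars false

namespace Cfsg.Agent.Transpos

open Cfsg

universe u

variable {G : Type u} [Group G] [Finite G] {D : Set G}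

namespace M24

variable (H : M24 D)
include H

/-- The width is 24. -/
theorem width [Nonempty D] : commutingWidth D = 24 := by
  classical
  obtain ⟨⟨d, hd⟩⟩ := ‹Nonempty D›
  have hle : ∀ n ∈ {n : ℕ | ∃ E : Set G, E ⊆ D ∧ E.Finite ∧ (∀ a ∈ E, ∀ b ∈ E, Commute a b) ∧
      E.ncard = n}, n ≤ 24 := by
    rintro n ⟨E, hED, -, hcomm, rfl⟩
    rcases E.eq_empty_or_nonempty with rfl | ⟨a, ha⟩
    · simp
    obtain ⟨C, hC⟩ := H.chart a (hED ha)
    have hw := hC.width
    set F : Set C.Q := {β | ∃ x, ∃ hx : x ∈ Dc D a, x ∈ E ∧ C.img hx = β} with hF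
    have hcard : (E \ {a}).ncard = F.ncard := by
      refine Set.ncard_congr (fun x hx => C.img (x := x) ⟨hED hx.1, hx.2, hcomm a ha x hx.1⟩)
        (fun x hx => ⟨x, _, hx.1, rfl⟩)
        (fun x y hx hy e => C.inj _ _ e) ?_
      rintro β ⟨x, hx, hxE, rfl⟩
      exact ⟨x, ⟨hxE, hx.2.1⟩, rfl⟩
    have hbdd : BddAbove {n : ℕ | ∃ E : Set C.Q, E ⊆ C.E ∧ E.Finite ∧
        (∀ a ∈ E, ∀ b ∈ E, Commute a b) ∧ E.ncard = n} :=
      ⟨Nat.card C.Q, by rintro n ⟨E', -, -, -, rfl⟩; exact Set.ncard_le_card E'⟩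
    have hF23 : F.ncard ≤ 23 := hw ▸ le_csSup hbdd
      ⟨F, by rintro β ⟨x, hx, -, rfl⟩; exact C.img_mem hx, Set.toFinite _, by
        rintro β ⟨x, hx, hxE, rfl⟩ γ ⟨y, hy, hyE, rfl⟩
        exact (C.comm_iff hx hy).2 (hcomm x hxE y hyE), rfl⟩
    have := Set.ncard_sdiff_singleton_of_mem ha
    omega
  refine le_antisymm (csSup_le ⟨0, ∅, Set.empty_subset _, Set.finite_empty, by simp, by simp⟩ hle)
    (le_csSup ⟨24, hle⟩ ?_)
  obtain ⟨C, hC⟩ := H.chart d hd
  have hne : ({n : ℕ | ∃ E : Set C.Q, E ⊆ C.E ∧ E.Finite ∧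
      (∀ a ∈ E, ∀ b ∈ E, Commute a b) ∧ E.ncard = n}).Nonempty :=
    ⟨0, ∅, Set.empty_subset _, Set.finite_empty, by simp, by simp⟩
  have hmem := Nat.sSup_mem hne
    ⟨Nat.card C.Q, by rintro n ⟨E', -, -, -, rfl⟩; exact Set.ncard_le_card E'⟩
  rw [show sSup _ = 23 from hC.width] at hmem
  obtain ⟨F, hF, -, hFc, hFn⟩ := hmem
  set E : Set G := {x | ∃ hx : x ∈ Dc D d, C.img hx ∈ F} with hE
  have hcard : E.ncard = F.ncard := by
    refine Set.ncard_congr (fun x hx => C.img hx.1) (fun x hx => hx.2)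
      (fun x y hx hy e => C.inj _ _ e) fun β hβ => ?_
    obtain ⟨x, hx, rfl⟩ := C.lift β (hF hβ)
    exact ⟨x, ⟨hx, hβ⟩, rfl⟩
  refine ⟨insert d E, Set.insert_subset hd fun x hx => hx.1.1, Set.toFinite _, ?_, ?_⟩
  · rintro x (rfl | ⟨hx, hxF⟩) y (rfl | ⟨hy, hyF⟩)
    exacts [Commute.refl _, hy.2.2, hx.2.2.symm, (C.comm_iff hx hy).1 (hFc _ hxF _ hyF)]
  · rw [Set.ncard_insert_of_notMem fun h => h.1.2.1 rfl]
    omega

/-- With a sign character the commutator subgroup has index 2. -/
theorem index_commutator_of_sign [Nonempty D] (hsgn : ∃ χ : G →* ℤˣ, ∀ d ∈ D, χ d = -1) :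
    (commutator G).index = 2 := by
  obtain ⟨χ, hχ⟩ := hsgn
  obtain ⟨⟨d, hd⟩⟩ := ‹Nonempty D›
  have hdn : d ∉ commutator G := fun h => by
    have := Abelianization.commutator_subset_ker χ h
    rw [MonoidHom.mem_ker, hχ d hd] at this
    exact absurd this (by decide)
  let φ := QuotientGroup.mk' (commutator G)
  have hab : ∀ x y : G ⧸ commutator G, x * y = y * x :=
    fun x y => mul_comm (G := Abelianization G) x y
  have hall : ∀ q : G ⧸ commutator G, q ∈ Subgroup.zpowers (φ d) := by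
    intro q
    obtain ⟨g, rfl⟩ := QuotientGroup.mk'_surjective (commutator G) q
    have hle : Subgroup.closure D ≤ (Subgroup.zpowers (φ d)).comap φ :=
      (Subgroup.closure_le _).2 fun x hx => by
        obtain ⟨t, rfl⟩ := H.trans d hd x hx
        show φ (t * d * t⁻¹) ∈ Subgroup.zpowers (φ d)
        rw [map_mul, map_mul, map_inv, hab, inv_mul_cancel_left]
        exact Subgroup.mem_zpowers _
    exact hle (H.grp.2.2 ▸ Subgroup.mem_top g)
  rw [Subgroup.index_eq_card, ← Subgroup.card_top (G := G ⧸ commutator G),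
    show (⊤ : Subgroup (G ⧸ commutator G)) = Subgroup.zpowers (φ d) from
      (eq_top_iff.2 fun q _ => hall q).symm, Nat.card_zpowers]
  refine orderOf_eq_prime (by rw [pow_two, ← map_mul, sq_one H.grp.1 hd, map_one]) fun h => hdn ?_
  exact (QuotientGroup.eq_one_iff d).1 h

/-- The commutator subgroup is simple and not abelian. -/
theorem simple_commutator (hprim : IsPrimitiveUnderConj D) [Nonempty D] :
    IsSimpleGroup (commutator G) := by
  obtain ⟨⟨a, ha⟩⟩ := ‹Nonempty D›
  obtain ⟨b, hb⟩ := H.dc_nonempty ha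
  have hclass : IsThreeTranspositionClass D := ⟨H.grp.1, ⟨a, ha, Set.ext fun x => ⟨fun hx => by
      obtain ⟨g, hg⟩ := H.trans a ha x hx
      exact isConj_iff.2 ⟨g, hg⟩, fun hx => by
      obtain ⟨g, rfl⟩ := isConj_iff.1 (hx : IsConj a x)
      exact H.grp.2.1 g a ha⟩⟩, H.grp.2.2⟩
  exact (S5361.result hclass H.center ⟨a, ha, b, hb.1, hb.2.1.symm, hb.2.2⟩).1.2 hprim

/-- The layer is the commutator subgroup. -/
theorem layer_eq_commutator (hprim : IsPrimitiveUnderConj D) (h24 : IsOfTypeM24 G D) [Nonempty D]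
    (hidx : (commutator G).index = 2) : layer G = commutator G := by
  haveI := H.simple_commutator hprim
  have hcard := Subgroup.card_mul_index (commutator G)
  rw [hidx, H.card_group hprim h24] at hcard
  have hne : ¬ IsMulCommutative (commutator G) := fun hc => by
    letI : CommGroup (commutator G) :=
      { (inferInstance : Group (commutator G)) with mul_comm := hc.is_comm.comm }
    have hp : (Nat.card (commutator G)).Prime := IsSimpleGroup.prime_card
    rcases hp.eq_one_or_self_of_dvd 2 (by omega) with h | h <;> omega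
  refine le_antisymm (sSup_le fun K hK => ?_) (le_sSup ⟨?_, ?_⟩)
  · rw [← Components.IsComponent.commutator_self hK, commutator_def]
    exact Subgroup.commutator_mono le_top le_top
  · exact Subgroup.Normal.isSubnormal inferInstance
  · exact Components.isQuasisimple_of_isSimpleGroup hne

end M24

end Cfsg.Agent.Transpos
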