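import Cfsg.Agent.Lib.AutPSU.Main
import Cfsg.Agent.Lib.Forms.HermCenter

/-!
# At most six times as many automorphisms of `PSU₆(2)` as elements
-/

set_option autoImplicit false
set_option linter.style.haveILetI false

namespace Cfsg.Agent.Transpos

open Cfsg

theorem card_aut_psu_six {F : Type} [Field F] [Fintype F] (hF4 : Fintype.card F = 4) :
    Finite (MulAut (Cfsg.PSU 6 F 2)) ∧
      Nat.card (MulAut (Cfsg.PSU 6 F 2)) ≤ 6 * Nat.card (Cfsg.PSU 6 F 2) := by
  classical
  have hF : Fintype.card F = 2 ^ 2 := hF4.trans (by norm_num)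
  have hτ : ∀ τ : F ≃+* F, τ = 1 ∨ τ = AutPSU.qAut hF := by
    intro τ
    by_cases h : ∀ x : F, τ x = x
    · exact Or.inl (RingEquiv.ext h)
    refine Or.inr (RingEquiv.ext fun x => ?_)
    have hp : ∀ y : F, y ≠ 0 → y ^ 3 = 1 := fun y hy => by
      have h := FiniteField.pow_card_sub_one_eq_one y hy
      rwa [hF4] at h
    obtain ⟨o, ho⟩ := not_forall.1 h
    have ho0 : o ≠ 0 := fun e => ho (by rw [e, map_zero])
    have ho1 : o ≠ 1 := fun e => ho (by rw [e, map_one])
    have ho2 : o ^ 2 ≠ o := fun e => ho1 (by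
      have e' : o * o = o * 1 := by rw [mul_one, ← pow_two, e]
      exact mul_left_cancel₀ ho0 e')
    have ho3 : o ^ 2 ≠ 1 := fun e => ho1 (by
      have := hp o ho0
      rwa [pow_succ, e, one_mul] at this)
    have hset : ({0, 1, o, o ^ 2} : Finset F) = Finset.univ := by
      refine Finset.eq_univ_of_card _ ?_
      rw [hF4, Finset.card_insert_of_notMem, Finset.card_insert_of_notMem, Finset.card_insert_of_notMem,
        Finset.card_singleton] <;>
      simp [ho0.symm, ho1.symm, ho2.symm, ho3.symm, (pow_ne_zero 2 ho0).symm]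
    have key : τ o = o ^ 2 := by
      have := Finset.mem_univ (τ o)
      rw [← hset] at this
      simp only [Finset.mem_insert, Finset.mem_singleton] at this
      rcases this with e | e | e | e
      · exact absurd ((map_eq_zero _).1 e) ho0
      · exact absurd (τ.injective (e.trans (map_one τ).symm)) ho1
      · exact absurd e ho
      · exact e
    have := Finset.mem_univ x
    rw [← hset] at this
    simp only [Finset.mem_insert, Finset.mem_singleton] at this
    rcases this with rfl | rfl | rfl | rfl <;> simp [key, AutPSU.qAut_apply]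
  -- the scalars act trivially
  let sc : Fˣ →* Cfsg.GU 6 F 2 :=
    MonoidHom.codRestrict (Matrix.GeneralLinearGroup.scalar (Fin 6)) _ fun c => by
      refine (AutPSU.scalar_mem_GU hF (by norm_num) c).2 ?_
      have h : Fintype.card Fˣ = 3 := by rw [Fintype.card_units, hF4]
      have h' := pow_card_eq_one (x := c)
      rwa [h] at h'
  have hsc : Function.Injective sc := fun a b e => by
    have e' : Matrix.GeneralLinearGroup.scalar (Fin 6) a = Matrix.GeneralLinearGroup.scalar (Fin 6) b :=
      congrArg Subtype.val e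
    have := congrArg (fun g : GL (Fin 6) F => g.val 0 0) e'
    simpa [Matrix.GeneralLinearGroup.coe_scalar, Units.ext_iff] using this
  let cj : Cfsg.GU 6 F 2 →* MulAut (Cfsg.PSU 6 F 2) := AutPSU.conjU
  have hker : ∀ c, cj (sc c) = 1 := fun c => by
    refine MulEquiv.ext fun x => ?_
    induction x using QuotientGroup.induction_on with
    | _ s =>
      show AutPSU.conjU (sc c) (QuotientGroup.mk s) = QuotientGroup.mk s
      rw [AutPSU.conjU_mk]
      refine congrArg QuotientGroup.mk (AutPSU.su_ext ?_)
      rw [AutPSU.conjSU_coe]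
      have hcomm : Commute (Matrix.GeneralLinearGroup.scalar (Fin 6) c : GL (Fin 6) F).val s.1.1 := by
        rw [Matrix.GeneralLinearGroup.coe_scalar]
        exact Matrix.scalar_commute (c : F) (fun r => Commute.all _ r) _
      show (Matrix.GeneralLinearGroup.scalar (Fin 6) c : GL (Fin 6) F).val * s.1.1 * _ = _
      rw [hcomm.eq, mul_assoc]
      exact (congrArg _ (Units.mul_inv _)).trans (mul_one _)
  have hrange : Nat.card cj.range ≤ Nat.card (Cfsg.PSU 6 F 2) * 3 := by
    have h1 := Subgroup.card_eq_card_quotient_mul_card_subgroup cj.ker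
    rw [Nat.card_congr (QuotientGroup.quotientKerEquivRange cj).toEquiv] at h1
    have h2 : 3 ≤ Nat.card cj.ker := by
      rw [show 3 = Nat.card Fˣ by rw [Nat.card_eq_fintype_card, Fintype.card_units, hF4]]
      exact Nat.card_le_card_of_injective (fun c => (⟨sc c, hker c⟩ : cj.ker))
        fun a b e => hsc (congrArg Subtype.val e)
    have h3 := Forms.card_PSU_mul hF (n := 6) (by norm_num)
    rw [h1, show Nat.gcd 6 (2 + 1) = 3 from rfl] at h3
    have h4 : Nat.card cj.range * 3 ≤ Nat.card cj.range * Nat.card cj.ker := Nat.mul_le_mul_left _ h2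
    omega
  let φ : MulAut (Cfsg.PSU 6 F 2) := AutPSU.fieldU (AutPSU.qAut hF)
  let f : cj.range × Bool → MulAut (Cfsg.PSU 6 F 2) := fun p => p.1.1 * cond p.2 φ 1
  have hs : Function.Surjective f := by
    intro β
    obtain ⟨g, τ, hβ⟩ := AutPSU.exists_decomposition hF (by norm_num) (by norm_num) β
    rcases hτ τ with h | h
    · exact ⟨(⟨cj g, g, rfl⟩, false), by show cj g * 1 = β; rw [hβ, h, map_one]⟩
    · exact ⟨(⟨cj g, g, rfl⟩, true), by show cj g * φ = β; rw [hβ, h]⟩
  haveI : Finite cj.range := Finite.of_equiv _ (QuotientGroup.quotientKerEquivRange cj).toEquiv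
  refine ⟨Finite.of_surjective f hs, ?_⟩
  have h1 := Nat.card_le_card_of_surjective f hs
  rw [Nat.card_prod, Nat.card_eq_fintype_card (α := Bool), Fintype.card_bool] at h1
  omega

end Cfsg.Agent.Transpos
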