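import Cfsg.Agent.Lib.Transpos.M24Cent
import Cfsg.Agent.Lib.Transpos.M24Octad
import Cfsg.Agent.Lib.Transpos.M23Pair
import Cfsg.Agent.Lib.Transpos.QuasiFactor
import Cfsg.Agent.Lib.Transpos.U6Aut

/-!
# The centraliser of a product of three members in type M(24)

Inside the derived group `L` the centraliser of a commuting triple is the pair centraliser of the
cover of type M(23) at one of them, quasisimple of type `2².U₆(2)`; it has the symmetric group of
degree three on top.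
-/

set_option autoImplicit false
set_option linter.style.haveILetI false

namespace Cfsg.Agent.Transpos

open Cfsg Cfsg.Agent.ClassicalSimple

universe u

variable {G : Type u} [Group G] [Finite G] {D : Set G}

namespace M24

variable (H : M24 D)
include H

/-- A member is outside the derived group; multiplying by it changes cosets. -/
theorem commutator_coset [Nonempty D] (hsgn : ∃ χ : G →* ℤˣ, ∀ d ∈ D, χ d = -1) {d : G} (hd : d ∈ D) :
    d ∉ commutator G ∧ ∀ g, d * g ∈ commutator G ↔ g ∉ commutator G := by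
  obtain ⟨χ, hχ⟩ := hsgn
  have h1 : d ∉ commutator G := fun h => by
    have := Abelianization.commutator_subset_ker χ h
    rw [MonoidHom.mem_ker, hχ d hd] at this
    exact absurd this (by decide)
  refine ⟨h1, fun g => ⟨fun h hg => h1 ((mul_mem_cancel_right hg).1 h), fun hg => ?_⟩⟩
  let φ : G →* Abelianization G := Abelianization.of
  have hle : Subgroup.closure D ≤ (Subgroup.zpowers (φ d)).comap φ :=
    (Subgroup.closure_le _).2 fun x hx => by
      obtain ⟨t, rfl⟩ := H.trans d hd x hx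
      show φ (t * d * t⁻¹) ∈ Subgroup.zpowers (φ d)
      rw [map_mul, map_mul, map_inv, mul_comm (φ t), mul_inv_cancel_right]
      exact Subgroup.mem_zpowers _
  obtain ⟨k, hk⟩ := hle (H.grp.2.2 ▸ Subgroup.mem_top g)
  have hd2 : φ d * φ d = 1 := by rw [← map_mul, sq_one H.grp.1 hd, map_one]
  have hk' : φ g = φ d ^ k := hk.symm
  rcases Int.even_or_odd' k with ⟨m, rfl | rfl⟩
  · refine absurd ((QuotientGroup.eq_one_iff g).1 ?_) hg
    show φ g = 1
    rw [hk', zpow_mul, zpow_two, hd2, one_zpow]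
  · refine (QuotientGroup.eq_one_iff _).1 ?_
    show φ (d * g) = 1
    rw [map_mul, hk', zpow_add, zpow_mul, zpow_two, hd2, one_zpow, one_mul, zpow_one, hd2]

/-- The pair centraliser of the cover at the first member of a triple, inside the derived group. -/
theorem triple_data [Nonempty D] (hsgn : ∃ χ : G →* ℤˣ, ∀ d ∈ D, χ d = -1) {d₁ d₂ d₃ : G}
    (h₁ : d₁ ∈ D) (h₂ : d₂ ∈ Dc D d₁) (h₃ : d₃ ∈ Dc (Dc D d₁) d₂) (K₀ E : Subgroup G)
    (hK : K₀ = commutator G ⊓ Subgroup.centralizer ({d₁, d₂, d₃} : Set G))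
    (hE : E = Subgroup.closure ({d₁ * d₂, d₁ * d₃} : Set G)) :
    E ≤ K₀ ∧ Cfsg.IsQuasisimple ↥K₀ ∧ (Subgroup.center ↥K₀).map K₀.subtype = E ∧
      ∃ (F : Type) (_ : Field F) (_ : Fintype F), Fintype.card F = 4 ∧
        Nonempty (↥K₀ ⧸ Subgroup.center ↥K₀ ≃* Cfsg.PSU 6 F 2) := by
  classical
  obtain ⟨C, hC⟩ := H.chart d₁ h₁
  set β := C.img h₂
  set γ := C.img h₃.1
  have hβ : β ∈ C.E := C.img_mem h₂
  have hγ : γ ∈ Dc C.E β := (C.dc_iff h₂ h₃.1).2 h₃
  set Γ := Subgroup.closure (Dc D d₁)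
  have hΓ : ∀ {x}, x ∈ K₀ → x ∈ Γ ∧ Commute x d₁ ∧ Commute x d₂ ∧ Commute x d₃ := fun {x} hx => by
    rw [hK, Subgroup.mem_inf, Subgroup.mem_centralizer_iff] at hx
    have c1 : Commute x d₁ := (hx.2 d₁ (Or.inl rfl)).symm
    exact ⟨(H.cent_eq h₁).le (Subgroup.mem_centralizer_singleton_iff.2 c1.eq), c1,
      (hx.2 d₂ (Or.inr (Or.inl rfl))).symm, (hx.2 d₃ (Or.inr (Or.inr rfl))).symm⟩
  have hKmem : ∀ {x}, x ∈ commutator G → Commute x d₁ → Commute x d₂ → Commute x d₃ → x ∈ K₀ := by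
    intro x hx c1 c2 c3
    rw [hK]
    refine ⟨hx, Subgroup.mem_centralizer_iff.2 ?_⟩
    rintro s (rfl | rfl | rfl)
    exacts [c1.eq.symm, c2.eq.symm, c3.eq.symm]
  let el : ↥Γ := ⟨d₁, H.mem_closure_dc h₁⟩
  have hπ1 : C.π el = 1 := C.pi_eq_one el fun x hx => hx.2.2
  set K' := Subgroup.centralizer ({β, γ} : Set C.Q) with hK'
  let inc : ↥K₀ →* ↥Γ := Subgroup.inclusion fun x hx => (hΓ hx).1
  have hmem : ∀ x : ↥K₀, C.π (inc x) ∈ K' := fun x => by
    obtain ⟨-, -, c2, c3⟩ := hΓ x.2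
    refine Subgroup.mem_centralizer_iff.2 ?_
    rintro s (rfl | rfl)
    · exact ((show Commute (⟨d₂, Subgroup.subset_closure h₂⟩ : ↥Γ) (inc x) from
        Subtype.ext c2.eq.symm).map C.π).eq
    · exact ((show Commute (⟨d₃, Subgroup.subset_closure h₃.1⟩ : ↥Γ) (inc x) from
        Subtype.ext c3.eq.symm).map C.π).eq
  let f : ↥K₀ →* ↥K' := (C.π.comp inc).codRestrict K' hmem
  have hf : Function.Bijective f := by
    refine ⟨fun x y e => ?_, fun q => ?_⟩
    · have e1 : C.π (inc (x⁻¹ * y)) = 1 := by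
        have e2 : C.π (inc x) = C.π (inc y) := congrArg Subtype.val e
        rw [map_mul, map_inv, map_mul, map_inv, e2, inv_mul_cancel]
      obtain ⟨-, c1, -, -⟩ := hΓ (x⁻¹ * y).2
      rcases H.eq_one_or_eq h₁ c1 (fun v hv =>
          congrArg Subtype.val (C.ker _ e1 ⟨v, Subgroup.subset_closure hv⟩).eq) with h | h
      · exact inv_mul_eq_one.1 (Subtype.ext h)
      · refine absurd ?_ (H.commutator_coset hsgn h₁).1
        have hL : ((x⁻¹ * y : ↥K₀) : G) ∈ commutator G := (hK.le (x⁻¹ * y).2).1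
        rwa [h] at hL
    · obtain ⟨y, hy⟩ := C.surj (q : C.Q)
      have hy1 : Commute (y : G) d₁ :=
        Subgroup.mem_centralizer_singleton_iff.1 ((H.cent_eq h₁).ge y.2)
      have hq := Subgroup.mem_centralizer_iff.1 q.2
      have fix : ∀ {x} (hx : x ∈ Dc D d₁), C.img hx * (q : C.Q) = q * C.img hx →
          Commute (y : G) x := fun {x} hx e => mul_inv_eq_iff_eq_mul.1
        (C.inj (C.conj_mem y hx) hx (by rw [C.img_pi y hx, hy, ← e, mul_inv_cancel_right]))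
      have hy2 : Commute (y : G) d₂ := fix h₂ (hq β (Or.inl rfl))
      have hy3 : Commute (y : G) d₃ := fix h₃.1 (hq γ (Or.inr rfl))
      by_cases hL : (y : G) ∈ commutator G
      · exact ⟨⟨y, hKmem hL hy1 hy2 hy3⟩, Subtype.ext hy⟩
      · refine ⟨⟨d₁ * y, hKmem (((H.commutator_coset hsgn h₁).2 _).2 hL)
          ((Commute.refl d₁).mul_left hy1) (h₂.2.2.mul_left hy2) (h₃.1.2.2.mul_left hy3)⟩, Subtype.ext ?_⟩
        show C.π (el * y) = q
        rw [map_mul, hπ1, one_mul, hy]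
  let e := MulEquiv.ofBijective f hf
  set V := Subgroup.closure ({β, γ} : Set C.Q) with hV
  haveI hn : (V.subgroupOf (Subgroup.centralizer ({β * γ} : Set C.Q))).Normal := by
    refine ⟨fun v hv g => ?_⟩
    rw [Subgroup.mem_subgroupOf] at hv ⊢
    have hle : V ≤ V.comap (MulAut.conj (g : C.Q)).toMonoidHom := by
      rw [hV, Subgroup.closure_le]
      intro s hs
      show (g : C.Q) * s * (g : C.Q)⁻¹ ∈ Subgroup.closure ({β, γ} : Set C.Q)
      refine Subgroup.subset_closure ?_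
      rcases hC.perm_of_commute_mul hβ hγ (Subgroup.mem_centralizer_singleton_iff.1 g.2) with
        ⟨e1, e2⟩ | ⟨e1, e2⟩ <;> rcases hs with rfl | rfl
      exacts [Or.inl e1, Or.inr e2, Or.inr e1, Or.inl e2]
    exact hle hv
  obtain ⟨-, -, hcen, hqs, ⟨F, iF, iFt, hF, ⟨iso⟩⟩, -⟩ :=
    hC.pair_cent hβ hγ K' _ V rfl rfl rfl
  have hEK : E ≤ K₀ := by
    rw [hE, Subgroup.closure_le]
    have c23 : Commute d₂ d₃ := h₃.2.2
    rintro s (rfl | rfl)
    · exact hKmem (((H.commutator_coset hsgn h₁).2 _).2 (H.commutator_coset hsgn h₂.1).1)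
        ((Commute.refl d₁).mul_left h₂.2.2.symm) (h₂.2.2.mul_left (Commute.refl d₂))
        (h₃.1.2.2.mul_left c23)
    · exact hKmem (((H.commutator_coset hsgn h₁).2 _).2 (H.commutator_coset hsgn h₃.1.1).1)
        ((Commute.refl d₁).mul_left h₃.1.2.2.symm) (h₂.2.2.mul_left c23.symm)
        (h₃.1.2.2.mul_left (Commute.refl d₃))
  have hm1 : d₁ * d₂ ∈ E := hE ▸ Subgroup.subset_closure (Or.inl rfl)
  have hm2 : d₁ * d₃ ∈ E := hE ▸ Subgroup.subset_closure (Or.inr rfl)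
  have fβ : ((f ⟨_, hEK hm1⟩ : ↥K') : C.Q) = β := by
    show C.π (el * ⟨d₂, Subgroup.subset_closure h₂⟩) = β
    rw [map_mul, hπ1, one_mul]
    rfl
  have fγ : ((f ⟨_, hEK hm2⟩ : ↥K') : C.Q) = γ := by
    show C.π (el * ⟨d₃, Subgroup.subset_closure h₃.1⟩) = γ
    rw [map_mul, hπ1, one_mul]
    rfl
  have hEV : ∀ x : ↥K₀, (x : G) ∈ E ↔ ((f x : ↥K') : C.Q) ∈ V := by
    have hfwd : E.subgroupOf K₀ ≤ V.comap (K'.subtype.comp f) := by
      have h : E ≤ (V.comap (K'.subtype.comp f)).map K₀.subtype := by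
        rw [hE, Subgroup.closure_le]
        rintro s (rfl | rfl)
        · exact ⟨⟨_, hEK hm1⟩, show ((f ⟨_, hEK hm1⟩ : ↥K') : C.Q) ∈ V from by rw [fβ]; exact Subgroup.subset_closure (Or.inl rfl), rfl⟩
        · exact ⟨⟨_, hEK hm2⟩, show ((f ⟨_, hEK hm2⟩ : ↥K') : C.Q) ∈ V from by rw [fγ]; exact Subgroup.subset_closure (Or.inr rfl), rfl⟩
      intro x hx
      obtain ⟨x', hx', ex⟩ := h hx
      rwa [← Subtype.ext ex]
    have hbwd : V ≤ (E.subgroupOf K₀).map (K'.subtype.comp f) := by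
      rw [hV, Subgroup.closure_le]
      rintro s (rfl | rfl)
      exacts [⟨⟨_, hEK hm1⟩, hm1, fβ⟩, ⟨⟨_, hEK hm2⟩, hm2, fγ⟩]
    refine fun x => ⟨fun h => hfwd h, fun h => ?_⟩
    obtain ⟨x', hx', ex⟩ := hbwd h
    rwa [← hf.1 (Subtype.ext ex)]
  refine ⟨hEK, (Components.isQuasisimple_congr e).2 hqs, ?_, F, iF, iFt, hF,
    ⟨(centerQuotientCongr e).trans iso⟩⟩
  have hc : ∀ x : ↥K₀, x ∈ Subgroup.center ↥K₀ ↔ (x : G) ∈ E := fun x => by
    rw [hEV, ← hcen]
    constructor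
    · intro hx
      exact ⟨f x, Subgroup.mem_center_iff.2 fun q => by
        obtain ⟨y, rfl⟩ := hf.2 q
        rw [← map_mul, ← map_mul, Subgroup.mem_center_iff.1 hx y], rfl⟩
    · rintro ⟨q, hq, eq⟩
      rw [Subtype.ext eq] at hq
      exact Subgroup.mem_center_iff.2 fun y => hf.1 (by
        rw [map_mul, map_mul, Subgroup.mem_center_iff.1 hq (f y)])
  ext g
  exact ⟨fun ⟨x, hx, e⟩ => e ▸ (hc x).1 hx, fun hg => ⟨⟨g, hEK hg⟩, (hc _).2 hg, rfl⟩⟩

/-- The centraliser of the product of a triple in the derived group. -/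
theorem triple_cent [Nonempty D] (hsgn : ∃ χ : G →* ℤˣ, ∀ d ∈ D, χ d = -1) {d₁ d₂ d₃ : G}
    (h₁ : d₁ ∈ D) (h₂ : d₂ ∈ Dc D d₁) (h₃ : d₃ ∈ Dc (Dc D d₁) d₂) (E CL K : Subgroup G)
    (hE : E = Subgroup.closure ({d₁ * d₂, d₁ * d₃} : Set G))
    (hCL : CL = commutator G ⊓ Subgroup.centralizer ({d₁ * d₂ * d₃} : Set G))
    (hK : K = (Cfsg.generalizedFittingSubgroup ↥CL).map CL.subtype) :
    Cfsg.IsQuasisimple ↥K ∧ (Subgroup.center ↥K).map K.subtype = E ∧
      K = commutator G ⊓ Subgroup.centralizer (E : Set G) ∧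
      (∃ (_ : (E.subgroupOf K).Normal) (F : Type) (_ : Field F) (_ : Fintype F), Fintype.card F = 4 ∧
        Nonempty (↥K ⧸ E.subgroupOf K ≃* Cfsg.PSU 6 F 2)) ∧
      ∃ _ : (K.subgroupOf CL).Normal, Nonempty (↥CL ⧸ K.subgroupOf CL ≃* Equiv.Perm (Fin 3)) ∧
        E ≤ CL ∧ ∃ (_ : (E.subgroupOf CL).Normal) (F : Type) (_ : Field F) (_ : Fintype F),
          Fintype.card F = 4 ∧ Nonempty (↥CL ⧸ E.subgroupOf CL ≃* MulAut (Cfsg.PSU 6 F 2)) := by
  classical
  set K₀ := commutator G ⊓ Subgroup.centralizer ({d₁, d₂, d₃} : Set G) with hK₀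
  obtain ⟨hEK, hqs, hcen, F, iF, iFt, hF, ⟨iso⟩⟩ := H.triple_data hsgn h₁ h₂ h₃ K₀ E hK₀ hE
  let v : Fin 3 → G := ![d₁, d₂, d₃]
  have hvD : ∀ i, v i ∈ D := by
    intro i; fin_cases i
    exacts [h₁, h₂.1, h₃.1.1]
  have hv : Function.Injective v := by
    intro i j e
    fin_cases i <;> fin_cases j
    exacts [rfl, absurd e h₂.2.1.symm, absurd e h₃.1.2.1.symm, absurd e h₂.2.1, rfl,
      absurd e h₃.2.1.symm, absurd e h₃.1.2.1, absurd e h₃.2.1, rfl]
  have hvc : ∀ i j, Commute (v i) (v j) := by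
    intro i j; fin_cases i <;> fin_cases j
    exacts [Commute.refl _, h₂.2.2, h₃.1.2.2, h₂.2.2.symm, Commute.refl _, h₃.2.2, h₃.1.2.2.symm,
      h₃.2.2.symm, Commute.refl _]
  have hCLmem : ∀ {g}, g ∈ CL ↔ g ∈ commutator G ∧ Commute g (d₁ * d₂ * d₃) := fun {g} => by
    rw [hCL, Subgroup.mem_inf, Subgroup.mem_centralizer_singleton_iff]
    rfl
  have hperm : ∀ g : ↥CL, ∀ i, ∃ j, (g : G) * v i * (g : G)⁻¹ = v j := by
    intro g
    have hg := (hCLmem.1 g.2).2
    set a : Fin 3 → G := fun i => (g : G) * v i * (g : G)⁻¹ with ha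
    have hprod : a 0 * a 1 * a 2 = d₁ * d₂ * d₃ := by
      show (g : G) * d₁ * (g : G)⁻¹ * ((g : G) * d₂ * (g : G)⁻¹) * ((g : G) * d₃ * (g : G)⁻¹) = _
      rw [show (g : G) * d₁ * (g : G)⁻¹ * ((g : G) * d₂ * (g : G)⁻¹) * ((g : G) * d₃ * (g : G)⁻¹) =
        g * (d₁ * d₂ * d₃) * (g : G)⁻¹ by group, hg.eq, mul_inv_cancel_right]
    have hac : ∀ i j, Commute (a i) (a j) := fun i j => (commute_conj_iff (g : G)).2 (hvc i j)
    have hinj : Function.Injective a := fun i j e => hv (mul_left_cancel (mul_right_cancel e))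
    have key : ∀ i j k : Fin 3, i ≠ j → i ≠ k → j ≠ k → a i * a j * a k = d₁ * d₂ * d₃ →
        ∃ l, a i = v l := by
      intro i j k nij nik njk e
      rcases H.mem_three (a' := d₁) (b' := d₂) (c' := d₃)
        (by simp [hinj.ne nij, hinj.ne nik, hinj.ne njk])
        (by simp [h₂.2.1.symm, h₃.1.2.1.symm, h₃.2.1.symm])
        (by simp [a, H.conj_mem, hvD, h₁, h₂.1, h₃.1.1])
        (by simp [hac])
        (by simp [h₂.2.2, h₂.2.2.symm, h₃.1.2.2, h₃.1.2.2.symm, h₃.2.2, h₃.2.2.symm]) e with h | h | h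
      exacts [⟨0, h⟩, ⟨1, h⟩, ⟨2, h⟩]
    intro i
    fin_cases i
    · exact key 0 1 2 (by decide) (by decide) (by decide) hprod
    · exact key 1 0 2 (by decide) (by decide) (by decide) (by rw [(hac 1 0).eq]; exact hprod)
    · exact key 2 0 1 (by decide) (by decide) (by decide) (by
        rw [mul_assoc, ((hac 2 0).mul_right (hac 2 1)).eq]; exact hprod)
  choose σ hσ using hperm
  have hσmul : ∀ g k : ↥CL, σ (g * k) = σ g ∘ σ k := fun g k => funext fun i => hv (by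
    show v (σ (g * k) i) = v (σ g (σ k i))
    rw [← hσ, ← hσ g, ← hσ k, Subgroup.coe_mul]
    group)
  have hσone : σ 1 = id := funext fun i => hv (by rw [← hσ]; simp)
  let θ : ↥CL →* Equiv.Perm (Fin 3) :=
    { toFun := fun g => ⟨σ g, σ g⁻¹, fun i => by
          rw [← Function.comp_apply (f := σ g⁻¹), ← hσmul, inv_mul_cancel, hσone, id],
        fun i => by rw [← Function.comp_apply (f := σ g), ← hσmul, mul_inv_cancel, hσone, id]⟩
      map_one' := Equiv.ext fun i => congrFun hσone i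
      map_mul' := fun g k => Equiv.ext fun i => congrFun (hσmul g k) i }
  have hK₀CL : K₀ ≤ CL := fun g hg => by
    rw [hK₀, Subgroup.mem_inf, Subgroup.mem_centralizer_iff] at hg
    exact hCLmem.2 ⟨hg.1, ((hg.2 d₁ (Or.inl rfl)).symm |> fun h1 =>
      (Commute.mul_right h1 (hg.2 d₂ (Or.inr (Or.inl rfl))).symm).mul_right
        (hg.2 d₃ (Or.inr (Or.inr rfl))).symm)⟩
  set N := K₀.subgroupOf CL with hN
  have hker : N = θ.ker := by
    ext g
    rw [hN, Subgroup.mem_subgroupOf, MonoidHom.mem_ker]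
    constructor
    · intro hg
      rw [hK₀, Subgroup.mem_inf, Subgroup.mem_centralizer_iff] at hg
      refine Equiv.ext fun i => hv ?_
      show v (σ g i) = v i
      rw [← hσ, mul_inv_eq_iff_eq_mul]
      refine (hg.2 (v i) ?_).symm
      fin_cases i
      exacts [Or.inl rfl, Or.inr (Or.inl rfl), Or.inr (Or.inr rfl)]
    · intro hg
      have hfix : ∀ i, Commute (g : G) (v i) := fun i => by
        have e : σ g i = i := DFunLike.congr_fun hg i
        exact mul_inv_eq_iff_eq_mul.1 ((hσ g i).trans (congrArg v e))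
      refine ⟨(hCLmem.1 g.2).1, Subgroup.mem_centralizer_iff.2 ?_⟩
      rintro s (rfl | rfl | rfl)
      exacts [(hfix 0).eq.symm, (hfix 1).eq.symm, (hfix 2).eq.symm]
  haveI hNn : N.Normal := hker ▸ MonoidHom.normal_ker θ
  have hθs : Function.Surjective θ := by
    intro π
    have hd : ∀ {i j k : Fin 3}, i ≠ j → i ≠ k → j ≠ k →
        v j ∈ Dc D (v i) ∧ v k ∈ Dc (Dc D (v i)) (v j) := fun {i j k} nij nik njk =>
      ⟨⟨hvD j, hv.ne nij.symm, hvc i j⟩, ⟨hvD k, hv.ne nik.symm, hvc i k⟩, hv.ne njk.symm, hvc j k⟩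
    obtain ⟨b, c⟩ := hd (i := π 0) (j := π 1) (k := π 2) (π.injective.ne (by decide))
      (π.injective.ne (by decide)) (π.injective.ne (by decide))
    obtain ⟨g, g1, g2, g3⟩ := H.conj_triple h₁ h₂ h₃ (hvD (π 0)) b c
    have hg : ∀ i, g * v i * g⁻¹ = v (π i) := by
      intro i; fin_cases i
      exacts [g1, g2, g3]
    have key : ∀ k, k ∈ commutator G → (∀ i, k * v i * k⁻¹ = v (π i)) → ∃ z, θ z = π := by
      intro k hkL hkv
      have hpp : ∀ π : Equiv.Perm (Fin 3), v (π 0) * v (π 1) * v (π 2) = d₁ * d₂ * d₃ := by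
        intro π
        have h := (Equiv.Perm.ofFn_comp_perm π v).prod_eq' (List.pairwise_ofFn.2 fun i j _ => hvc _ _)
        simpa [List.ofFn_succ, v, mul_assoc, Function.comp_def] using h
      have hkC : k ∈ CL := hCLmem.2 ⟨hkL, mul_inv_eq_iff_eq_mul.1 (by
        rw [show k * (d₁ * d₂ * d₃) * k⁻¹ = k * v 0 * k⁻¹ * (k * v 1 * k⁻¹) * (k * v 2 * k⁻¹) by
          simp [v, mul_assoc], hkv, hkv, hkv, hpp])⟩
      exact ⟨⟨k, hkC⟩, Equiv.ext fun i => hv ((hσ ⟨k, hkC⟩ i).symm.trans (hkv i))⟩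
    by_cases hgL : g ∈ commutator G
    · exact key g hgL hg
    · refine key (d₁ * g) (((H.commutator_coset hsgn h₁).2 g).2 hgL) fun i => ?_
      rw [show d₁ * g * v i * (d₁ * g)⁻¹ = d₁ * (g * v i * g⁻¹) * d₁⁻¹ by group, hg,
        show d₁ = v 0 from rfl, (hvc 0 (π i)).eq, mul_inv_cancel_right]
  have hNq : Cfsg.IsQuasisimple ↥N :=
    (Components.isQuasisimple_congr (Subgroup.subgroupOfEquivOfLe hK₀CL)).2 hqs
  have two : ∀ {k : G}, k ∈ commutator G → ∀ e ∈ ({d₁ * d₂, d₁ * d₃} : Set G), Commute k e →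
      ∀ x y, x ∈ D → y ∈ D → x ≠ y → Commute x y → e = x * y →
      k * x * k⁻¹ = x ∨ k * x * k⁻¹ = y := fun {k} _ e _ hke x y hx hy hxy hc he =>
    mem_of_prod_two H.tr H.noTwin₂ (H.conj_mem k hx) (H.conj_mem k hy) hx hy
      (fun h => hxy (mul_left_cancel (mul_right_cancel h))) hxy ((commute_conj_iff k).2 hc) hc (by
        rw [show k * x * k⁻¹ * (k * y * k⁻¹) = k * (x * y) * k⁻¹ by group, ← he, hke.eq,
          mul_inv_cancel_right])
  have hCE : commutator G ⊓ Subgroup.centralizer (E : Set G) = K₀ := by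
    refine le_antisymm (fun k hk => ?_) fun k hk => ⟨hk.1, ?_⟩
    · have c1 : Commute k (d₁ * d₂) :=
        (Subgroup.mem_centralizer_iff.1 hk.2 _ (hE ▸ Subgroup.subset_closure (Or.inl rfl))).symm
      have c2 : Commute k (d₁ * d₃) :=
        (Subgroup.mem_centralizer_iff.1 hk.2 _ (hE ▸ Subgroup.subset_closure (Or.inr rfl))).symm
      have e1 : k * d₁ * k⁻¹ = d₁ := by
        rcases two hk.1 _ (Or.inl rfl) c1 d₁ d₂ h₁ h₂.1 h₂.2.1.symm h₂.2.2 rfl with h | h
        · exact h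
        rcases two hk.1 _ (Or.inr rfl) c2 d₁ d₃ h₁ h₃.1.1 h₃.1.2.1.symm h₃.1.2.2 rfl with h' | h'
        · exact h'
        · exact absurd (h.symm.trans h') h₃.2.1.symm
      have k1 : Commute k d₁ := mul_inv_eq_iff_eq_mul.1 e1
      have hd : ∀ {x}, Commute k (d₁ * x) → Commute k x := fun {x} h => by
        have := k1.inv_right.mul_right h
        rwa [inv_mul_cancel_left] at this
      refine ⟨hk.1, Subgroup.mem_centralizer_iff.2 ?_⟩
      rintro s (rfl | rfl | rfl)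
      exacts [k1.eq.symm, (hd c1).eq.symm, (hd c2).eq.symm]
    · have c : ∀ s ∈ ({d₁, d₂, d₃} : Set G), Commute k s := fun s hs =>
        (Subgroup.mem_centralizer_iff.1 hk.2 s hs).symm
      have hle : E ≤ Subgroup.centralizer ({k} : Set G) := by
        rw [hE, Subgroup.closure_le]
        rintro s (rfl | rfl) <;> refine Subgroup.mem_centralizer_singleton_iff.2 ?_
        exacts [((c d₁ (Or.inl rfl)).mul_right (c d₂ (Or.inr (Or.inl rfl)))).eq.symm,
          ((c d₁ (Or.inl rfl)).mul_right (c d₃ (Or.inr (Or.inr rfl)))).eq.symm]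
      exact Subgroup.mem_centralizer_iff.2 fun e he =>
        Subgroup.mem_centralizer_singleton_iff.1 (hle he)
  have hcent : ∀ g : ↥CL, (∀ n ∈ N, Commute g n) → g ∈ N := fun g hg => by
    have hgE : (g : G) ∈ commutator G ⊓ Subgroup.centralizer (E : Set G) :=
      ⟨(hCLmem.1 g.2).1, Subgroup.mem_centralizer_iff.2 fun e he =>
        (congrArg Subtype.val (hg ⟨e, hK₀CL (hEK he)⟩ (hEK he)).eq).symm⟩
    rw [hCE] at hgE
    exact hgE
  have hgfs := genFitting_eq_of_quasisimple hNq hcent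
  have hKK : K = K₀ := by rw [hK, hgfs, hN, Subgroup.map_subgroupOf_eq_of_le hK₀CL]
  subst hKK
  have hEc : E.subgroupOf K₀ = Subgroup.center ↥K₀ := by
    rw [← hcen, Subgroup.subgroupOf, Subgroup.comap_map_eq_self_of_injective K₀.subtype_injective]
  haveI hEn : (E.subgroupOf K₀).Normal := hEc ▸ inferInstance
  have hZ : (Subgroup.center ↥N).map N.subtype = E.subgroupOf CL := by
    ext g
    constructor
    · rintro ⟨z, hz, rfl⟩
      have hz' : (⟨(z : ↥CL), z.2⟩ : ↥K₀) ∈ Subgroup.center ↥K₀ := Subgroup.mem_center_iff.2 fun y =>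
        Subtype.ext (congrArg (fun w : ↥N => ((w : ↥CL) : G))
          (Subgroup.mem_center_iff.1 hz ⟨⟨y, hK₀CL y.2⟩, y.2⟩))
      rw [← hEc] at hz'
      exact hz'
    · intro hg
      have hgK : (g : G) ∈ K₀ := hEK hg
      have hz : (⟨g, hgK⟩ : ↥K₀) ∈ Subgroup.center ↥K₀ := hEc ▸ hg
      exact ⟨⟨g, hgK⟩, Subgroup.mem_center_iff.2 fun y => Subtype.ext (Subtype.ext
        (congrArg (fun w : ↥K₀ => (w : G))
          (Subgroup.mem_center_iff.1 hz ⟨((y : ↥CL) : G), y.2⟩))), rfl⟩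
  let isoN : ↥N ⧸ Subgroup.center ↥N ≃* Cfsg.PSU 6 F 2 :=
    (centerQuotientCongr (Subgroup.subgroupOfEquivOfLe hK₀CL)).trans iso
  let ψ : ↥CL →* MulAut (Cfsg.PSU 6 F 2) :=
    (MulAut.congr isoN).toMonoidHom.comp (quasiAct (N := N))
  have hψ : ψ.ker = E.subgroupOf CL := by
    ext g
    rw [← hZ, ← quasiAct_eq_one_iff hNq hcent, MonoidHom.mem_ker]
    exact (MulAut.congr isoN).map_eq_one_iff
  haveI hEn' : (E.subgroupOf CL).Normal := hψ ▸ MonoidHom.normal_ker ψ
  have hψs : Function.Surjective ψ := by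
    obtain ⟨hfin, hcard⟩ := card_aut_psu_six (F := F) hF
    refine MonoidHom.range_eq_top.1 (Subgroup.eq_top_of_le_card _ ?_)
    have e1 : Nat.card ψ.range = ψ.ker.index := (Subgroup.index_ker ψ).symm
    have e2 : N.index = 6 := by
      rw [hker, Subgroup.index_ker, MonoidHom.range_eq_top.2 hθs, Subgroup.card_top,
        Nat.card_eq_fintype_card, Fintype.card_perm, Fintype.card_fin]
      rfl
    have hle : (Subgroup.center ↥N).map N.subtype ≤ N := Subgroup.map_subtype_le _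
    have e3 := Subgroup.relIndex_mul_index hle
    rw [Subgroup.relIndex, Subgroup.subgroupOf,
      Subgroup.comap_map_eq_self_of_injective N.subtype_injective, Subgroup.index,
      Nat.card_congr isoN.toEquiv, e2] at e3
    rw [e1, hψ, ← hZ, ← e3]
    omega
  refine ⟨hqs, hcen, hCE.symm, ⟨hEn, F, iF, iFt, hF,
    ⟨(QuotientGroup.quotientMulEquivOfEq hEc).trans iso⟩⟩, hNn,
    ⟨(QuotientGroup.quotientMulEquivOfEq hker).trans
      (QuotientGroup.quotientKerEquivOfSurjective θ hθs)⟩, hEK.trans hK₀CL, hEn', F, iF, iFt, hF,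
    ⟨(QuotientGroup.quotientMulEquivOfEq hψ.symm).trans
      (QuotientGroup.quotientKerEquivOfSurjective ψ hψs)⟩⟩

end M24

end Cfsg.Agent.Transpos
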