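import Cfsg.Agent.Lib.Transpos.M23Main
import Cfsg.Agent.Lib.Transpos.M24Triple
import Cfsg.Agent.Lib.Transpos.M22AutBound

/-!
# The centraliser of a product of two members in type M(24)

Inside the derived group the centraliser of a commuting pair is a double cover of the group of type
M(22), self-centralised of index two in the centraliser of the product, which induces all
automorphisms of the latter.
-/

set_option autoImplicit false
set_option linter.style.haveILetI false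

namespace Cfsg.Agent.Transpos

open Cfsg Cfsg.Agent.ClassicalSimple

universe u

variable {G : Type u} [Group G] [Finite G] {D : Set G}

namespace M24

variable (H : M24 D)
include H

/-- The pair centraliser in the derived group. -/
theorem pair_quot_data [Nonempty D] (hsgn : ∃ χ : G →* ℤˣ, ∀ d ∈ D, χ d = -1) {d₁ d₂ : G}
    (h₁ : d₁ ∈ D) (h₂ : d₂ ∈ Dc D d₁) (K₀ : Subgroup G)
    (hK : K₀ = commutator G ⊓ Subgroup.centralizer ({d₁, d₂} : Set G)) :
    d₁ * d₂ ∈ K₀ ∧ Cfsg.IsQuasisimple ↥K₀ ∧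
      (Subgroup.center ↥K₀).map K₀.subtype = Subgroup.zpowers (d₁ * d₂) ∧
      ∃ (Q : Type u) (_ : Group Q) (_ : Finite Q) (E : Set Q), IsPrimitiveUnderConj E ∧
        IsOfTypeM22 Q E ∧ M22 E ∧ Nonempty (↥K₀ ⧸ Subgroup.center ↥K₀ ≃* Q) := by
  classical
  obtain ⟨C, hC⟩ := H.chart d₁ h₁
  set β := C.img h₂
  have hβ : β ∈ C.E := C.img_mem h₂
  set Γ := Subgroup.closure (Dc D d₁)
  have hΓ : ∀ {x}, x ∈ K₀ → x ∈ Γ ∧ Commute x d₁ ∧ Commute x d₂ := fun {x} hx => by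
    rw [hK, Subgroup.mem_inf, Subgroup.mem_centralizer_iff] at hx
    have c1 : Commute x d₁ := (hx.2 d₁ (Or.inl rfl)).symm
    exact ⟨(H.cent_eq h₁).le (Subgroup.mem_centralizer_singleton_iff.2 c1.eq), c1,
      (hx.2 d₂ (Or.inr rfl)).symm⟩
  have hKmem : ∀ {x}, x ∈ commutator G → Commute x d₁ → Commute x d₂ → x ∈ K₀ := by
    intro x hx c1 c2
    rw [hK]
    refine ⟨hx, Subgroup.mem_centralizer_iff.2 ?_⟩
    rintro s (rfl | rfl)
    exacts [c1.eq.symm, c2.eq.symm]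
  let el : ↥Γ := ⟨d₁, H.mem_closure_dc h₁⟩
  have hπ1 : C.π el = 1 := C.pi_eq_one el fun x hx => hx.2.2
  set K' := Subgroup.closure (Dc C.E β)
  let inc : ↥K₀ →* ↥Γ := Subgroup.inclusion fun x hx => (hΓ hx).1
  have hmem : ∀ x : ↥K₀, C.π (inc x) ∈ K' := fun x => by
    refine (hC.cent_eq hβ).le (Subgroup.mem_centralizer_singleton_iff.2 ?_)
    exact ((show Commute (inc x) (⟨d₂, Subgroup.subset_closure h₂⟩ : ↥Γ) from
      Subtype.ext (hΓ x.2).2.2.eq).map C.π).eq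
  let f : ↥K₀ →* ↥K' := (C.π.comp inc).codRestrict K' hmem
  have hf : Function.Bijective f := by
    refine ⟨fun x y e => ?_, fun q => ?_⟩
    · have e1 : C.π (inc (x⁻¹ * y)) = 1 := by
        have e2 : C.π (inc x) = C.π (inc y) := congrArg Subtype.val e
        rw [map_mul, map_inv, map_mul, map_inv, e2, inv_mul_cancel]
      rcases H.eq_one_or_eq h₁ (hΓ (x⁻¹ * y).2).2.1 (fun v hv =>
          congrArg Subtype.val (C.ker _ e1 ⟨v, Subgroup.subset_closure hv⟩).eq) with h | h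
      · exact inv_mul_eq_one.1 (Subtype.ext h)
      · refine absurd ?_ (H.commutator_coset hsgn h₁).1
        have hL : ((x⁻¹ * y : ↥K₀) : G) ∈ commutator G := (hK.le (x⁻¹ * y).2).1
        rwa [h] at hL
    · obtain ⟨y, hy⟩ := C.surj (q : C.Q)
      have hy1 : Commute (y : G) d₁ :=
        Subgroup.mem_centralizer_singleton_iff.1 ((H.cent_eq h₁).ge y.2)
      have hqc := Subgroup.mem_centralizer_singleton_iff.1 ((hC.cent_eq hβ).ge q.2)
      have hy2 : Commute (y : G) d₂ := mul_inv_eq_iff_eq_mul.1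
        (C.inj (C.conj_mem y h₂) h₂ (by rw [C.img_pi y h₂, hy, hqc, mul_inv_cancel_right]))
      by_cases hL : (y : G) ∈ commutator G
      · exact ⟨⟨y, hKmem hL hy1 hy2⟩, Subtype.ext hy⟩
      · refine ⟨⟨d₁ * y, hKmem (((H.commutator_coset hsgn h₁).2 _).2 hL)
          ((Commute.refl d₁).mul_left hy1) (h₂.2.2.mul_left hy2)⟩, Subtype.ext ?_⟩
        show C.π (el * y) = q
        rw [map_mul, hπ1, one_mul, hy]
  let e := MulEquiv.ofBijective f hf
  have hjK : d₁ * d₂ ∈ K₀ :=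
    hKmem (((H.commutator_coset hsgn h₁).2 _).2 (H.commutator_coset hsgn h₂.1).1)
      ((Commute.refl d₁).mul_left h₂.2.2.symm) (h₂.2.2.mul_left (Commute.refl d₂))
  have fj : ((f ⟨_, hjK⟩ : ↥K') : C.Q) = β := by
    show C.π (el * ⟨d₂, Subgroup.subset_closure h₂⟩) = β
    rw [map_mul, hπ1, one_mul]
    rfl
  have hc : ∀ x : ↥K₀, x ∈ Subgroup.center ↥K₀ ↔ (x : G) ∈ Subgroup.zpowers (d₁ * d₂) := fun x => by
    have h1 : x ∈ Subgroup.center ↥K₀ ↔ f x ∈ Subgroup.center ↥K' := by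
      refine ⟨fun hx => Subgroup.mem_center_iff.2 fun q => ?_,
        fun hx => Subgroup.mem_center_iff.2 fun y => hf.1 ?_⟩
      · obtain ⟨y, rfl⟩ := hf.2 q
        rw [← map_mul, ← map_mul, Subgroup.mem_center_iff.1 hx y]
      · rw [map_mul, map_mul, Subgroup.mem_center_iff.1 hx (f y)]
    rw [h1, hC.center_dc hβ, Subgroup.mem_subgroupOf, Subgroup.mem_zpowers_iff, Subgroup.mem_zpowers_iff]
    refine exists_congr fun k => ?_
    rw [show β ^ k = (((f ((⟨_, hjK⟩ : ↥K₀) ^ k)) : ↥K') : C.Q) by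
      rw [map_zpow, SubgroupClass.coe_zpow, fj]]
    constructor
    · intro h
      have e' := congrArg Subtype.val (hf.1 (Subtype.ext h))
      simpa using e'
    · intro h
      exact congrArg (fun z : ↥K₀ => ((f z : ↥K') : C.Q)) (Subtype.ext (by simpa using h))
  obtain ⟨C', hprim, h22⟩ := hC.chart22 hβ
  have hker : Subgroup.center ↥K' = C'.π.ker := by
    refine le_antisymm (fun x hx => ?_) fun x hx => Subgroup.mem_center_iff.2 fun y =>
      (C'.ker x hx y).symm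
    rw [MonoidHom.mem_ker, ← Subgroup.mem_bot, ← C'.m22.center]
    refine Subgroup.mem_center_iff.2 fun q => ?_
    obtain ⟨y, rfl⟩ := C'.surj q
    rw [← map_mul, ← map_mul, Subgroup.mem_center_iff.1 hx y]
  refine ⟨hjK, (Components.isQuasisimple_congr e).2 (hC.quasisimple_dc hβ), ?_, C'.Q, inferInstance,
    inferInstance, C'.E, hprim, h22, C'.m22, ⟨(centerQuotientCongr e).trans
      ((QuotientGroup.quotientMulEquivOfEq hker).trans
        (QuotientGroup.quotientKerEquivOfSurjective C'.π C'.surj))⟩⟩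
  ext g
  exact ⟨fun ⟨x, hx, e'⟩ => e' ▸ (hc x).1 hx, fun hg => ⟨⟨g, Subgroup.zpowers_le.2 hjK hg⟩,
    (hc _).2 hg, rfl⟩⟩

/-- The centraliser of a product of two members in the derived group. -/
theorem pair_quot [Nonempty D] (hsgn : ∃ χ : G →* ℤˣ, ∀ d ∈ D, χ d = -1) {d₁ d₂ : G}
    (h₁ : d₁ ∈ D) (h₂ : d₂ ∈ Dc D d₁) (K CL : Subgroup G)
    (hK : K = commutator G ⊓ Subgroup.centralizer ({d₁, d₂} : Set G))
    (hCL : CL = commutator G ⊓ Subgroup.centralizer ({d₁ * d₂} : Set G))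
    [((Subgroup.zpowers (d₁ * d₂)).subgroupOf CL).Normal] :
    Cfsg.IsQuasisimple ↥K ∧ K = (Cfsg.generalizedFittingSubgroup ↥CL).map CL.subtype ∧ K ≤ CL ∧
      (K.subgroupOf CL).index = 2 ∧ d₁ * d₂ ∈ K ∧
      ∃ (Q : Type u) (_ : Group Q) (_ : Finite Q) (E : Set Q), IsThreeTranspositionGroup E ∧
        IsPrimitiveUnderConj E ∧ IsOfTypeM22 Q E ∧
          Nonempty (↥CL ⧸ (Subgroup.zpowers (d₁ * d₂)).subgroupOf CL ≃* MulAut Q) := by
  classical
  obtain ⟨hjK, hqs, hcen, Q, iQ, iQf, E, hprim, h22, hM, ⟨iso⟩⟩ := H.pair_quot_data hsgn h₁ h₂ K hK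
  have hKmem : ∀ {x}, x ∈ K ↔ x ∈ commutator G ∧ Commute x d₁ ∧ Commute x d₂ := fun {x} => by
    rw [hK, Subgroup.mem_inf, Subgroup.mem_centralizer_iff]
    refine and_congr_right fun _ => ⟨fun h => ⟨(h d₁ (Or.inl rfl)).symm, (h d₂ (Or.inr rfl)).symm⟩, ?_⟩
    rintro ⟨c1, c2⟩ s (rfl | rfl)
    exacts [c1.eq.symm, c2.eq.symm]
  have hCLmem : ∀ {g}, g ∈ CL ↔ g ∈ commutator G ∧ Commute g (d₁ * d₂) := fun {g} => by
    rw [hCL, Subgroup.mem_inf, Subgroup.mem_centralizer_singleton_iff]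
    rfl
  have hKCL : K ≤ CL := fun g hg =>
    hCLmem.2 ⟨(hKmem.1 hg).1, (hKmem.1 hg).2.1.mul_right (hKmem.1 hg).2.2⟩
  have hperm : ∀ {g}, g ∈ CL → (g * d₁ * g⁻¹ = d₁ ∧ Commute g d₂) ∨ g * d₁ * g⁻¹ = d₂ := by
    intro g hg
    have hj := (hCLmem.1 hg).2
    rcases mem_of_prod_two H.tr H.noTwin₂ (H.conj_mem g h₁) (H.conj_mem g h₂.1) h₁ h₂.1
      (fun h => h₂.2.1 (mul_left_cancel (mul_right_cancel h)).symm) h₂.2.1.symm
      ((commute_conj_iff g).2 h₂.2.2) h₂.2.2 (by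
        rw [show g * d₁ * g⁻¹ * (g * d₂ * g⁻¹) = g * (d₁ * d₂) * g⁻¹ by group, hj.eq,
          mul_inv_cancel_right]) with h | h
    · refine Or.inl ⟨h, ?_⟩
      have c1 : Commute g d₁ := mul_inv_eq_iff_eq_mul.1 h
      have := c1.inv_right.mul_right hj
      rwa [inv_mul_cancel_left] at this
    · exact Or.inr h
  have hKiff : ∀ {g}, g ∈ CL → (g ∈ K ↔ g * d₁ * g⁻¹ = d₁) := fun {g} hg => by
    refine ⟨fun h => mul_inv_eq_iff_eq_mul.2 (hKmem.1 h).2.1.eq, fun h => ?_⟩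
    rcases hperm hg with ⟨-, c2⟩ | h'
    · exact hKmem.2 ⟨(hCLmem.1 hg).1, mul_inv_eq_iff_eq_mul.1 h, c2⟩
    · exact absurd (h'.symm.trans h) h₂.2.1
  -- the swap
  obtain ⟨w, hwL, w1, w2⟩ : ∃ w, w ∈ commutator G ∧ w * d₁ * w⁻¹ = d₂ ∧ w * d₂ * w⁻¹ = d₁ := by
    obtain ⟨w, w1, w2⟩ := H.conj_pair h₁ h₂ h₂.1 (mem_dc_symm h₁ h₂)
    by_cases hw : w ∈ commutator G
    · exact ⟨w, hw, w1, w2⟩
    · refine ⟨d₁ * w, ((H.commutator_coset hsgn h₁).2 w).2 hw, ?_, ?_⟩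
      · rw [show d₁ * w * d₁ * (d₁ * w)⁻¹ = d₁ * (w * d₁ * w⁻¹) * d₁⁻¹ by group, w1, h₂.2.2.eq,
          mul_inv_cancel_right]
      · rw [show d₁ * w * d₂ * (d₁ * w)⁻¹ = d₁ * (w * d₂ * w⁻¹) * d₁⁻¹ by group, w2,
          mul_inv_cancel_right]
  have hwC : w ∈ CL := hCLmem.2 ⟨hwL, mul_inv_eq_iff_eq_mul.1 (by
    rw [show w * (d₁ * d₂) * w⁻¹ = w * d₁ * w⁻¹ * (w * d₂ * w⁻¹) by group, w1, w2]
    exact h₂.2.2.eq.symm)⟩
  set N := K.subgroupOf CL with hN
  have hidx : N.index = 2 := by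
    refine Subgroup.index_eq_two_iff.2 ⟨⟨w, hwC⟩, fun b => ?_⟩
    rw [hN, Subgroup.mem_subgroupOf, Subgroup.mem_subgroupOf, hKiff b.2, hKiff (b * ⟨w, hwC⟩ : ↥CL).2,
      Subgroup.coe_mul,
      show (b : G) * w * d₁ * ((b : G) * w)⁻¹ = (b : G) * (w * d₁ * w⁻¹) * (b : G)⁻¹ by group, w1]
    rcases hperm b.2 with ⟨e1, c2⟩ | e1
    · exact Or.inr ⟨e1, by rw [mul_inv_eq_iff_eq_mul.2 c2.eq]; exact h₂.2.1⟩
    · refine Or.inl ⟨?_, by rw [e1]; exact h₂.2.1⟩
      have e2 : (b : G) * d₁ * (b : G)⁻¹ * ((b : G) * d₂ * (b : G)⁻¹) = d₁ * d₂ := by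
        rw [show (b : G) * d₁ * (b : G)⁻¹ * ((b : G) * d₂ * (b : G)⁻¹) = b * (d₁ * d₂) * (b : G)⁻¹ by
          group, (hCLmem.1 b.2).2.eq, mul_inv_cancel_right]
      rw [e1, h₂.2.2.eq] at e2
      exact mul_left_cancel e2
  haveI hNn : N.Normal := Subgroup.normal_of_index_eq_two hidx
  have hNq : Cfsg.IsQuasisimple ↥N :=
    (Components.isQuasisimple_congr (Subgroup.subgroupOfEquivOfLe hKCL)).2 hqs
  obtain ⟨y₀, hy₀⟩ := H.dc₂_nonempty h₁ h₂
  have hcent : ∀ g : ↥CL, (∀ n ∈ N, Commute g n) → g ∈ N := fun g hg => by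
    by_contra hgN
    have e1 : (g : G) * d₁ * (g : G)⁻¹ = d₂ :=
      (hperm g.2).resolve_left fun h => hgN ((hKiff g.2).2 h.1)
    have hj1 : d₁ * y₀ ∈ K := hKmem.2 ⟨((H.commutator_coset hsgn h₁).2 _).2
      (H.commutator_coset hsgn hy₀.1.1).1, (Commute.refl d₁).mul_left hy₀.1.2.2.symm,
      h₂.2.2.mul_left hy₀.2.2.symm⟩
    have hc : Commute (g : G) (d₁ * y₀) :=
      congrArg Subtype.val (hg ⟨_, hKCL hj1⟩ hj1).eq
    rcases mem_of_prod_two H.tr H.noTwin₂ (H.conj_mem (g : G) h₁) (H.conj_mem (g : G) hy₀.1.1) h₁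
      hy₀.1.1 (fun h => hy₀.1.2.1 (mul_left_cancel (mul_right_cancel h)).symm) hy₀.1.2.1.symm
      ((commute_conj_iff (g : G)).2 hy₀.1.2.2) hy₀.1.2.2 (by
        rw [show (g : G) * d₁ * (g : G)⁻¹ * (g * y₀ * (g : G)⁻¹) = g * (d₁ * y₀) * (g : G)⁻¹ by group,
          hc.eq, mul_inv_cancel_right]) with h | h
    · exact h₂.2.1 (e1.symm.trans h)
    · exact hy₀.2.1 (e1.symm.trans h).symm
  have hgfs := genFitting_eq_of_quasisimple hNq hcent
  set Z := Subgroup.zpowers (d₁ * d₂) with hZdef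
  have hZ : (Subgroup.center ↥N).map N.subtype = Z.subgroupOf CL := by
    ext g
    constructor
    · rintro ⟨z, hz, rfl⟩
      have hz' : (⟨((z : ↥CL) : G), z.2⟩ : ↥K) ∈ Subgroup.center ↥K := Subgroup.mem_center_iff.2 fun y =>
        Subtype.ext (congrArg (fun w : ↥N => ((w : ↥CL) : G))
          (Subgroup.mem_center_iff.1 hz ⟨⟨y, hKCL y.2⟩, y.2⟩))
      exact hcen.le ⟨_, hz', rfl⟩
    · intro hg
      obtain ⟨z, hz, e⟩ := hcen.ge hg
      have hgK : (g : G) ∈ K := (show (z : G) = g from e) ▸ z.2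
      refine ⟨⟨g, hgK⟩, Subgroup.mem_center_iff.2 fun y => Subtype.ext (Subtype.ext ?_), rfl⟩
      show ((y : ↥CL) : G) * g = g * (y : ↥CL)
      rw [← show (z : G) = g from e]
      exact congrArg Subtype.val (Subgroup.mem_center_iff.1 hz ⟨((y : ↥CL) : G), y.2⟩)
  let isoN : ↥N ⧸ Subgroup.center ↥N ≃* Q :=
    (centerQuotientCongr (Subgroup.subgroupOfEquivOfLe hKCL)).trans iso
  let ψ : ↥CL →* MulAut Q := (MulAut.congr isoN).toMonoidHom.comp (quasiAct (N := N))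
  have hψ : ψ.ker = Z.subgroupOf CL := by
    ext g
    rw [← hZ, ← quasiAct_eq_one_iff hNq hcent, MonoidHom.mem_ker]
    exact (MulAut.congr isoN).map_eq_one_iff
  have hψs : Function.Surjective ψ := by
    obtain ⟨d', hd', -⟩ := exists_commuting_pair h22
    haveI : Nonempty E := ⟨⟨d', hd'⟩⟩
    obtain ⟨hfin, hcard⟩ := hM.card_mulAut_le
    refine MonoidHom.range_eq_top.1 (Subgroup.eq_top_of_le_card _ ?_)
    have e1 : Nat.card ψ.range = ψ.ker.index := (Subgroup.index_ker ψ).symm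
    have hle : (Subgroup.center ↥N).map N.subtype ≤ N := Subgroup.map_subtype_le _
    have e3 := Subgroup.relIndex_mul_index hle
    rw [Subgroup.relIndex, Subgroup.subgroupOf,
      Subgroup.comap_map_eq_self_of_injective N.subtype_injective, Subgroup.index,
      Nat.card_congr isoN.toEquiv, hidx] at e3
    rw [e1, hψ, ← hZ, ← e3]
    omega
  refine ⟨hqs, by rw [hgfs, hN, Subgroup.map_subgroupOf_eq_of_le hKCL], hKCL, hidx, hjK, Q, iQ, iQf, E,
    hM.grp, hprim, h22, ⟨(QuotientGroup.quotientMulEquivOfEq hψ.symm).trans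
      (QuotientGroup.quotientKerEquivOfSurjective ψ hψs)⟩⟩

end M24

end Cfsg.Agent.Transpos
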