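import Cfsg.Agent.Lib.Transpos.M24QuadCount
import Cfsg.Agent.Lib.Transpos.M24Base

/-!
# The quads of an involution that is a product of four commuting members in type M(24)

A quad is a factorisation of `z`.  The quads partition the members commuting with `z`; two members of one
quad act alike on the quads.
-/

set_option autoImplicit false
set_option linter.style.haveILetI false
set_option linter.unusedSectionVars false

namespace Cfsg.Agent.Transpos

open Cfsg

universe u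

variable {G : Type u} [Group G] {D : Set G}

/-- Four commuting members with product `z`. -/
def IsQuad (D : Set G) (z : G) (A : Set G) : Prop :=
  ∃ l : List G, l.Nodup ∧ l.length = 4 ∧ (∀ x ∈ l, x ∈ D) ∧ (∀ x ∈ l, ∀ y ∈ l, Commute x y) ∧
    l.prod = z ∧ A = {x | x ∈ l}

/-- The quads of `z`. -/
abbrev QT (D : Set G) (z : G) : Type u := {A : Set G // IsQuad D z A}

/-- Different quads whose members commute. -/
def QAdj {z : G} (A B : QT D z) : Prop := A ≠ B ∧ ∀ a ∈ A.1, ∀ b ∈ B.1, Commute a b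

theorem IsQuad.subset {z : G} {A : Set G} (h : IsQuad D z A) : A ⊆ D := by
  obtain ⟨l, -, -, hl, -, -, rfl⟩ := h
  exact fun x hx => hl x hx

theorem IsQuad.commute {z : G} {A : Set G} (h : IsQuad D z A) {x y : G} (hx : x ∈ A) (hy : y ∈ A) :
    Commute x y := by
  obtain ⟨l, -, -, -, hc, -, rfl⟩ := h
  exact hc x hx y hy

theorem IsQuad.commute_z {z : G} {A : Set G} (h : IsQuad D z A) {x : G} (hx : x ∈ A) : Commute x z := by
  obtain ⟨l, -, -, -, hc, rfl, rfl⟩ := h
  exact Commute.list_prod_right _ _ fun y hy => hc x hx y hy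

theorem IsQuad.ncard {z : G} {A : Set G} (h : IsQuad D z A) : A.ncard = 4 := by
  classical
  obtain ⟨l, hn, hl, -, -, -, rfl⟩ := h
  rw [show {x | x ∈ l} = (l.toFinset : Set G) from Set.ext fun x => by simp, Set.ncard_coe_finset,
    List.toFinset_card_of_nodup hn, hl]

theorem IsQuad.conj (hD : IsThreeTranspositionGroup D) {z : G} {A : Set G} (h : IsQuad D z A) {g : G}
    (hg : Commute g z) : IsQuad D z (MulAut.conj g '' A) := by
  obtain ⟨l, hn, hl, hlD, hc, hp, rfl⟩ := h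
  refine ⟨l.map (MulAut.conj g), hn.map (MulAut.conj g).injective, by simp [hl], ?_, ?_, ?_, ?_⟩
  · intro x hx
    obtain ⟨y, hy, rfl⟩ := List.mem_map.1 hx
    exact hD.2.1 g y (hlD y hy)
  · intro x hx y hy
    obtain ⟨x', hx', rfl⟩ := List.mem_map.1 hx
    obtain ⟨y', hy', rfl⟩ := List.mem_map.1 hy
    exact (hc x' hx' y' hy').map (MulAut.conj g).toMonoidHom
  · rw [← map_list_prod, hp]
    exact mul_inv_eq_iff_eq_mul.2 hg.eq
  · ext x
    simp

/-- A quad read from two of its members. -/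
theorem IsQuad.split {z : G} {A : Set G} (h : IsQuad D z A) {x y : G} (hx : x ∈ A) (hy : y ∈ A)
    (hne : x ≠ y) : ∃ g k, [x, y, g, k].Nodup ∧ (∀ w ∈ [x, y, g, k], w ∈ D) ∧
      (∀ v ∈ [x, y, g, k], ∀ w ∈ [x, y, g, k], Commute v w) ∧ x * y * g * k = z ∧
      ∀ w, w ∈ A ↔ w ∈ [x, y, g, k] := by
  classical
  obtain ⟨l, hn, hl, hlD, hc, hp, rfl⟩ := h
  have hxy : [x, y].Nodup := by simp [hne]
  obtain ⟨r₀, hr₀, hsub⟩ := hxy.subperm (l₂ := l) fun w hw => by
    simp only [List.mem_cons, List.not_mem_nil, or_false] at hw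
    rcases hw with rfl | rfl
    exacts [hx, hy]
  obtain ⟨r, hr'⟩ := hsub.exists_perm_append
  have hr : l.Perm ([x, y] ++ r) := hr'.trans (hr₀.append_right r)
  have hlen := hr.length_eq
  rw [hl, List.length_append] at hlen
  have hlen2 : r.length = 2 := by simp at hlen; omega
  obtain ⟨g, k, rfl⟩ := List.length_eq_two.1 hlen2
  clear hlen hlen2
  refine ⟨g, k, hr.nodup_iff.1 hn, fun w hw => hlD w (hr.symm.mem_iff.1 hw),
    fun v hv w hw => hc v (hr.symm.mem_iff.1 hv) w (hr.symm.mem_iff.1 hw), ?_, fun w => hr.mem_iff⟩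
  rw [← hp, hr.prod_eq' (List.pairwise_iff_forall_sublist.2 fun {a b} hab =>
    hc a (hab.subset (by simp)) b (hab.subset (by simp)))]
  simp [mul_assoc]

theorem IsQuad.exists_ne {z : G} {A : Set G} (h : IsQuad D z A) (x : G) : ∃ y ∈ A, y ≠ x :=
  Set.exists_ne_of_one_lt_ncard (by rw [h.ncard]; norm_num) x

theorem IsQuad.nonempty {z : G} {A : Set G} (h : IsQuad D z A) : A.Nonempty :=
  Set.nonempty_of_ncard_ne_zero (by rw [h.ncard]; norm_num)

theorem isQuad_of_four {p q r s : G} (hp : p ∈ D) (hq : q ∈ Dc D p) (hr : r ∈ Dc (Dc D p) q)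
    (hs : s ∈ Dc (Dc (Dc D p) q) r) : IsQuad D (p * q * r * s) {x | x ∈ [p, q, r, s]} := by
  obtain ⟨qD, qp, cpq⟩ := hq
  obtain ⟨⟨rD, rp, cpr⟩, rq, cqr⟩ := hr
  obtain ⟨⟨⟨sD, sp, cps⟩, sq, cqs⟩, sr, crs⟩ := hs
  exact ⟨[p, q, r, s], by simp [qp.symm, rp.symm, sp.symm, rq.symm, sq.symm, sr.symm], rfl,
    by simp [hp, qD, rD, sD], by simp [cpq, cpq.symm, cpr, cpr.symm, cps, cps.symm, cqr, cqr.symm,
      cqs, cqs.symm, crs, crs.symm], by simp [mul_assoc], rfl⟩

theorem dc_chain {a b c e : G} (hn : [a, b, c, e].Nodup) (hD : ∀ w ∈ [a, b, c, e], w ∈ D)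
    (hc : ∀ v ∈ [a, b, c, e], ∀ w ∈ [a, b, c, e], Commute v w) :
    a ∈ D ∧ b ∈ Dc D a ∧ c ∈ Dc (Dc D a) b ∧ e ∈ Dc (Dc (Dc D a) b) c := by
  simp only [List.nodup_cons, List.mem_cons, List.not_mem_nil, or_false, not_or] at hn
  obtain ⟨⟨ab, ac, ae⟩, ⟨bc, be⟩, ce, -⟩ := hn
  exact ⟨hD a (by simp), ⟨hD b (by simp), Ne.symm ab, hc a (by simp) b (by simp)⟩,
    ⟨⟨hD c (by simp), Ne.symm ac, hc a (by simp) c (by simp)⟩, Ne.symm bc, hc b (by simp) c (by simp)⟩,
    ⟨⟨⟨hD e (by simp), Ne.symm ae, hc a (by simp) e (by simp)⟩, Ne.symm be, hc b (by simp) e (by simp)⟩,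
      Ne.symm ce, hc c (by simp) e (by simp)⟩⟩

namespace M24

variable [Finite G] (H : M24 D) {z : G}
include H

/-- A member commuting with `z` commutes with all or none of a quad. -/
theorem quad_all_or_none {A : Set G} (hA : IsQuad D z A) {x : G} (hx : x ∈ D) (hxz : Commute x z) :
    (∀ a ∈ A, Commute x a) ∨ ∀ a ∈ A, ¬ Commute x a := by
  obtain ⟨a, ha⟩ := hA.nonempty
  obtain ⟨b, hb, hba⟩ := hA.exists_ne a
  obtain ⟨g, k, hn, hD, hc, hp, hm⟩ := hA.split ha hb hba.symm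
  obtain ⟨h1, h2, h3, h4⟩ := dc_chain hn hD hc
  simp only [hm, List.forall_mem_cons, List.not_mem_nil, false_imp_iff, implies_true, and_true]
  exact H.all_or_none h1 h2 h3 h4 hx (hp ▸ hxz)

theorem quad_mem_D {A : Set G} (hA : IsQuad D z A) {x : G} (hx : x ∈ A) : x ∈ D ∧ Commute x z :=
  ⟨hA.subset hx, hA.commute_z hx⟩

/-- A member lies in one quad only. -/
theorem quad_eq {A B : Set G} (hA : IsQuad D z A) (hB : IsQuad D z B) {x : G} (hxA : x ∈ A)
    (hxB : x ∈ B) : A = B := by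
  refine Set.eq_of_subset_of_ncard_le (fun y hy => ?_) (by rw [hA.ncard, hB.ncard]) (Set.toFinite _)
  by_cases e : y = x
  · exact e ▸ hxB
  obtain ⟨g, k, hn, hD, hc, hp, -⟩ := hA.split hxA hy (Ne.symm e)
  obtain ⟨w, hw, hwx⟩ := hB.exists_ne x
  obtain ⟨g', k', hn', hD', hc', hp', hm'⟩ := hB.split hxB hw hwx.symm
  have he : y * g * k = w * g' * k' := mul_left_cancel (a := x) (by
    simpa [mul_assoc] using hp.trans hp'.symm)
  rcases H.mem_three (List.nodup_cons.1 hn).2 (List.nodup_cons.1 hn').2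
      (fun v hv => by
        rw [show [y, g, k, w, g', k'] = [y, g, k] ++ [w, g', k'] from rfl, List.mem_append] at hv
        rcases hv with hv | hv
        exacts [hD v (List.mem_cons_of_mem _ hv), hD' v (List.mem_cons_of_mem _ hv)])
      (fun v hv u hu => hc v (List.mem_cons_of_mem _ hv) u (List.mem_cons_of_mem _ hu))
      (fun v hv u hu => hc' v (List.mem_cons_of_mem _ hv) u (List.mem_cons_of_mem _ hu)) he
    with rfl | rfl | rfl
  all_goals exact (hm' _).2 (by simp)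

/-- Every member commuting with a product of four lies in a quad. -/
theorem exists_quad_at {p q r s : G} (hp : p ∈ D) (hq : q ∈ Dc D p) (hr : r ∈ Dc (Dc D p) q)
    (hs : s ∈ Dc (Dc (Dc D p) q) r) (hz : p * q * r * s = z) {x : G} (hx : x ∈ D) (hxz : Commute x z) :
    ∃ A, IsQuad D z A ∧ x ∈ A := by
  haveI : Nonempty D := ⟨⟨p, hp⟩⟩
  subst hz
  obtain ⟨f, g, k, hf, hg, hk, e⟩ := H.split_four hp hq hr hs hx hxz
  refine ⟨_, ?_, show x ∈ {w | w ∈ [x, f, g, k]} by simp⟩
  have := isQuad_of_four hx hf hg hk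
  rwa [show x * f * g * k = x * (f * g * k) by simp [mul_assoc], e, ← mul_assoc, sq_one H.grp.1 hx,
    one_mul] at this

/-- There are 126 quads. -/
theorem card_quads (hcls : D.ncard = 306936) {p q r s : G} (hp : p ∈ D) (hq : q ∈ Dc D p)
    (hr : r ∈ Dc (Dc D p) q) (hs : s ∈ Dc (Dc (Dc D p) q) r) (hz : p * q * r * s = z) :
    Nat.card (QT D z) = 126 := by
  classical
  let f : (Σ A : QT D z, A.1) → {x | x ∈ D ∧ Commute x z} := fun w =>
    ⟨w.2, H.quad_mem_D w.1.2 w.2.2⟩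
  have hf : Function.Bijective f := by
    refine ⟨fun a b e => ?_, fun x => ?_⟩
    · obtain ⟨⟨A, hA⟩, ⟨x, hx⟩⟩ := a
      obtain ⟨⟨B, hB⟩, ⟨y, hy⟩⟩ := b
      simp only [f, Subtype.mk.injEq] at e
      subst e
      obtain rfl := H.quad_eq hA hB hx hy
      rfl
    · obtain ⟨A, hA, hxA⟩ := H.exists_quad_at hp hq hr hs hz x.2.1 x.2.2
      exact ⟨⟨⟨A, hA⟩, ⟨x, hxA⟩⟩, rfl⟩
  have h := Nat.card_eq_of_bijective f hf
  haveI : Fintype (QT D z) := Fintype.ofFinite _
  rw [Nat.card_sigma, Finset.sum_congr rfl fun A _ => show Nat.card A.1 = 4 by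
    rw [Nat.card_coe_set_eq, A.2.ncard], Finset.sum_const, Finset.card_univ, smul_eq_mul,
    Nat.card_coe_set_eq, show {x | x ∈ D ∧ Commute x z}.ncard = 504 by
      rw [← hz]; exact H.ncard_fixed_four hcls hp hq hr hs] at h
  rw [Nat.card_eq_fintype_card]
  omega

end M24

/-- The action of the centraliser on the quads. -/
@[reducible] noncomputable def quadAction (hD : IsThreeTranspositionGroup D) (z : G) :
    MulAction ↥(Subgroup.centralizer ({z} : Set G)) (QT D z) where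
  smul g A := ⟨MulAut.conj (g : G) '' A.1,
    A.2.conj hD (Subgroup.mem_centralizer_singleton_iff.1 g.2)⟩
  one_smul A := Subtype.ext (by
    show MulAut.conj (1 : G) '' _ = _
    simp)
  mul_smul g k A := Subtype.ext (by
    show MulAut.conj ((g : G) * k) '' _ = MulAut.conj (g : G) '' (MulAut.conj (k : G) '' _)
    rw [Set.image_image]
    refine Set.image_congr' fun x => ?_
    rw [map_mul, MulAut.mul_apply])

/-- The permutations of the quads. -/
noncomputable def quadPerm (hD : IsThreeTranspositionGroup D) (z : G) :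
    ↥(Subgroup.centralizer ({z} : Set G)) →* Equiv.Perm (QT D z) :=
  letI := quadAction hD z
  MulAction.toPermHom _ _

theorem quadPerm_val (hD : IsThreeTranspositionGroup D) (z : G) (g : ↥(Subgroup.centralizer ({z} : Set G)))
    (A : QT D z) : (quadPerm hD z g A).1 = MulAut.conj (g : G) '' A.1 := rfl

theorem quadPerm_mem (hD : IsThreeTranspositionGroup D) {z : G} (g : ↥(Subgroup.centralizer ({z} : Set G)))
    {A : QT D z} {x : G} (hx : x ∈ A.1) : (g : G) * x * (g : G)⁻¹ ∈ (quadPerm hD z g A).1 :=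
  ⟨x, hx, rfl⟩

/-- A member of a quad as an element of the centraliser. -/
def qel {z : G} (A : QT D z) {x : G} (hx : x ∈ A.1) : ↥(Subgroup.centralizer ({z} : Set G)) :=
  ⟨x, Subgroup.mem_centralizer_singleton_iff.2 (A.2.commute_z hx).eq⟩

/-- The permutation of a quad. -/
noncomputable def qt (hD : IsThreeTranspositionGroup D) {z : G} (A : QT D z) : Equiv.Perm (QT D z) :=
  quadPerm hD z (qel A A.2.nonempty.choose_spec)

namespace M24

variable [Finite G] (H : M24 D) {z : G}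
include H

theorem qAdj_symm {A B : QT D z} (h : QAdj A B) : QAdj B A :=
  ⟨h.1.symm, fun b hb a ha => (h.2 a ha b hb).symm⟩

/-- One commuting pair suffices. -/
theorem qAdj_of {A B : QT D z} (hne : A ≠ B) {a b : G} (ha : a ∈ A.1) (hb : b ∈ B.1) (h : Commute a b) :
    QAdj A B := by
  refine ⟨hne, fun a' ha' b' hb' => ?_⟩
  have h1 : ∀ w ∈ A.1, Commute b w := (H.quad_all_or_none A.2 (B.2.subset hb) (B.2.commute_z hb)).resolve_right
    fun h' => h' a ha h.symm
  have h2 : ∀ w ∈ B.1, Commute a' w := (H.quad_all_or_none B.2 (A.2.subset ha') (A.2.commute_z ha')).resolve_right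
    fun h' => h' b hb (h1 a' ha').symm
  exact h2 b' hb'

theorem not_commute_of {A B : QT D z} (hne : A ≠ B) (h : ¬ QAdj A B) {a b : G} (ha : a ∈ A.1)
    (hb : b ∈ B.1) : ¬ Commute a b := fun hc => h (H.qAdj_of hne ha hb hc)

theorem qperm_fix {A B : QT D z} {x : G} (hx : x ∈ A.1) (h : A = B ∨ QAdj A B) :
    quadPerm H.grp z (qel A hx) B = B := by
  have hc : ∀ b ∈ B.1, Commute x b := by
    rcases h with rfl | h
    exacts [fun b hb => A.2.commute hx hb, h.2 x hx]
  refine Subtype.ext ?_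
  rw [quadPerm_val]
  refine (Set.image_congr fun b hb => ?_).trans (Set.image_id _)
  exact mul_inv_eq_iff_eq_mul.2 (hc b hb).eq

theorem third_mem {A B : QT D z} {x b : G} (hx : x ∈ A.1) (hb : b ∈ B.1) (hn : ¬ Commute x b) :
    x * b * x ∈ (quadPerm H.grp z (qel A hx) B).1 ∧ x * b * x ∈ (quadPerm H.grp z (qel B hb) A).1 := by
  have h1 := quadPerm_mem H.grp (qel A hx) hb
  have h2 := quadPerm_mem H.grp (qel B hb) hx
  simp only [qel, inv_eq H.grp.1 (A.2.subset hx), inv_eq H.grp.1 (B.2.subset hb)] at h1 h2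
  exact ⟨h1, by rw [braid H.grp.1 (A.2.subset hx) (B.2.subset hb) hn]; exact h2⟩

theorem qperm_cross {A B : QT D z} {x b : G} (hx : x ∈ A.1) (hb : b ∈ B.1) (hn : ¬ Commute x b) :
    quadPerm H.grp z (qel A hx) B = quadPerm H.grp z (qel B hb) A :=
  Subtype.ext (H.quad_eq (quadPerm H.grp z (qel A hx) B).2 (quadPerm H.grp z (qel B hb) A).2
    (H.third_mem hx hb hn).1 (H.third_mem hx hb hn).2)

/-- Members of one quad act alike. -/
theorem qperm_congr {A : QT D z} {x y : G} (hx : x ∈ A.1) (hy : y ∈ A.1) :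
    quadPerm H.grp z (qel A hx) = quadPerm H.grp z (qel A hy) := by
  refine Equiv.ext fun B => ?_
  by_cases h : A = B ∨ QAdj A B
  · rw [H.qperm_fix hx h, H.qperm_fix hy h]
  push Not at h
  obtain ⟨b, hb⟩ := B.2.nonempty
  rw [H.qperm_cross hx hb (H.not_commute_of h.1 h.2 hx hb),
    H.qperm_cross hy hb (H.not_commute_of h.1 h.2 hy hb)]

theorem qt_eq {A : QT D z} {x : G} (hx : x ∈ A.1) : qt H.grp A = quadPerm H.grp z (qel A hx) :=
  H.qperm_congr A.2.nonempty.choose_spec hx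

theorem qt_invol (A B : QT D z) : qt H.grp A (qt H.grp A B) = B := by
  obtain ⟨x, hx⟩ := A.2.nonempty
  rw [H.qt_eq hx, ← Equiv.Perm.mul_apply, ← map_mul,
    show qel A hx * qel A hx = 1 from Subtype.ext (sq_one H.grp.1 (A.2.subset hx)), map_one,
    Equiv.Perm.one_apply]

theorem qt_conj (g : ↥(Subgroup.centralizer ({z} : Set G))) (A : QT D z) :
    qt H.grp (quadPerm H.grp z g A) = quadPerm H.grp z g * qt H.grp A * (quadPerm H.grp z g)⁻¹ := by
  obtain ⟨x, hx⟩ := A.2.nonempty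
  rw [H.qt_eq hx, H.qt_eq (quadPerm_mem H.grp g hx), ← map_inv, ← map_mul, ← map_mul]
  rfl

theorem qt_fix_iff (A B : QT D z) : qt H.grp A B = B ↔ A = B ∨ QAdj A B := by
  obtain ⟨x, hx⟩ := A.2.nonempty
  rw [H.qt_eq hx]
  refine ⟨fun h => ?_, H.qperm_fix hx⟩
  obtain ⟨b, hb⟩ := B.2.nonempty
  refine or_iff_not_imp_left.2 fun hne => H.qAdj_of hne hx hb ?_
  have hm := quadPerm_mem H.grp (qel A hx) hb
  rw [h] at hm
  exact commute_of_stable H.grp.1 (A.2.subset hx) (B.2.subset hb) (B.2.commute hb hm)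

theorem qt_braid (A B : QT D z) (hne : A ≠ B) (h : ¬ QAdj A B) : qt H.grp A B = qt H.grp B A := by
  obtain ⟨x, hx⟩ := A.2.nonempty
  obtain ⟨b, hb⟩ := B.2.nonempty
  rw [H.qt_eq hx, H.qt_eq hb, H.qperm_cross hx hb (H.not_commute_of hne h hx hb)]

end M24

end Cfsg.Agent.Transpos
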