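import Cfsg.Agent.Lib.Transpos.M24QuadKernel
import Cfsg.Agent.Lib.Balance.CharP
import Cfsg.Agent.Lib.PGroup.SymplecticType
import Cfsg.Agent.Lib.PGroup.Extraspecial
import Cfsg.Agent.Lib.TI.Extraspecial
import Cfsg.Agent.Lib.Transpos.QuadRack.Ortho
import Cfsg.Agent.Lib.ClassicalSimple.UnitaryMatrix

/-!
# The centraliser of a product of four commuting members in type M(24)

The action on the 126 quads is the automorphism group of their rack, the kernel is an extraspecial group of
order `2 ^ 13` extended by an element of order three, and the centraliser in the derived group has index two.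
-/

set_option autoImplicit false
set_option linter.style.haveILetI false
set_option linter.unusedSectionVars false
set_option maxHeartbeats 1000000

namespace Cfsg.Agent.Transpos

open Cfsg Cfsg.Agent.ClassicalSimple
open scoped commutatorElement

universe u

/-- A group with squares in a central subgroup has its commutators there. -/
theorem commutator_mem_of_squares {P : Type*} [Group P] (Z : Subgroup P) (hZ : Z ≤ Subgroup.center P)
    (h : ∀ x : P, x * x ∈ Z) (a b : P) : ⁅a, b⁆ ∈ Z := by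
  have ha := Subgroup.mem_center_iff.1 (hZ (Z.inv_mem (h a))) b⁻¹
  have e : ⁅a, b⁆ = a * b * (a * b) * (a * a)⁻¹ * (b * b)⁻¹ := by
    rw [commutatorElement_def]
    calc a * b * a⁻¹ * b⁻¹ = a * b * (a * b) * (b⁻¹ * (a * a)⁻¹) * b⁻¹ := by group
      _ = a * b * (a * b) * ((a * a)⁻¹ * b⁻¹) * b⁻¹ := by rw [ha]
      _ = _ := by group
  rw [e]
  exact Z.mul_mem (Z.mul_mem (h _) (Z.inv_mem (h a))) (Z.inv_mem (h b))

variable {G : Type u} [Group G] [Finite G] {D : Set G}

theorem qrho_isV_iff (hD : IsThreeTranspositionGroup D) {z : G} (A : QT D z) (g : ↥(QK hD z)) :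
    Four.IsV (qrho hD A g) ↔ (∀ x ∈ A.1, (g : G) * x * (g : G)⁻¹ = x) ∨
      ∀ x ∈ A.1, (g : G) * x * (g : G)⁻¹ ≠ x ∧ (g : G) * ((g : G) * x * (g : G)⁻¹) * (g : G)⁻¹ = x := by
  refine or_congr (qrho_eq_one_iff hD A g) ⟨fun h x hx => ?_, fun h i => ?_⟩
  · obtain ⟨i, rfl⟩ := (mem_quad_iff hD A).1 hx
    rw [qrho_spec, qrho_spec, (h i).2]
    exact ⟨fun e => (h i).1 (qe_inj hD A e), rfl⟩
  · have := h _ (qe_mem hD A i)
    rw [qrho_spec, qrho_spec] at this
    exact ⟨fun e => this.1 (congrArg _ e), qe_inj hD A this.2⟩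

namespace M24

variable (H : M24 D) (hcls : D.ncard = 306936) {p q r s z : G} (hp : p ∈ D) (hq : q ∈ Dc D p)
  (hr : r ∈ Dc (Dc D p) q) (hs : s ∈ Dc (Dc (Dc D p) q) r) (hz : p * q * r * s = z)
include H hcls hp hq hr hs hz

theorem card_qt : Nat.card (QT D z) = 126 := H.card_quads hcls hp hq hr hs hz

/-- The rack of the quads. -/
noncomputable def qrack : Q126.QRack (QT D z) where
  t := qt H.grp
  Adj := QAdj
  symm := H.qAdj_symm
  irrefl := fun _ h => h.1 rfl
  invol := H.qt_invol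
  conj := fun A B => by
    obtain ⟨x, hx⟩ := A.2.nonempty
    have e : quadPerm H.grp z (qel A hx) = qt H.grp A := (H.qt_eq hx).symm
    have h := H.qt_conj (qel A hx) B
    have hinv : (qt H.grp A)⁻¹ = qt H.grp A :=
      inv_eq_of_mul_eq_one_right (Equiv.ext fun C => H.qt_invol A C)
    rwa [e, hinv] at h
  fix_iff := H.qt_fix_iff
  braid := H.qt_braid
  finite := inferInstance
  card := card_qt H hcls hp hq hr hs hz
  loc := fun A => by
    obtain ⟨ι, h1, h2, h3⟩ := H.quad_loc A
    exact ⟨ι, h1, Set.ext fun B => (h2 B).symm, h3⟩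

theorem card_X : Nat.card ↥(Subgroup.centralizer ({z} : Set G)) = 321052999680 := by
  set X := Subgroup.centralizer ({z} : Set G)
  haveI : Nonempty D := ⟨⟨p, hp⟩⟩
  have cx : ∀ {g : G}, g ∈ X → g * z * g⁻¹ = z := fun h =>
    mul_inv_eq_iff_eq_mul.2 (Subgroup.mem_centralizer_singleton_iff.1 h)
  have mc : ∀ {k a : G}, k * a * k⁻¹ = a → k ∈ Subgroup.centralizer ({a} : Set G) := fun h =>
    Subgroup.mem_centralizer_singleton_iff.2 (mul_inv_eq_iff_eq_mul.1 h)
  have prod : ∀ (g : G) {a b c e a' b' c' e' : G}, g * a * g⁻¹ = a' → g * b * g⁻¹ = b' → g * c * g⁻¹ = c' →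
      g * e * g⁻¹ = e' → g * (a * b * c * e) * g⁻¹ = a' * b' * c' * e' := by
    intro g a b c e a' b' c' e' h1 h2 h3 h4
    rw [← h1, ← h2, ← h3, ← h4]
    group
  have pz : Commute p z := hz ▸ (((Commute.refl p).mul_right hq.2.2).mul_right hr.1.2.2).mul_right hs.1.1.2.2
  have h0 := card_eq_orbit_mul X p {x | x ∈ D ∧ Commute x z}
    (fun k hk => ⟨H.conj_mem k hp, by
      have := (commute_conj_iff k).2 pz
      rwa [cx hk] at this⟩)
    fun o ho => by
      obtain ⟨f, g, k, hf, hg, hk, e⟩ := H.split_four hp hq hr hs ho.1 (hz.symm ▸ ho.2)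
      obtain ⟨c, c1, c2, c3, c4⟩ := H.conj_quad hp hq hr hs ho.1 hf hg hk
      refine ⟨c, mc ?_, c1⟩
      have e' : o * f * g * k = z := by
        rw [show o * f * g * k = o * (f * g * k) by group, e, ← mul_assoc, sq_one H.grp.1 ho.1, one_mul, hz]
      conv_lhs => rw [← hz]
      rw [prod c c1 c2 c3 c4, e']
  rw [show {x | x ∈ D ∧ Commute x z}.ncard = 504 by rw [← hz]; exact H.ncard_fixed_four hcls hp hq hr hs] at h0
  have fx : ∀ {k a : G}, k ∈ Subgroup.centralizer ({a} : Set G) → k * a * k⁻¹ = a := fun h =>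
    mul_inv_eq_iff_eq_mul.2 (Subgroup.mem_centralizer_singleton_iff.1 h)
  have hA := isQuad_of_four hp hq hr hs
  rw [hz] at hA
  have cqr := hr.2.2
  have perm : ∀ {k : G}, k ∈ X → k * p * k⁻¹ = p → ∀ w ∈ [q, r, s], k * w * k⁻¹ ∈ [q, r, s] := by
    intro k hk hkp w hw
    have h := H.quad_eq (hA.conj H.grp (Subgroup.mem_centralizer_singleton_iff.1 hk)) hA
      (x := p) ⟨p, by simp, hkp⟩ (by simp)
    have hm : k * w * k⁻¹ ∈ {x | x ∈ [p, q, r, s]} := by
      rw [← h]
      exact ⟨w, List.mem_cons_of_mem _ hw, rfl⟩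
    refine (List.mem_cons.1 hm).resolve_left fun e => ?_
    rw [← hkp] at e
    have e' : w = p := mul_left_cancel (mul_right_cancel e)
    have hn : [p, q, r, s].Nodup := by
      simp [hq.2.1.symm, hr.1.2.1.symm, hr.2.1.symm, hs.1.1.2.1.symm, hs.1.2.1.symm, hs.2.1.symm]
    exact (List.nodup_cons.1 hn).1 (e' ▸ hw)
  have h1 := card_eq_orbit_mul (X ⊓ Subgroup.centralizer ({p} : Set G)) q {x | x ∈ [q, r, s]}
    (fun k hk => perm hk.1 (fx hk.2) q (by simp))
    fun o ho => by
      simp only [List.mem_cons, List.not_mem_nil, or_false, Set.mem_setOf_eq] at ho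
      have hsr := hs.2.2
      rcases ho with rfl | rfl | rfl
      · exact ⟨1, one_mem _, by simp⟩
      · obtain ⟨c, c1, c2, c3, c4⟩ := H.conj_quad hp hq hr hs hp hr.1
          (show q ∈ Dc (Dc D p) o from ⟨hq, hr.2.1.symm, cqr.symm⟩)
          (show s ∈ Dc (Dc (Dc D p) o) q from ⟨⟨hs.1.1, hs.2.1, hs.2.2⟩, hs.1.2.1, hs.1.2.2⟩)
        refine ⟨c, ⟨mc ?_, mc c1⟩, c2⟩
        conv_lhs => rw [← hz]
        rw [prod c c1 c2 c3 c4, ← hz, mul_assoc p o q, ← cqr.eq, ← mul_assoc]
      · obtain ⟨c, c1, c2, c3, c4⟩ := H.conj_quad hp hq hr hs hp hs.1.1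
          (show r ∈ Dc (Dc D p) o from ⟨hr.1, hs.2.1.symm, hsr.symm⟩)
          (show q ∈ Dc (Dc (Dc D p) o) r from ⟨⟨hq, hs.1.2.1.symm, hs.1.2.2.symm⟩, hr.2.1.symm, cqr.symm⟩)
        refine ⟨c, ⟨mc ?_, mc c1⟩, c2⟩
        conv_lhs => rw [← hz]
        rw [prod c c1 c2 c3 c4, ← hz, mul_assoc p o r, ← hsr.eq, mul_assoc p (r * o) q,
          (cqr.mul_right hs.1.2.2).symm.eq, ← mul_assoc, ← mul_assoc]
  have h2 := card_eq_orbit_mul
    (X ⊓ Subgroup.centralizer ({p} : Set G) ⊓ Subgroup.centralizer ({q} : Set G)) r {x | x ∈ [r, s]}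
    (fun k hk => by
      refine (List.mem_cons.1 (perm hk.1.1 (fx hk.1.2) r (by simp))).resolve_left fun e => hr.2.1 ?_
      have hkq := fx hk.2
      rw [← hkq] at e
      exact mul_left_cancel (mul_right_cancel e))
    fun o ho => by
      simp only [List.mem_cons, List.not_mem_nil, or_false, Set.mem_setOf_eq] at ho
      rcases ho with rfl | rfl
      · exact ⟨1, one_mem _, by simp⟩
      · obtain ⟨c, c1, c2, c3, c4⟩ := H.conj_quad hp hq hr hs hp hq hs.1
          (show r ∈ Dc (Dc (Dc D p) q) o from ⟨hr, hs.2.1.symm, hs.2.2.symm⟩)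
        refine ⟨c, ⟨⟨mc ?_, mc c1⟩, mc c2⟩, c3⟩
        conv_lhs => rw [← hz]
        rw [prod c c1 c2 c3 c4, ← hz, mul_assoc (p * q) o r, ← hs.2.2.eq, ← mul_assoc]
  have h3 : X ⊓ Subgroup.centralizer ({p} : Set G) ⊓ Subgroup.centralizer ({q} : Set G) ⊓
      Subgroup.centralizer ({r} : Set G) = Subgroup.centralizer ({p} : Set G) ⊓
        Subgroup.centralizer ({q} : Set G) ⊓ Subgroup.centralizer ({r} : Set G) ⊓
        Subgroup.centralizer ({s} : Set G) := by
    ext k
    simp only [Subgroup.mem_inf, X, Subgroup.mem_centralizer_singleton_iff]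
    constructor
    · rintro ⟨⟨⟨kz, kp⟩, kq⟩, kr⟩
      refine ⟨⟨⟨kp, kq⟩, kr⟩, ?_⟩
      have h : Commute k ((p * q * r)⁻¹ * z) :=
        (((show Commute k p from kp).mul_right kq).mul_right kr).inv_right.mul_right kz
      rwa [← hz, inv_mul_cancel_left] at h
    · rintro ⟨⟨⟨kp, kq⟩, kr⟩, ks⟩
      refine ⟨⟨⟨?_, kp⟩, kq⟩, kr⟩
      rw [← hz]
      exact ((((show Commute k p from kp).mul_right kq).mul_right kr).mul_right ks).eq
  have c3 : {x | x ∈ [q, r, s]}.ncard = 3 := by
    classical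
    rw [show {x | x ∈ [q, r, s]} = (([q, r, s].toFinset : Finset G) : Set G) from Set.ext fun x => by simp,
      Set.ncard_coe_finset, List.toFinset_card_of_nodup
        (by simp [hr.2.1.symm, hs.1.2.1.symm, hs.2.1.symm])]
    rfl
  have c2 : {x | x ∈ [r, s]}.ncard = 2 := by
    classical
    rw [show {x | x ∈ [r, s]} = (([r, s].toFinset : Finset G) : Set G) from Set.ext fun x => by simp,
      Set.ncard_coe_finset, List.toFinset_card_of_nodup (by simp [hs.2.1.symm])]
    rfl
  rw [c3] at h1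
  rw [c2, h3, H.card_quad hp hq hr hs] at h2
  omega

/-- The shape of the centraliser of `z` in the derived group. -/
theorem four_product (hout : ∀ d ∈ D, d ∉ commutator G) {K : Type} [Field K] [Fintype K]
    (hK : Fintype.card K = 9) (C : Subgroup G)
    (hC : C = commutator G ⊓ Subgroup.centralizer ({z} : Set G)) :
    ∃ (Q : Subgroup ↥C) (_ : Q.Normal), generalizedFittingSubgroup ↥C = Q ∧ IsExtraspecial 2 ↥Q ∧
      Nat.card Q = 2 ^ 13 ∧ ∃ (N M : Subgroup ↥C) (_ : N.Normal) (_ : M.Normal), Q ≤ N ∧ N ≤ M ∧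
        Nat.card N = 3 * Nat.card Q ∧ Nonempty (↥M ⧸ N.subgroupOf M ≃* PSU 4 K 3) ∧ M.index = 2 := by
  classical
  haveI : Fact (Nat.Prime 2) := ⟨Nat.prime_two⟩
  set L := commutator G with hLdef
  set X := Subgroup.centralizer ({z} : Set G) with hXdef
  have hQT := card_qt H hcls hp hq hr hs hz
  have hXcard : Nat.card ↥X = 321052999680 := card_X H hcls hp hq hr hs hz
  set R := qrack H hcls hp hq hr hs hz
  let A₀ : QT D z := ⟨_, hz ▸ isQuad_of_four hp hq hr hs⟩
  obtain ⟨hautR, ⟨eC⟩, hcommC, hcent⟩ := R.aut_structure hK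
  set A' := R.autR
  set W : Subgroup (Equiv.Perm (QT D z)) := ⁅R.autR, R.autR⁆ with hWdef
  haveI : IsSimpleGroup ↥W := eC.isSimpleGroup_congr.2
    (PSU_isSimpleGroup (q := 3) (by rw [hK]; norm_num) (n := 4) (by norm_num) (by norm_num))
  have hWA : W ≤ A' := Subgroup.commutator_le.2 fun a ha b hb =>
    mul_mem (mul_mem (mul_mem ha hb) (inv_mem ha)) (inv_mem hb)
  have simple : ∀ S : Subgroup (Equiv.Perm (QT D z)), S ≤ W → (∀ g ∈ W, ∀ x ∈ S, g * x * g⁻¹ ∈ S) →
      S = ⊥ ∨ S = W := fun S hS hn => by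
    have : (S.subgroupOf W).Normal := ⟨fun n hn' g => hn g g.2 n hn'⟩
    rcases this.eq_bot_or_eq_top with h | h
    · exact Or.inl (le_bot_iff.1 fun x hx => by
        have : (⟨x, hS hx⟩ : ↥W) ∈ (⊥ : Subgroup ↥W) := h ▸ hx
        exact congrArg Subtype.val (Subgroup.mem_bot.1 this))
    · exact Or.inr (le_antisymm hS fun x hx => by
        have : (⟨x, hx⟩ : ↥W) ∈ S.subgroupOf W := h ▸ Subgroup.mem_top _
        exact this)
  set π := quadPerm H.grp z with hπ
  have hπA : ∀ g, π g ∈ A' := fun g A B => by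
    show π g (qt H.grp A B) = qt H.grp (π g A) (π g B)
    rw [H.qt_conj g A]
    simp [π]
  have htR : ∀ A, R.t A ∈ π.range := fun A => ⟨_, rfl⟩
  -- the range contains the derived group
  have hWr : W ≤ π.range := by
    set S := Subgroup.closure {π' : Equiv.Perm (QT D z) | ∃ A B, R.t A B ≠ B ∧ π' = R.t A * R.t B}
    have hS1 : S ≤ W := (Subgroup.closure_le _).2 (by rintro _ ⟨A, B, h, rfl⟩; exact R.pair_mem h)
    have hS2 : S ≤ π.range := (Subgroup.closure_le _).2 (by
      rintro _ ⟨A, B, -, rfl⟩; exact mul_mem (htR A) (htR B))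
    rcases simple S hS1 (fun g hg x hx => by
      induction hx using Subgroup.closure_induction with
      | mem w hw =>
        obtain ⟨A, B, h, rfl⟩ := hw
        have hg' : ∀ A B, g (R.t A B) = R.t (g A) (g B) := hWA hg
        refine Subgroup.subset_closure ⟨g A, g B, fun e => h (g.injective (by rw [hg' A B, e])), ?_⟩
        have e : ∀ A, g * R.t A * g⁻¹ = R.t (g A) := fun A => Equiv.ext fun C => by
          rw [Equiv.Perm.mul_apply, Equiv.Perm.mul_apply, hg']
          simp
        rw [← e, ← e]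
        group
      | one => simp
      | mul v w _ _ hv hw => simpa [mul_assoc] using mul_mem hv hw
      | inv v _ hv => simpa [mul_assoc] using inv_mem hv) with h | h
    · exfalso
      obtain ⟨B, hB, -, hadj, -⟩ := H.exists_far hQT A₀ A₀
      have hmv : R.t A₀ B ≠ B := fun e => ((R.fix_iff A₀ B).1 e).elim hB.symm hadj
      have : R.t A₀ * R.t B ∈ (⊥ : Subgroup (Equiv.Perm (QT D z))) :=
        h ▸ Subgroup.subset_closure ⟨A₀, B, hmv, rfl⟩
      have e := Equiv.ext_iff.1 (Subgroup.mem_bot.1 this) B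
      rw [Equiv.Perm.mul_apply, R.t_self] at e
      exact hmv e
    · exact h ▸ hS2
  have hcnj : ∀ (S : Subgroup (Equiv.Perm (QT D z))) (a : Equiv.Perm (QT D z)),
      (∀ x ∈ S, a * x * a⁻¹ ∈ S) → ∀ x ∈ ⁅S, S⁆, a * x * a⁻¹ ∈ ⁅S, S⁆ := fun S a ha x hx => by
    have hle : S.map (MulAut.conj a).toMonoidHom ≤ S := by
      rintro _ ⟨w, hw, rfl⟩
      exact ha w hw
    have h : a * x * a⁻¹ ∈ (⁅S, S⁆).map (MulAut.conj a).toMonoidHom := ⟨x, hx, rfl⟩
    rw [Subgroup.map_commutator] at h
    exact Subgroup.commutator_mono hle hle h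
  have hperfW : ⁅W, W⁆ = W := by
    rcases simple ⁅W, W⁆ (Subgroup.commutator_le.2 fun a ha b hb =>
        mul_mem (mul_mem (mul_mem ha hb) (inv_mem ha)) (inv_mem hb)) (fun g hg =>
      hcnj W g fun x hx => mul_mem (mul_mem hg hx) (inv_mem hg)) with h | h
    · exfalso
      have : W = ⊥ := le_bot_iff.1 fun g hg => Subgroup.mem_bot.2 (hcent g fun π' hπ' =>
        commutatorElement_eq_one_iff_mul_comm.1
          (Subgroup.mem_bot.1 (h ▸ Subgroup.commutator_mem_commutator hg hπ')))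
      rw [this, Subgroup.card_bot] at hcommC
      norm_num at hcommC
    · exact h
  -- the derived group
  have hLn : L.Normal := inferInstance
  have hpp := sq_one H.grp.1 hp
  have gl : ∀ g : G, g ∈ L ∨ g * p ∈ L := by
    intro g
    have htop : L ⊔ Subgroup.zpowers p = ⊤ := by
      rw [eq_top_iff, ← H.grp.2.2, Subgroup.closure_le]
      intro d hd
      obtain ⟨c, rfl⟩ := H.trans p hp d hd
      rw [show c * p * c⁻¹ = ⁅c, p⁆ * p by rw [commutatorElement_def]; group]
      exact Subgroup.mul_mem_sup (Subgroup.commutator_mem_commutator (Subgroup.mem_top _) (Subgroup.mem_top _))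
        (Subgroup.mem_zpowers p)
    obtain ⟨l, hl, y, hy, rfl⟩ := Subgroup.mem_sup_of_normal_left.1 (htop ▸ Subgroup.mem_top g)
    have hy' : y = 1 ∨ y = p := by
      rw [Subgroup.zpowers_eq_closure] at hy
      rcases mem_closure_invol hpp hpp (Commute.refl p) (Subgroup.closure_mono (by simp) hy) with
        h | h | h | h
      exacts [Or.inl h, Or.inr h, Or.inr h, Or.inl (h.trans hpp)]
    rcases hy' with rfl | rfl
    · exact Or.inl (by rwa [mul_one])
    · exact Or.inr (by rwa [mul_assoc, hpp, mul_one])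
  have pair : ∀ {x y : G}, x ∈ D → y ∈ D → x * y ∈ L := by
    intro x y hx hy
    have h1 := (gl x).resolve_left (hout x hx)
    have h2 := (gl y).resolve_left (hout y hy)
    have := mul_mem h1 (inv_mem h2)
    rwa [mul_inv_rev, inv_eq H.grp.1 hy, inv_eq H.grp.1 hp, mul_assoc, ← mul_assoc p p, hpp, one_mul] at this
  have zL : z ∈ L := by
    rw [← hz, mul_assoc (p * q)]
    exact mul_mem (pair hp hq.1) (pair hr.1.1 hs.1.1.1)
  have sqL : ∀ g : G, g * g ∈ L := by
    intro g
    rcases gl g with h | h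
    · exact mul_mem h h
    · have h' := mul_mem h (hLn.conj_mem _ h p)
      rwa [inv_eq H.grp.1 hp, show g * p * (p * (g * p) * p) = g * (p * p) * g * (p * p) by group, hpp,
        mul_one, mul_one] at h'
  have pX : p ∈ X := Subgroup.mem_centralizer_singleton_iff.2
    (A₀.2.commute_z (show p ∈ A₀.1 by simp [A₀])).eq
  -- elements over the derived group
  have hXL : ∀ g : ↥X, π g ∈ W → ∃ w : ↥X, (w : G) ∈ L ∧ π w = π g := by
    intro g hg
    have h1 : W ≤ ⁅π.range, π.range⁆ := hperfW.ge.trans (Subgroup.commutator_mono hWr hWr)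
    rw [MonoidHom.range_eq_map, ← Subgroup.map_commutator] at h1
    obtain ⟨w, hw, hwg⟩ := h1 hg
    refine ⟨w, ?_, hwg⟩
    have : (⁅(⊤ : Subgroup ↥X), ⊤⁆ : Subgroup ↥X).map X.subtype ≤ L := by
      rw [Subgroup.map_commutator]
      exact Subgroup.commutator_mono le_top le_top
    exact this ⟨w, hw, rfl⟩
  -- the kernel
  set K0 := QK H.grp z with hK0
  have hK0X : K0 ≤ X := fun g hg => Subgroup.mem_centralizer_singleton_iff.2 (mem_QK.1 hg).1.eq
  have hK0card : Nat.card ↥K0 = Nat.card ↥π.ker :=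
    Subgroup.card_map_of_injective X.subtype_injective
  have hXdec : Nat.card ↥π.ker * Nat.card ↥π.range = 321052999680 := by
    rw [← Subgroup.index_ker, Subgroup.card_mul_index, hXcard]
  set P' : Subgroup ↥K0 := Four.V.comap (qrho H.grp A₀) with hP'
  have hall : ∀ g : ↥K0, g ∈ P' → ∀ A, Four.IsV (qrho H.grp A g) := fun g hg =>
    H.transl_all hQT g hg
  have fixall : ∀ g : ↥K0, (∀ A, qrho H.grp A g = 1) → (g : G) = 1 ∨ (g : G) = z := fun g hg =>
    H.eq_one_or_z hQT (fun x hx hxz => by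
      obtain ⟨B, hB, hxB⟩ := H.exists_quad_at hp hq hr hs hz hx hxz
      exact mul_inv_eq_iff_eq_mul.1 ((qrho_eq_one_iff H.grp ⟨B, hB⟩ g).1 (hg _) x hxB)) A₀
  let zk : ↥K0 := ⟨z, H.z_mem_qk⟩
  have zz := H.z_sq A₀
  have z1 : z ≠ 1 := H.z_ne_one (A := A₀)
  have zP : zk ∈ P' := Or.inl (H.qrho_z A₀)
  have zc : ∀ g : ↥K0, Commute zk g := fun g => Subtype.ext (mem_QK.1 g.2).1.eq.symm
  have hsq : ∀ g : ↥K0, g ∈ P' → g * g = 1 ∨ g * g = zk := fun g hg => by
    rcases fixall (g * g) fun A => by rw [map_mul, Four.v_sq _ (hall g hg A)] with h | h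
    · exact Or.inl (Subtype.ext h)
    · exact Or.inr (Subtype.ext h)
  have hP2 : IsPGroup 2 ↥P' := fun g => ⟨2, Subtype.ext (by
    have : ((g : ↥K0) * g) * ((g : ↥K0) * g) = 1 := by
      rcases hsq g g.2 with h | h <;> rw [h]
      · exact one_mul 1
      · exact Subtype.ext zz
    rw [SubmonoidClass.coe_pow, OneMemClass.coe_one, show (2 : ℕ) ^ 2 = 4 by norm_num, pow_succ, pow_succ,
      pow_succ, pow_one, mul_assoc]
    exact this)⟩
  obtain ⟨n, hn⟩ := IsPGroup.iff_card.1 hP2
  -- the orders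
  have hWcard : Nat.card ↥W = 3265920 := hcommC
  have hd1 : Nat.card ↥W ∣ Nat.card ↥π.range := Subgroup.card_dvd_of_le hWr
  have hd2 : Nat.card ↥π.range ∣ Nat.card ↥A' :=
    Subgroup.card_dvd_of_le (by rintro _ ⟨g, rfl⟩; exact hπA g)
  rw [hWcard] at hd1
  rw [hautR] at hd2
  obtain ⟨m, hm⟩ := hd1
  have hm4 : m ∣ 4 := by
    rw [hm, show (13063680 : ℕ) = 3265920 * 4 by norm_num] at hd2
    exact Nat.dvd_of_mul_dvd_mul_left (by norm_num) hd2
  rw [hm, ← hK0card] at hXdec
  have hK0val : Nat.card ↥K0 * m = 98304 := by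
    have : 3265920 * (Nat.card ↥K0 * m) = 3265920 * 98304 := by
      rw [show 3265920 * 98304 = 321052999680 by norm_num, ← hXdec]; ring
    exact Nat.eq_of_mul_eq_mul_left (by norm_num) this
  have h3 : 3 ∣ Nat.card ↥K0 := by
    have hle := Nat.le_of_dvd (by norm_num) hm4
    interval_cases m <;> omega
  have hidx : P'.index = 3 := by
    have hmul := P'.card_mul_index
    have h3i : 3 ∣ P'.index := by
      have : 3 ∣ Nat.card ↥P' * P'.index := hmul ▸ h3
      refine ((Nat.Prime.dvd_mul Nat.prime_three).1 this).resolve_left fun h => ?_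
      rw [hn] at h
      have := Nat.Prime.dvd_of_dvd_pow Nat.prime_three h
      omega
    have hle : P'.index ≤ 3 := by
      by_cases hall' : ∀ g : ↥K0, g ∈ P'
      · rw [show P' = ⊤ from eq_top_iff.2 fun g _ => hall' g, Subgroup.index_top]
        norm_num
      push Not at hall'
      obtain ⟨g, hg⟩ := hall'
      let f : Fin 3 → ↥K0 ⧸ P' := fun i => QuotientGroup.mk (![1, g, g⁻¹] i)
      have hf : Function.Surjective f := by
        intro x
        obtain ⟨t, rfl⟩ := QuotientGroup.mk_surjective x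
        rcases Four.v_quot _ (H.qrho_even hQT A₀ g) hg _ (H.qrho_even hQT A₀ t) with h | h | h
        · exact ⟨0, QuotientGroup.eq.2 (by
            show (1 : ↥K0)⁻¹ * t ∈ P'
            rw [inv_one, one_mul]; exact h)⟩
        · exact ⟨1, QuotientGroup.eq.2 (by
            show Four.IsV (qrho H.grp A₀ (g⁻¹ * t))
            rwa [map_mul, map_inv])⟩
        · exact ⟨2, QuotientGroup.eq.2 (by
            show Four.IsV (qrho H.grp A₀ (g⁻¹⁻¹ * t))
            rwa [inv_inv, map_mul])⟩
      have := Nat.card_le_card_of_surjective f hf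
      rwa [Nat.card_fin] at this
    have := Nat.le_of_dvd (Nat.pos_of_ne_zero P'.index_ne_zero_of_finite) h3i
    omega
  have hK0n : Nat.card ↥K0 = 3 * 2 ^ n := by
    rw [← P'.card_mul_index, hidx, hn, mul_comm]
  -- extraspecial
  have hP13 : 13 ≤ n := by
    rw [hK0n] at hK0val
    have hle := Nat.le_of_dvd (by norm_num) hm4
    by_contra hcon
    have hpow : 2 ^ n ≤ 2 ^ 12 := Nat.pow_le_pow_right (by norm_num) (by omega)
    interval_cases m <;> omega
  have hPN : P'.Normal := Subgroup.Normal.comap (H := Four.V) ⟨fun v hv g => by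
    have hconj : ∀ v, Four.IsV v → ∀ g, Four.IsV (g * v * g⁻¹) := by decide +kernel
    exact hconj v hv g⟩ _
  have cenP : ∀ g : ↥P', g ∈ Subgroup.center ↥P' ↔
      g = 1 ∨ g = ⟨zk, zP⟩ := by
    intro g
    constructor
    · intro hg
      rcases H.eq_one_or_z_of_pairs hQT (t := ((g : ↥K0) : G)) (fun A x hx y hy => by
        have hxy : (⟨x * y, H.mem_quad_qk hx hy⟩ : ↥K0) ∈ P' := by
          show Four.IsV (qrho H.grp A₀ _)
          refine H.transl_all hQT (A := A) _ (Or.inl ((qrho_eq_one_iff H.grp A _).2 fun w hw => ?_)) A₀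
          exact mul_inv_eq_iff_eq_mul.2 ((A.2.commute hx hw).mul_left (A.2.commute hy hw)).eq
        exact congrArg (fun w : ↥P' => ((w : ↥K0) : G)) (Subgroup.mem_center_iff.1 hg ⟨_, hxy⟩).symm) A₀
        with h | h
      · exact Or.inl (Subtype.ext (Subtype.ext h))
      · exact Or.inr (Subtype.ext (Subtype.ext h))
    · rintro (rfl | rfl)
      · exact one_mem _
      · exact Subgroup.mem_center_iff.2 fun w => Subtype.ext (zc w).eq.symm
  have hZ : Nat.card ↥(Subgroup.center ↥P') = 2 := by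
    rw [← SetLike.coe_sort_coe, Nat.card_coe_set_eq,
      show (Subgroup.center ↥P' : Set ↥P') = {1, ⟨zk, zP⟩} from Set.ext fun g => cenP g, Set.ncard_pair]
    intro e
    exact z1 (congrArg (fun w : ↥P' => ((w : ↥K0) : G)) e).symm
  have hsqc : ∀ a : ↥P', a * a ∈ Subgroup.center ↥P' := fun a => (cenP _).2 ((hsq a a.2).imp
    (fun h => Subtype.ext h) fun h => Subtype.ext h)
  have hex : IsExtraspecial 2 ↥P' := PGroup.isExtraspecial_of hP2 hZ (fun h => by
      rw [h, Subgroup.card_top, hn] at hZ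
      have : 2 ^ 13 ≤ 2 ^ n := Nat.pow_le_pow_right (by norm_num) hP13
      omega)
    (commutator_mem_of_squares _ le_rfl hsqc) (fun a => by rw [pow_two]; exact hsqc a)
  obtain ⟨k, -, hk, -⟩ := PGroup.extraspecial_card hex
  rw [hn] at hk
  have hodd : n = 2 * k + 1 := Nat.pow_right_injective (by norm_num) hk
  -- the element of order three
  obtain ⟨y, hy⟩ := exists_prime_orderOf_dvd_card' (G := ↥K0) 3 h3
  have y3 : y * y * y = 1 := by rw [← pow_three']; exact hy ▸ pow_orderOf_eq_one y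
  have yP : y ∉ P' := fun h => by
    obtain ⟨j, hj⟩ := hP2 ⟨y, h⟩
    have : orderOf y ∣ 2 ^ j := orderOf_dvd_of_pow_eq_one (congrArg Subtype.val hj)
    rw [hy] at this
    have := Nat.Prime.dvd_of_dvd_pow Nat.prime_three this
    omega
  have yL : (y : G) ∈ L := by
    have h := sqL ((y : G) * y)
    have e : (y : G) * y * ((y : G) * y) = y := by
      have e' : (y : G) * y * y = 1 := congrArg Subtype.val y3
      rw [← mul_assoc, e', one_mul]
    rwa [e] at h
  have hfpf : ∀ g : ↥K0, g ∈ P' → (y * g = g * y ∨ y * g = zk * (g * y)) →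
      (g : G) = 1 ∨ (g : G) = z := fun g hg hcm => fixall g fun A => by
    refine Four.v_fix (qrho H.grp A y) (fun h => yP (H.transl_all hQT (A := A) y h A₀)) ?_ _ (hall g hg A) ?_
    · rw [← map_mul, ← map_mul, y3, map_one]
    · rcases hcm with h | h
      · rw [← map_mul, h, map_mul]
      · rw [← map_mul, h, map_mul, H.qrho_z, one_mul, map_mul]
  let com : ↥K0 → ↥K0 := fun g => g * y * g⁻¹ * y⁻¹
  have hcomP : ∀ g, g ∈ P' → com g ∈ P' := fun g hg => by
    have := mul_mem hg (hPN.conj_mem _ (inv_mem hg) y)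
    simpa [com, mul_assoc] using this
  have hPL : ∀ g : ↥K0, g ∈ P' → (g : G) ∈ L := by
    by_contra hcon
    push Not at hcon
    obtain ⟨w₀, hw₀, hw₀L⟩ := hcon
    haveI : Fintype ↥K0 := Fintype.ofFinite _
    let F : Finset ↥K0 := Finset.univ.filter (· ∈ P')
    let FL : Finset ↥K0 := F.filter fun g => (g : G) ∈ L
    have hhalf : 2 * FL.card ≤ F.card := by
      have hinj : (FL.image fun g => g * w₀) ⊆ F.filter fun g => ¬ (g : G) ∈ L := by
        intro g hg
        obtain ⟨v, hv, rfl⟩ := Finset.mem_image.1 hg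
        simp only [FL, F, Finset.mem_filter] at hv ⊢
        refine ⟨⟨Finset.mem_univ _, mul_mem hv.1.2 hw₀⟩, fun h => hw₀L ?_⟩
        have := mul_mem (inv_mem hv.2) h
        rwa [Subgroup.coe_mul, inv_mul_cancel_left] at this
      have h := Finset.card_le_card hinj
      rw [Finset.card_image_of_injective _ fun a b e => mul_right_cancel e] at h
      have hsum : FL.card + (F.filter fun g : ↥K0 => ¬ (g : G) ∈ L).card = F.card :=
        Finset.card_filter_add_card_filter_not (s := F) fun g : ↥K0 => (g : G) ∈ L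
      omega
    have hmaps : F.image com ⊆ FL.erase zk := by
      intro g hg
      obtain ⟨v, hv, rfl⟩ := Finset.mem_image.1 hg
      simp only [FL, F, Finset.mem_filter, Finset.mem_erase] at hv ⊢
      refine ⟨fun e => ?_, ⟨Finset.mem_univ _, hcomP v hv.2⟩, ?_⟩
      · have e' : v * y * v⁻¹ * y⁻¹ = zk := e
        have h' : y * v = zk * (v * y) := by
          have hzz : zk * zk = 1 := Subtype.ext zz
          calc y * v = zk * zk * (y * v) := by rw [hzz, one_mul]
            _ = zk * (v * y * v⁻¹ * y⁻¹ * (y * v)) := by rw [mul_assoc, e']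
            _ = zk * (v * y) := by group
        have : com v = 1 := by
          rcases hfpf v hv.2 (Or.inr h') with h1 | h1
          · rw [show v = 1 from Subtype.ext h1]; simp [com]
          · rw [show v = zk from Subtype.ext h1]
            simp [com, (zc y).eq]
        exact z1 (congrArg Subtype.val (e.symm.trans this))
      · show ((v : G) * y * (v : G)⁻¹) * (y : G)⁻¹ ∈ L
        exact mul_mem (hLn.conj_mem _ yL v) (inv_mem yL)
    have hfib : ∀ b ∈ F.image com, (F.filter fun a => com a = b).card ≤ 2 := by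
      intro b hb
      obtain ⟨v, hv, rfl⟩ := Finset.mem_image.1 hb
      refine (Finset.card_le_card (t := {v, v * zk}) fun w hw => ?_).trans Finset.card_le_two
      simp only [F, Finset.mem_filter] at hw hv
      have he : w * y * w⁻¹ = v * y * v⁻¹ := mul_right_cancel hw.2
      have hu : y * (v⁻¹ * w) = (v⁻¹ * w) * y := by
        calc y * (v⁻¹ * w) = v⁻¹ * (v * y * v⁻¹) * w := by group
          _ = v⁻¹ * (w * y * w⁻¹) * w := by rw [he]
          _ = (v⁻¹ * w) * y := by group
      rcases hfpf _ (mul_mem (inv_mem hv.2) hw.1.2) (Or.inl hu) with h1 | h1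
      · rw [Finset.mem_insert]
        exact Or.inl (inv_mul_eq_one.1 (Subtype.ext h1)).symm
      · rw [Finset.mem_insert, Finset.mem_singleton]
        exact Or.inr (inv_mul_eq_iff_eq_mul.1 (Subtype.ext h1))
    have hA := Finset.card_le_mul_card_image (f := com) F 2 hfib
    have hB := Finset.card_le_card hmaps
    have hzFL : zk ∈ FL := by simp [FL, F, zP, zk, zL]
    rw [Finset.card_erase_of_mem hzFL] at hB
    have := Finset.card_pos.2 ⟨zk, hzFL⟩
    omega
  have hK0L : ∀ g : ↥K0, (g : G) ∈ L := by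
    intro g
    have htop : (L.comap K0.subtype) = ⊤ := by
      have hle : P' ≤ L.comap K0.subtype := hPL
      have hdvd := Subgroup.index_dvd_of_le hle
      rw [hidx] at hdvd
      rcases (Nat.dvd_prime Nat.prime_three).1 hdvd with h | h
      · exact Subgroup.index_eq_one.1 h
      · exfalso
        have := Subgroup.card_mul_index (L.comap K0.subtype)
        rw [h, ← P'.card_mul_index, hidx] at this
        have e : P' = L.comap K0.subtype :=
          SetLike.coe_injective (Set.eq_of_subset_of_ncard_le hle (by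
            rw [← Nat.card_coe_set_eq, ← Nat.card_coe_set_eq, SetLike.coe_sort_coe, SetLike.coe_sort_coe]
            omega) (Set.toFinite _))
        exact yP (by rw [e]; exact yL)
    exact (htop ▸ Subgroup.mem_top g : g ∈ L.comap K0.subtype)
  have hm_ne : m ≠ 1 := by
    rintro rfl
    have hrW : W = π.range := SetLike.coe_injective (Set.eq_of_subset_of_ncard_le hWr (by
      rw [← Nat.card_coe_set_eq, ← Nat.card_coe_set_eq, SetLike.coe_sort_coe, SetLike.coe_sort_coe, hm, hWcard])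
      (Set.toFinite _))
    obtain ⟨w, hwL, hw⟩ := hXL ⟨p, pX⟩ (hrW.symm ▸ ⟨_, rfl⟩)
    have hk : w⁻¹ * ⟨p, pX⟩ ∈ π.ker := by
      rw [MonoidHom.mem_ker, map_mul, map_inv, hw, inv_mul_cancel]
    have := mul_mem hwL (hK0L ⟨_, ⟨_, hk, rfl⟩⟩)
    exact hout p hp (by simpa using this)
  obtain rfl : m = 4 := by
    rw [hK0n] at hK0val
    have hle := Nat.le_of_dvd (by norm_num) hm4
    interval_cases m
    · omega
    · exact absurd rfl hm_ne
    · exfalso
      have : 2 ^ n = 2 ^ 14 := by omega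
      have := Nat.pow_right_injective le_rfl this
      omega
    · omega
    · rfl
  have hn13 : n = 13 := Nat.pow_right_injective le_rfl (by rw [hK0n] at hK0val; norm_num; omega)
  subst hn13
  -- the centraliser in the derived group
  have hCX : C ≤ X := hC ▸ inf_le_right
  have hCL : C ≤ L := hC ▸ inf_le_left
  have memC : ∀ {g : G}, g ∈ L → g ∈ X → g ∈ C := fun h h' => hC ▸ ⟨h, h'⟩
  have hK0C : K0 ≤ C := fun g hg => memC (hK0L ⟨g, hg⟩) (hK0X hg)
  let πC : ↥C →* Equiv.Perm (QT D z) := π.comp (Subgroup.inclusion hCX)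
  set N : Subgroup ↥C := K0.subgroupOf C with hN
  set Pg : Subgroup G := P'.map K0.subtype with hPg
  set Q : Subgroup ↥C := Pg.subgroupOf C with hQ
  have hPgK : Pg ≤ K0 := Subgroup.map_subtype_le _
  have hNker : N = πC.ker := by
    ext c
    rw [Subgroup.mem_subgroupOf, MonoidHom.mem_ker]
    refine ⟨?_, fun h => ⟨_, h, rfl⟩⟩
    rintro ⟨k, hk, hkc⟩
    have : k = Subgroup.inclusion hCX c := Subtype.ext hkc
    rw [this] at hk
    exact MonoidHom.mem_ker.1 hk
  have hNN : N.Normal := hNker ▸ MonoidHom.normal_ker _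
  have hQN : Q.Normal := ⟨fun x hx g => by
    obtain ⟨k, hk, hkx⟩ := hx
    have hk' : (g : G) * k * (g : G)⁻¹ ∈ K0 := by
      have := hNN.conj_mem ⟨k, hK0C k.2⟩ k.2 g
      exact this
    refine ⟨⟨_, hk'⟩, ?_, by simp only [Subgroup.coe_subtype] at hkx ⊢; simp [← hkx]⟩
    -- translations are carried to translations
    set gX := Subgroup.inclusion hCX g
    set A := π gX⁻¹ A₀
    refine (qrho_isV_iff H.grp A₀ _).2 ?_
    have hA : ∀ x ∈ A₀.1, (g : G)⁻¹ * x * (g : G) ∈ A.1 := fun x hx => by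
      have := quadPerm_mem H.grp gX⁻¹ hx
      simpa only [gX, Subgroup.coe_inv, inv_inv, Subgroup.coe_inclusion] using this
    refine ((qrho_isV_iff H.grp A k).1 (hall k hk A)).imp (fun h x hx => ?_) fun h x hx => ?_
    · have := h _ (hA x hx)
      calc (g : G) * k * (g : G)⁻¹ * x * ((g : G) * k * (g : G)⁻¹)⁻¹
          = (g : G) * ((k : G) * ((g : G)⁻¹ * x * g) * (k : G)⁻¹) * (g : G)⁻¹ := by group
        _ = x := by rw [this]; group
    · obtain ⟨h1, h2⟩ := h _ (hA x hx)
      refine ⟨fun e => h1 ?_, ?_⟩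
      · calc (k : G) * ((g : G)⁻¹ * x * g) * (k : G)⁻¹
            = (g : G)⁻¹ * ((g : G) * k * (g : G)⁻¹ * x * ((g : G) * k * (g : G)⁻¹)⁻¹) * g := by group
          _ = _ := by rw [e]
      · calc _ = (g : G) * ((k : G) * ((k : G) * ((g : G)⁻¹ * x * g) * (k : G)⁻¹) * (k : G)⁻¹) * (g : G)⁻¹ := by
              group
          _ = x := by rw [h2]; group⟩
  let eQ : ↥P' ≃* ↥Q := (P'.equivMapOfInjective K0.subtype K0.subtype_injective).trans
    (Subgroup.subgroupOfEquivOfLe (hPgK.trans hK0C)).symm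
  have hQcard : Nat.card ↥Q = 2 ^ 13 := by rw [← Nat.card_congr eQ.toEquiv, hn]
  have hNcard : Nat.card ↥N = 3 * 2 ^ 13 := by
    rw [Nat.card_congr (Subgroup.subgroupOfEquivOfLe hK0C).toEquiv, hK0n]
  have hWC : W ≤ πC.range := fun g hg => by
    obtain ⟨x, rfl⟩ := hWr hg
    obtain ⟨w, hwL, hw⟩ := hXL x hg
    exact ⟨⟨w, memC hwL w.2⟩, hw⟩
  set M : Subgroup ↥C := W.comap πC with hM
  have hMN : M.Normal := ⟨fun x hx g => by
    show πC (g * x * g⁻¹) ∈ W
    rw [map_mul, map_mul, map_inv]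
    exact hcnj A' _ (fun y hy => mul_mem (mul_mem (hπA _) hy) (inv_mem (hπA _))) _ hx⟩
  let f : ↥M →* ↥W := (πC.comp M.subtype).codRestrict W fun x => x.2
  have hfs : Function.Surjective f := fun g => by
    obtain ⟨c, hc⟩ := hWC g.2
    exact ⟨⟨c, show πC c ∈ W by rw [hc]; exact g.2⟩, Subtype.ext hc⟩
  have hfk : f.ker = N.subgroupOf M := by
    ext x
    rw [Subgroup.mem_subgroupOf, hNker, MonoidHom.mem_ker, MonoidHom.mem_ker, Subtype.ext_iff]
    rfl
  have hNM : N ≤ M := fun x hx => by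
    rw [hNker, MonoidHom.mem_ker] at hx
    show πC x ∈ W
    rw [hx]; exact one_mem _
  have hMcard : Nat.card ↥M = 3 * 2 ^ 13 * 3265920 := by
    rw [← f.ker.card_mul_index, Subgroup.index_ker, MonoidHom.range_eq_top.2 hfs, Subgroup.card_top, hfk,
      Nat.card_congr (Subgroup.subgroupOfEquivOfLe hNM).toEquiv, hNcard, hWcard]
  have hCcard : Nat.card ↥C * 2 = 321052999680 := by
    have hidx2 : (C.subgroupOf X).index = 2 := by
      refine Subgroup.index_eq_two_iff.2 ⟨⟨p, pX⟩, fun g => ?_⟩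
      show Xor (((g * ⟨p, pX⟩ : ↥X) : G) ∈ C) ((g : G) ∈ C)
      rcases gl (g : G) with h | h
      · exact Or.inr ⟨memC h g.2, fun h' => hout p hp (by
          have := mul_mem (inv_mem h) (hCL h')
          rwa [Subgroup.coe_mul, inv_mul_cancel_left] at this)⟩
      · exact Or.inl ⟨memC h (mul_mem g.2 pX), fun h' => hout p hp (by
          have := mul_mem (inv_mem (hCL h')) h
          rwa [inv_mul_cancel_left] at this)⟩
    have := (C.subgroupOf X).card_mul_index
    rwa [hidx2, hXcard, Nat.card_congr (Subgroup.subgroupOfEquivOfLe hCX).toEquiv] at this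
  have hMidx : M.index = 2 := by
    have := M.card_mul_index
    rw [hMcard] at this
    omega
  -- the core
  have hQP : IsPGroup 2 ↥Q := IsPGroup.of_card (n := 13) hQcard
  have hcore : pCore 2 ↥C = Q := by
    refine le_antisymm ?_ (le_sSup ⟨hQN, hQP⟩)
    set O := pCore 2 ↥C with hOdef
    have hO2 : IsPGroup 2 ↥O := Components.isPGroup_pCore' 2
    have hOn : O.Normal := Components.pCore_normal' 2
    set Oi := O.map πC
    have hOi2 : IsPGroup 2 ↥Oi := hO2.map _
    have hnorm : ∀ g ∈ W, ∀ o ∈ Oi, g * o * g⁻¹ ∈ Oi := by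
      rintro g hg _ ⟨o, ho, rfl⟩
      obtain ⟨c, rfl⟩ := hWC hg
      exact ⟨c * o * c⁻¹, hOn.conj_mem o ho c, by rw [map_mul, map_mul, map_inv]⟩
    have hI : Oi ⊓ W = ⊥ := by
      rcases simple (Oi ⊓ W) inf_le_right (fun g hg x hx =>
        Subgroup.mem_inf.2 ⟨hnorm g hg x hx.1, mul_mem (mul_mem hg (Subgroup.mem_inf.1 hx).2) (inv_mem hg)⟩) with h | h
      · exact h
      · exfalso
        obtain ⟨j, hj⟩ := IsPGroup.iff_card.1 (hOi2.to_le (inf_le_left : Oi ⊓ W ≤ Oi))
        rw [h, hWcard] at hj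
        have h3' : 3 ∣ 2 ^ j := hj ▸ (by norm_num)
        have := Nat.Prime.dvd_of_dvd_pow Nat.prime_three h3'
        omega
    intro x hx
    have hxN : x ∈ N := by
      rw [hNker, MonoidHom.mem_ker]
      refine hcent _ fun w hw => ?_
      have h1 : ⁅πC x, w⁆ ∈ Oi ⊓ W := by
        refine ⟨?_, ?_⟩
        · rw [commutatorElement_def, mul_assoc, mul_assoc, ← mul_assoc w]
          exact mul_mem (Subgroup.mem_map_of_mem _ hx)
            (hnorm w hw _ (inv_mem (Subgroup.mem_map_of_mem _ hx)))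
        · have hxA : πC x ∈ A' := hπA _
          have := Subgroup.commutator_mem_commutator hxA (hWA hw)
          exact this
      rw [hI, Subgroup.mem_bot] at h1
      exact commutatorElement_eq_one_iff_mul_comm.1 h1
    have hxK : (x : G) ∈ K0 := hxN
    refine ⟨⟨x, hxK⟩, ?_, rfl⟩
    obtain ⟨j, hj⟩ := hO2 ⟨x, hx⟩
    have hj' : (⟨x, hxK⟩ : ↥K0) ^ 2 ^ j = 1 := Subtype.ext (by
      simpa using congrArg (fun w : ↥O => ((w : ↥C) : G)) hj)
    by_contra hxP
    have h3 := Four.v_three _ (H.qrho_even hQT A₀ _) hxP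
    have h2 : qrho H.grp A₀ ⟨x, hxK⟩ ^ 2 ^ j = 1 := by rw [← map_pow, hj', map_one]
    refine hxP (Or.inl (orderOf_eq_one_iff.1 (Nat.eq_one_of_dvd_coprimes
      (a := 2 ^ j) (b := 3) ((by norm_num : Nat.Coprime 2 3).pow_left j)
      (orderOf_dvd_of_pow_eq_one h2) (orderOf_dvd_of_pow_eq_one (by rw [pow_three']; exact h3)))))
  have hcQ : Subgroup.centralizer (Q : Set ↥C) ≤ Q := by
    intro c hc
    rcases H.eq_one_or_z_of_pairs hQT (t := (c : G)) (fun A x hx y hy => by
      have hk := H.mem_quad_qk hx hy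
      have hQmem : (⟨x * y, hK0C hk⟩ : ↥C) ∈ Q := ⟨⟨_, hk⟩, H.transl_all hQT (A := A) _
        (Or.inl ((qrho_eq_one_iff H.grp A _).2 fun w hw =>
          mul_inv_eq_iff_eq_mul.2 ((A.2.commute hx hw).mul_left (A.2.commute hy hw)).eq)) A₀, rfl⟩
      exact (congrArg Subtype.val (Subgroup.mem_centralizer_iff.1 hc _ hQmem)).symm) A₀ with h | h
    · rw [show c = 1 from Subtype.ext h]; exact one_mem _
    · exact ⟨zk, zP, h.symm⟩
  refine ⟨Q, hQN, ?_, ?_, hQcard, N, M, hNN, hMN, Subgroup.comap_mono hPgK, hNM, by rw [hNcard, hQcard],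
    ⟨((QuotientGroup.quotientMulEquivOfEq hfk.symm).trans
      (QuotientGroup.quotientKerEquivOfSurjective f hfs)).trans eC⟩, hMidx⟩
  · rw [Balance.generalizedFitting_eq_pCore (p := 2) (by rw [hcore]; exact hcQ), hcore]
  · exact TI.isExtraspecial_congr eQ hex

end M24

end Cfsg.Agent.Transpos
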