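import Mathlib.GroupTheory.Perm.Sign
import Mathlib.Tactic

/-!
# Double transpositions of four letters
-/

set_option autoImplicit false
set_option Elab.async false
set_option synthInstance.maxSize 1024
set_option synthInstance.maxHeartbeats 200000

namespace Cfsg.Agent.Transpos.Four

open Equiv

/-- The identity or a double transposition. -/
abbrev IsV (σ : Perm (Fin 4)) : Prop := σ = 1 ∨ ∀ i, σ i ≠ i ∧ σ (σ i) = i

theorem v_mul : ∀ a, IsV a → ∀ b, IsV b → IsV (a * b) := by decide +kernel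

theorem v_inv : ∀ a, IsV a → IsV a⁻¹ := by decide +kernel

theorem v_cent : ∀ a, IsV a → a ≠ 1 → ∀ b, IsV b → b ≠ 1 → a ≠ b →
    ∀ σ, σ * a = a * σ → σ * b = b * σ → IsV σ := by decide +kernel

theorem v_all : ∀ a, IsV a → a ≠ 1 → ∀ b, IsV b → b ≠ 1 → a ≠ b →
    ∀ v, IsV v → v = 1 ∨ v = a ∨ v = b ∨ v = a * b := by decide +kernel

theorem v_pair : ∀ σ, IsV σ → ∀ i j : Fin 4, i ≠ j → (σ i = i ∧ σ j = j) ∨ (σ i = j ∧ σ j = i) ∨
    (σ i ≠ i ∧ σ i ≠ j ∧ σ j ≠ i ∧ σ j ≠ j) := by decide +kernel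

theorem v_odd : ∀ σ, Perm.sign σ ≠ 1 → ∃ v, IsV v ∧ ∃ i j : Fin 4, i ≠ j ∧ v * σ = swap i j := by
  decide +kernel

theorem v_three : ∀ σ, Perm.sign σ = 1 → ¬ IsV σ → σ * σ * σ = 1 := by decide +kernel

theorem v_quot : ∀ σ, Perm.sign σ = 1 → ¬ IsV σ → ∀ τ, Perm.sign τ = 1 →
    IsV τ ∨ IsV (σ⁻¹ * τ) ∨ IsV (σ * τ) := by decide +kernel

theorem v_fix : ∀ σ, ¬ IsV σ → σ * σ * σ = 1 → ∀ v, IsV v → σ * v = v * σ → v = 1 := by decide +kernel

theorem v_sq : ∀ a, IsV a → a * a = 1 := by decide +kernel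

theorem rest : ∀ i j : Fin 4, i ≠ j → ∃ k l, [i, j, k, l].Nodup := by decide +kernel

/-- The double transpositions with the identity. -/
def V : Subgroup (Perm (Fin 4)) where
  carrier := {σ | IsV σ}
  mul_mem' := fun {a b} ha hb => v_mul a ha b hb
  one_mem' := Or.inl rfl
  inv_mem' := fun {a} ha => v_inv a ha

theorem mem_V {σ : Perm (Fin 4)} : σ ∈ V ↔ IsV σ := Iff.rfl

end Cfsg.Agent.Transpos.Four
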