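import Cfsg.Agent.Lib.Transpos.M24QuadLocal
import Cfsg.Agent.Lib.Transpos.M24QuadPerm4
import Cfsg.Agent.Lib.Transpos.M22PairFixed
import Cfsg.Agent.Lib.Transpos.M24PairCent

/-!
# The kernel of the action on the 126 quads in type M(24)

An element fixing every quad acts on each of them as an even permutation; as a double transposition or the
identity on all or on none; and if it fixes all members of all quads it is `1` or `z`.
-/

set_option autoImplicit false
set_option linter.style.haveILetI false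
set_option linter.unusedSectionVars false

namespace Cfsg.Agent.Transpos

open Cfsg Cfsg.Agent.ClassicalSimple

universe u

variable {G : Type u} [Group G] {D : Set G}

/-- The elements fixing every quad. -/
noncomputable def QK (hD : IsThreeTranspositionGroup D) (z : G) : Subgroup G :=
  (quadPerm hD z).ker.map (Subgroup.centralizer ({z} : Set G)).subtype

theorem mem_QK [Finite G] {hD : IsThreeTranspositionGroup D} {z g : G} :
    g ∈ QK hD z ↔ Commute g z ∧ ∀ (A : QT D z), ∀ x ∈ A.1, g * x * g⁻¹ ∈ A.1 := by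
  constructor
  · rintro ⟨k, hk, rfl⟩
    refine ⟨Subgroup.mem_centralizer_singleton_iff.1 k.2, fun A x hx => ?_⟩
    have h := quadPerm_mem hD k hx
    rw [MonoidHom.mem_ker.1 hk] at h
    exact h
  · rintro ⟨hc, h⟩
    refine ⟨⟨g, Subgroup.mem_centralizer_singleton_iff.2 hc.eq⟩, MonoidHom.mem_ker.2 (Equiv.ext fun A => ?_),
      rfl⟩
    refine Subtype.ext ?_
    rw [quadPerm_val, Equiv.Perm.one_apply]
    refine Set.eq_of_subset_of_ncard_le ?_ ?_ (Set.toFinite _)
    · rintro _ ⟨x, hx, rfl⟩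
      exact h A x hx
    · rw [Set.ncard_image_of_injective _ (MulAut.conj g).injective]

theorem mem_closure_invol {a b : G} (ha : a * a = 1) (hb : b * b = 1) (hab : Commute a b) {x : G}
    (hx : x ∈ Subgroup.closure ({a, b} : Set G)) : x = 1 ∨ x = a ∨ x = b ∨ x = a * b := by
  induction hx using Subgroup.closure_induction with
  | mem w hw => rcases hw with rfl | rfl <;> simp
  | one => exact Or.inl rfl
  | mul v w _ _ hv hw =>
    have h1 : ∀ t, a * (a * t) = t := fun t => by rw [← mul_assoc, ha, one_mul]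
    have h2 : ∀ t, b * (b * t) = t := fun t => by rw [← mul_assoc, hb, one_mul]
    have h3 : b * a = a * b := hab.eq.symm
    have h4 : ∀ t, b * (a * t) = a * (b * t) := fun t => by rw [← mul_assoc, h3, mul_assoc]
    rcases hv with rfl | rfl | rfl | rfl <;> rcases hw with rfl | rfl | rfl | rfl <;>
      simp [mul_assoc, ha, hb, h1, h2, h3, h4]
  | inv v _ hv =>
    rcases hv with rfl | rfl | rfl | rfl
    · simp
    · exact Or.inr (Or.inl (inv_eq_of_mul_eq_one_right ha))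
    · exact Or.inr (Or.inr (Or.inl (inv_eq_of_mul_eq_one_right hb)))
    · exact Or.inr (Or.inr (Or.inr (by
        rw [mul_inv_rev, inv_eq_of_mul_eq_one_right ha, inv_eq_of_mul_eq_one_right hb, hab.eq])))

theorem exists_qloc [Finite G] (hD : IsThreeTranspositionGroup D) {z : G} (A : QT D z) :
    ∃ (e : Fin 4 → G) (ρ : ↥(QK hD z) →* Equiv.Perm (Fin 4)), Function.Injective e ∧
      (∀ x, x ∈ A.1 ↔ ∃ i, e i = x) ∧ ∀ (g : ↥(QK hD z)) i, (g : G) * e i * (g : G)⁻¹ = e (ρ g i) := by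
  have h4 : Nat.card A.1 = 4 := by rw [Nat.card_coe_set_eq, A.2.ncard]
  let E : Fin 4 ≃ A.1 := (Finite.equivFinOfCardEq h4).symm
  let f : ↥(QK hD z) → Fin 4 → Fin 4 := fun g i =>
    E.symm ⟨(g : G) * E i * (g : G)⁻¹, (mem_QK.1 g.2).2 A _ (E i).2⟩
  have hf : ∀ g i, (E (f g i) : G) = (g : G) * E i * (g : G)⁻¹ := fun g i => by simp [f]
  have hmul : ∀ g k i, f g (f k i) = f (g * k) i := fun g k i => E.injective (Subtype.ext (by
    rw [hf, hf, hf, Subgroup.coe_mul]
    group))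
  have hone : ∀ i, f 1 i = i := fun i => E.injective (Subtype.ext (by rw [hf]; simp))
  let ρ : ↥(QK hD z) →* Equiv.Perm (Fin 4) := MonoidHom.mk' (fun g =>
    ⟨f g, f g⁻¹, fun i => by rw [hmul, inv_mul_cancel, hone], fun i => by rw [hmul, mul_inv_cancel, hone]⟩)
    fun g k => Equiv.ext fun i => (hmul g k i).symm
  refine ⟨fun i => E i, ρ, fun i j h => E.injective (Subtype.ext h), fun x => ?_, fun (g : ↥(QK hD z)) i => (hf g i).symm⟩
  exact ⟨fun hx => ⟨E.symm ⟨x, hx⟩, by simp⟩, fun ⟨i, hi⟩ => hi ▸ (E i).2⟩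

section

variable [Finite G] (hD : IsThreeTranspositionGroup D) {z : G} (A : QT D z)

/-- The members of a quad, numbered. -/
noncomputable def qe : Fin 4 → G := (exists_qloc hD A).choose

/-- The action of the kernel on one quad. -/
noncomputable def qrho : ↥(QK hD z) →* Equiv.Perm (Fin 4) := (exists_qloc hD A).choose_spec.choose

theorem qe_inj : Function.Injective (qe hD A) := (exists_qloc hD A).choose_spec.choose_spec.1

theorem mem_quad_iff {x : G} : x ∈ A.1 ↔ ∃ i, qe hD A i = x :=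
  (exists_qloc hD A).choose_spec.choose_spec.2.1 x

theorem qe_mem (i : Fin 4) : qe hD A i ∈ A.1 := (mem_quad_iff hD A).2 ⟨i, rfl⟩

theorem qrho_spec (g : ↥(QK hD z)) (i : Fin 4) :
    (g : G) * qe hD A i * (g : G)⁻¹ = qe hD A (qrho hD A g i) :=
  (exists_qloc hD A).choose_spec.choose_spec.2.2 g i

theorem qrho_eq_one_iff (g : ↥(QK hD z)) :
    qrho hD A g = 1 ↔ ∀ x ∈ A.1, (g : G) * x * (g : G)⁻¹ = x := by
  constructor
  · intro h x hx
    obtain ⟨i, rfl⟩ := (mem_quad_iff hD A).1 hx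
    rw [qrho_spec, h, Equiv.Perm.one_apply]
  · intro h
    refine Equiv.ext fun i => qe_inj hD A ?_
    rw [← qrho_spec, h _ (qe_mem hD A i), Equiv.Perm.one_apply]

end

namespace M24

variable [Finite G] (H : M24 D) {z : G}
include H

theorem mem_quad_qk {A : QT D z} {x y : G} (hx : x ∈ A.1) (hy : y ∈ A.1) : x * y ∈ QK H.grp z := by
  refine ⟨qel A hx * qel A hy, MonoidHom.mem_ker.2 ?_, rfl⟩
  rw [map_mul, H.qperm_congr hx hy, ← map_mul,
    show qel A hy * qel A hy = 1 from Subtype.ext (sq_one H.grp.1 (A.2.subset hy)), map_one]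

/-- Four members of a quad in any order. -/
theorem quad_four {A : Set G} (hA : IsQuad D z A) {a b c e : G} (hn : [a, b, c, e].Nodup)
    (hm : ∀ w ∈ [a, b, c, e], w ∈ A) : a ∈ D ∧ b ∈ Dc D a ∧ c ∈ Dc (Dc D a) b ∧
      e ∈ Dc (Dc (Dc D a) b) c ∧ a * b * c * e = z ∧ ∀ w, w ∈ A ↔ w ∈ [a, b, c, e] := by
  have hc : ∀ v ∈ [a, b, c, e], ∀ w ∈ [a, b, c, e], Commute v w :=
    fun v hv w hw => hA.commute (hm v hv) (hm w hw)
  obtain ⟨h1, h2, h3, h4⟩ := dc_chain hn (fun w hw => hA.subset (hm w hw)) hc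
  have hn' := hn
  simp only [List.nodup_cons, List.mem_cons, List.not_mem_nil, or_false, not_or] at hn'
  obtain ⟨⟨nab, nac, nae⟩, ⟨nbc, nbe⟩, nce, -⟩ := hn'
  obtain ⟨g, k, -, -, hc', hp, hm'⟩ := hA.split (hm a (by simp)) (hm b (by simp)) nab
  have mc := (hm' c).1 (hm c (by simp))
  have me := (hm' e).1 (hm e (by simp))
  simp only [List.mem_cons, List.not_mem_nil, or_false] at mc me
  have mc' : c = g ∨ c = k := (mc.resolve_left (Ne.symm nac)).resolve_left (Ne.symm nbc)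
  have me' : e = g ∨ e = k := (me.resolve_left (Ne.symm nae)).resolve_left (Ne.symm nbe)
  rcases mc' with rfl | rfl <;> rcases me' with rfl | rfl
  · exact absurd rfl nce
  · exact ⟨h1, h2, h3, h4, hp, hm'⟩
  · refine ⟨h1, h2, h3, h4, ?_, fun w => (hm' w).trans ?_⟩
    · rw [mul_assoc (a * b) c e, (hA.commute (hm c (by simp)) (hm e (by simp))).eq, ← mul_assoc, hp]
    · simp only [List.mem_cons, List.not_mem_nil, or_false]
      tauto
  · exact absurd rfl nce

theorem z_ne_one {A : QT D z} : z ≠ 1 := by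
  obtain ⟨a, ha⟩ := A.2.nonempty
  obtain ⟨b, hb, hba⟩ := A.2.exists_ne a
  obtain ⟨c, e, hn, hD, hc, hp, -⟩ := A.2.split ha hb hba.symm
  obtain ⟨h1, h2, h3, h4⟩ := dc_chain hn hD hc
  intro h
  have := H.orderOf_frame (by norm_num) (by norm_num) (isFrameProd_four h1 h2 h3 h4)
  rw [hp, h, orderOf_one] at this
  norm_num at this

theorem z_sq (A : QT D z) : z * z = 1 := by
  obtain ⟨a, ha⟩ := A.2.nonempty
  obtain ⟨b, hb, hba⟩ := A.2.exists_ne a
  obtain ⟨c, e, hn, hD, hc, hp, -⟩ := A.2.split ha hb hba.symm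
  obtain ⟨h1, h2, h3, h4⟩ := dc_chain hn hD hc
  have := H.orderOf_frame (by norm_num) (by norm_num) (isFrameProd_four h1 h2 h3 h4)
  rw [hp] at this
  rw [← pow_two, ← this, pow_orderOf_eq_one]

theorem z_mem_qk : z ∈ QK H.grp z :=
  mem_QK.2 ⟨Commute.refl z, fun A x hx => by
    rw [← (A.2.commute_z hx).eq, mul_inv_cancel_right]
    exact hx⟩

/-- Two quads have a common quad commuting with neither. -/
theorem exists_far (hQ : Nat.card (QT D z) = 126) (A B : QT D z) :
    ∃ C : QT D z, C ≠ A ∧ C ≠ B ∧ ¬ QAdj A C ∧ ¬ QAdj B C := by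
  classical
  obtain ⟨ι, -, hι, -⟩ := H.quad_loc A
  obtain ⟨κ, -, hκ, -⟩ := H.quad_loc B
  by_contra hall
  push Not at hall
  have hsub : (Set.univ : Set (QT D z)) ⊆ ({A, B} : Set (QT D z)) ∪ Set.range ι ∪ Set.range κ := by
    intro C _
    by_cases h1 : C = A
    · exact Or.inl (Or.inl (Or.inl h1))
    by_cases h2 : C = B
    · exact Or.inl (Or.inl (Or.inr h2))
    by_cases h3 : QAdj A C
    · exact Or.inl (Or.inr ((hι C).1 h3))
    exact Or.inr ((hκ C).1 (hall C h1 h2 h3))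
  have h := Set.ncard_le_ncard hsub (Set.toFinite _)
  have e1 : ∀ f : Fin 45 → QT D z, (Set.range f).ncard ≤ 45 := fun f => by
    rw [← Set.image_univ]
    exact (Set.ncard_image_le (Set.toFinite _)).trans (by rw [Set.ncard_univ, Nat.card_fin])
  have e2 : ({A, B} : Set (QT D z)).ncard ≤ 2 :=
    (Set.ncard_insert_le _ _).trans (by rw [Set.ncard_singleton])
  have := e1 ι
  have := e1 κ
  have := Set.ncard_union_le ({A, B} : Set (QT D z)) (Set.range ι)
  have := Set.ncard_union_le (({A, B} : Set (QT D z)) ∪ Set.range ι) (Set.range κ)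
  rw [Set.ncard_univ, hQ] at h
  omega

/-- The pair products of a quad act on a quad not commuting with it as all double transpositions. -/
theorem pairs_four {A B : QT D z} (hne : A ≠ B) (hadj : ¬ QAdj A B) (g : ↥(QK H.grp z)) {x y : G}
    (hx : x ∈ A.1) (hy : y ∈ A.1) (hg : (g : G) = x * y) :
    Four.IsV (qrho H.grp B g) ∧ (x ≠ y → qrho H.grp B g ≠ 1) := by
  have key : x ≠ y → ∀ i, qrho H.grp B g i ≠ i := fun hxy i h => by
    have hb := qe_mem H.grp B i
    have e := qrho_spec H.grp B g i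
    rw [h, hg, mul_inv_rev, inv_eq H.grp.1 (A.2.subset hx), inv_eq H.grp.1 (A.2.subset hy)] at e
    set b := qe H.grp B i
    have sx := sq_one H.grp.1 (A.2.subset hx)
    have hbD := B.2.subset hb
    have e2 : y * b * y = x * b * x := by
      calc y * b * y = x * (x * y * b * (y * x)) * x := by
            simp only [mul_assoc]
            rw [← mul_assoc x x, sx, one_mul, mul_one]
        _ = x * b * x := by rw [e]
    rw [braid H.grp.1 (A.2.subset hy) hbD (H.not_commute_of hne hadj hy hb),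
      braid H.grp.1 (A.2.subset hx) hbD (H.not_commute_of hne hadj hx hb)] at e2
    exact hxy (mul_left_cancel (mul_right_cancel e2)).symm
  have hsq : g * g = 1 := Subtype.ext (by
    rw [Subgroup.coe_mul, hg, (A.2.commute hy hx).mul_mul_mul_comm, sq_one H.grp.1 (A.2.subset hx),
      sq_one H.grp.1 (A.2.subset hy), one_mul, Subgroup.coe_one])
  by_cases hxy : x = y
  · refine ⟨Or.inl ?_, fun h => absurd hxy h⟩
    rw [show g = 1 from Subtype.ext (by rw [hg, hxy, sq_one H.grp.1 (A.2.subset hy), Subgroup.coe_one]),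
      map_one]
  refine ⟨Or.inr fun i => ⟨key hxy i, ?_⟩, fun _ h => key hxy 0 (by rw [h, Equiv.Perm.one_apply])⟩
  rw [← Equiv.Perm.mul_apply, ← map_mul, hsq, map_one, Equiv.Perm.one_apply]

/-- Two different nontrivial double transpositions of a quad come from pairs of a quad not commuting with it. -/
theorem exists_two {A B : QT D z} (hne : A ≠ B) (hadj : ¬ QAdj A B) :
    ∃ (x y w : G) (_ : x ∈ A.1) (_ : y ∈ A.1) (_ : w ∈ A.1) (a b : ↥(QK H.grp z)),
      (a : G) = x * y ∧ (b : G) = x * w ∧ x ≠ y ∧ x ≠ w ∧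
      Four.IsV (qrho H.grp B a) ∧ qrho H.grp B a ≠ 1 ∧ Four.IsV (qrho H.grp B b) ∧ qrho H.grp B b ≠ 1 ∧
      qrho H.grp B a ≠ qrho H.grp B b := by
  obtain ⟨x, hx⟩ := A.2.nonempty
  obtain ⟨y, hy, hyx⟩ := A.2.exists_ne x
  obtain ⟨w, k, hn, -, -, -, hm⟩ := A.2.split hx hy hyx.symm
  simp only [List.nodup_cons, List.mem_cons, List.not_mem_nil, or_false, not_or] at hn
  obtain ⟨⟨-, nxw, -⟩, ⟨nyw, -⟩, -⟩ := hn
  have hw : w ∈ A.1 := (hm w).2 (by simp)
  obtain ⟨a1, a2⟩ := H.pairs_four hne hadj ⟨x * y, H.mem_quad_qk hx hy⟩ hx hy rfl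
  obtain ⟨b1, b2⟩ := H.pairs_four hne hadj ⟨x * w, H.mem_quad_qk hx hw⟩ hx hw rfl
  obtain ⟨-, c2⟩ := H.pairs_four hne hadj ⟨y * w, H.mem_quad_qk hy hw⟩ hy hw rfl
  refine ⟨x, y, w, hx, hy, hw, _, _, rfl, rfl, hyx.symm, nxw, a1, a2 hyx.symm, b1, b2 nxw,
    fun e => c2 nyw ?_⟩
  rw [show (⟨y * w, H.mem_quad_qk hy hw⟩ : ↥(QK H.grp z)) =
      ⟨x * y, H.mem_quad_qk hx hy⟩ * ⟨x * w, H.mem_quad_qk hx hw⟩ from Subtype.ext (by
        show y * w = x * y * (x * w)
        rw [(A.2.commute hx hy).eq, mul_assoc, ← mul_assoc x x, sq_one H.grp.1 (A.2.subset hx), one_mul]),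
    map_mul, e, Four.v_sq _ b1]

theorem qrho_z (A : QT D z) : qrho H.grp A ⟨z, H.z_mem_qk⟩ = 1 :=
  (qrho_eq_one_iff H.grp A _).2 fun x hx => by
    show z * x * z⁻¹ = x
    rw [← (A.2.commute_z hx).eq, mul_inv_cancel_right]

/-- A translation of one quad translates those not commuting with it. -/
theorem transfer {A B : QT D z} (hne : A ≠ B) (hadj : ¬ QAdj A B) (g : ↥(QK H.grp z))
    (hg : Four.IsV (qrho H.grp A g)) : Four.IsV (qrho H.grp B g) := by
  have key : ∀ (x y : G) (hx : x ∈ A.1) (hy : y ∈ A.1) (a : ↥(QK H.grp z)), (a : G) = x * y → x ≠ y →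
      qrho H.grp B g * qrho H.grp B a = qrho H.grp B a * qrho H.grp B g := by
    intro x y hx hy a ha hxy
    obtain ⟨i, rfl⟩ := (mem_quad_iff H.grp A).1 hx
    obtain ⟨j, rfl⟩ := (mem_quad_iff H.grp A).1 hy
    have hij : i ≠ j := fun e => hxy (by rw [e])
    have hcase : g * a * g⁻¹ = a ∨ g * a * g⁻¹ = ⟨z, H.z_mem_qk⟩ * a := by
      have e : ((g * a * g⁻¹ : ↥(QK H.grp z)) : G) =
          qe H.grp A (qrho H.grp A g i) * qe H.grp A (qrho H.grp A g j) := by
        rw [← qrho_spec, ← qrho_spec, Subgroup.coe_mul, Subgroup.coe_mul, Subgroup.coe_inv, ha]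
        group
      rcases Four.v_pair _ hg i j hij with ⟨h1, h2⟩ | ⟨h1, h2⟩ | ⟨n1, n2, n3, n4⟩
      · exact Or.inl (Subtype.ext (by rw [e, h1, h2, ha]))
      · exact Or.inl (Subtype.ext (by rw [e, h1, h2, ha, (A.2.commute hy hx).eq]))
      · refine Or.inr (Subtype.ext ?_)
        rw [e, Subgroup.coe_mul, ha]
        set x' := qe H.grp A (qrho H.grp A g i)
        set y' := qe H.grp A (qrho H.grp A g j)
        have ne' : ∀ {k l}, k ≠ l → qe H.grp A k ≠ qe H.grp A l := fun h => (qe_inj H.grp A).ne h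
        obtain ⟨-, -, -, -, hp, -⟩ := H.quad_four A.2 (a := qe H.grp A i) (b := qe H.grp A j)
          (c := x') (e := y') (by
            simp [hxy, ne' n1.symm, ne' n3.symm, ne' n2.symm, ne' n4.symm, x', y',
              ne' ((qrho H.grp A g).injective.ne hij)])
          (fun w hw => by
            simp only [List.mem_cons, List.not_mem_nil, or_false] at hw
            rcases hw with rfl | rfl | rfl | rfl <;> exact qe_mem H.grp A _)
        show x' * y' = z * (qe H.grp A i * qe H.grp A j)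
        have hz : Commute (qe H.grp A i * qe H.grp A j) z :=
          (A.2.commute_z hx).mul_left (A.2.commute_z hy)
        rw [← hz.eq]
        refine Eq.trans ?_ (congrArg (qe H.grp A i * qe H.grp A j * ·) hp)
        show x' * y' = qe H.grp A i * qe H.grp A j * (qe H.grp A i * qe H.grp A j * x' * y')
        rw [mul_assoc (qe H.grp A i * qe H.grp A j) x' y', ← mul_assoc,
          show qe H.grp A i * qe H.grp A j * (qe H.grp A i * qe H.grp A j) = 1 by
            rw [(A.2.commute hy hx).mul_mul_mul_comm, sq_one H.grp.1 (A.2.subset hx),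
              sq_one H.grp.1 (A.2.subset hy), one_mul], one_mul]
    have h2 : qrho H.grp B (g * a * g⁻¹) = qrho H.grp B a := by
      rcases hcase with h | h <;> rw [h]
      rw [map_mul, H.qrho_z, one_mul]
    rw [map_mul, map_mul, map_inv] at h2
    exact mul_inv_eq_iff_eq_mul.1 h2
  obtain ⟨x, y, w, hx, hy, hw, a, b, ha, hb, nxy, nxw, a1, a2, b1, b2, hab⟩ := H.exists_two hne hadj
  exact Four.v_cent _ a1 a2 _ b1 b2 hab _ (key x y hx hy a ha nxy) (key x w hx hw b hb nxw)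

/-- A translation of one quad translates all. -/
theorem transl_all (hQ : Nat.card (QT D z) = 126) {A : QT D z} (g : ↥(QK H.grp z))
    (hg : Four.IsV (qrho H.grp A g)) (B : QT D z) : Four.IsV (qrho H.grp B g) := by
  obtain ⟨C, hCA, hCB, hA, hB⟩ := H.exists_far hQ A B
  exact H.transfer hCB (fun h => hB (H.qAdj_symm h)) g (H.transfer hCA.symm hA g hg)

/-- Centralisers of two members act on their common commuting members as the group these generate. -/
theorem exists_inner_pair {a b t : G} (ha : a ∈ D) (hb : b ∈ Dc D a) (hta : Commute t a)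
    (htb : Commute t b) : ∃ y ∈ Subgroup.closure (Dc (Dc D a) b),
      ∃ v ∈ Subgroup.closure ({a, b} : Set G), t = v * y := by
  set S := Dc (Dc D a) b
  set V := Subgroup.closure ({a, b} : Set G)
  have hcm : ∀ y ∈ Subgroup.closure S, ∀ v ∈ V, Commute v y := fun y hy v hv => by
    have h : V ≤ Subgroup.centralizer (Subgroup.closure S : Set G) := by
      rw [Subgroup.centralizer_closure]
      refine (Subgroup.closure_le _).2 ?_
      rintro w (rfl | rfl) <;> refine Subgroup.mem_centralizer_iff.2 fun x hx => ?_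
      exacts [hx.1.2.2.eq.symm, hx.2.2.eq.symm]
    exact (Subgroup.mem_centralizer_iff.1 (h hv) y hy).symm
  have h := H.cent_pair ha hb hta htb
  clear hta htb
  induction h using Subgroup.closure_induction with
  | mem w hw =>
    rcases hw with rfl | rfl | hw
    · exact ⟨1, one_mem _, _, Subgroup.subset_closure (Or.inl rfl), (mul_one _).symm⟩
    · exact ⟨1, one_mem _, _, Subgroup.subset_closure (Or.inr rfl), (mul_one _).symm⟩
    · exact ⟨w, Subgroup.subset_closure hw, 1, one_mem _, (one_mul _).symm⟩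
  | one => exact ⟨1, one_mem _, 1, one_mem _, (one_mul _).symm⟩
  | mul s s' _ _ hs hs' =>
    obtain ⟨y, hy, v, hv, rfl⟩ := hs
    obtain ⟨y', hy', v', hv', rfl⟩ := hs'
    exact ⟨y * y', mul_mem hy hy', v * v', mul_mem hv hv', (hcm y hy v' hv').symm.mul_mul_mul_comm v y'⟩
  | inv s _ hs =>
    obtain ⟨y, hy, v, hv, rfl⟩ := hs
    exact ⟨y⁻¹, inv_mem hy, v⁻¹, inv_mem hv, by rw [mul_inv_rev, ((hcm y hy v hv).inv_inv).eq]⟩

/-- No kernel element fixes two members of a quad and exchanges the others. -/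
theorem no_swap {A : QT D z} (g : ↥(QK H.grp z)) {a b c e : G} (hn : [a, b, c, e].Nodup)
    (hm : ∀ w ∈ [a, b, c, e], w ∈ A.1) (ga : (g : G) * a * (g : G)⁻¹ = a)
    (gb : (g : G) * b * (g : G)⁻¹ = b) (gc : (g : G) * c * (g : G)⁻¹ = e) : False := by
  obtain ⟨h1, h2, h3, h4, hp, hA⟩ := H.quad_four A.2 hn hm
  obtain ⟨y, hy, v, hv, hg⟩ := H.exists_inner_pair h1 h2
    (mul_inv_eq_iff_eq_mul.1 ga) (mul_inv_eq_iff_eq_mul.1 gb)
  have hact : ∀ x ∈ Dc (Dc D a) b, y * x * y⁻¹ ∈ Dc (Dc D a) b → y * x * y⁻¹ = (g : G) * x * (g : G)⁻¹ := by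
    intro x _ hx'
    have hcv : Commute v (y * x * y⁻¹) := by
      have h : Subgroup.closure ({a, b} : Set G) ≤ Subgroup.centralizer ({y * x * y⁻¹} : Set G) := by
        refine (Subgroup.closure_le _).2 ?_
        rintro w (rfl | rfl) <;> refine Subgroup.mem_centralizer_singleton_iff.2 ?_
        exacts [hx'.1.2.2.eq, hx'.2.2.eq]
      exact Subgroup.mem_centralizer_singleton_iff.1 (h hv)
    rw [hg, show v * y * x * (v * y)⁻¹ = v * (y * x * y⁻¹) * v⁻¹ by group, hcv.eq, mul_inv_cancel_right]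
  obtain ⟨C, hC⟩ := H.chart₂ h1 h2
  have ge : (g : G) * e * (g : G)⁻¹ = c := by
    have hme := (mem_QK.1 g.2).2 A e (hm e (by simp))
    have := (hA _).1 hme
    simp only [List.mem_cons, List.not_mem_nil, or_false] at this
    have inj : ∀ {u w : G}, (g : G) * u * (g : G)⁻¹ = (g : G) * w * (g : G)⁻¹ → u = w :=
      fun h => mul_left_cancel (mul_right_cancel h)
    simp only [List.nodup_cons, List.mem_cons, List.not_mem_nil, or_false, not_or] at hn
    rcases this with h | h | h | h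
    · exact absurd (inj (h.trans ga.symm)).symm hn.1.2.2
    · exact absurd (inj (h.trans gb.symm)).symm hn.2.1.2
    · exact h
    · exact absurd (inj (h.trans gc.symm)).symm hn.2.2.1
  have mv : ∀ x (hx : x ∈ Dc (Dc D a) b), ∃ hx' : (g : G) * x * (g : G)⁻¹ ∈ Dc (Dc D a) b,
      C.img hx' = C.π ⟨y, hy⟩ * C.img hx * (C.π ⟨y, hy⟩)⁻¹ := fun x hx => by
    have h' := C.conj_mem ⟨y, hy⟩ hx
    have e' := hact x hx h'
    exact ⟨e' ▸ h', (C.img_congr _ h' e'.symm).trans (C.img_pi ⟨y, hy⟩ hx h')⟩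
  set c' := C.π ⟨y, hy⟩
  have hc' := C.img_mem h3
  have he' : C.img h4.1 ∈ Dc C.E (C.img h3) := (C.dc_iff h3 h4.1).2 h4
  have c1 : c' * C.img h3 * c'⁻¹ = C.img h4.1 := by
    obtain ⟨hx', ex⟩ := mv c h3
    rw [← ex]
    exact C.img_congr _ _ gc
  have c2 : c' * C.img h4.1 * c'⁻¹ = C.img h3 := by
    obtain ⟨hx', ex⟩ := mv e h4.1
    rw [← ex]
    exact C.img_congr _ _ ge
  obtain ⟨M⟩ := (hC.model _ hc').2
  obtain ⟨U, hU⟩ := M.exists_vec hC hc' he'
  obtain ⟨Φ⟩ := U6.exists_frame M.c hU.iso hU.ne_zero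
  have hcp : c' ∈ M22.CP (C.img h3) (C.img h4.1) := by
    rw [Subgroup.mem_centralizer_singleton_iff, ← mul_inv_eq_iff_eq_mul,
      show c' * (C.img h3 * C.img h4.1) * c'⁻¹ = c' * C.img h3 * c'⁻¹ * (c' * C.img h4.1 * c'⁻¹) by group,
      c1, c2, he'.2.2.eq]
  have hker : (⟨c', hcp⟩ : ↥(M22.CP (C.img h3) (C.img h4.1))) ∈
      (M22.act45 hC hc' he' M hU Φ).ker := by
    refine (M22.mem_ker_iff hC hc' he' M hU Φ).2 fun β i hβ hi => ?_
    show M22.AtPt M Φ (c' * β * c'⁻¹) i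
    obtain ⟨x, hx, rfl⟩ := C.lift β hβ.1.1
    change C.img hx ∈ _ at hβ
    change M22.AtPt M Φ (C.img hx) i at hi
    change M22.AtPt M Φ (c' * C.img hx * c'⁻¹) i
    obtain ⟨hx', ex⟩ := mv x hx
    rw [← ex]
    have hβ' : C.img hx' ∈ Dc (Dc C.E (C.img h3)) (C.img h4.1) :=
      ex ▸ M22.conj_common hC hc' he' hcp hβ
    obtain ⟨j, hj⟩ := M22.exists_atPt hC hc' M hU Φ hβ'
    have hzS : ∀ {w}, w ∈ Dc (Dc (Dc (Dc D a) b) c) e → Commute w z := fun {w} hw => by
      rw [← hp]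
      exact ((hw.1.1.1.2.2.symm.mul_right hw.1.1.2.2.symm).mul_right hw.1.2.2.symm).mul_right hw.2.2.symm
    have hxS := (C.dc2_iff h3 h4.1 hx).1 hβ
    obtain ⟨B, hB, hxB⟩ := H.exists_quad_at h1 h2 h3 h4 hp hxS.1.1.1.1 (hzS hxS)
    suffices i = j from this ▸ hj
    refine U6.adj_ext _ _ fun k => ?_
    obtain ⟨δ, hδ, hk⟩ := M22.exists_mem_atPt hC hc' M hU Φ k
    obtain ⟨w, hw, rfl⟩ := C.lift δ hδ.1.1
    change C.img hw ∈ _ at hδ
    change M22.AtPt M Φ (C.img hw) k at hk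
    have hwS := (C.dc2_iff h3 h4.1 hw).1 hδ
    rw [Bool.eq_iff_iff, M22.atPt_adj hC hc' M hU Φ hβ hδ hi hk,
      M22.atPt_adj hC hc' M hU Φ hβ' hδ hj hk, C.comm_iff hx hw, C.comm_iff hx' hw]
    have hxB' := (mem_QK.1 g.2).2 ⟨B, hB⟩ x hxB
    rcases H.quad_all_or_none hB hwS.1.1.1.1 (hzS hwS) with h | h
    · exact iff_of_true (h x hxB).symm (h _ hxB').symm
    · exact iff_of_false (fun q => h x hxB q.symm) fun q => h _ hxB' q.symm
  have h5 := (M22.mem_J.1 (M22.mem_J_of_ker hC hc' he' M hU Φ hker)).1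
  rw [show (((⟨c', hcp⟩ : ↥(M22.CP (C.img h3) (C.img h4.1))) : C.Q)) = c' from rfl] at h5
  rw [h5.eq, mul_inv_cancel_right] at c1
  exact he'.2.1 c1.symm

/-- The kernel induces even permutations on each quad. -/
theorem qrho_even (hQ : Nat.card (QT D z) = 126) (A : QT D z) (g : ↥(QK H.grp z)) :
    Equiv.Perm.sign (qrho H.grp A g) = 1 := by
  by_contra hodd
  obtain ⟨v, hv, i, j, hij, hw⟩ := Four.v_odd _ hodd
  obtain ⟨B, hBA, -, hAB, -⟩ := H.exists_far hQ A A
  obtain ⟨x, y, w, hx, hy, hw', a, b, -, -, -, -, a1, a2, b1, b2, hab⟩ :=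
    H.exists_two hBA fun h => hAB (H.qAdj_symm h)
  obtain ⟨k, hk⟩ : ∃ k : ↥(QK H.grp z), qrho H.grp A k = v := by
    rcases Four.v_all _ a1 a2 _ b1 b2 hab v hv with h | h | h | h
    exacts [⟨1, by rw [h, map_one]⟩, ⟨a, h.symm⟩, ⟨b, h.symm⟩, ⟨a * b, by rw [h, map_mul]⟩]
  rw [← hk, ← map_mul] at hw
  obtain ⟨p, q, hn⟩ := Four.rest i j hij
  have hn' : [p, q, i, j].Nodup := ((List.perm_append_comm (l₁ := [i, j]) (l₂ := [p, q])).nodup_iff).1 hn
  simp only [List.nodup_cons, List.mem_cons, List.not_mem_nil, or_false, not_or] at hn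
  refine H.no_swap (A := A) (k * g) (a := qe H.grp A p) (b := qe H.grp A q) (c := qe H.grp A i)
    (e := qe H.grp A j) (hn'.map (qe_inj H.grp A))
    (fun w hw => ?_) ?_ ?_ ?_
  · simp only [List.mem_cons, List.not_mem_nil, or_false] at hw
    rcases hw with rfl | rfl | rfl | rfl <;> exact qe_mem H.grp A _
  · rw [qrho_spec, hw, Equiv.swap_apply_of_ne_of_ne (Ne.symm hn.1.2.1) (Ne.symm hn.2.1.1)]
  · rw [qrho_spec, hw, Equiv.swap_apply_of_ne_of_ne (Ne.symm hn.1.2.2) (Ne.symm hn.2.1.2)]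
  · rw [qrho_spec, hw, Equiv.swap_apply_left]

/-- An element fixing a pair and their common members lies in the group of the pair. -/
theorem fixed_four {a b c e t : G} (h1 : a ∈ D) (h2 : b ∈ Dc D a) (h3 : c ∈ Dc (Dc D a) b)
    (h4 : e ∈ Dc (Dc (Dc D a) b) c) (ta : Commute t a) (tb : Commute t b) (tc : Commute t c)
    (te : Commute t e) (tS : ∀ x ∈ Dc (Dc (Dc (Dc D a) b) c) e, Commute t x) :
    ∃ v ∈ Subgroup.closure ({a, b} : Set G), ∃ w ∈ Subgroup.closure ({c, e} : Set G), t = v * w := by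
  obtain ⟨y, hy, v, hv, ht⟩ := H.exists_inner_pair h1 h2 ta tb
  have hyc : ∀ x ∈ Dc (Dc D a) b, Commute t x → Commute y x := fun x hx htx => by
    have hvx : Commute v x := by
      have h : Subgroup.closure ({a, b} : Set G) ≤ Subgroup.centralizer ({x} : Set G) := by
        refine (Subgroup.closure_le _).2 ?_
        rintro u (rfl | rfl) <;> refine Subgroup.mem_centralizer_singleton_iff.2 ?_
        exacts [hx.1.2.2.eq, hx.2.2.eq]
      exact Subgroup.mem_centralizer_singleton_iff.1 (h hv)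
    have := hvx.inv_left.mul_left htx
    rwa [ht, inv_mul_cancel_left] at this
  obtain ⟨C, hC⟩ := H.chart₂ h1 h2
  have hc' := C.img_mem h3
  have he' : C.img h4.1 ∈ Dc C.E (C.img h3) := (C.dc_iff h3 h4.1).2 h4
  have himg : ∀ x (hx : x ∈ Dc (Dc D a) b), Commute t x → Commute (C.π ⟨y, hy⟩) (C.img hx) :=
    fun x hx htx => (show Commute (⟨y, hy⟩ : ↥(Subgroup.closure (Dc (Dc D a) b)))
      ⟨x, Subgroup.subset_closure hx⟩ from Subtype.ext (hyc x hx htx)).map C.π
  obtain ⟨M⟩ := (hC.model _ hc').2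
  haveI : Fintype M.F := Fintype.ofFinite M.F
  obtain ⟨U, hU⟩ := M.exists_vec hC hc' he'
  obtain ⟨A⟩ := U6.exists_adapt M.c hU.iso hU.ne_zero
  have hmem : C.π ⟨y, hy⟩ ∈ Subgroup.closure ({C.img h3, C.img h4.1} : Set C.Q) :=
    M22.fixed_mem_pair hC hc' M hU A
      (k := ⟨_, M22.mem_J.2 ⟨himg c h3 tc, himg e h4.1 te⟩⟩) fun β hβ => by
      obtain ⟨x, hx, rfl⟩ := C.lift β hβ.1.1
      exact himg x hx (tS x ((C.dc2_iff h3 h4.1 hx).1 hβ))
  have hW : Subgroup.closure ({C.img h3, C.img h4.1} : Set C.Q) ≤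
      ((Subgroup.closure ({c, e} : Set G)).subgroupOf (Subgroup.closure (Dc (Dc D a) b))).map C.π := by
    refine (Subgroup.closure_le _).2 ?_
    rintro β (rfl | rfl)
    · exact ⟨⟨c, Subgroup.subset_closure h3⟩, Subgroup.subset_closure (Or.inl rfl), rfl⟩
    · exact ⟨⟨e, Subgroup.subset_closure h4.1⟩, Subgroup.subset_closure (Or.inr rfl), rfl⟩
  obtain ⟨w, hw, hwy⟩ := hW hmem
  have hwm : (w : G) ∈ Subgroup.closure ({c, e} : Set G) := hw
  have h0 : C.π (⟨y, hy⟩ * w⁻¹) = 1 := by rw [map_mul, map_inv, hwy, mul_inv_cancel]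
  have hfix : ∀ {u : G}, u ∈ Subgroup.closure (Dc (Dc D a) b) → Commute u a ∧ Commute u b := fun hu =>
    ⟨Subgroup.mem_centralizer_singleton_iff.1 ((Subgroup.closure_le _).2
      (fun x hx => Subgroup.mem_centralizer_singleton_iff.2 hx.1.2.2.eq.symm) hu),
    Subgroup.mem_centralizer_singleton_iff.1 ((Subgroup.closure_le _).2
      (fun x hx => Subgroup.mem_centralizer_singleton_iff.2 hx.2.2.eq.symm) hu)⟩
  have hd : y * (w : G)⁻¹ ∈ Subgroup.closure ({a, b} : Set G) := by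
    have hm := mul_mem hy (inv_mem w.2)
    rcases H.mem_pair h1 h2 (hfix hm).1 (hfix hm).2 (fun x hx => congrArg Subtype.val
        (C.ker _ h0 ⟨x, Subgroup.subset_closure hx⟩).eq) with h | h | h | h <;> rw [h]
    exacts [one_mem _, Subgroup.subset_closure (Or.inl rfl), Subgroup.subset_closure (Or.inr rfl),
      mul_mem (Subgroup.subset_closure (Or.inr rfl)) (Subgroup.subset_closure (Or.inl rfl))]
  exact ⟨v * (y * (w : G)⁻¹), mul_mem hv hd, w, hwm, by rw [ht]; group⟩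

/-- An element fixing every member commuting with `z` is `1` or `z`. -/
theorem eq_one_or_z (hQ : Nat.card (QT D z) = 126) {t : G}
    (ht : ∀ x ∈ D, Commute x z → Commute t x) (A : QT D z) : t = 1 ∨ t = z := by
  obtain ⟨a, ha⟩ := A.2.nonempty
  obtain ⟨b, hb, hba⟩ := A.2.exists_ne a
  obtain ⟨c, e, hn, hD', hc', hp, hm⟩ := A.2.split ha hb hba.symm
  obtain ⟨h1, h2, h3, h4⟩ := dc_chain hn hD' hc'
  have hzA : ∀ w ∈ A.1, Commute t w := fun w hw => ht w (A.2.subset hw) (A.2.commute_z hw)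
  have mc := (hm c).2 (by simp)
  have me := (hm e).2 (by simp)
  obtain ⟨v, hv, w, hw, e0⟩ := H.fixed_four h1 h2 h3 h4 (hzA a ha) (hzA b hb) (hzA c mc) (hzA e me)
    fun x hx => ht x hx.1.1.1.1 (by
      rw [← hp]
      exact ((hx.1.1.1.2.2.symm.mul_right hx.1.1.2.2.symm).mul_right hx.1.2.2.symm).mul_right hx.2.2.symm)
  obtain ⟨B, hBA, -, hAB, -⟩ := H.exists_far hQ A A
  obtain ⟨x, hx⟩ := B.2.nonempty
  have nx : ∀ u ∈ A.1, ¬ Commute x u := fun u hu h =>
    H.not_commute_of hBA.symm hAB hu hx h.symm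
  have htx := (ht x (B.2.subset hx) (B.2.commute_z hx)).symm
  have hxD := B.2.subset hx
  simp only [List.nodup_cons, List.mem_cons, List.not_mem_nil, or_false, not_or] at hn
  obtain ⟨⟨nab, nac, nae⟩, ⟨nbc, nbe⟩, nce, -⟩ := hn
  have cm : ∀ {u u'}, u ∈ A.1 → u' ∈ A.1 → Commute u u' := fun h h' => A.2.commute h h'
  have n2 : ∀ {u u'}, u ∈ A.1 → u' ∈ A.1 → u ≠ u' → ¬ Commute x (u * u') := fun hu hu' hne h =>
    nx _ hu (commute_both H.grp.1 (A.2.subset hu) (A.2.subset hu') hxD hne (cm hu hu') h).1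
  have n3 : ∀ {u u' u''}, u ∈ A.1 → u' ∈ A.1 → u'' ∈ A.1 → u ≠ u' → u ≠ u'' → u' ≠ u'' →
      ¬ Commute x (u * u' * u'') := fun hu hu' hu'' n n' n'' h =>
    nx _ hu (commute_three H.grp.1 (A.2.subset hu) (A.2.subset hu') (A.2.subset hu'') hxD n n' n''
      (cm hu hu') (cm hu hu'') (cm hu' hu'') h).1
  rcases mem_closure_invol (sq_one H.grp.1 h1) (sq_one H.grp.1 h2.1) (cm ha hb) hv with rfl | rfl | rfl | rfl <;>
    rcases mem_closure_invol (sq_one H.grp.1 h3.1.1) (sq_one H.grp.1 h4.1.1.1) (cm mc me) hw with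
      rfl | rfl | rfl | rfl <;>
    (try simp only [one_mul, mul_one, ← mul_assoc] at e0) <;> subst e0
  · exact Or.inl rfl
  · exact absurd htx (nx _ mc)
  · exact absurd htx (nx _ me)
  · exact absurd htx (n2 mc me nce)
  · exact absurd htx (nx _ ha)
  · exact absurd htx (n2 ha mc nac)
  · exact absurd htx (n2 ha me nae)
  · exact absurd htx (n3 ha mc me nac nae nce)
  · exact absurd htx (nx _ hb)
  · exact absurd htx (n2 hb mc nbc)
  · exact absurd htx (n2 hb me nbe)
  · exact absurd htx (n3 hb mc me nbc nbe nce)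
  · exact absurd htx (n2 ha hb nab)
  · exact absurd htx (n3 ha hb mc nab nac nbc)
  · exact absurd htx (n3 ha hb me nab nae nbe)
  · exact Or.inr hp

/-- An element centralising the products of the pairs in every quad is `1` or `z`. -/
theorem eq_one_or_z_of_pairs (hQ : Nat.card (QT D z) = 126) {t : G}
    (ht : ∀ A : QT D z, ∀ x ∈ A.1, ∀ y ∈ A.1, Commute t (x * y)) (A : QT D z) : t = 1 ∨ t = z := by
  refine H.eq_one_or_z hQ (fun x hx hxz => ?_) A
  obtain ⟨a, ha⟩ := A.2.nonempty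
  obtain ⟨b, hb, hba⟩ := A.2.exists_ne a
  obtain ⟨c, e, hn, hD', hc', hp, -⟩ := A.2.split ha hb hba.symm
  obtain ⟨h1, h2, h3, h4⟩ := dc_chain hn hD' hc'
  obtain ⟨B, hB, hxB⟩ := H.exists_quad_at h1 h2 h3 h4 hp hx hxz
  obtain ⟨y, hy, hyx⟩ := hB.exists_ne x
  obtain ⟨w, k, hn', -, -, -, hm'⟩ := hB.split hxB hy hyx.symm
  simp only [List.nodup_cons, List.mem_cons, List.not_mem_nil, or_false, not_or] at hn'
  obtain ⟨⟨-, nxw, -⟩, ⟨nyw, -⟩, -⟩ := hn'
  have key : ∀ {u}, u ∈ B → u ≠ x → t * x * t⁻¹ = x ∨ t * x * t⁻¹ = u := fun {u} hu hne => by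
    have hq := ht ⟨B, hB⟩ x hxB u hu
    refine mem_of_prod_two H.tr H.noTwin₂ (H.conj_mem t hx) (H.conj_mem t (hB.subset hu)) hx (hB.subset hu)
      (fun h => hne (mul_left_cancel (mul_right_cancel h)).symm) hne.symm
      ((commute_conj_iff t).2 (hB.commute hxB hu)) (hB.commute hxB hu) ?_
    rw [show t * x * t⁻¹ * (t * u * t⁻¹) = t * (x * u) * t⁻¹ by group, hq.eq, mul_inv_cancel_right]
  refine mul_inv_eq_iff_eq_mul.1 ?_
  rcases key hy hyx with h | h
  · exact h
  rcases key ((hm' w).2 (by simp)) (Ne.symm nxw) with h' | h'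
  · exact h'
  · exact absurd (h.symm.trans h') nyw

end M24

end Cfsg.Agent.Transpos
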