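import Cfsg.Agent.Lib.Transpos.M24Quad
import Cfsg.Agent.Lib.Transpos.M22PairOrth

/-!
# The neighbourhood of a quad in type M(24)

The quads commuting with one quad are 45 and are the coded points of the orthogonal geometry seen in the
cover of type M(22) at two members of the quad.
-/

set_option autoImplicit false
set_option linter.style.haveILetI false
set_option linter.unusedSectionVars false

namespace Cfsg.Agent.Transpos

open Cfsg Cfsg.Agent.ClassicalSimple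

universe u

variable {G : Type u} [Group G] {D : Set G}

namespace M24

variable [Finite G] (H : M24 D) {z : G}
include H

/-- The quads commuting with a quad form the graph on the 45 coded points. -/
theorem quad_loc (A : QT D z) : ∃ ι : Fin 45 → QT D z, Function.Injective ι ∧
    (∀ B, QAdj A B ↔ B ∈ Set.range ι) ∧
    ∀ i j, i ≠ j → (QAdj (ι i) (ι j) ↔ O6.adj i j = true) := by
  classical
  obtain ⟨a, ha⟩ := A.2.nonempty
  obtain ⟨b, hb, hba⟩ := A.2.exists_ne a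
  obtain ⟨c, e, hn, hD, hc, hp, hm⟩ := A.2.split ha hb hba.symm
  obtain ⟨h1, h2, h3, h4⟩ := dc_chain hn hD hc
  obtain ⟨C, hC⟩ := H.chart₂ h1 h2
  have hc' := C.img_mem h3
  have he' : C.img h4.1 ∈ Dc C.E (C.img h3) := (C.dc_iff h3 h4.1).2 h4
  obtain ⟨M⟩ := (hC.model _ hc').2
  obtain ⟨U, hU⟩ := M.exists_vec hC hc' he'
  obtain ⟨Φ⟩ := U6.exists_frame M.c hU.iso hU.ne_zero
  set S := Dc (Dc (Dc (Dc D a) b) c) e with hSdef
  have hS : ∀ {x : G} (hx : x ∈ S), C.img hx.1.1 ∈ Dc (Dc C.E (C.img h3)) (C.img h4.1) :=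
    fun hx => (C.dc2_iff h3 h4.1 hx.1.1).2 hx
  have hzS : ∀ x ∈ S, Commute x z := fun x hx => by
    rw [← hp]
    exact ((hx.1.1.1.2.2.symm.mul_right hx.1.1.2.2.symm).mul_right hx.1.2.2.symm).mul_right hx.2.2.symm
  have hmem : ∀ {B : QT D z}, QAdj A B → ∀ x ∈ B.1, x ∈ S := fun {B} h x hx => by
    have hne : ∀ y ∈ A.1, x ≠ y := fun y hy e =>
      h.1 (Subtype.ext (H.quad_eq A.2 B.2 hy (e ▸ hx)))
    have hcc : ∀ y ∈ A.1, Commute y x := fun y hy => h.2 y hy x hx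
    have ma := (hm a).2 (by simp)
    have mb := (hm b).2 (by simp)
    have mc := (hm c).2 (by simp)
    have me := (hm e).2 (by simp)
    exact ⟨⟨⟨⟨B.2.subset hx, hne a ma, hcc a ma⟩, hne b mb, hcc b mb⟩, hne c mc, hcc c mc⟩, hne e me,
      hcc e me⟩
  have hquad : ∀ x ∈ S, ∃ B : QT D z, QAdj A B ∧ x ∈ B.1 := fun x hx => by
    obtain ⟨B, hB, hxB⟩ := H.exists_quad_at h1 h2 h3 h4 hp hx.1.1.1.1 (hzS x hx)
    refine ⟨⟨B, hB⟩, H.qAdj_of (fun h => ?_) ha hxB hx.1.1.1.2.2, hxB⟩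
    have hxA : x ∈ A.1 := h ▸ hxB
    have := (hm x).1 hxA
    simp only [List.mem_cons, List.not_mem_nil, or_false] at this
    rcases this with rfl | rfl | rfl | rfl
    exacts [hx.1.1.1.2.1 rfl, hx.1.1.2.1 rfl, hx.1.2.1 rfl, hx.2.1 rfl]
  let At : QT D z → Fin 45 → Prop := fun B i =>
    ∃ x, x ∈ B.1 ∧ ∃ hx : x ∈ S, M22.AtPt M Φ (C.img hx.1.1) i
  have adj_iff : ∀ {x y : G} (hx : x ∈ S) (hy : y ∈ S) {i j : Fin 45},
      M22.AtPt M Φ (C.img hx.1.1) i → M22.AtPt M Φ (C.img hy.1.1) j →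
      (O6.adj i j = true ↔ Commute x y) := fun hx hy i j hi hj =>
    (M22.atPt_adj hC hc' M hU Φ (hS hx) (hS hy) hi hj).trans (C.comm_iff hx.1.1 hy.1.1)
  have pick : ∀ k, ∃ w, ∃ hw : w ∈ S, M22.AtPt M Φ (C.img hw.1.1) k := fun k => by
    obtain ⟨β, hβ, hk⟩ := M22.exists_mem_atPt hC hc' M hU Φ k
    obtain ⟨w, hw, rfl⟩ := C.lift β hβ.1.1
    exact ⟨w, (C.dc2_iff h3 h4.1 hw).1 hβ, hk⟩
  have uniq : ∀ {B : QT D z} {i j}, At B i → At B j → i = j := fun {B i j} hi hj => by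
    obtain ⟨x, hxB, hx, hi⟩ := hi
    obtain ⟨y, hyB, hy, hj⟩ := hj
    refine U6.adj_ext _ _ fun k => ?_
    obtain ⟨w, hw, hk⟩ := pick k
    rw [Bool.eq_iff_iff, adj_iff hx hw hi hk, adj_iff hy hw hj hk]
    rcases H.quad_all_or_none B.2 hw.1.1.1.1 (hzS w hw) with h | h
    · exact iff_of_true (h x hxB).symm (h y hyB).symm
    · exact iff_of_false (fun c => h x hxB c.symm) fun c => h y hyB c.symm
  have ex : ∀ B : {B : QT D z // QAdj A B}, ∃ i, At B.1 i := fun B => by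
    obtain ⟨x, hx⟩ := B.1.2.nonempty
    obtain ⟨i, hi⟩ := M22.exists_atPt hC hc' M hU Φ (hS (hmem B.2 x hx))
    exact ⟨i, x, hx, hmem B.2 x hx, hi⟩
  choose g hg using ex
  have hsurj : Function.Surjective g := fun k => by
    obtain ⟨w, hw, hk⟩ := pick k
    obtain ⟨B, hB, hwB⟩ := hquad w hw
    exact ⟨⟨B, hB⟩, uniq (hg ⟨B, hB⟩) ⟨w, hwB, hw, hk⟩⟩
  have hcard : Nat.card {B : QT D z // QAdj A B} = 45 := by
    let f : (Σ B : {B : QT D z // QAdj A B}, B.1.1) → S := fun w => ⟨w.2, hmem w.1.2 w.2 w.2.2⟩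
    have hf : Function.Bijective f := by
      refine ⟨fun v w e => ?_, fun x => ?_⟩
      · obtain ⟨⟨⟨B, hB⟩, hAB⟩, ⟨x, hx⟩⟩ := v
        obtain ⟨⟨⟨B', hB'⟩, hAB'⟩, ⟨y, hy⟩⟩ := w
        simp only [f, Subtype.mk.injEq] at e
        subst e
        obtain rfl := H.quad_eq hB hB' hx hy
        rfl
      · obtain ⟨B, hB, hxB⟩ := hquad x x.2
        exact ⟨⟨⟨B, hB⟩, ⟨x, hxB⟩⟩, rfl⟩
    have h := Nat.card_eq_of_bijective f hf
    haveI : Fintype {B : QT D z // QAdj A B} := Fintype.ofFinite _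
    rw [Nat.card_sigma, Finset.sum_congr rfl fun B _ => show Nat.card B.1.1 = 4 by
        rw [Nat.card_coe_set_eq, B.1.2.ncard], Finset.sum_const, Finset.card_univ, smul_eq_mul,
      Nat.card_coe_set_eq, H.ncard_dc₄ h1 h2 h3 h4] at h
    rw [Nat.card_eq_fintype_card]
    omega
  have hbij : Function.Bijective g :=
    (Nat.bijective_iff_surjective_and_card g).2 ⟨hsurj, by rw [hcard, Nat.card_fin]⟩
  let E := Equiv.ofBijective g hbij
  refine ⟨fun i => (E.symm i).1, fun i j h => E.symm.injective (Subtype.ext h), fun B => ?_, ?_⟩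
  · refine ⟨fun h => ⟨E ⟨B, h⟩, by simp⟩, ?_⟩
    rintro ⟨i, rfl⟩
    exact (E.symm i).2
  · intro i j hij
    have hne : (E.symm i).1 ≠ (E.symm j).1 := fun h => hij (E.symm.injective (Subtype.ext h))
    have hi : At (E.symm i).1 i := by
      have := hg (E.symm i)
      rwa [show g (E.symm i) = i from E.apply_symm_apply i] at this
    have hj : At (E.symm j).1 j := by
      have := hg (E.symm j)
      rwa [show g (E.symm j) = j from E.apply_symm_apply j] at this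
    obtain ⟨x, hxB, hx, hxi⟩ := hi
    obtain ⟨y, hyB, hy, hyj⟩ := hj
    rw [adj_iff hx hy hxi hyj]
    exact ⟨fun h => h.2 x hxB y hyB, H.qAdj_of hne hxB hyB⟩

end M24

end Cfsg.Agent.Transpos
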