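import Cfsg.Agent.Lib.Transpos.Basic
import Cfsg.Agent.Lib.Transpos.FixGraph
import Cfsg.Agent.Lib.Transpos.S4

/-!
# The product of two products of commuting pairs of 3-transpositions

`pairProd_pow`: if `a, b` commute and `c, d` commute then `(a b c d) ^ 120 = 1`.  When the four
cross pairs all fail to commute the four members satisfy the relations of the affine diagram `Ã₃`,
and the translation and its conjugate commute.
-/

set_option autoImplicit false

namespace Cfsg.Agent.Transpos

open Cfsg Equiv

variable {G : Type*} [Group G] {D : Set G}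

theorem perm_five_pow (σ : Perm (Fin 5)) : σ ^ 120 = 1 := by
  rw [← show Fintype.card (Perm (Fin 5)) = 120 by rw [Fintype.card_perm, Fintype.card_fin]; rfl]
  exact pow_card_eq_one

theorem perm_four_pow (σ : Perm (Fin 4)) : σ ^ 120 = 1 := by
  rw [show 120 = Fintype.card (Perm (Fin 4)) * 5 by rw [Fintype.card_perm, Fintype.card_fin]; rfl,
    pow_mul, pow_card_eq_one, one_pow]

theorem pow_six_two {u v : G} (h : Commute u v) (hu : u * u = 1 ∨ u ^ 3 = 1)
    (hv : v * v = 1 ∨ v ^ 3 = 1) : (u * v) ^ 6 = 1 := by
  have k : ∀ {w : G}, w * w = 1 ∨ w ^ 3 = 1 → w ^ 6 = 1 := fun {w} h => by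
    rcases h with h | h
    · rw [show 6 = 2 * 3 by norm_num, pow_mul, pow_two, h, one_pow]
    · rw [show 6 = 3 * 2 by norm_num, pow_mul, h, one_pow]
  rw [h.mul_pow, k hu, k hv, one_mul]

variable (hD : IsThreeTranspositionSet D) (hconj : ∀ g : G, ∀ x ∈ D, g * x * g⁻¹ ∈ D)
include hD

theorem mul_sq_or {a b : G} (ha : a ∈ D) (hb : b ∈ D) :
    (a * b) * (a * b) = 1 ∨ (a * b) ^ 3 = 1 := by
  rcases hD.2 a ha b hb with h | h
  · exact Or.inl (by rwa [← pow_two])
  · exact Or.inr h

include hconj in
/-- All four cross pairs fail to commute. -/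
theorem pairProd_cycle {a b c d : G} (ha : a ∈ D) (hb : b ∈ D) (hc : c ∈ D) (hd : d ∈ D)
    (cab : Commute a b) (ccd : Commute c d) (nac : ¬ Commute a c) (nad : ¬ Commute a d)
    (nbc : ¬ Commute b c) (nbd : ¬ Commute b d) : (a * b * c * d) ^ 12 = 1 := by
  have sa := sq_one hD ha; have sb := sq_one hD hb; have sc := sq_one hD hc; have sd := sq_one hD hd
  have ia := inv_eq hD ha; have ib := inv_eq hD hb; have ic := inv_eq hD hc; have id' := inv_eq hD hd
  have conj : ∀ {u x y : G}, u * u = 1 → Commute (u * x * u) (u * y * u) → Commute x y := by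
    intro u x y hu h
    have hi : u⁻¹ = u := inv_eq_of_mul_eq_one_right hu
    have := (Commute.conj_iff (a := x) (b := y) u).1 (by rwa [hi])
    exact this
  have cc : ∀ {u x : G}, u * u = 1 → u * (u * x * u) * u = x := fun {u x} hu => by
    simp only [mul_assoc, hu, mul_one]; rw [← mul_assoc, hu, one_mul]
  have bac := braid hD ha hc nac; have bad := braid hD ha hd nad
  have bbc := braid hD hb hc nbc; have bbd := braid hD hb hd nbd
  set r := b * (a * c * a) * b with hr
  have hrD : r ∈ D := by
    have := hconj b _ (hconj a _ hc)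
    rwa [ia, ib] at this
  -- `r` and `c` commute
  have crc : Commute c r := by
    refine conj sb (conj sc ?_)
    rw [hr, cc sb, bac, cc sc, bbc, cc sc]
    exact cab.symm
  -- `e = (ab) d (ab)` commutes with `r` and with `d`
  set e := a * (b * d * b) * a with he
  have ced : Commute e d := by
    refine conj sa ?_
    rw [he, cc sa, bad, bbd]
    exact conj sd (by rw [cc sd, cc sd]; exact cab.symm)
  have cer : Commute e r := by
    refine conj sb ?_
    rw [hr, cc sb, he, show b * (a * (b * d * b) * a) * b = (b * a) * (b * d * b) * (a * b) by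
      simp only [mul_assoc], ← cab.eq, show (a * b) * (b * d * b) * (a * b) = a * (b * b) * d * (b * a * b) by
      simp only [mul_assoc], sb, mul_one, ← cab.eq, mul_assoc a b b, sb, mul_one]
    exact conj sa (by rw [cc sa, cc sa]; exact ccd.symm)
  -- the translation
  set T := r * d with hT
  have cTc : Commute T c := crc.symm.mul_left ccd.symm
  have cTe : Commute T e := cer.symm.mul_left ced.symm
  set q := a * b * c * r with hq
  have hq2 : q * q = 1 := by
    have hw : q = a * c * b * (a * c * b) := by
      rw [hq, hr, show a * b * c * (b * (a * c * a) * b) = a * (b * c * b) * (a * c * a) * b by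
        simp only [mul_assoc], bbc, bac,
        show a * (c * b * c) * (c * a * c) * b = a * c * b * (c * c) * a * c * b by
          simp only [mul_assoc], sc, mul_one]
      simp only [mul_assoc]
    let φ := s4Hom (a := a) (b := c) (c := b) ⟨sa, sc, sb, bac.symm, bbc, cab.symm.eq⟩
    have h4 : (s4gen 0 * s4gen 1 * s4gen 2) ^ 4 = (1 : Perm (Fin 4)) := by decide
    have hacb : φ (s4gen 0 * s4gen 1 * s4gen 2) = a * c * b := by
      rw [map_mul, map_mul, s4Hom_gen, s4Hom_gen, s4Hom_gen]; rfl
    have := congrArg φ h4
    rw [map_pow, hacb, map_one] at this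
    rw [hw, ← this]
    simp only [pow_succ, pow_zero, one_mul, mul_assoc]
  have sr : r * r = 1 := sq_one hD hrD
  have hg : a * b * c * d = q * T := by
    rw [hq, hT, show a * b * c * r * (r * d) = a * b * c * (r * r) * d by simp only [mul_assoc], sr,
      mul_one]
  -- the conjugate of the translation commutes with it
  have hTq : q * T * q = e * c := by
    have h1 : a * b * c * (a * b) * c = r * c := by
      rw [hr, show a * b * c * (a * b) * c = b * a * c * (a * b) * c by rw [← cab.eq]]
      simp only [mul_assoc]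
    have h2 : b * a * (a * b) = 1 := by
      rw [show b * a * (a * b) = b * (a * a) * b by simp only [mul_assoc], sa, mul_one, sb]
    calc q * T * q = a * b * c * d * q := by rw [hg]
      _ = a * b * (c * d) * q := by simp only [mul_assoc]
      _ = a * b * (d * c) * (a * b * c * r) := by rw [ccd.eq]
      _ = a * b * d * (b * a * (a * b)) * (c * (a * b) * c * r) := by
        rw [h2]; simp only [mul_assoc, one_mul]
      _ = e * ((a * b * c * (a * b) * c) * r) := by rw [he]; simp only [mul_assoc]
      _ = e * c := by rw [h1, ← crc.eq, mul_assoc c r r, sr, mul_one]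
  have cT : Commute T (q * T * q) := hTq ▸ cTe.mul_right cTc
  have hT6 : ∀ {w : G}, (w * w = 1 ∨ w ^ 3 = 1) → w ^ 6 = 1 := fun {w} h => by
    have := pow_six_two (Commute.one_right w) h (Or.inl (one_mul 1))
    rwa [mul_one] at this
  have hT' : T ^ 6 = 1 := hT6 (mul_sq_or hD hrD hd)
  have hqT : (q * T * q) ^ 6 = 1 := by
    have hi : q⁻¹ = q := inv_eq_of_mul_eq_one_right hq2
    have := conj_pow (a := q) (b := T) (i := 6)
    rw [hi] at this
    rw [this, hT', mul_one, hq2]
  rw [hg, show 12 = 2 * 6 by norm_num, pow_mul, pow_two,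
    show q * T * (q * T) = (q * T * q) * T by simp only [mul_assoc], cT.symm.mul_pow, hqT, hT', one_mul]

include hconj in
/-- Products of two commuting pairs have order dividing 120. -/
theorem pairProd_pow {a b c d : G} (ha : a ∈ D) (hb : b ∈ D) (hc : c ∈ D) (hd : d ∈ D)
    (cab : Commute a b) (ccd : Commute c d) : (a * b * c * d) ^ 120 = 1 := by
  suffices key : ∀ {a b c d : G}, a ∈ D → b ∈ D → c ∈ D → d ∈ D → Commute a b → Commute c d →
      Commute b d → (a * b * c * d) ^ 120 = 1 by
    by_cases h : Commute b d
    · exact key ha hb hc hd cab ccd h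
    by_cases h' : Commute b c
    · rw [mul_assoc (a * b), ccd.eq, ← mul_assoc]
      exact key ha hb hd hc cab ccd.symm h'
    by_cases h'' : Commute a d
    · rw [cab.eq]
      exact key hb ha hc hd cab.symm ccd h''
    by_cases h''' : Commute a c
    · rw [cab.eq, mul_assoc (b * a), ccd.eq, ← mul_assoc]
      exact key hb ha hd hc cab.symm ccd.symm h'''
    rw [show 120 = 12 * 10 by norm_num, pow_mul,
      pairProd_cycle hD hconj ha hb hc hd cab ccd h''' h'' h' h, one_pow]
  intro a b c d ha hb hc hd cab ccd cbd
  have sa := sq_one hD ha; have sb := sq_one hD hb; have sc := sq_one hD hc; have sd := sq_one hD hd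
  -- a product of one member and the path through the others
  have hpath : ∀ {x y z : G}, x ∈ D → y ∈ D → z ∈ D → Commute x z → ¬ Commute x y → ¬ Commute y z →
      ∀ {m : G}, m * m = 1 → Commute m x → Commute m y → Commute m z →
      ∀ w ∈ ({x * z * y, y * x * z} : Set G), (m * w) ^ 120 = 1 := by
    intro x y z hx hy hz cxz nxy nyz m hm mx my mz w hw
    let φ := s4Hom (a := x) (b := y) (c := z)
      ⟨sq_one hD hx, sq_one hD hy, sq_one hD hz, (braid hD hx hy nxy).symm,
        (braid hD hy hz nyz).symm, cxz.symm.eq⟩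
    have hg : ∀ k : Fin 3, φ (s4gen k) = ![x, y, z] k := fun k => s4Hom_gen _ k
    have hmw : ∀ {v : G}, Commute m v → v ^ 120 = 1 → (m * v) ^ 120 = 1 := fun {v} hv h => by
      rw [hv.mul_pow, h, mul_one, show 120 = 2 * 60 by norm_num, pow_mul, pow_two, hm, one_pow]
    rcases hw with rfl | rfl
    · refine hmw ((mx.mul_right mz).mul_right my) ?_
      rw [← show φ (s4gen 0 * s4gen 2 * s4gen 1) = x * z * y by simp [map_mul, hg], ← map_pow,
        perm_four_pow, map_one]
    · refine hmw ((my.mul_right mx).mul_right mz) ?_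
      rw [← show φ (s4gen 1 * s4gen 0 * s4gen 2) = y * x * z by simp [map_mul, hg], ← map_pow,
        perm_four_pow, map_one]
  by_cases cac : Commute a c
  · rw [show a * b * c * d = (b * c) * (a * d) by
      rw [cab.eq, mul_assoc b a c, cac.eq]; simp only [mul_assoc]]
    rw [show 120 = 6 * 20 by norm_num, pow_mul,
      pow_six_two ((cab.symm.mul_left cac.symm).mul_right (cbd.mul_left ccd))
        (mul_sq_or hD hb hc) (mul_sq_or hD ha hd), one_pow]
  by_cases cad : Commute a d
  · -- `d` commutes with everything
    by_cases cbc : Commute b c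
    · rw [show a * b * c * d = (b * d) * (a * c) by
        rw [cab.eq, mul_assoc, mul_assoc, ← mul_assoc a c d]
        rw [show a * c * d = d * (a * c) from (cad.mul_left ccd).eq]
        simp only [mul_assoc]]
      rw [show 120 = 6 * 20 by norm_num, pow_mul,
        pow_six_two ((cab.symm.mul_right cbc).mul_left (cad.symm.mul_right ccd.symm))
          (mul_sq_or hD hb hd) (mul_sq_or hD ha hc), one_pow]
    rw [show a * b * c * d = d * (a * b * c) from ((cad.mul_left cbd).mul_left ccd).eq]
    exact hpath ha hc hb cab cac (fun h => cbc h.symm) sd cad.symm ccd.symm cbd.symm _ (Or.inl rfl)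
  by_cases cbc : Commute b c
  · rw [cab.eq, show b * a * c * d = b * (a * c * d) by simp only [mul_assoc]]
    exact hpath hc ha hd ccd (fun h => cac h.symm) cad sb cbc cab.symm cbd _ (Or.inr rfl)
  let s : ℕ → G := fun i => match i with
    | 0 => d
    | 1 => a
    | 2 => c
    | _ => b
  have hrels : Cfsg.Agent.Perm.BraidRels s 4 := by
    refine ⟨fun i hi => ?_, fun i hi => ?_, fun i j hij hj => ?_⟩
    · interval_cases i
      exacts [sd, sa, sc, sb]
    · have hi' : i < 3 := by omega
      interval_cases i
      exacts [braid hD hd ha (fun h => cad h.symm), braid hD ha hc cac,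
        braid hD hc hb (fun h => cbc h.symm)]
    · have h1 : i ≤ 1 := by omega
      interval_cases i <;> interval_cases j
      exacts [ccd.symm.eq, cbd.symm.eq, cab.eq]
  obtain ⟨φ, -, hgen⟩ := FixGraph.exists_embed (by norm_num : 4 ≤ 4) hrels
    (show d ≠ c from fun e => cbc (e ▸ cbd))
  have h0 := hgen 0 (by norm_num); have h1 := hgen 1 (by norm_num)
  have h2 := hgen 2 (by norm_num); have h3 := hgen 3 (by norm_num)
  rw [← show φ (Cfsg.Agent.Perm.adjSwap 4 1 * Cfsg.Agent.Perm.adjSwap 4 3 *
      Cfsg.Agent.Perm.adjSwap 4 2 * Cfsg.Agent.Perm.adjSwap 4 0) = a * b * c * d by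
    rw [map_mul, map_mul, map_mul, h0, h1, h2, h3]; rfl, ← map_pow, perm_five_pow, map_one]

end Cfsg.Agent.Transpos
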