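import Cfsg.Agent.Lib.Transpos.M24QuadCount
import Cfsg.Agent.Lib.Transpos.M24Fixed
import Cfsg.Agent.Lib.Transpos.M24Seven
import Cfsg.Agent.Lib.Transpos.PairProd
import Cfsg.Agent.Lib.Transpos.M23Large

/-!
# Subgroups of order 29 in type M(24)

The centraliser of such a subgroup `X` has odd order prime to `5, 7, 11, 13, 17, 23`, the normaliser
meets the outer half of the group, and Sylow's congruence leaves `|N(X)| = 29·28` or `29·3^8·4`.  In
the second case an involution inverting `X` cannot centralise a Sylow 3-subgroup `P` of `C(X)`, so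
transfer in `C(P)` puts `N(P)` inside `N(X)`.
-/

set_option autoImplicit false
set_option linter.style.haveILetI false
set_option linter.unusedSectionVars false

namespace Cfsg.Agent.Transpos.TwentyNine

open Cfsg

universe u

theorem options_i : ∀ e ∈ [2, 4, 14, 28], ∀ i : Fin 17,
    29 * 3 ^ (i : ℕ) * e ∣ 2 ^ 22 * 3 ^ 16 * 5 ^ 2 * 7 ^ 3 * 11 * 13 * 17 * 23 * 29 →
    (2 ^ 22 * 3 ^ 16 * 5 ^ 2 * 7 ^ 3 * 11 * 13 * 17 * 23 * 29) / (29 * 3 ^ (i : ℕ) * e) % 29 = 1 →
    (e = 28 ∧ (i : ℕ) = 0) ∨ (e = 4 ∧ (i : ℕ) = 8) := by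
  decide +kernel

theorem pow_modEq : ∀ r ∈ [2, 3, 5, 7, 11, 13, 17, 23], ∀ a b : Fin 23,
    r ^ (a : ℕ) ∣ 2 ^ 22 * 3 ^ 16 * 5 ^ 2 * 7 ^ 3 * 11 * 13 * 17 * 23 * 29 →
    r ^ (b : ℕ) ∣ 2 ^ 22 * 3 ^ 16 * 5 ^ 2 * 7 ^ 3 * 11 * 13 * 17 * 23 * 29 →
    r ^ (a : ℕ) % 29 = r ^ (b : ℕ) % 29 → a = b := by
  decide +kernel

variable {G : Type u} [Group G] [Finite G] {D : Set G} (H : M24 D)
include H

/-- A factor set of an involution is permuted by what commutes with the involution. -/
theorem conj_mem_factors {l : List G} (hn : l.Nodup) (hlen : l.length ≤ 3) (hD : ∀ x ∈ l, x ∈ D)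
    (hc : ∀ x ∈ l, ∀ y ∈ l, Commute x y) {g : G} (hg : Commute g l.prod) {x : G} (hx : x ∈ l) :
    g * x * g⁻¹ ∈ l := by
  have cD : ∀ {z}, z ∈ D → g * z * g⁻¹ ∈ D := fun hz => H.conj_mem g hz
  have cne : ∀ {z w : G}, z ≠ w → g * z * g⁻¹ ≠ g * w * g⁻¹ := fun h e =>
    h (mul_left_cancel (mul_right_cancel e))
  have cc : ∀ {z w : G}, Commute z w → Commute (g * z * g⁻¹) (g * w * g⁻¹) := fun h =>
    (commute_conj_iff g).2 h
  have hfix : g * l.prod * g⁻¹ = l.prod := mul_inv_eq_iff_eq_mul.2 hg.eq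
  match l, hn, hlen, hD, hc, hg, hx, hfix with
  | [a], _, _, _, _, hg, hx, hfix =>
    simp only [List.prod_cons, List.prod_nil, mul_one] at hfix
    simp only [List.mem_singleton] at hx ⊢
    rw [hx, hfix]
  | [a, b], hn, _, hD, hc, hg, hx, hfix =>
    simp only [List.nodup_cons, List.mem_singleton, List.not_mem_nil, not_false_iff, List.nodup_nil,
      and_true] at hn
    simp only [List.prod_cons, List.prod_nil, mul_one] at hfix
    have ha := hD a (by simp); have hb := hD b (by simp)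
    have cab := hc a (by simp) b (by simp)
    simp only [List.mem_cons, List.not_mem_nil, or_false] at hx ⊢
    have e : (g * a * g⁻¹) * (g * b * g⁻¹) = a * b := by
      calc (g * a * g⁻¹) * (g * b * g⁻¹) = g * (a * b) * g⁻¹ := by group
        _ = a * b := hfix
    rcases hx with rfl | rfl
    · exact mem_of_prod_two H.tr H.noTwin₂ (cD ha) (cD hb) ha hb (cne hn) hn (cc cab) cab e
    · refine (mem_of_prod_two H.tr H.noTwin₂ (cD hb) (cD ha) hb ha (cne (Ne.symm hn)) (Ne.symm hn)
        (cc cab).symm cab.symm ?_).symm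
      rw [← (cc cab).eq, e, cab.eq]
  | [a, b, c], hn, _, hD, hc, hg, hx, hfix =>
    simp only [List.nodup_cons, List.mem_cons, List.not_mem_nil, or_false, not_or, not_false_iff,
      List.nodup_nil, and_true] at hn
    obtain ⟨⟨nab, nac⟩, nbc⟩ := hn
    simp only [List.prod_cons, List.prod_nil, mul_one] at hfix
    rw [← mul_assoc a b c] at hfix
    have ha := hD a (by simp); have hb := hD b (by simp); have hcc := hD c (by simp)
    have cab := hc a (by simp) b (by simp); have cac := hc a (by simp) c (by simp)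
    have cbc := hc b (by simp) c (by simp)
    simp only [List.mem_cons, List.not_mem_nil, or_false] at hx ⊢
    have e : (g * a * g⁻¹) * (g * b * g⁻¹) * (g * c * g⁻¹) = a * b * c := by
      calc (g * a * g⁻¹) * (g * b * g⁻¹) * (g * c * g⁻¹) = g * (a * b * c) * g⁻¹ := by group
        _ = a * b * c := hfix
    have key := fun {p q r : G} (hp : p ∈ D) (hq : q ∈ D) (hr : r ∈ D) (n1 : p ≠ q) (n2 : p ≠ r)
        (n3 : q ≠ r) (c1 : Commute p q) (c2 : Commute p r) (c3 : Commute q r)
        (he : (g * p * g⁻¹) * (g * q * g⁻¹) * (g * r * g⁻¹) = a * b * c) =>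
      mem_of_prod_three H.tr H.noTwin₂ H.noTwin₃ (cD hp) (cD hq) (cD hr) ha hb hcc (cne n1) (cne n2)
        (cne n3) (cc c1) (cc c2) (cc c3) nab nac nbc cab cac cbc he
    rcases hx with rfl | rfl | rfl
    · exact key ha hb hcc nab nac nbc cab cac cbc e
    · refine key hb ha hcc (Ne.symm nab) nbc nac cab.symm cbc cac ?_
      rw [← (cc cab).eq, e]
    · refine key hcc ha hb (Ne.symm nac) (Ne.symm nbc) nab cac.symm cbc.symm cab ?_
      rw [← (cc cac).eq, mul_assoc (g * a * g⁻¹), ← (cc cbc).eq, ← mul_assoc, e]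

/-- The centraliser of three commuting members. -/
theorem card_three {a b c : G} (ha : a ∈ D) (hb : b ∈ Dc D a) (hc : c ∈ Dc (Dc D a) b) :
    Nat.card ↥(Subgroup.centralizer ({a} : Set G) ⊓ Subgroup.centralizer ({b} : Set G) ⊓
      Subgroup.centralizer ({c} : Set G)) = 73574645760 := by
  have h2 := card_eq_orbit_mul
    (Subgroup.centralizer ({a} : Set G) ⊓ Subgroup.centralizer ({b} : Set G)) c (Dc (Dc D a) b)
    (fun k hk => by
      have := (((stab_of_normal H.grp k).carries.dc a).dc b).1 c hc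
      rwa [mul_inv_eq_iff_eq_mul.2 (Subgroup.mem_centralizer_singleton_iff.1 hk.1),
        mul_inv_eq_iff_eq_mul.2 (Subgroup.mem_centralizer_singleton_iff.1 hk.2)] at this)
    fun o ho => by
      obtain ⟨g, g1, g2, g3⟩ := H.conj_triple ha hb hc ha hb ho
      exact ⟨g, ⟨Subgroup.mem_centralizer_singleton_iff.2 (mul_inv_eq_iff_eq_mul.1 g1),
        Subgroup.mem_centralizer_singleton_iff.2 (mul_inv_eq_iff_eq_mul.1 g2)⟩, g3⟩
  rw [show Dc (Dc D a) b = Dc D a ∩ Dc D b from Set.ext fun x =>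
      ⟨fun h => ⟨h.1, h.1.1, h.2⟩, fun h => ⟨h.1, h.2.2.1, h.2.2.2⟩⟩,
    H.ncard_dc_dc ha hb, H.card_two ha hb] at h2
  omega

/-- A subgroup commuting with a product of three commuting members has order dividing six times
the order of the centraliser of the three. -/
theorem card_dvd_three {a b c : G} (ha : a ∈ D) (hb : b ∈ Dc D a) (hc : c ∈ Dc (Dc D a) b)
    {Q : Subgroup G} (hQ : ∀ g ∈ Q, Commute g (a * b * c)) : Nat.card Q ∣ 6 * 73574645760 := by
  classical
  set T := {x | x ∈ [a, b, c]} with hT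
  have hn : [a, b, c].Nodup := by simp [hb.2.1.symm, hc.1.2.1.symm, hc.2.1.symm]
  have hmem : ∀ g ∈ Q, ∀ x ∈ T, g * x * g⁻¹ ∈ T := fun g hg x hx =>
    conj_mem_factors H hn le_rfl (by simp [ha, hb.1, hc.1.1])
      (by simp [hb.2.2, hb.2.2.symm, hc.1.2.2, hc.1.2.2.symm, hc.2.2, hc.2.2.symm])
      (by simpa [mul_assoc] using hQ g hg) hx
  letI : MulAction Q T :=
    { smul := fun g x => ⟨(g : G) * x * (g : G)⁻¹, hmem g g.2 x x.2⟩
      one_smul := fun x => Subtype.ext (show (1 : G) * x * 1⁻¹ = x by group)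
      mul_smul := fun g k x => Subtype.ext
        (show ((g : G) * k) * x * ((g : G) * k)⁻¹ = (g : G) * ((k : G) * x * (k : G)⁻¹) * (g : G)⁻¹
          by group) }
  set π := MulAction.toPermHom Q T
  have h6 : Nat.card π.range ∣ 6 := (Subgroup.card_subgroup_dvd_card _).trans (by
    rw [Nat.card_perm, Nat.card_coe_set_eq, show T = ↑[a, b, c].toFinset by ext; simp [hT],
      Set.ncard_coe_finset, List.toFinset_card_of_nodup hn]
    exact dvd_of_eq rfl)
  have hker : Nat.card π.ker ∣ 73574645760 := by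
    rw [← card_three H ha hb hc, ← Subgroup.card_map_of_injective Q.subtype_injective]
    refine Subgroup.card_dvd_of_le ?_
    rintro _ ⟨y, hy, rfl⟩
    have fix : ∀ {x} (hx : x ∈ T), (y : G) ∈ Subgroup.centralizer ({x} : Set G) := fun hx =>
      Subgroup.mem_centralizer_singleton_iff.2
        (mul_inv_eq_iff_eq_mul.1 (congrArg Subtype.val (Equiv.ext_iff.1 hy ⟨_, hx⟩)))
    exact ⟨⟨fix (by simp [hT]), fix (by simp [hT])⟩, fix (by simp [hT])⟩
  rw [← Subgroup.index_mul_card π.ker, Subgroup.index_ker]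
  exact mul_dvd_mul h6 hker

variable {X : Subgroup G} (hX : Nat.card X = 29)
include hX

theorem pow_29 {x : G} (hx : x ∈ X) : x ^ 29 = 1 :=
  orderOf_dvd_iff_pow_eq_one.1 (hX ▸ Subgroup.orderOf_dvd_natCard X hx)

/-- No member centralises `X`. -/
theorem fx_empty : Fx D X = ∅ :=
  Set.eq_empty_iff_forall_notMem.2 fun a ha => by
    have h := Subgroup.card_dvd_of_le (FixGraph.mem_fx.1 ha).2
    rw [hX, H.card_centralizer_member ha.1] at h
    norm_num at h

/-- An involution commuting with `X` is the product of none. -/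
theorem odd_centralizer (hcls : D.ncard = 306936) :
    ¬ 2 ∣ Nat.card (Subgroup.centralizer (X : Set G)) := by
  intro h2
  haveI : Nonempty D := by
    obtain ⟨d, hd⟩ := Set.nonempty_of_ncard_ne_zero (s := D) (by omega)
    exact ⟨⟨d, hd⟩⟩
  obtain ⟨⟨t, htC⟩, ht⟩ := exists_prime_orderOf_dvd_card' 2 h2
  rw [← Subgroup.orderOf_coe] at ht
  obtain ⟨m, h1, h4, hf⟩ := H.invol_classes.1 t ht
  have hXt : ∀ g ∈ X, Commute g t := fun g hg => Subgroup.mem_centralizer_iff.1 htC g hg
  haveI : Fact (Nat.Prime 29) := ⟨by norm_num⟩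
  by_cases hm : m = 4
  · subst hm
    obtain ⟨p, q, r, s, hp, hq, hr, hs, rfl⟩ := hf.four
    have h := FixGraph.modEq_fx (Fact.out : Nat.Prime 29) hX {x | x ∈ D ∧ Commute x (p * q * r * s)}
      fun g hg x hx => ⟨H.conj_mem g hx.1, by
        have := (commute_conj_iff g).2 hx.2
        rwa [mul_inv_eq_iff_eq_mul.2 (hXt g hg).eq] at this⟩
    rw [H.ncard_fixed_four hcls hp hq hr hs,
      show {x | x ∈ D ∧ Commute x (p * q * r * s)} ∩ (Subgroup.centralizer (X : Set G) : Set G) = ∅ from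
        Set.eq_empty_iff_forall_notMem.2 fun x hx =>
          Set.eq_empty_iff_forall_notMem.1 (fx_empty H hX) x ⟨hx.1.1, hx.2⟩, Set.ncard_empty] at h
    exact absurd h (by decide)
  obtain ⟨l, hn, hlen, hD, hc, hp⟩ := hf
  obtain ⟨a, ha⟩ : ∃ a, a ∈ l := List.exists_mem_of_length_pos (by omega)
  have hmem : ∀ g ∈ X, ∀ x ∈ {x | x ∈ l}, g * x * g⁻¹ ∈ {x | x ∈ l} := fun g hg x hx =>
    conj_mem_factors H hn (by omega) hD hc (hp.symm ▸ hXt g hg) hx
  have h := FixGraph.modEq_fx (Fact.out : Nat.Prime 29) hX {x | x ∈ l} hmem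
  have he : {x | x ∈ l} ∩ (Subgroup.centralizer (X : Set G) : Set G) = ∅ :=
    Set.eq_empty_iff_forall_notMem.2 fun x hx =>
      Set.eq_empty_iff_forall_notMem.1 (fx_empty H hX) x ⟨hD x hx.1, hx.2⟩
  rw [he, Set.ncard_empty] at h
  have h3 : {x | x ∈ l}.ncard ≤ 3 := by
    classical
    rw [show {x | x ∈ l} = ↑l.toFinset by ext; simp, Set.ncard_coe_finset]
    exact (List.toFinset_card_le _).trans (by omega)
  have h0 : 0 < {x | x ∈ l}.ncard := (Set.ncard_pos (Set.toFinite _)).2 ⟨a, ha⟩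
  have h29 : 29 ∣ {x | x ∈ l}.ncard := Nat.modEq_zero_iff_dvd.1 h
  have := Nat.le_of_dvd h0 h29
  omega

/-- A subgroup centralising `X` fixes a multiple of 29 members. -/
theorem dvd_fx {Y : Subgroup G} (hY : Y ≤ Subgroup.centralizer (X : Set G)) :
    29 ∣ (Fx D Y).ncard := by
  have hXY : X ≤ Subgroup.centralizer (Y : Set G) := fun x hx => Subgroup.mem_centralizer_iff.2
    fun y hy => (Subgroup.mem_centralizer_iff.1 (hY hy) x hx).symm
  have h := FixGraph.modEq_fx (by norm_num : Nat.Prime 29) hX (Fx D Y) fun x hx s hs =>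
    ⟨H.conj_mem x hs.1, mul_mem (mul_mem (hXY hx) hs.2) (inv_mem (hXY hx))⟩
  have he : Fx D Y ∩ (Subgroup.centralizer (X : Set G) : Set G) = ∅ :=
    Set.eq_empty_iff_forall_notMem.2 fun a ha =>
      Set.eq_empty_iff_forall_notMem.1 (fx_empty H hX) a ⟨ha.1.1, ha.2⟩
  rw [he, Set.ncard_empty] at h
  exact Nat.modEq_zero_iff_dvd.1 h

/-- An involution inverting `X` centralises no subgroup of order `3 ^ 8`. -/
theorem false_of_inverts (hcls : D.ncard = 306936) {t x : G} (ht : orderOf t = 2) (hxX : x ∈ X)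
    (hx1 : x ≠ 1) (hinv : t * x * t⁻¹ = x⁻¹) {P : Subgroup G} (hP : Nat.card P = 3 ^ 8)
    (hPt : ∀ g ∈ P, Commute g t) : False := by
  haveI : Nonempty D := by
    obtain ⟨d, hd⟩ := Set.nonempty_of_ncard_ne_zero (s := D) (by omega)
    exact ⟨⟨d, hd⟩⟩
  have htt : t * t = 1 := by rw [← pow_two, ← ht]; exact pow_orderOf_eq_one t
  have hti : t⁻¹ = t := inv_eq_of_mul_eq_one_right htt
  -- the product of `t` and its conjugate by `x` is a nontrivial power of `x`
  have hprod : t * (x * t * x⁻¹) = x⁻¹ * x⁻¹ := by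
    rw [← mul_assoc, ← mul_assoc]
    nth_rewrite 2 [← hti]
    rw [hinv]
  have small : ∀ {n : ℕ}, ¬ 29 ∣ 2 * n → (t * (x * t * x⁻¹)) ^ n ≠ 1 := by
    intro n hn h
    rw [hprod, ← mul_inv_rev, inv_pow, inv_eq_one, ← pow_two, ← pow_mul] at h
    have hd := orderOf_dvd_iff_pow_eq_one.2 h
    rw [orderOf_eq_prime (p := 29) (hp := ⟨by norm_num⟩) (pow_29 H hX hxX) hx1] at hd
    exact hn hd
  obtain ⟨m, h1, h4, hf⟩ := H.invol_classes.1 t ht
  interval_cases m
  · rcases mul_sq_or H.grp.1 hf.one (H.conj_mem x hf.one) with h | h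
    · exact small (n := 2) (by norm_num) (by rw [pow_two]; exact h)
    · exact small (n := 3) (by norm_num) h
  · obtain ⟨a, b, ha, hb, rfl⟩ := hf.two
    refine small (n := 120) (by norm_num) ?_
    rw [show x * (a * b) * x⁻¹ = (x * a * x⁻¹) * (x * b * x⁻¹) from conj_mul.symm, ← mul_assoc]
    exact pairProd_pow H.grp.1 H.grp.2.1 ha hb.1 (H.conj_mem x ha) (H.conj_mem x hb.1) hb.2.2
      ((commute_conj_iff x).2 hb.2.2)
  · obtain ⟨a, b, c, ha, hb, hc, rfl⟩ := hf.three
    have h := card_dvd_three H ha hb hc hPt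
    rw [hP] at h
    norm_num at h
  · obtain ⟨p, q, r, s, hp, hq, hr, hs, rfl⟩ := hf.four
    have := H.three_part_four hcls hp hq hr hs hP hPt
    omega

variable (hprim : IsPrimitiveUnderConj D) (h24 : IsOfTypeM24 G D)
include hprim h24

/-- A subgroup normalised into its centraliser by `X` alone lies in it. -/
theorem le_centralizer_of_inf {M : Subgroup G} (hXM : X ≤ M)
    (hnorm : M ⊓ Subgroup.normalizer (X : Set G) ≤ Subgroup.centralizer (X : Set G)) :
    M ≤ Subgroup.centralizer (X : Set G) := by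
  classical
  haveI : Fact (Nat.Prime 29) := ⟨by norm_num⟩
  have hG := H.card_group hprim h24
  have h29 : ¬ 29 * 29 ∣ Nat.card G := by rw [hG]; norm_num
  obtain ⟨S, hS⟩ := exists_sylow_eq (G := ↥M) (p := 29) (fun h => h29 (by
      rw [← pow_two]; exact h.trans (Subgroup.card_subgroup_dvd_card M)))
    (X := X.subgroupOf M) (by rw [Nat.card_congr (Subgroup.subgroupOfEquivOfLe hXM).toEquiv, hX])
  have hSnc : Subgroup.normalizer ((S : Subgroup ↥M) : Set ↥M) ≤
      Subgroup.centralizer ((S : Subgroup ↥M) : Set ↥M) := by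
    intro g hg
    rw [hS] at hg ⊢
    have hgN : (g : G) ∈ Subgroup.normalizer (X : Set G) := by
      refine FixGraph.mem_normalizer fun x hx => ?_
      exact Subgroup.mem_subgroupOf.1 ((Subgroup.mem_normalizer_iff.1 hg ⟨x, hXM hx⟩).1 hx)
    have hgC := hnorm ⟨g.2, hgN⟩
    exact Subgroup.mem_centralizer_iff.2 fun y hy =>
      Subtype.ext (Subgroup.mem_centralizer_iff.1 hgC (y : G) hy)
  set K := (MonoidHom.transferSylow S hSnc).ker with hK
  have hKX : K.map M.subtype ≤ Subgroup.centralizer (X : Set G) := by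
    have hKn : K.Normal := MonoidHom.normal_ker _
    have hnd : ¬ 29 ∣ Nat.card K := MonoidHom.not_dvd_card_ker_transferSylow S hSnc
    set Z := K.map M.subtype with hZ
    have hZc : Nat.card Z = Nat.card K := Subgroup.card_map_of_injective M.subtype_injective
    have hXZ : ∀ x ∈ X, ∀ z ∈ Z, x * z * x⁻¹ ∈ Z := by
      rintro x hx _ ⟨z, hz, rfl⟩
      exact ⟨_, hKn.conj_mem z hz ⟨x, hXM hx⟩, rfl⟩
    have hfix : ∀ r k : ℕ, r.Prime → r ^ k ∣ Nat.card K →
        r ^ k ∣ Nat.card ↥(Z ⊓ Subgroup.centralizer (X : Set G)) := by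
      intro r k hr hrk
      haveI := Fact.mk hr
      letI : MulDistribMulAction X Z :=
        { smul := fun x z => ⟨(x : G) * z * (x : G)⁻¹, hXZ x x.2 z z.2⟩
          one_smul := fun z => Subtype.ext (show (1 : G) * z * 1⁻¹ = z by group)
          mul_smul := fun x y z => Subtype.ext
            (show ((x : G) * y) * z * ((x : G) * y)⁻¹ = (x : G) * ((y : G) * z * (y : G)⁻¹) * (x : G)⁻¹
              by group)
          smul_mul := fun x z w => Subtype.ext
            (show (x : G) * ((z : G) * w) * (x : G)⁻¹ =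
              (x : G) * z * (x : G)⁻¹ * ((x : G) * w * (x : G)⁻¹) by group)
          smul_one := fun x => Subtype.ext (show (x : G) * 1 * (x : G)⁻¹ = 1 by group) }
      have hpg : IsPGroup 29 X := IsPGroup.of_card (n := 1) (by rw [hX, pow_one])
      obtain ⟨R, hR⟩ := hpg.nonempty_fixed_point_of_prime_not_dvd_card (Sylow r Z) (fun h =>
        hnd (hZc ▸ h.trans (Sylow.card_dvd_index (default : Sylow r Z) |>.trans
          (Subgroup.index_dvd_card _))))
      have hRinv : ∀ x : X, ∀ z ∈ (R : Subgroup Z), x • z ∈ (R : Subgroup Z) := fun x z hz => by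
        have h1 : (x • R : Sylow r Z) = R := hR x
        rw [← h1, Sylow.pointwise_smul_def]
        exact Subgroup.smul_mem_pointwise_smul z x _ hz
      letI : MulAction X ↥(R : Subgroup Z) :=
        { smul := fun x z => ⟨x • (z : Z), hRinv x z z.2⟩
          one_smul := fun z => Subtype.ext (one_smul X (z : Z))
          mul_smul := fun x y z => Subtype.ext (mul_smul x y (z : Z)) }
      have hmod := hpg.card_modEq_card_fixedPoints ↥(R : Subgroup Z)
      set RC := ((R : Subgroup Z).map Z.subtype) ⊓ Subgroup.centralizer (X : Set G) with hRC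
      have hfp : Nat.card (MulAction.fixedPoints X ↥(R : Subgroup Z)) = Nat.card RC := by
        refine Nat.card_congr
          { toFun := fun z => ⟨((z.1 : Z) : G), ⟨(z.1 : Z), z.1.2, rfl⟩,
              Subgroup.mem_centralizer_iff.2 fun x hx => mul_inv_eq_iff_eq_mul.1
                (congrArg (fun w : ↥(R : Subgroup Z) => ((w : Z) : G)) (z.2 ⟨x, hx⟩))⟩
            invFun := fun z => ⟨⟨⟨z.1, (by obtain ⟨w, hw, e⟩ := z.2.1; exact e ▸ w.2)⟩,
              (by obtain ⟨w, hw, e⟩ := z.2.1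
                  exact (show w = ⟨z.1, _⟩ from Subtype.ext e) ▸ hw)⟩,
              fun x => Subtype.ext (Subtype.ext (mul_inv_eq_iff_eq_mul.2
                (Subgroup.mem_centralizer_iff.1 z.2.2 x x.2)))⟩
            left_inv := fun _ => rfl
            right_inv := fun _ => rfl }
      obtain ⟨a, ha⟩ := IsPGroup.iff_card.1 R.isPGroup'
      have hRCle : RC ≤ (R : Subgroup Z).map Z.subtype := inf_le_left
      have hRmap : Nat.card ((R : Subgroup Z).map Z.subtype) = r ^ a :=
        (Subgroup.card_map_of_injective Z.subtype_injective).trans ha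
      obtain ⟨b, hb, hb'⟩ := (Nat.dvd_prime_pow hr).1 (hRmap ▸ Subgroup.card_dvd_of_le hRCle)
      rw [hfp, hb', ha] at hmod
      have hrkR : r ^ k ∣ r ^ a := ha ▸ Sylow.pow_dvd_card_of_pow_dvd_card R (hZc ▸ hrk)
      rcases Nat.eq_zero_or_pos a with rfl | ha0
      · rw [pow_zero, Nat.dvd_one] at hrkR
        rw [hrkR]
        exact one_dvd _
      have hraK : r ^ a ∣ Nat.card K :=
        ha ▸ hZc ▸ Subgroup.card_subgroup_dvd_card _
      have hG' : r ^ a ∣ 2 ^ 22 * 3 ^ 16 * 5 ^ 2 * 7 ^ 3 * 11 * 13 * 17 * 23 * 29 :=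
        hG ▸ hraK.trans ((Subgroup.card_subgroup_dvd_card K).trans (Subgroup.card_subgroup_dvd_card M))
      have hr29 : r ≠ 29 := fun h => hnd (h ▸ (dvd_pow_self r ha0.ne').trans hraK)
      have hrl : r ∈ [2, 3, 5, 7, 11, 13, 17, 23] := by
        have hd := (dvd_pow_self r ha0.ne').trans hG'
        simp only [Nat.Prime.dvd_mul hr] at hd
        have eq : ∀ {q k : ℕ}, q.Prime → r ∣ q ^ k → r = q := fun hq h =>
          (Nat.prime_dvd_prime_iff_eq hr hq).1 (hr.dvd_of_dvd_pow h)
        have eq' : ∀ {q : ℕ}, q.Prime → r ∣ q → r = q := fun hq h =>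
          (Nat.prime_dvd_prime_iff_eq hr hq).1 h
        rcases hd with (((((((h | h) | h) | h) | h) | h) | h) | h) | h
        · simp [eq Nat.prime_two h]
        · simp [eq Nat.prime_three h]
        · simp [eq (by norm_num) h]
        · simp [eq (by norm_num) h]
        · simp [eq' (by norm_num) h]
        · simp [eq' (by norm_num) h]
        · simp [eq' (by norm_num) h]
        · simp [eq' (by norm_num) h]
        · exact absurd (eq' (by norm_num) h) hr29
      have hbound : ∀ r ∈ [2, 3, 5, 7, 11, 13, 17, 23],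
          ¬ r ^ 23 ∣ 2 ^ 22 * 3 ^ 16 * 5 ^ 2 * 7 ^ 3 * 11 * 13 * 17 * 23 * 29 := by decide +kernel
      have ha23 : a < 23 := by
        by_contra hge
        exact hbound r hrl ((pow_dvd_pow r (not_lt.1 hge)).trans hG')
      have hab := pow_modEq r hrl ⟨a, ha23⟩ ⟨b, by omega⟩ hG' ((pow_dvd_pow r hb).trans hG') hmod
      have hab' : a = b := congrArg Fin.val hab
      refine hrkR.trans (hab'.symm ▸ hb' ▸ Subgroup.card_dvd_of_le ?_)
      exact inf_le_inf_right _ (Subgroup.map_subtype_le _)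
    have hdvd : Nat.card Z ∣ Nat.card ↥(Z ⊓ Subgroup.centralizer (X : Set G)) :=
      (Nat.dvd_iff_prime_pow_dvd_dvd _ _).2 fun r k hr h => hfix r k hr (hZc ▸ h)
    exact inf_eq_left.1 (Subgroup.eq_of_le_of_card_ge inf_le_left
      (Nat.le_of_dvd Nat.card_pos hdvd))
  have h := (MonoidHom.ker_transferSylow_isComplement' S hSnc).sup_eq_top
  intro y hy
  have hle : (⊤ : Subgroup ↥M) ≤ (Subgroup.centralizer (X : Set G)).subgroupOf M := by
    rw [← h, sup_le_iff]
    refine ⟨fun z hz => hKX ⟨z, hz, rfl⟩, fun z hz => ?_⟩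
    rw [hS] at hz
    haveI : IsCyclic X := isCyclic_of_prime_card hX
    exact Subgroup.mem_centralizer_iff.2 fun w hw => congrArg Subtype.val
      ((IsCyclic.isMulCommutative (α := X)).is_comm.comm (⟨w, hw⟩ : X) ⟨(z : G), hz⟩)
  exact hle (Subgroup.mem_top ⟨y, hy⟩)

omit hX in
/-- A sign makes the normaliser have even index over the centraliser of odd order. -/
theorem two_dvd_normalizer (hX : Nat.card X = 29) (hsign : ∃ χ : G →* ℤˣ, ∀ d ∈ D, χ d = -1) :
    2 ∣ Nat.card (Subgroup.normalizer (X : Set G)) := by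
  obtain ⟨χ, hχ⟩ := hsign
  haveI : Fact (Nat.Prime 29) := ⟨by norm_num⟩
  have hG := H.card_group hprim h24
  have hXL : X ≤ χ.ker := fun x hx => by
    have h29 : χ x ^ 29 = 1 := by rw [← map_pow, pow_29 H hX hx, map_one]
    rcases Int.units_eq_one_or (χ x) with h | h
    · exact h
    · rw [h] at h29; exact absurd h29 (by decide)
  obtain ⟨d, hd, -⟩ := hprim.2.1
  obtain ⟨S, hS⟩ := exists_sylow_eq (G := ↥χ.ker) (p := 29) (fun h => by
      have := h.trans (Subgroup.card_subgroup_dvd_card χ.ker)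
      rw [hG] at this
      norm_num at this)
    (X := X.subgroupOf χ.ker) (by rw [Nat.card_congr (Subgroup.subgroupOfEquivOfLe hXL).toEquiv, hX])
  have hsup := Sylow.normalizer_sup_eq_top S
  have hmap : (S : Subgroup χ.ker).map χ.ker.subtype = X := by
    rw [hS, Subgroup.map_subgroupOf_eq_of_le hXL]
  rw [hmap] at hsup
  have hdtop : d ∈ Subgroup.normalizer (X : Set G) ⊔ χ.ker := hsup ▸ Subgroup.mem_top d
  rw [Subgroup.mem_sup_of_normal_right] at hdtop
  obtain ⟨n, hn, k, hk, e⟩ := hdtop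
  have hnv : χ n = -1 := by
    rw [← hχ d hd, ← e, map_mul, show χ k = 1 from hk, mul_one]
  by_contra h2
  have hord : orderOf n ∣ Nat.card (Subgroup.normalizer (X : Set G)) :=
    Subgroup.orderOf_dvd_natCard _ hn
  have h1 : χ n ^ orderOf n = 1 := by rw [← map_pow, pow_orderOf_eq_one, map_one]
  rw [hnv] at h1
  have : Odd (orderOf n) := Nat.not_even_iff_odd.1 fun he => h2 ((even_iff_two_dvd.1 he).trans hord)
  rw [this.neg_one_pow] at h1
  exact absurd h1 (by decide)

/-- The normaliser and centraliser of a subgroup of order 29. -/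
theorem twentynine (hsign : ∃ χ : G →* ℤˣ, ∀ d ∈ D, χ d = -1)
    (hpure : ∀ Y : Subgroup G, Nat.card Y = 7 → Fx D Y = ∅ →
      ¬ 29 ∣ Nat.card (Subgroup.centralizer (Y : Set G))) :
    Nat.card ↥(Subgroup.normalizer (X : Set G)) = 29 * 28 ∧
      Subgroup.centralizer (X : Set G) = X := by
  classical
  haveI : Fact (Nat.Prime 29) := ⟨by norm_num⟩
  haveI : Fact (Nat.Prime 3) := ⟨Nat.prime_three⟩
  have hG := H.card_group hprim h24
  have hcls := H.ncard_class hprim h24
  have h29 : ¬ 29 * 29 ∣ Nat.card G := by rw [hG]; norm_num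
  set C := Subgroup.centralizer (X : Set G) with hCdef
  have hXC : X ≤ C := fun x hx => Subgroup.mem_centralizer_iff.2 fun y hy => by
    haveI : IsCyclic X := isCyclic_of_prime_card hX
    exact congrArg Subtype.val
      ((IsCyclic.isMulCommutative (α := X)).is_comm.comm (⟨y, hy⟩ : X) ⟨x, hx⟩)
  have h2 := odd_centralizer H hX hcls
  have no : ∀ (q : ℕ) [Fact q.Prime], q ∈ [5, 7, 11, 13, 17, 23] → ¬ q ∣ Nat.card C := by
    intro q _ hq hdvd
    obtain ⟨⟨y, hy⟩, ho⟩ := exists_prime_orderOf_dvd_card' q hdvd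
    rw [← Subgroup.orderOf_coe] at ho
    set Y := Subgroup.zpowers y
    have hYc : Nat.card Y = q := by rw [Nat.card_zpowers, ho]
    have hYC : Y ≤ C := Subgroup.zpowers_le.2 hy
    have h := dvd_fx H hX hYC
    simp only [List.mem_cons, List.not_mem_nil, or_false] at hq
    rcases hq with rfl | rfl | rfl | rfl | rfl | rfl
    · exact H.not_dvd_five hprim h24 hYc h
    · rcases Set.eq_empty_or_nonempty (Fx D Y) with he | hne
      · refine hpure Y hYc he (hX ▸ Subgroup.card_dvd_of_le fun x hx => ?_)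
        exact Subgroup.mem_centralizer_iff.2 fun z hz =>
          (Subgroup.mem_centralizer_iff.1 (hYC hz) x hx).symm
      · rw [M24Seven.ncard_fx H hprim h24 hYc hne] at h
        norm_num at h
    · exact H.not_dvd_eleven hprim h24 hYc h
    · exact H.not_dvd_thirteen hprim h24 hYc h
    · exact H.not_dvd_large hprim h24 (Or.inl rfl) hYc h
    · exact H.not_dvd_large hprim h24 (Or.inr rfl) hYc h
  have hCd : Nat.card C ∣ 2 ^ 22 * (5 ^ 2 * (7 ^ 3 * (11 * (13 * (17 * (23 * (3 ^ 16 * 29))))))) := by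
    refine (Subgroup.card_subgroup_dvd_card C).trans (dvd_of_eq ?_)
    rw [hG]; norm_num
  have cop : ∀ (q : ℕ) [Fact q.Prime], ¬ q ∣ Nat.card C → ∀ k, Nat.Coprime (Nat.card C) (q ^ k) :=
    fun q _ hn k => (((Fact.out : q.Prime).coprime_iff_not_dvd.2 hn).symm).pow_right k
  haveI : Fact (Nat.Prime 5) := ⟨by norm_num⟩
  haveI : Fact (Nat.Prime 7) := ⟨by norm_num⟩
  haveI : Fact (Nat.Prime 11) := ⟨by norm_num⟩
  haveI : Fact (Nat.Prime 13) := ⟨by norm_num⟩
  haveI : Fact (Nat.Prime 17) := ⟨by norm_num⟩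
  haveI : Fact (Nat.Prime 23) := ⟨by norm_num⟩
  have c11 := cop 11 (no 11 (by simp)) 1; have c13 := cop 13 (no 13 (by simp)) 1
  have c17 := cop 17 (no 17 (by simp)) 1; have c23 := cop 23 (no 23 (by simp)) 1
  rw [pow_one] at c11 c13 c17 c23
  replace hCd := c23.dvd_of_dvd_mul_left (c17.dvd_of_dvd_mul_left (c13.dvd_of_dvd_mul_left
    (c11.dvd_of_dvd_mul_left ((cop 7 (no 7 (by simp)) 3).dvd_of_dvd_mul_left
      ((cop 5 (no 5 (by simp)) 2).dvd_of_dvd_mul_left ((cop 2 h2 22).dvd_of_dvd_mul_left hCd))))))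
  obtain ⟨m₁, m₂, hm₁, hm₂, hCm⟩ := exists_dvd_and_dvd_of_dvd_mul hCd
  obtain ⟨i, hi, rfl⟩ := (Nat.dvd_prime_pow Nat.prime_three).1 hm₁
  obtain rfl : m₂ = 29 := by
    rcases (Nat.dvd_prime (by norm_num : Nat.Prime 29)).1 hm₂ with rfl | rfl
    · exfalso
      have h := hX ▸ Subgroup.card_dvd_of_le hXC
      rw [hCm, mul_one] at h
      exact absurd ((by norm_num : Nat.Prime 29).dvd_of_dvd_pow h) (by norm_num)
    · rfl
  obtain ⟨e, he, hN, hmod⟩ := normalizer_data (p := 29) (by rw [pow_two]; exact h29) hX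
  have hN2 := two_dvd_normalizer H hprim h24 hX hsign
  rw [hN] at hN2
  have he2 : 2 ∣ e := (Nat.prime_two.dvd_mul.1 hN2).resolve_left h2
  have hel : e ∈ [2, 4, 14, 28] := by
    have h28 : e ≤ 28 := Nat.le_of_dvd (by norm_num) (by simpa using he)
    interval_cases e <;> simp_all
  have hd := Subgroup.card_subgroup_dvd_card (Subgroup.normalizer (X : Set G))
  rw [hN, ← hCdef, hCm, hG, mul_comm (3 ^ i) 29] at hd
  rw [hN, ← hCdef, hCm, hG, mul_comm (3 ^ i) 29] at hmod
  rcases options_i e hel ⟨i, by omega⟩ hd hmod with ⟨rfl, h0⟩ | ⟨rfl, h8⟩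
  · replace h0 : i = 0 := h0
    subst h0
    refine ⟨by rw [hN, ← hCdef, hCm]; norm_num, (Subgroup.eq_of_le_of_card_ge hXC ?_).symm⟩
    rw [hCm, hX]; norm_num
  -- the remaining case
  exfalso
  replace h8 : i = 8 := h8
  subst h8
  obtain ⟨P', hP'⟩ := Sylow.exists_subgroup_card_pow_prime (G := ↥C) 3 (n := 8)
    (hCm ▸ dvd_mul_right _ _)
  set P := P'.map C.subtype with hPdef
  have hP : Nat.card P = 3 ^ 8 := by
    rw [hPdef, Subgroup.card_map_of_injective (Subgroup.subtype_injective _), hP']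
  have hPC : P ≤ C := Subgroup.map_subtype_le _
  set M := Subgroup.centralizer (P : Set G) with hMdef
  have hXM : X ≤ M := fun x hx => Subgroup.mem_centralizer_iff.2 fun g hg =>
    (Subgroup.mem_centralizer_iff.1 (hPC hg) x hx).symm
  have hAodd : ¬ 2 ∣ Nat.card ↥(M ⊓ Subgroup.normalizer (X : Set G)) := by
    intro h
    obtain ⟨⟨t, htM, htN⟩, ht⟩ := exists_prime_orderOf_dvd_card' 2 h
    rw [← Subgroup.orderOf_coe] at ht
    replace ht : orderOf t = 2 := ht
    have htC : t ∉ C := fun htC => h2 (ht ▸ Subgroup.orderOf_dvd_natCard C htC)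
    obtain ⟨⟨x, hxX⟩, hx29⟩ := exists_prime_orderOf_dvd_card' (G := X) 29 (by rw [hX])
    rw [← Subgroup.orderOf_coe] at hx29
    replace hx29 : orderOf x = 29 := hx29
    have hx1 : x ≠ 1 := fun h => by rw [h, orderOf_one] at hx29; norm_num at hx29
    have htt : t * t = 1 := by rw [← pow_two, ← ht]; exact pow_orderOf_eq_one t
    have hti : t⁻¹ = t := inv_eq_of_mul_eq_one_right htt
    have hyX : t * x * t⁻¹ ∈ X := FixGraph.conj_mem_of_normalizer htN hxX
    -- `t` inverts `x`
    have hinv : t * x * t⁻¹ = x⁻¹ := by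
      by_contra hne
      set z := x * (t * x * t⁻¹) with hz
      have hzX : z ∈ X := mul_mem hxX hyX
      have hz1 : z ≠ 1 := fun e => hne (eq_inv_of_mul_eq_one_right e)
      haveI : IsCyclic X := isCyclic_of_prime_card hX
      have hxy : Commute x (t * x * t⁻¹) := congrArg Subtype.val
        ((IsCyclic.isMulCommutative (α := X)).is_comm.comm (⟨x, hxX⟩ : X) ⟨_, hyX⟩)
      have htz : Commute t z := by
        refine mul_inv_eq_iff_eq_mul.1 ?_
        have hcc : t * (t * x * t⁻¹) * t⁻¹ = x := by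
          rw [hti, show t * (t * x * t) * t = (t * t) * x * (t * t) by simp only [mul_assoc], htt,
            one_mul, mul_one]
        rw [hz, show t * (x * (t * x * t⁻¹)) * t⁻¹ = t * x * t⁻¹ * (t * (t * x * t⁻¹) * t⁻¹) by group,
          hcc, hxy.eq]
      refine htC (Subgroup.mem_centralizer_iff.2 fun w hw => ?_)
      have hgen : X ≤ Subgroup.zpowers z := by
        refine (Subgroup.eq_of_le_of_card_ge (Subgroup.zpowers_le.2 hzX) ?_).ge
        rw [hX, Nat.card_zpowers, orderOf_eq_prime (p := 29) (pow_29 H hX hzX) hz1]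
      obtain ⟨k, rfl⟩ := Subgroup.mem_zpowers_iff.1 (hgen hw)
      exact (htz.zpow_right k).symm.eq
    exact false_of_inverts H hX hcls ht hxX hx1 hinv hP fun g hg =>
      Subgroup.mem_centralizer_iff.1 htM g hg
  have hnorm : M ⊓ Subgroup.normalizer (X : Set G) ≤ C := by
    have := Large23.inf_normalizer_le (M := M ⊓ Subgroup.normalizer (X : Set G)) hN
      ((Nat.prime_two.coprime_iff_not_dvd.2 hAodd).pow_left 2)
    rwa [inf_assoc, inf_idem] at this
  have hMC := le_centralizer_of_inf H hX hprim h24 hXM hnorm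
  have hNP : Subgroup.normalizer (P : Set G) ≤ Subgroup.normalizer (X : Set G) := by
    intro g hg
    refine FixGraph.mem_normalizer fun x hx => ?_
    have hYC : X.map (MulAut.conj g).toMonoidHom ≤ C := by
      rintro _ ⟨z, hz, rfl⟩
      exact hMC (Seven.mem_centralizer_of_conj hg (hXM hz))
    obtain ⟨k, hk, hkx⟩ := FixGraph.exists_conj_subgroup (G := G) (Fact.out : Nat.Prime 29)
      (C := C) (fun h => h29 (h.trans (Subgroup.card_subgroup_dvd_card _))) hYC hXC
      ((Subgroup.card_map_of_injective (MulAut.conj g).injective).trans hX) hX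
    have hk' := hkx _ ⟨x, hx, rfl⟩
    have e : k * (g * x * g⁻¹) * k⁻¹ * k = k * (k * (g * x * g⁻¹) * k⁻¹) :=
      Subgroup.mem_centralizer_iff.1 hk _ hk'
    rw [inv_mul_cancel_right] at e
    rw [mul_left_cancel e]
    exact hk'
  have h3 := (Sylow.prime_pow_dvd_card_normalizer (p := 3) (n := 8)
    (by rw [hG]; norm_num) hP).trans (Subgroup.card_dvd_of_le hNP)
  rw [hN, ← hCdef, hCm] at h3
  norm_num at h3

end Cfsg.Agent.Transpos.TwentyNine
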