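import Cfsg.Agent.Lib.Transpos.M24SevenSylow
import Cfsg.Agent.Lib.Transpos.M24SevenInvol
import Cfsg.Agent.Lib.Transpos.M24TwentyNine
import Cfsg.Agent.S3993

/-!
# The centraliser of a pure subgroup of order seven in type M(24)

It has no element of order 29: its 2-part is at most `2 ^ 16`, as some member has a non-commuting
translate, and Frobenius' theorem for `343` gives the order of the class of `s` modulo 343.
-/

set_option autoImplicit false
set_option linter.style.haveILetI false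
set_option linter.unusedSectionVars false

namespace Cfsg.Agent.Transpos.SevenPure

open Cfsg

universe u

theorem options : ∀ a b : Fin 17, ∀ c : Fin 4,
    2 ^ (a : ℕ) * 3 ^ (b : ℕ) * 7 ^ (c : ℕ) * 29 ∣
      2 ^ 22 * 3 ^ 16 * 5 ^ 2 * 7 ^ 3 * 11 * 13 * 17 * 23 * 29 →
    ¬ 343 ∣ 1 + (2 ^ 22 * 3 ^ 16 * 5 ^ 2 * 7 ^ 3 * 11 * 13 * 17 * 23 * 29) / 35280 +
      (2 ^ 22 * 3 ^ 16 * 5 ^ 2 * 7 ^ 3 * 11 * 13 * 17 * 23 * 29) /
        (2 ^ (a : ℕ) * 3 ^ (b : ℕ) * 7 ^ (c : ℕ) * 29) := by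
  decide +kernel

variable {G : Type u} [Group G] [Finite G] {D : Set G} (H : M24 D)
  (hprim : IsPrimitiveUnderConj D) (h24 : IsOfTypeM24 G D)
  (hsign : ∃ χ : G →* ℤˣ, ∀ d ∈ D, χ d = -1)
include H hprim h24 hsign

/-- Some translate of a member does not commute with it. -/
theorem exists_translate {y a : G} (hy : orderOf y = 7) (hpure : Fx D (Subgroup.zpowers y) = ∅)
    (ha : a ∈ D) : ∃ k : ℕ, ¬ Commute a (y ^ k * a * (y ^ k)⁻¹) := by
  by_contra hall
  push Not at hall
  obtain ⟨χ, hχ⟩ := hsign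
  haveI : Nonempty D := ⟨⟨a, ha⟩⟩
  haveI : Fact (Nat.Prime 7) := ⟨by norm_num⟩
  have haa := sq_one H.grp.1 ha
  have htr : ∀ i j : ℕ, Commute (y ^ i * a * (y ^ i)⁻¹) (y ^ j * a * (y ^ j)⁻¹) := by
    intro i j
    wlog hij : i ≤ j generalizing i j
    · exact (this j i (le_of_not_ge hij)).symm
    obtain ⟨k, rfl⟩ := Nat.exists_eq_add_of_le hij
    rw [pow_add, show y ^ i * y ^ k * a * (y ^ i * y ^ k)⁻¹ = y ^ i * (y ^ k * a * (y ^ k)⁻¹) * (y ^ i)⁻¹
      by group]
    exact (commute_conj_iff _).2 (hall k)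
  have key : ∀ n : ℕ, (a * y) ^ n * (y ^ n)⁻¹ * ((a * y) ^ n * (y ^ n)⁻¹) = 1 ∧
      ∀ j, Commute (y ^ j * a * (y ^ j)⁻¹) ((a * y) ^ n * (y ^ n)⁻¹) := by
    intro n
    induction n with
    | zero => simp
    | succ n ih =>
      have e : (a * y) ^ (n + 1) * (y ^ (n + 1))⁻¹ =
          (a * y) ^ n * (y ^ n)⁻¹ * (y ^ n * a * (y ^ n)⁻¹) := by
        rw [pow_succ, pow_succ]; group
      refine ⟨?_, fun j => by rw [e]; exact (ih.2 j).mul_right (htr j n)⟩
      rw [e, mul_assoc ((a * y) ^ n * (y ^ n)⁻¹), ← mul_assoc (y ^ n * a * (y ^ n)⁻¹), (ih.2 n).eq,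
        mul_assoc ((a * y) ^ n * (y ^ n)⁻¹) (y ^ n * a * (y ^ n)⁻¹) (y ^ n * a * (y ^ n)⁻¹),
        show y ^ n * a * (y ^ n)⁻¹ * (y ^ n * a * (y ^ n)⁻¹) = y ^ n * (a * a) * (y ^ n)⁻¹ by group,
        haa, mul_one, mul_inv_cancel, mul_one, ih.1]
  set p := (a * y) ^ 7 * (y ^ 7)⁻¹ with hp
  have hy7 : y ^ 7 = 1 := by rw [← hy]; exact pow_orderOf_eq_one y
  have hpy : Commute p y := by
    have h1 : Commute p (a * y) := by
      rw [hp, hy7, inv_one, mul_one]; exact (Commute.refl _).pow_left 7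
    have h2 : Commute p a := by
      have := ((key 7).2 0).symm
      simpa using this
    have h3 := h2.mul_right h1
    rwa [← mul_assoc, haa, one_mul] at h3
  have hχy : χ y = 1 := by
    have h7 : χ y ^ 7 = 1 := by rw [← map_pow, hy7, map_one]
    rcases Int.units_eq_one_or (χ y) with h | h
    · exact h
    · rw [h] at h7; exact absurd h7 (by decide)
  have hχp : χ p = -1 := by
    rw [hp, hy7, inv_one, mul_one, map_pow, map_mul, hχ a ha, hχy, mul_one]; decide
  have hp2 : orderOf p = 2 := orderOf_eq_prime (by rw [pow_two]; exact (key 7).1) fun h => by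
    rw [h, map_one] at hχp; exact absurd hχp (by decide)
  obtain ⟨m, h1, h4, hf⟩ := H.invol_classes.1 p hp2
  obtain ⟨l, hn, hlen, hD, hc, hprod⟩ := hf
  have hm : m ≠ 4 := fun hm => by
    have hl : ∀ l : List G, (∀ x ∈ l, x ∈ D) → χ l.prod = (-1) ^ l.length := by
      intro l
      induction l with
      | nil => simp
      | cons x l ih =>
        intro hD
        rw [List.prod_cons, map_mul, hχ x (hD x (by simp)), ih fun z hz => hD z (by simp [hz]),
          List.length_cons, pow_succ']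
    have := hl l hD
    rw [hprod, hχp, hlen, hm] at this
    exact absurd this (by decide)
  obtain ⟨b, hb⟩ : ∃ b, b ∈ l := List.exists_mem_of_length_pos (by omega)
  have hYp : ∀ g ∈ Subgroup.zpowers y, Commute g p := by
    intro g hg
    obtain ⟨i, rfl⟩ := Subgroup.mem_zpowers_iff.1 hg
    exact hpy.symm.zpow_left i
  have h := FixGraph.modEq_fx (Fact.out : Nat.Prime 7) (X := Subgroup.zpowers y)
    (by rw [Nat.card_zpowers, hy]) {x | x ∈ l}
    fun g hg x hx => TwentyNine.conj_mem_factors H hn (by omega) hD hc (hprod.symm ▸ hYp g hg) hx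
  have he : {x | x ∈ l} ∩ (Subgroup.centralizer (Subgroup.zpowers y : Set G) : Set G) = ∅ :=
    Set.eq_empty_iff_forall_notMem.2 fun x hx =>
      Set.eq_empty_iff_forall_notMem.1 hpure x ⟨hD x hx.1, hx.2⟩
  rw [he, Set.ncard_empty] at h
  have h3 : {x | x ∈ l}.ncard ≤ 3 := by
    classical
    rw [show {x | x ∈ l} = ↑l.toFinset by ext; simp, Set.ncard_coe_finset]
    exact (List.toFinset_card_le _).trans (by omega)
  have h0 : 0 < {x | x ∈ l}.ncard := (Set.ncard_pos (Set.toFinite _)).2 ⟨b, hb⟩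
  have h7 : 7 ∣ {x | x ∈ l}.ncard := Nat.modEq_zero_iff_dvd.1 h
  have := Nat.le_of_dvd h0 h7
  omega

/-- The 2-part of the centraliser. -/
theorem two_part {y : G} (hy : orderOf y = 7) (hpure : Fx D (Subgroup.zpowers y) = ∅)
    {Q : Subgroup G} {n : ℕ} (hQ : Nat.card Q = 2 ^ n) (hQy : ∀ g ∈ Q, Commute g y) : n ≤ 16 := by
  classical
  have hcls := H.ncard_class hprim h24
  letI : MulAction Q D :=
    { smul := fun g x => ⟨(g : G) * x * (g : G)⁻¹, H.conj_mem g x.2⟩
      one_smul := fun x => Subtype.ext (show (1 : G) * x * 1⁻¹ = x by group)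
      mul_smul := fun g k x => Subtype.ext
        (show ((g : G) * k) * x * ((g : G) * k)⁻¹ = (g : G) * ((k : G) * x * (k : G)⁻¹) * (g : G)⁻¹
          by group) }
  haveI : Fintype (MulAction.orbitRel.Quotient Q D) := Fintype.ofFinite _
  obtain ⟨x, hx16⟩ : ∃ x : D, ¬ 16 ∣ (MulAction.stabilizer Q x).index := by
    by_contra hall
    push Not at hall
    have h1 := Nat.card_congr (MulAction.selfEquivSigmaOrbits Q D)
    rw [Nat.card_sigma, Nat.card_coe_set_eq, hcls] at h1
    have h16 : 16 ∣ 306936 := h1 ▸ Finset.dvd_sum fun ω _ => by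
      have := hall ω.out
      rwa [MulAction.index_stabilizer, ← Nat.card_coe_set_eq] at this
    norm_num at h16
  obtain ⟨k, hk⟩ := exists_translate H hprim h24 hsign hy hpure x.2
  set R := (MulAction.stabilizer Q x).map Q.subtype with hR
  have hRle : Nat.card R ∣ 29713078886400 := by
    rw [← (H.pair_data hprim h24 x.2 (H.conj_mem (y ^ k) x.2) hk).2.2]
    refine Subgroup.card_dvd_of_le ?_
    rintro _ ⟨g, hg, rfl⟩
    have h1 : Commute (g : G) x := mul_inv_eq_iff_eq_mul.1 (congrArg Subtype.val hg)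
    exact ⟨Subgroup.mem_centralizer_singleton_iff.2 h1.eq, Subgroup.mem_centralizer_singleton_iff.2
      ((((hQy g g.2).pow_right k).mul_right h1).mul_right ((hQy g g.2).pow_right k).inv_right).eq⟩
  rw [hR, Subgroup.card_map_of_injective Q.subtype_injective] at hRle
  have hmul := Subgroup.index_mul_card (MulAction.stabilizer Q x)
  rw [hQ] at hmul
  obtain ⟨i, -, hi⟩ := (Nat.dvd_prime_pow Nat.prime_two).1 (Dvd.intro _ hmul :
    (MulAction.stabilizer Q x).index ∣ 2 ^ n)
  obtain ⟨j, -, hj⟩ := (Nat.dvd_prime_pow Nat.prime_two).1 (Dvd.intro_left _ hmul :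
    Nat.card (MulAction.stabilizer Q x) ∣ 2 ^ n)
  have hi3 : i ≤ 3 := by
    by_contra h
    exact hx16 (hi ▸ pow_dvd_pow 2 (show 4 ≤ i by omega))
  have hj13 : j ≤ 13 := by
    by_contra h
    exact absurd ((pow_dvd_pow 2 (show 14 ≤ j by omega)).trans (hj ▸ hRle)) (by norm_num)
  rw [hi, hj, ← pow_add] at hmul
  have := Nat.pow_right_injective (by norm_num : 2 ≤ 2) hmul
  omega

/-- No element of order 29 centralises a pure subgroup of order seven. -/
theorem not_dvd {Y : Subgroup G} (hY : Nat.card Y = 7) (hYp : Fx D Y = ∅) :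
    ¬ 29 ∣ Nat.card (Subgroup.centralizer (Y : Set G)) := by
  classical
  haveI : Fact (Nat.Prime 7) := ⟨by norm_num⟩
  haveI : Fact (Nat.Prime 29) := ⟨by norm_num⟩
  have hG := H.card_group hprim h24
  have hcls := H.ncard_class hprim h24
  obtain ⟨s, hs, hspure, ⟨S, hS, -, -, hexp⟩, n₀, hn₀⟩ := SevenSylow.exists_central H hprim h24
  set Z := Subgroup.zpowers s with hZ
  have hZc : Nat.card Z = 7 := by rw [Nat.card_zpowers, hs]
  obtain ⟨g₀, hg₀⟩ := M24Seven.conj_of_pure H hprim h24 hZc hY (by rw [hspure]; simp) (by rw [hYp]; simp)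
  intro h29
  have h29s : 29 ∣ Nat.card (Subgroup.centralizer ({s} : Set G)) := by
    obtain ⟨⟨v, hv⟩, ho⟩ := exists_prime_orderOf_dvd_card' 29 h29
    rw [← Subgroup.orderOf_coe] at ho
    replace ho : orderOf v = 29 := ho
    have hm : g₀⁻¹ * v * g₀ ∈ Subgroup.centralizer ({s} : Set G) := by
      refine Subgroup.mem_centralizer_singleton_iff.2 ?_
      have hsY : g₀ * s * g₀⁻¹ ∈ Y := hg₀ ▸ ⟨s, Subgroup.mem_zpowers s, rfl⟩
      have := Subgroup.mem_centralizer_iff.1 hv _ hsY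
      calc g₀⁻¹ * v * g₀ * s = g₀⁻¹ * (v * (g₀ * s * g₀⁻¹)) * g₀ := by group
        _ = g₀⁻¹ * ((g₀ * s * g₀⁻¹) * v) * g₀ := by rw [this]
        _ = s * (g₀⁻¹ * v * g₀) := by group
    have := Subgroup.orderOf_dvd_natCard _ hm
    rwa [show g₀⁻¹ * v * g₀ = g₀⁻¹ * v * (g₀⁻¹)⁻¹ by rw [inv_inv],
      show g₀⁻¹ * v * (g₀⁻¹)⁻¹ = MulAut.conj g₀⁻¹ v from rfl, MulEquiv.orderOf_eq, ho] at this
  set C := Subgroup.centralizer ({s} : Set G) with hC
  have hCZ : Subgroup.centralizer (Z : Set G) = C := SevenSylow.centralizer_zpowers s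
  -- the primes of the centraliser
  have no : ∀ (q : ℕ) [Fact q.Prime], q ∈ [5, 11, 13, 17, 23] → ¬ q ∣ Nat.card C := by
    intro q _ hq hdvd
    obtain ⟨⟨y, hy⟩, ho⟩ := exists_prime_orderOf_dvd_card' q hdvd
    rw [← Subgroup.orderOf_coe] at ho
    replace ho : orderOf y = q := ho
    set W := Subgroup.zpowers y
    have hWc : Nat.card W = q := by rw [Nat.card_zpowers, ho]
    have hWC : ∀ w ∈ W, Commute w s := fun w hw => by
      obtain ⟨i, rfl⟩ := Subgroup.mem_zpowers_iff.1 hw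
      exact (show Commute y s from Subgroup.mem_centralizer_singleton_iff.1 hy).zpow_left i
    have h := FixGraph.modEq_fx (Fact.out : Nat.Prime 7) hZc (Fx D W) fun g hg x hx => by
      refine ⟨H.conj_mem g hx.1, Subgroup.mem_centralizer_iff.2 fun w hw => ?_⟩
      obtain ⟨i, rfl⟩ := Subgroup.mem_zpowers_iff.1 hg
      exact (((hWC w hw).zpow_right i).mul_right (Subgroup.mem_centralizer_iff.1 hx.2 w hw)).mul_right
        ((hWC w hw).zpow_right i).inv_right
    have he : Fx D W ∩ (Subgroup.centralizer (Z : Set G) : Set G) = ∅ :=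
      Set.eq_empty_iff_forall_notMem.2 fun a ha =>
        Set.eq_empty_iff_forall_notMem.1 hspure a ⟨ha.1.1, ha.2⟩
    rw [he, Set.ncard_empty] at h
    replace h : 7 ∣ (Fx D W).ncard := Nat.modEq_zero_iff_dvd.1 h
    have hpow : ∀ k, (Fx D W).ncard = 3 ^ k → False := fun k hk =>
      absurd ((by norm_num : Nat.Prime 7).dvd_of_dvd_pow (hk ▸ h)) (by norm_num)
    simp only [List.mem_cons, List.not_mem_nil, or_false] at hq
    rcases hq with rfl | rfl | rfl | rfl | rfl
    · obtain ⟨θ, hθ, e⟩ := M24Five.graph_of_fx H hWc (M24Five.exists_fx H hWc hprim h24)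
      rw [e, Set.ncard_image_of_injective _ hθ, ncard_isSwap_nine] at h
      norm_num at h
    · obtain ⟨d, -, b, -, c, -, e⟩ := H.eleven_fx hprim h24 hWc
      rw [e] at h
      have h3 : ({d, b, c} : Set G).ncard ≤ 3 := (Set.ncard_insert_le _ _).trans
        (Nat.succ_le_succ ((Set.ncard_insert_le _ _).trans (by rw [Set.ncard_singleton])))
      have h1 : 0 < ({d, b, c} : Set G).ncard :=
        (Set.ncard_pos (Set.toFinite _)).2 (Set.insert_nonempty _ _)
      have := Nat.le_of_dvd h1 h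
      omega
    · rcases H.thirteen_count hprim h24 hWc with ⟨k, hk⟩ | hk
      · exact hpow k hk
      · rw [hk] at h; norm_num at h
    · obtain ⟨k, hk⟩ := H.large_pow_three hprim h24 (Or.inl rfl) hWc
      exact hpow k hk
    · obtain ⟨k, hk⟩ := H.large_pow_three hprim h24 (Or.inr rfl) hWc
      exact hpow k hk
  have hd := Subgroup.card_subgroup_dvd_card C
  rw [hG] at hd
  have cop : ∀ (q : ℕ) [Fact q.Prime], ¬ q ∣ Nat.card C → ∀ k, Nat.Coprime (Nat.card C) (q ^ k) :=
    fun q _ hn k => (((Fact.out : q.Prime).coprime_iff_not_dvd.2 hn).symm).pow_right k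
  haveI : Fact (Nat.Prime 5) := ⟨by norm_num⟩
  haveI : Fact (Nat.Prime 11) := ⟨by norm_num⟩
  haveI : Fact (Nat.Prime 13) := ⟨by norm_num⟩
  haveI : Fact (Nat.Prime 17) := ⟨by norm_num⟩
  haveI : Fact (Nat.Prime 23) := ⟨by norm_num⟩
  have c11 := cop 11 (no 11 (by simp)) 1; have c13 := cop 13 (no 13 (by simp)) 1
  have c17 := cop 17 (no 17 (by simp)) 1; have c23 := cop 23 (no 23 (by simp)) 1
  rw [pow_one] at c11 c13 c17 c23
  have hd' : Nat.card C ∣ 5 ^ 2 * (11 * (13 * (17 * (23 * (((2 ^ 22 * 3 ^ 16) * 7 ^ 3) * 29))))) :=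
    hd.trans (dvd_of_eq (by norm_num))
  replace hd' := c23.dvd_of_dvd_mul_left (c17.dvd_of_dvd_mul_left (c13.dvd_of_dvd_mul_left
    (c11.dvd_of_dvd_mul_left ((cop 5 (no 5 (by simp)) 2).dvd_of_dvd_mul_left hd'))))
  obtain ⟨m, m29, hm, hm29, hCm⟩ := exists_dvd_and_dvd_of_dvd_mul hd'
  obtain ⟨m23, m7, hm23, hm7, rfl⟩ := exists_dvd_and_dvd_of_dvd_mul hm
  obtain ⟨m2, m3, hm2, hm3, rfl⟩ := exists_dvd_and_dvd_of_dvd_mul hm23
  obtain ⟨a, ha, rfl⟩ := (Nat.dvd_prime_pow Nat.prime_two).1 hm2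
  obtain ⟨b, hb, rfl⟩ := (Nat.dvd_prime_pow Nat.prime_three).1 hm3
  obtain ⟨c, hc, rfl⟩ := (Nat.dvd_prime_pow (by norm_num : Nat.Prime 7)).1 hm7
  obtain rfl : m29 = 29 := by
    rcases (Nat.dvd_prime (by norm_num : Nat.Prime 29)).1 hm29 with rfl | rfl
    · exfalso
      rw [hCm, mul_one] at h29s
      have h' := h29s
      rcases (Nat.Prime.dvd_mul (by norm_num : Nat.Prime 29)).1 h' with h' | h'
      · rcases (Nat.Prime.dvd_mul (by norm_num : Nat.Prime 29)).1 h' with h' | h' <;>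
          exact absurd ((by norm_num : Nat.Prime 29).dvd_of_dvd_pow h') (by norm_num)
      · exact absurd ((by norm_num : Nat.Prime 29).dvd_of_dvd_pow h') (by norm_num)
    · rfl
  haveI : Fact (Nat.Prime 2) := ⟨Nat.prime_two⟩
  obtain ⟨Q', hQ'⟩ := Sylow.exists_subgroup_card_pow_prime (G := ↥C) 2 (n := a)
    (hCm ▸ ((dvd_mul_right _ _).mul_right _).mul_right _)
  have ha16 : a ≤ 16 := two_part H hprim h24 hsign hs hspure (Q := Q'.map C.subtype) (n := a)
    (by rw [Subgroup.card_map_of_injective (Subgroup.subtype_injective _), hQ'])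
    fun g hg => Subgroup.mem_centralizer_singleton_iff.1 (Subgroup.map_subtype_le _ hg)
  -- the elements of order dividing 343
  haveI : Fintype G := Fintype.ofFinite G
  obtain ⟨a₀, ha₀⟩ := Set.nonempty_of_ncard_ne_zero (s := D) (by omega)
  obtain ⟨⟨w, hwC⟩, hw⟩ := exists_prime_orderOf_dvd_card' (G := ↥(Subgroup.centralizer ({a₀} : Set G))) 7
    (by rw [H.card_centralizer_member ha₀]; norm_num)
  rw [← Subgroup.orderOf_coe] at hw
  replace hw : orderOf w = 7 := hw
  set X := Subgroup.zpowers w with hXdef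
  have hX : Nat.card X = 7 := by rw [Nat.card_zpowers, hw]
  have hne : (Fx D X).Nonempty := ⟨a₀, FixGraph.mem_fx.2 ⟨ha₀, Subgroup.zpowers_le.2 hwC⟩⟩
  obtain ⟨hCX, -, -, -, -, -, -, -, hNX, -⟩ := M24Seven.structure_of_fx H hprim h24 hX hne
  have hCw : Nat.card ↥(Subgroup.centralizer ({w} : Set G)) = 35280 := by
    rw [← SevenSylow.centralizer_zpowers, hCX]
  let Ow : Set G := Set.range fun g : G => g * w * g⁻¹
  let Os : Set G := Set.range fun g : G => g * s * g⁻¹
  have hcl : ∀ x : G, Nat.card G = (Set.range fun g : G => g * x * g⁻¹).ncard *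
      Nat.card ↥(Subgroup.centralizer ({x} : Set G)) := fun x => by
    have h := card_eq_orbit_mul (⊤ : Subgroup G) x (Set.range fun g : G => g * x * g⁻¹)
      (fun k _ => ⟨k, rfl⟩) fun o ⟨g, hg⟩ => ⟨g, Subgroup.mem_top g, hg⟩
    rwa [Subgroup.card_top, top_inf_eq] at h
  have hord : ∀ (g x : G), orderOf (g * x * g⁻¹) = orderOf x := fun g x =>
    MulEquiv.orderOf_eq (MulAut.conj g) x
  have hseven : {g : G | g ^ 343 = 1} = insert 1 (Ow ∪ Os) := by
    ext x
    constructor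
    · intro hx
      by_cases hx1 : x = 1
      · exact Or.inl hx1
      refine Or.inr ?_
      have hx7 : orderOf x = 7 := by
        refine orderOf_eq_prime ?_ hx1
        have hpg : IsPGroup 7 (Subgroup.zpowers x) := IsPGroup.iff_card.2 (by
          obtain ⟨i, -, hi⟩ := (Nat.dvd_prime_pow (by norm_num : Nat.Prime 7)).1
            (show orderOf x ∣ 7 ^ 3 from orderOf_dvd_iff_pow_eq_one.2 (by norm_num; exact hx))
          exact ⟨i, by rw [Nat.card_zpowers, hi]⟩)
        obtain ⟨P, hP⟩ := hpg.exists_le_sylow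
        have hSp : IsPGroup 7 S := IsPGroup.of_card (n := 3) (by rw [hS]; norm_num)
        obtain ⟨P', hP'⟩ := hSp.exists_le_sylow
        have hSP : (P' : Subgroup G) = S := (Subgroup.eq_of_le_of_card_ge hP' (by
          obtain ⟨i, hi⟩ := IsPGroup.iff_card.1 P'.isPGroup'
          have hd := Subgroup.card_subgroup_dvd_card (P' : Subgroup G)
          rw [hi, hG] at hd
          rw [hi, hS, show (343 : ℕ) = 7 ^ 3 by norm_num]
          refine Nat.pow_le_pow_right (by norm_num) ?_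
          by_contra hgt
          exact absurd ((pow_dvd_pow 7 (show 4 ≤ i by omega)).trans hd) (by norm_num))).symm
        obtain ⟨g, hg⟩ := MulAction.exists_smul_eq G P P'
        have hm : g * x * g⁻¹ ∈ S := by
          rw [← hSP, ← hg, Sylow.coe_subgroup_smul, Subgroup.mem_pointwise_smul_iff_inv_smul_mem]
          simpa [MulAut.smul_def, mul_assoc] using hP (Subgroup.mem_zpowers x)
        have := hexp _ hm
        rw [conj_pow, conj_eq_one_iff] at this
        exact this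
      set W := Subgroup.zpowers x
      have hWc : Nat.card W = 7 := by rw [Nat.card_zpowers, hx7]
      -- generators are conjugate in both classes
      rcases Set.eq_empty_or_nonempty (Fx D W) with he | hne'
      · obtain ⟨g, hg⟩ := M24Seven.conj_of_pure H hprim h24 hZc hWc (by rw [hspure]; simp) (by rw [he]; simp)
        have hxW : x ∈ Z.map (MulAut.conj g).toMonoidHom := hg ▸ Subgroup.mem_zpowers x
        obtain ⟨z, hz, rfl⟩ := hxW
        have hit : ∀ i : ℕ, n₀ ^ i * s * (n₀ ^ i)⁻¹ = s ^ (3 ^ i) := by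
          intro i
          induction i with
          | zero => simp
          | succ i ih =>
            rw [pow_succ', show n₀ * n₀ ^ i * s * (n₀ * n₀ ^ i)⁻¹ =
              n₀ * (n₀ ^ i * s * (n₀ ^ i)⁻¹) * n₀⁻¹ by group, ih, ← conj_pow, hn₀, ← pow_mul,
              ← pow_succ']
        obtain ⟨k, rfl⟩ := (Submonoid.mem_powers_iff _ _).1 (mem_powers_iff_mem_zpowers.2 hz)
        obtain ⟨i, hi⟩ : ∃ i : Fin 6, 3 ^ (i : ℕ) % 7 = k % 7 := by
          have hk0 : k % 7 ≠ 0 := fun h => hx1 (by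
            rw [← pow_mod_orderOf, hs, h, pow_zero, map_one])
          have hlt := Nat.mod_lt k (show 7 > 0 by norm_num)
          interval_cases k % 7
          · exact absurd rfl hk0
          all_goals decide
        refine Or.inr ⟨g * n₀ ^ (i : ℕ), ?_⟩
        show g * n₀ ^ (i : ℕ) * s * (g * n₀ ^ (i : ℕ))⁻¹ = g * s ^ k * g⁻¹
        rw [show g * n₀ ^ (i : ℕ) * s * (g * n₀ ^ (i : ℕ))⁻¹ =
          g * (n₀ ^ (i : ℕ) * s * (n₀ ^ (i : ℕ))⁻¹) * g⁻¹ by group, hit, ← pow_mod_orderOf, hs, hi]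
        conv_rhs => rw [← pow_mod_orderOf, hs]
      · obtain ⟨g, hg⟩ := M24Seven.conj_of_fx H hprim hX hne hWc hne'
        have hxW : x ∈ X.map (MulAut.conj g).toMonoidHom := hg ▸ Subgroup.mem_zpowers x
        obtain ⟨z, hz, rfl⟩ := hxW
        set O := (fun n => n * w * n⁻¹) '' (Subgroup.normalizer (X : Set G) : Set G) with hO
        have hOX : O ⊆ (X : Set G) \ {1} := by
          rintro _ ⟨m, hm, rfl⟩
          refine ⟨FixGraph.conj_mem_of_normalizer hm (Subgroup.mem_zpowers w), fun e => ?_⟩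
          have hw1 : w = 1 := conj_eq_one_iff.1 (Set.mem_singleton_iff.1 e)
          rw [hw1, orderOf_one] at hw
          omega
        have hO6 : ((X : Set G) \ {1}).ncard = 6 := by
          rw [Set.ncard_sdiff_singleton_of_mem X.one_mem, ← Nat.card_coe_set_eq]
          exact congrArg (· - 1) hX
        have h := card_eq_orbit_mul (Subgroup.normalizer (X : Set G)) w O (fun m hm => ⟨m, hm, rfl⟩)
          fun o ho => ho
        rw [hNX, ← SevenSylow.centralizer_zpowers,
          inf_eq_right.2 (Subgroup.centralizer_le_normalizer _), hCX] at h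
        have hzO : z ∈ O := by
          rw [Set.eq_of_subset_of_ncard_le hOX (by omega)]
          exact ⟨hz, fun e => hx1 (by rw [Set.mem_singleton_iff.1 e, map_one])⟩
        obtain ⟨m, -, rfl⟩ := hzO
        exact Or.inl ⟨g * m, show g * m * w * (g * m)⁻¹ = g * (m * w * m⁻¹) * g⁻¹ by group⟩
    · rintro (rfl | ⟨g, rfl⟩ | ⟨g, rfl⟩)
      · exact one_pow _
      all_goals
        refine orderOf_dvd_iff_pow_eq_one.1 ?_
        rw [hord]
      · rw [hw]; norm_num
      · rw [hs]; norm_num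
  have hdis : Disjoint Ow Os := by
    refine Set.disjoint_left.2 ?_
    rintro _ ⟨g, rfl⟩ ⟨k, hk⟩
    replace hk : k * s * k⁻¹ = g * w * g⁻¹ := hk
    refine Set.eq_empty_iff_forall_notMem.1 hspure (k⁻¹ * g * a₀ * (k⁻¹ * g)⁻¹) ⟨H.conj_mem _ ha₀, ?_⟩
    show _ ∈ Subgroup.centralizer (Z : Set G)
    rw [hCZ, hC, Subgroup.mem_centralizer_singleton_iff, show s = k⁻¹ * g * w * (k⁻¹ * g)⁻¹ by
      rw [show k⁻¹ * g * w * (k⁻¹ * g)⁻¹ = k⁻¹ * (g * w * g⁻¹) * k by group, ← hk]; group]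
    exact ((commute_conj_iff _).2 (show Commute w a₀ from
      Subgroup.mem_centralizer_singleton_iff.1 hwC)).symm.eq
  have h1not : (1 : G) ∉ Ow ∪ Os := by
    rintro (⟨g, hg⟩ | ⟨g, hg⟩) <;> replace hg := congrArg orderOf hg <;>
      rw [orderOf_one, hord] at hg <;> omega
  have hfro := S3993.result (G := G) 343 (by rw [hG]; norm_num)
  have hcount : Nat.card {g : G // g ^ 343 = 1} = Ow.ncard + Os.ncard + 1 := by
    rw [show Nat.card {g : G // g ^ 343 = 1} = {g : G | g ^ 343 = 1}.ncard from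
      Nat.card_coe_set_eq _, hseven, Set.ncard_insert_of_notMem h1not, Set.ncard_union_eq hdis]
  rw [hcount] at hfro
  have hw' := hcl w
  have hs' := hcl s
  rw [hCw, hG] at hw'
  rw [← hC, hCm, hG] at hs'
  have e1 : Ow.ncard = (2 ^ 22 * 3 ^ 16 * 5 ^ 2 * 7 ^ 3 * 11 * 13 * 17 * 23 * 29) / 35280 := by
    rw [hw', Nat.mul_div_cancel _ (by norm_num)]
  have e2 : Os.ncard = (2 ^ 22 * 3 ^ 16 * 5 ^ 2 * 7 ^ 3 * 11 * 13 * 17 * 23 * 29) /
      (2 ^ a * 3 ^ b * 7 ^ c * 29) := by
    rw [hs', Nat.mul_div_cancel _ (by positivity)]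
  refine options ⟨a, by omega⟩ ⟨b, by omega⟩ ⟨c, by omega⟩ (Dvd.intro_left _ hs'.symm) ?_
  simp only
  rw [← e1, ← e2, show 1 + Ow.ncard + Os.ncard = Ow.ncard + Os.ncard + 1 by omega]
  exact hfro

end Cfsg.Agent.Transpos.SevenPure
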