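import Cfsg.Agent.Lib.Transpos.M24Seven
import Cfsg.Agent.S3993

/-!
# A Sylow 7-subgroup in type M(24)

`SevenSylow.exists_central`: an element `s` of order 7 centralising no member is central in a
Sylow 7-subgroup, which has exponent 7, and is conjugate to its cube.  Here `s` is a 7-cycle of the
`Sym(7)` generated by the members centralising a subgroup `X` of order 7 that centralises some.
-/

set_option autoImplicit false
set_option linter.style.haveILetI false
set_option linter.unusedSectionVars false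

namespace Cfsg.Agent.Transpos.SevenSylow

open Cfsg Equiv

universe u

/-- The 7-cycle. -/
def cyc : Perm (Fin 7) := finRotate 7

/-- Multiplication by a nonzero residue. -/
def mulPerm (k : Fin 7) (h : k ≠ 0) : Perm (Fin 7) where
  toFun i := k * i
  invFun i := k * k * k * k * k * i
  left_inv i := by revert k i; decide
  right_inv i := by revert k i; decide

theorem mulPerm_conj : ∀ (k : Fin 7) (h : k ≠ 0),
    mulPerm k h * cyc * (mulPerm k h)⁻¹ = cyc ^ (k : ℕ) := by
  decide +kernel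

theorem cyc_pow_seven : cyc ^ 7 = 1 := by decide +kernel

theorem eq_pow_of_commute {σ : Perm (Fin 7)} (h : Commute σ cyc) : σ = cyc ^ (σ 0 : ℕ) := by
  have hs : ∀ i, σ (i + 1) = σ i + 1 := fun i => by
    have := DFunLike.congr_fun h.eq i
    simpa [cyc, Perm.mul_apply, finRotate_succ_apply] using this
  have key : ∀ k i : Fin 7, (cyc ^ (k : ℕ)) i = i + k := by decide +kernel
  refine Equiv.ext fun i => ?_
  rw [key]
  induction i using Fin.induction with
  | zero => rw [zero_add]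
  | succ i ih =>
    rw [← Fin.coeSucc_eq_succ, hs, ih]
    abel

theorem mod_of_pow {k : ℕ} (h : k ^ 343 % 7 = 1 % 7) : k % 7 = 1 := by
  rw [Nat.pow_mod] at h
  have := Nat.mod_lt k (show 7 > 0 by norm_num)
  interval_cases hk : k % 7 <;> first | rfl | exact absurd h (by decide +kernel)

/-- Powers of a product when the commutator is central. -/
theorem mul_pow_of_central {G : Type*} [Group G] {g e c : G} (h : e * g = g * e * c)
    (hg : Commute c g) (he : Commute c e) : ∀ n : ℕ, (g * e) ^ n = g ^ n * e ^ n * c ^ n.choose 2 := by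
  have hk : ∀ n : ℕ, e ^ n * g = g * e ^ n * c ^ n := by
    intro n
    induction n with
    | zero => simp
    | succ n ih =>
      rw [pow_succ, mul_assoc, h, ← mul_assoc, ← mul_assoc, ih, pow_succ c,
        mul_assoc (g * e ^ n) (c ^ n) e, (he.pow_left n).eq, ← mul_assoc,
        mul_assoc g (e ^ n) e, mul_assoc]
  intro n
  induction n with
  | zero => simp
  | succ n ih =>
    rw [pow_succ, ih, Nat.choose_succ_succ, Nat.choose_one_right, pow_add,
      show g ^ n * e ^ n * c ^ n.choose 2 * (g * e) = g ^ n * (e ^ n * g) * e * c ^ n.choose 2 by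
        rw [mul_assoc (g ^ n * e ^ n), ((hg.mul_right he).pow_left _).eq]
        simp only [mul_assoc],
      hk, pow_succ g, pow_succ e]
    have hce : c ^ n * e = e * c ^ n := (he.pow_left n).eq
    calc g ^ n * (g * e ^ n * c ^ n) * e * c ^ n.choose 2
        = g ^ n * g * e ^ n * (c ^ n * e) * c ^ n.choose 2 := by simp only [mul_assoc]
      _ = g ^ n * g * (e ^ n * e) * (c ^ n * c ^ n.choose 2) := by
          rw [hce]; simp only [mul_assoc]
      _ = _ := by simp only [pow_zero, one_mul, pow_add, Nat.succ_eq_add_one]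

theorem centralizer_zpowers {G : Type*} [Group G] (g : G) :
    Subgroup.centralizer (Subgroup.zpowers g : Set G) = Subgroup.centralizer ({g} : Set G) := by
  refine le_antisymm (Subgroup.centralizer_le (Set.singleton_subset_iff.2 (Subgroup.mem_zpowers g)))
    fun k hk => Subgroup.mem_centralizer_iff.2 fun y hy => ?_
  obtain ⟨i, rfl⟩ := Subgroup.mem_zpowers_iff.1 hy
  exact ((show Commute k g from Subgroup.mem_centralizer_singleton_iff.1 hk).zpow_right i).eq.symm

variable {G : Type u} [Group G] [Finite G] {D : Set G} (H : M24 D)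
  (hprim : IsPrimitiveUnderConj D) (h24 : IsOfTypeM24 G D)
include H hprim h24

/-- An element of order 7 centralising no member and central in a Sylow 7-subgroup of exponent 7. -/
theorem exists_central : ∃ s : G, orderOf s = 7 ∧ Fx D (Subgroup.zpowers s) = ∅ ∧
    (∃ S : Subgroup G, Nat.card S = 343 ∧ s ∈ S ∧ (∀ x ∈ S, Commute x s) ∧ ∀ x ∈ S, x ^ 7 = 1) ∧
    ∃ n : G, n * s * n⁻¹ = s ^ 3 := by
  classical
  haveI : Fintype G := Fintype.ofFinite G
  haveI : Fact (Nat.Prime 7) := ⟨by norm_num⟩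
  have hG := H.card_group hprim h24
  have hcls := H.ncard_class hprim h24
  -- a subgroup of order 7 centralising a member
  obtain ⟨a, ha⟩ := Set.nonempty_of_ncard_ne_zero (s := D) (by omega)
  obtain ⟨⟨w, hwC⟩, hw⟩ := exists_prime_orderOf_dvd_card' (G := ↥(Subgroup.centralizer ({a} : Set G))) 7
    (by rw [H.card_centralizer_member ha]; norm_num)
  rw [← Subgroup.orderOf_coe] at hw
  replace hw : orderOf w = 7 := hw
  set X := Subgroup.zpowers w with hXdef
  have hX : Nat.card X = 7 := by rw [Nat.card_zpowers, hw]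
  have hne : (Fx D X).Nonempty := ⟨a, FixGraph.mem_fx.2 ⟨ha, Subgroup.zpowers_le.2 hwC⟩⟩
  obtain ⟨φ, hφ, hF⟩ := M24Seven.graph H hprim h24 hX hne
  obtain ⟨hKφ, -, hKC, hZK, hsplit⟩ := FixGraph.split H.grp.2.1 (by norm_num) hφ hF
  have hcent := M24Seven.cent H hprim h24 hX hne
  obtain ⟨-, F, hF42, hXF, hFC, -, hFcomm, hsup, -, -⟩ := M24Seven.structure_of_fx H hprim h24 hX hne
  set K := Subgroup.closure (Fx D X) with hKdef
  have hwX : w ∈ X := Subgroup.mem_zpowers w
  have hφK : ∀ σ, φ σ ∈ K := fun σ => hKφ ▸ ⟨σ, rfl⟩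
  have hwφ : ∀ σ, Commute w (φ σ) := fun σ => Subgroup.mem_centralizer_iff.1 (hKC (hφK σ)) w hwX
  set s := φ cyc with hsdef
  have hs7 : orderOf s = 7 := by
    rw [hsdef, orderOf_injective φ hφ]
    exact orderOf_eq_prime cyc_pow_seven (by decide)
  have hws : Commute w s := hwφ _
  -- the torus: every exponent pair
  have hFw : ∀ x ∈ X, x ≠ 1 → ∃ h ∈ F, h * w * h⁻¹ = x := by
    set O := (fun n => n * w * n⁻¹) '' (F : Set G) with hO
    have hOX : O ⊆ (X : Set G) \ {1} := by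
      rintro _ ⟨n, hn, rfl⟩
      refine ⟨FixGraph.conj_mem_of_normalizer (hsup ▸ Subgroup.mem_sup_left hn :) hwX, fun e => ?_⟩
      have hw1 : w = 1 := conj_eq_one_iff.1 (Set.mem_singleton_iff.1 e)
      rw [hw1, orderOf_one] at hw
      omega
    have hO6 : ((X : Set G) \ {1}).ncard = 6 := by
      rw [Set.ncard_sdiff_singleton_of_mem X.one_mem, ← Nat.card_coe_set_eq]
      exact congrArg (· - 1) hX
    have h := card_eq_orbit_mul F w O (fun n hn => ⟨n, hn, rfl⟩) (fun o ho => ho)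
    have hcw : F ⊓ Subgroup.centralizer ({w} : Set G) = X := by
      rw [← hFC]
      congr 1
      rw [hXdef, centralizer_zpowers]
    rw [hcw, hX, hF42] at h
    intro x hx hx1
    have hmem : x ∈ O := by
      rw [Set.eq_of_subset_of_ncard_le hOX (by omega)]
      exact ⟨hx, hx1⟩
    obtain ⟨n, hn, e⟩ := hmem
    exact ⟨n, hn, e⟩
  have hFs : ∀ n ∈ F, Commute n s := fun n hn => hFcomm n hn s (hφK _)
  have hSk : ∀ y ∈ Subgroup.zpowers s, y ≠ 1 → ∃ σ : Perm (Fin 7), φ σ * s * (φ σ)⁻¹ = y := by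
    intro y hy hy1
    obtain ⟨k, rfl⟩ := (Submonoid.mem_powers_iff _ _).1 (mem_powers_iff_mem_zpowers.2 hy)
    set k' : Fin 7 := ⟨k % 7, Nat.mod_lt _ (by norm_num)⟩ with hk'
    have hk0 : k' ≠ 0 := fun h => hy1 (by
      rw [← pow_mod_orderOf, hs7, show k % 7 = 0 from congrArg Fin.val h, pow_zero])
    refine ⟨mulPerm k' hk0, ?_⟩
    rw [hsdef, ← map_inv, ← map_mul, ← map_mul, mulPerm_conj, map_pow, ← hsdef]
    conv_rhs => rw [← pow_mod_orderOf, hs7]
  have hfix : ∀ (g x : G), {d | d ∈ D ∧ Commute (g * x * g⁻¹) d}.ncard =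
      {d | d ∈ D ∧ Commute x d}.ncard := by
    intro g x
    refine (Set.ncard_congr (s := {d | d ∈ D ∧ Commute x d}) (t := {d | d ∈ D ∧ Commute (g * x * g⁻¹) d}) (fun d _ => g * d * g⁻¹)
      (fun d hd => ⟨H.conj_mem g hd.1, (commute_conj_iff g).2 hd.2⟩)
      (fun d e _ _ h => mul_left_cancel (mul_right_cancel h)) fun e he =>
        ⟨g⁻¹ * e * g, ⟨by simpa using H.conj_mem g⁻¹ he.1, ?_⟩, by group⟩).symm
    refine (commute_conj_iff g).1 ?_
    rw [show g * (g⁻¹ * e * g) * g⁻¹ = e by group]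
    exact he.2
  have h0or21 : ∀ x : G, orderOf x = 7 →
      {d | d ∈ D ∧ Commute x d}.ncard = (Fx D (Subgroup.zpowers x)).ncard ∧
      ((Fx D (Subgroup.zpowers x)).ncard = 0 ∨ (Fx D (Subgroup.zpowers x)).ncard = 21) := by
    intro x hx
    refine ⟨congrArg Set.ncard (Set.ext fun d => ?_), ?_⟩
    · rw [FixGraph.mem_fx, Subgroup.zpowers_le, Subgroup.mem_centralizer_singleton_iff]
      exact Iff.rfl
    · rcases Set.eq_empty_or_nonempty (Fx D (Subgroup.zpowers x)) with h | h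
      · exact Or.inl (by rw [h, Set.ncard_empty])
      · exact Or.inr (M24Seven.ncard_fx H hprim h24 (by rw [Nat.card_zpowers, hx]) h)
  have hs1 : s ≠ 1 := fun h => by rw [h, orderOf_one] at hs7; norm_num at hs7
  have hw1 : w ≠ 1 := fun h => by rw [h, orderOf_one] at hw; norm_num at hw
  have hXs : X ⊓ Subgroup.zpowers s = ⊥ := le_bot_iff.1 fun x hx => hZK ▸ (by
    refine ⟨(hcent.ge hx.1).2, (Subgroup.zpowers_le.2 (hφK cyc)) hx.2⟩)
  let ι : ↥X × ↥(Subgroup.zpowers s) →* G :=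
    X.subtype.noncommCoprod (Subgroup.zpowers s).subtype fun p q => by
      obtain ⟨i, hi⟩ := Subgroup.mem_zpowers_iff.1 p.2
      obtain ⟨j, hj⟩ := Subgroup.mem_zpowers_iff.1 q.2
      show Commute (p : G) q
      rw [← hi, ← hj]
      exact (hws.zpow_left i).zpow_right j
  have hι : ∀ p, ι p = (p.1 : G) * p.2 := fun p => rfl
  have hιinj : Function.Injective ι := fun p q e => by
    rw [hι, hι] at e
    have h1 : (q.1 : G)⁻¹ * p.1 = q.2 * (p.2 : G)⁻¹ := by
      rw [eq_mul_inv_iff_mul_eq, mul_assoc, e, inv_mul_cancel_left]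
    have h2 : (q.1 : G)⁻¹ * p.1 ∈ X ⊓ Subgroup.zpowers s :=
      ⟨X.mul_mem (X.inv_mem q.1.2) p.1.2, h1 ▸ Subgroup.mul_mem _ q.2.2 (Subgroup.inv_mem _ p.2.2)⟩
    rw [hXs, Subgroup.mem_bot, inv_mul_eq_one] at h2
    rw [← h2] at e
    exact Prod.ext (Subtype.ext h2.symm) (Subtype.ext (mul_left_cancel e))
  set f := {d | d ∈ D ∧ Commute s d}.ncard with hf
  set c := {d | d ∈ D ∧ Commute (w * s) d}.ncard with hc
  have hwsor : orderOf (w * s) = 7 := by
    refine orderOf_eq_prime ?_ fun e => ?_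
    · rw [hws.mul_pow, ← hw, pow_orderOf_eq_one, one_mul, hw, ← hs7, pow_orderOf_eq_one]
    · have h2 : w ∈ X ⊓ Subgroup.zpowers s :=
        ⟨hwX, eq_inv_of_mul_eq_one_left e ▸ Subgroup.inv_mem _ (Subgroup.mem_zpowers s)⟩
      rw [hXs, Subgroup.mem_bot] at h2
      exact hw1 h2
  have hw21 : {d | d ∈ D ∧ Commute w d}.ncard = 21 :=
    (h0or21 w hw).1.trans (M24Seven.ncard_fx H hprim h24 hX hne)
  have hval : ∀ p : ↥X × ↥(Subgroup.zpowers s), {d | d ∈ D ∧ Commute (ι p) d}.ncard =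
      if p.1 = 1 then (if p.2 = 1 then 306936 else f) else (if p.2 = 1 then 21 else c) := by
    intro p
    rw [hι]
    split_ifs with h1 h2 h2 <;> try simp only [h1, h2, OneMemClass.coe_one, one_mul, mul_one]
    · rw [← hcls]
      exact congrArg Set.ncard (Set.ext fun d => ⟨fun h => h.1, fun h => ⟨h, Commute.one_left d⟩⟩)
    · obtain ⟨σ, hσ⟩ := hSk p.2 p.2.2 fun e => h2 (Subtype.ext e)
      rw [← hσ, hfix]
    · obtain ⟨n, hn, e⟩ := hFw p.1 p.1.2 fun e => h1 (Subtype.ext e)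
      rw [← e, hfix, hw21]
    · obtain ⟨n, hn, e1⟩ := hFw p.1 p.1.2 fun e => h1 (Subtype.ext e)
      obtain ⟨σ, hσ⟩ := hSk p.2 p.2.2 fun e => h2 (Subtype.ext e)
      rw [hc, ← hfix (φ σ * n) (w * s)]
      congr 1
      have hn' : φ σ * n * (w * s) * (φ σ * n)⁻¹ = (p.1 : G) * p.2 := by
        have cσ : Commute (φ σ) (p.1 : G) := by
          obtain ⟨i, hi⟩ := Subgroup.mem_zpowers_iff.1 p.1.2
          rw [← hi]
          exact ((hwφ σ).symm.zpow_right i)
        rw [show φ σ * n * (w * s) * (φ σ * n)⁻¹ =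
          φ σ * (n * w * n⁻¹) * (φ σ)⁻¹ * (φ σ * (n * s * n⁻¹) * (φ σ)⁻¹) by group, e1,
          mul_inv_eq_iff_eq_mul.2 (hFs n hn).eq, hσ, mul_inv_eq_iff_eq_mul.2 cσ.eq]
      rw [hn']
  letI : MulAction (↥X × ↥(Subgroup.zpowers s)) D :=
    { smul := fun p d => ⟨ι p * d * (ι p)⁻¹, H.conj_mem (ι p) d.2⟩
      one_smul := fun d => Subtype.ext (show ι 1 * (d : G) * (ι 1)⁻¹ = d by simp)
      mul_smul := fun p q d => Subtype.ext
        (show ι (p * q) * (d : G) * (ι (p * q))⁻¹ = ι p * (ι q * d * (ι q)⁻¹) * (ι p)⁻¹ by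
          rw [map_mul]; group) }
  have hB := MulAction.sum_card_fixedBy_eq_card_orbits_mul_card_group (↥X × ↥(Subgroup.zpowers s)) D
  have hfb : ∀ p : ↥X × ↥(Subgroup.zpowers s), Fintype.card ↥(MulAction.fixedBy (↥D) p) =
      {d | d ∈ D ∧ Commute (ι p) d}.ncard := fun p => by
    rw [← Nat.card_eq_fintype_card, ← Nat.card_coe_set_eq]
    exact Nat.card_congr
      { toFun := fun d => ⟨d.1, d.1.2, mul_inv_eq_iff_eq_mul.1 (congrArg Subtype.val d.2)⟩
        invFun := fun d => ⟨⟨d.1, d.2.1⟩, Subtype.ext (mul_inv_eq_iff_eq_mul.2 d.2.2.eq)⟩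
        left_inv := fun _ => rfl
        right_inv := fun _ => rfl }
  have hin : ∀ A B : ℕ, ∑ y : ↥(Subgroup.zpowers s), (if y = 1 then A else B) = A + 6 * B := fun A B => by
    rw [← Finset.add_sum_erase _ _ (Finset.mem_univ 1), if_pos rfl,
      Finset.sum_congr rfl fun y hy => if_neg (Finset.ne_of_mem_erase hy), Finset.sum_const,
      Finset.card_erase_of_mem (Finset.mem_univ _), Finset.card_univ, ← Nat.card_eq_fintype_card,
      Nat.card_zpowers, hs7, smul_eq_mul]
  have hout : ∀ A B : ℕ, ∑ y : ↥X, (if y = 1 then A else B) = A + 6 * B := fun A B => by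
    rw [← Finset.add_sum_erase _ _ (Finset.mem_univ 1), if_pos rfl,
      Finset.sum_congr rfl fun y hy => if_neg (Finset.ne_of_mem_erase hy), Finset.sum_const,
      Finset.card_erase_of_mem (Finset.mem_univ _), Finset.card_univ, ← Nat.card_eq_fintype_card,
      hX, smul_eq_mul]
  rw [Finset.sum_congr rfl fun p _ => (hfb p).trans (hval p), Fintype.sum_prod_type] at hB
  simp only [] at hB
  simp only [Finset.sum_ite_irrel, hin, hout] at hB
  rw [← Nat.card_eq_fintype_card (α := ↥X × ↥(Subgroup.zpowers s)), Nat.card_prod, hX,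
    Nat.card_zpowers, hs7] at hB
  obtain ⟨hf', hfor⟩ := h0or21 s hs7
  obtain ⟨hc', hcor⟩ := h0or21 (w * s) hwsor
  rw [← hf] at hf'
  rw [← hc] at hc'
  have hfc : f = 0 ∧ c = 21 := by
    rw [← hf'] at hfor
    rw [← hc'] at hcor
    rcases hfor with h | h <;> rcases hcor with h' | h' <;> rw [h, h'] at hB <;> omega
  have hpure : Fx D (Subgroup.zpowers s) = ∅ := (Set.ncard_eq_zero (Set.toFinite _)).1 (by rw [← hf', hfc.1])
  -- the group of order 49
  set E := ι.range with hEdef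
  have hE : Nat.card E = 49 := by
    rw [← Nat.card_congr (MonoidHom.ofInjective hιinj).toEquiv, Nat.card_prod, hX, Nat.card_zpowers, hs7]
  have hE7 : ∀ x ∈ E, x ^ 7 = 1 := by
    rintro _ ⟨⟨p, q⟩, rfl⟩
    rw [← map_pow, Prod.pow_mk]
    have h1 : p ^ 7 = 1 := by rw [← hX]; exact pow_card_eq_one'
    have h2 : q ^ 7 = 1 := by
      rw [← show Nat.card ↥(Subgroup.zpowers s) = 7 by rw [Nat.card_zpowers, hs7]]
      exact pow_card_eq_one'
    rw [h1, h2]
    exact map_one ι
  have hwE : w ∈ E := ⟨(⟨w, hwX⟩, 1), by simp [hι]⟩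
  have hsE : s ∈ E := ⟨(1, ⟨s, Subgroup.mem_zpowers s⟩), by simp [hι]⟩
  have hline : ∀ e ∈ E, e ≠ 1 → {d | d ∈ D ∧ Commute e d}.ncard = 0 → e ∈ Subgroup.zpowers s := by
    rintro _ ⟨p, rfl⟩ he1 he0
    rw [hval, hfc.1, hfc.2] at he0
    by_cases h1 : p.1 = 1
    · rw [hι, h1, OneMemClass.coe_one, one_mul]; exact p.2.2
    · rw [if_neg h1] at he0; split_ifs at he0
  have hCE : ∀ g : G, Commute g w → Commute g s → g ∈ E := by
    intro g gw gs
    have hgC : g ∈ Subgroup.centralizer (X : Set G) := by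
      rw [hXdef, centralizer_zpowers]
      exact Subgroup.mem_centralizer_singleton_iff.2 gw.eq
    obtain ⟨k, hk, hz⟩ := hsplit g (Subgroup.centralizer_le_normalizer _ hgC)
    have hzX : k⁻¹ * g ∈ X := hcent ▸ ⟨Subgroup.mul_mem _ (Subgroup.inv_mem _ (hKC hk)) hgC, hz⟩
    rw [hKφ] at hk
    obtain ⟨σ, rfl⟩ := hk
    have hzs : Commute ((φ σ)⁻¹ * g) s :=
      (Subgroup.mem_centralizer_iff.1 hz s (hφK cyc)).symm
    have hσs : Commute (φ σ) s := by
      have : φ σ = g * ((φ σ)⁻¹ * g)⁻¹ := by group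
      rw [this]
      exact gs.mul_left hzs.inv_left
    have hσ := eq_pow_of_commute (σ := σ) (hφ (by rw [map_mul, map_mul]; exact hσs.eq))
    rw [show g = φ σ * ((φ σ)⁻¹ * g) by group]
    refine E.mul_mem ?_ (Subgroup.zpowers_le.2 hwE hzX)
    rw [hσ, map_pow]
    exact E.pow_mem hsE _
  -- a Sylow subgroup above it
  obtain ⟨S, hS343, hES⟩ := Sylow.exists_subgroup_card_pow_prime_le 7 (n := 2) (m := 3)
    (by rw [hG]; norm_num) E (show Nat.card E = 7 ^ 2 by rw [hE]; norm_num) (by norm_num)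
  have hidx : (E.subgroupOf S).index = 7 := by
    have h := (E.subgroupOf S).card_mul_index
    rw [Nat.card_congr (Subgroup.subgroupOfEquivOfLe hES).toEquiv, hE, hS343] at h
    norm_num at h ⊢
    omega
  haveI hEn : (E.subgroupOf S).Normal := Subgroup.normal_of_index_eq_minFac_card (by
    rw [hidx, hS343, Nat.Prime.pow_minFac (by norm_num : Nat.Prime 7) (by norm_num : (3 : ℕ) ≠ 0)])
  have hSE : ∀ u ∈ S, ∀ e ∈ E, u * e * u⁻¹ ∈ E := fun u hu e he =>
    hEn.conj_mem ⟨e, hES he⟩ he ⟨u, hu⟩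
  have hSs : ∀ u ∈ S, Commute u s := by
    intro u hu
    have hmem : u * s * u⁻¹ ∈ Subgroup.zpowers s := by
      refine hline _ (hSE u hu s hsE) (fun e => hs1 (conj_eq_one_iff.1 e)) ?_
      rw [hfix, ← hf, hfc.1]
    obtain ⟨k, hk⟩ := (Submonoid.mem_powers_iff _ _).1 (mem_powers_iff_mem_zpowers.2 hmem)
    have hiter : ∀ m : ℕ, u ^ m * s * (u ^ m)⁻¹ = s ^ (k ^ m) := by
      intro m
      induction m with
      | zero => simp
      | succ m ih =>
        rw [pow_succ', show u * u ^ m * s * (u * u ^ m)⁻¹ = u * (u ^ m * s * (u ^ m)⁻¹) * u⁻¹ by group,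
          ih, ← conj_pow, ← hk, ← pow_mul, ← pow_succ']
    have h343 : u ^ 343 = 1 := orderOf_dvd_iff_pow_eq_one.1
      (show orderOf u ∣ 343 by have := Subgroup.orderOf_dvd_natCard S hu; rwa [hS343] at this)
    have h := hiter 343
    rw [h343, one_mul, inv_one, mul_one] at h
    nth_rewrite 1 [← pow_one s] at h
    rw [pow_inj_mod, hs7] at h
    have hk1 : k % 7 = 1 := mod_of_pow h.symm
    show u * s = s * u
    rw [← mul_inv_eq_iff_eq_mul, ← hk, ← pow_mod_orderOf, hs7, hk1, pow_one]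
  have hexp : ∀ u ∈ S, u ^ 7 = 1 := by
    intro u hu
    by_cases huE : u ∈ E
    · exact hE7 u huE
    have hu7E : u ^ 7 ∈ E := by
      have h := QuotientGroup.mk'_apply (N := E.subgroupOf S) ⟨u, hu⟩
      have hq : ((⟨u, hu⟩ : S) : ↥S ⧸ E.subgroupOf S) ^ 7 = 1 := by
        rw [← hidx]
        exact pow_card_eq_one'
      rw [← QuotientGroup.mk_pow, QuotientGroup.eq_one_iff] at hq
      exact Subgroup.mem_subgroupOf.1 hq
    have huw : ¬ Commute u w := fun h => huE (hCE u h (hSs u hu))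
    -- the seventh power lies in the line of `s`
    obtain ⟨⟨p, q⟩, hpq⟩ := hu7E
    rw [hι] at hpq
    have hu7s : u ^ 7 ∈ Subgroup.zpowers s := by
      by_cases hp1 : p = 1
      · rw [← hpq, hp1, OneMemClass.coe_one, one_mul]; exact q.2
      exfalso
      refine huw ?_
      have hqs : Commute u (q : G) := by
        obtain ⟨j, hj⟩ := Subgroup.mem_zpowers_iff.1 q.2
        rw [← hj]; exact (hSs u hu).zpow_right j
      have hup : Commute u (p : G) := by
        rw [show (p : G) = u ^ 7 * (q : G)⁻¹ from eq_mul_inv_iff_mul_eq.2 hpq]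
        exact ((Commute.refl u).pow_right 7).mul_right hqs.inv_right
      have hgen : X ≤ Subgroup.zpowers (p : G) := by
        refine (Subgroup.eq_of_le_of_card_ge (Subgroup.zpowers_le.2 p.2) ?_).ge
        rw [hX, Nat.card_zpowers, orderOf_eq_prime (p := 7) (M24Seven.pow_seven hX p.2)
          fun e => hp1 (Subtype.ext e)]
      obtain ⟨i, hi⟩ := Subgroup.mem_zpowers_iff.1 (hgen hwX)
      rw [← hi]
      exact hup.zpow_right i
    obtain ⟨b, hb⟩ := (Submonoid.mem_powers_iff _ _).1 (mem_powers_iff_mem_zpowers.2 hu7s)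
    -- the torus element squaring `w`
    obtain ⟨h, hh, hhw⟩ := hFw (w ^ 2) (X.pow_mem hwX 2) fun e => by
      have := orderOf_dvd_iff_pow_eq_one.2 e
      rw [hw] at this
      norm_num at this
    have hhs := hFs h hh
    have huw' : u * w * u⁻¹ * w⁻¹ ∈ E := E.mul_mem (hSE u hu w hwE) (E.inv_mem hwE)
    set z := u * w * u⁻¹ * w⁻¹ with hz
    have hzw : Commute z w := by
      obtain ⟨p, hp⟩ := huw'
      obtain ⟨i, hi⟩ := Subgroup.mem_zpowers_iff.1 p.1.2
      obtain ⟨j, hj⟩ := Subgroup.mem_zpowers_iff.1 p.2.2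
      rw [← hp, hι, ← hi, ← hj]
      exact ((Commute.refl w).zpow_left i).mul_left (hws.symm.zpow_left j)
    have hzs : z ∈ Subgroup.zpowers s := by
      obtain ⟨p, hp⟩ := huw'
      by_cases h1 : p.1 = 1
      · rw [← hp, hι, h1, OneMemClass.coe_one, one_mul]; exact p.2.2
      exfalso
      -- conjugation by `u` cannot scale `w`
      obtain ⟨i, hi⟩ := (Submonoid.mem_powers_iff _ _).1 (mem_powers_iff_mem_zpowers.2 p.1.2)
      obtain ⟨j, hj⟩ := (Submonoid.mem_powers_iff _ _).1 (mem_powers_iff_mem_zpowers.2 p.2.2)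
      have hk : u * w * u⁻¹ = w ^ (i + 1) * s ^ j := by
        have : u * w * u⁻¹ = z * w := by rw [hz]; group
        rw [this, ← hp, hι, ← hi, ← hj, mul_assoc, ← (hws.pow_right j).eq, ← mul_assoc, ← pow_succ]
      have hiter : ∀ m : ℕ, ∃ l : ℕ, u ^ m * w * (u ^ m)⁻¹ = w ^ ((i + 1) ^ m) * s ^ l := by
        intro m
        induction m with
        | zero => exact ⟨0, by simp⟩
        | succ m ih =>
          obtain ⟨l, hl⟩ := ih
          refine ⟨j * (i + 1) ^ m + l, ?_⟩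
          rw [pow_succ', show u * u ^ m * w * (u * u ^ m)⁻¹ = u * (u ^ m * w * (u ^ m)⁻¹) * u⁻¹ by group,
            hl, ← conj_mul, ← conj_pow, ← conj_pow, hk,
            mul_inv_eq_iff_eq_mul.2 (hSs u hu).eq, ((hws.pow_left _).pow_right j).mul_pow, ← pow_mul,
            ← pow_mul, mul_assoc, ← pow_add, ← pow_succ']
      obtain ⟨l, hl⟩ := hiter 343
      have h343 : u ^ 343 = 1 := orderOf_dvd_iff_pow_eq_one.1
        (show orderOf u ∣ 343 by have := Subgroup.orderOf_dvd_natCard S hu; rwa [hS343] at this)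
      rw [h343, one_mul, inv_one, mul_one] at hl
      have hmem : w ^ ((i + 1) ^ 343) * w⁻¹ ∈ X ⊓ Subgroup.zpowers s := by
        refine ⟨X.mul_mem (X.pow_mem hwX _) (X.inv_mem hwX), ?_⟩
        have e : w ^ ((i + 1) ^ 343) * w⁻¹ = (s ^ l)⁻¹ := by
          rw [show w ^ ((i + 1) ^ 343) = w * (s ^ l)⁻¹ from eq_mul_inv_iff_mul_eq.2 hl.symm,
            (hws.pow_right l).inv_right.eq, mul_inv_cancel_right]
        rw [e]
        exact Subgroup.inv_mem _ (Subgroup.pow_mem _ (Subgroup.mem_zpowers s) l)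
      rw [hXs, Subgroup.mem_bot, mul_inv_eq_one] at hmem
      have h9 := pow_inj_mod.1 (hmem.trans (pow_one w).symm)
      rw [hw] at h9
      have h10 := mod_of_pow h9
      have hi7 : i % 7 ≠ 0 := fun h0 => h1 (Subtype.ext (by
        rw [← hi, ← pow_mod_orderOf, hw, h0, pow_zero]; rfl))
      omega
    have huwz : u * w * u⁻¹ = z * w := by rw [hz]; group
    -- `h u h⁻¹` is `u ^ 4` up to `E`
    have e0 : ∀ m : ℕ, u ^ m * w * (u ^ m)⁻¹ = z ^ m * w := by
      intro m
      induction m with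
      | zero => simp
      | succ m ih =>
        rw [pow_succ', show u * u ^ m * w * (u * u ^ m)⁻¹ = u * (u ^ m * w * (u ^ m)⁻¹) * u⁻¹ by group,
          ih, ← conj_mul, huwz, ← conj_pow]
        rw [show u * z * u⁻¹ = z from mul_inv_eq_iff_eq_mul.2 (by
          obtain ⟨j, hj⟩ := Subgroup.mem_zpowers_iff.1 hzs
          rw [← hj]; exact ((hSs u hu).zpow_right j).eq), ← mul_assoc, ← pow_succ]
    have hhz : h * z * h⁻¹ = z := mul_inv_eq_iff_eq_mul.2 (by
      obtain ⟨j, hj⟩ := Subgroup.mem_zpowers_iff.1 hzs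
      rw [← hj]; exact (hhs.zpow_right j).eq)
    have hy : h * u * h⁻¹ * (w ^ 2) * (h * u * h⁻¹)⁻¹ = z * w ^ 2 := by
      rw [← hhw, show h * u * h⁻¹ * (h * w * h⁻¹) * (h * u * h⁻¹)⁻¹ = h * (u * w * u⁻¹) * h⁻¹ by group,
        huwz, ← conj_mul, hhz]
    set e := (u ^ 4)⁻¹ * (h * u * h⁻¹) with he
    have hwpow : (w ^ 2) ^ 4 = w := by
      rw [← pow_mul, ← pow_mod_orderOf, hw]; norm_num
    have hy4 : (h * u * h⁻¹) * w * (h * u * h⁻¹)⁻¹ = z ^ 4 * w := by
      conv_lhs => rw [← hwpow]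
      rw [← conj_pow, hy, (hzw.pow_right 2).mul_pow, hwpow]
    have heE : e ∈ E := by
      have conj_cancel : ∀ {p q : G}, p * w * p⁻¹ = q * w * q⁻¹ → Commute (p⁻¹ * q) w := fun {p q} h =>
        mul_inv_eq_iff_eq_mul.1 (by
          rw [show p⁻¹ * q * w * (p⁻¹ * q)⁻¹ = p⁻¹ * (q * w * q⁻¹) * p by group, ← h]; group)
      refine hCE e (conj_cancel ((e0 4).trans hy4.symm)) ?_
      exact ((hSs u hu).pow_left 4).inv_left.mul_left ((hhs.mul_left (hSs u hu)).mul_left hhs.inv_left)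
    have hhu : h * u * h⁻¹ = u ^ 4 * e := by rw [he]; group
    -- the commutator is central
    set cc := e⁻¹ * (u ^ 4)⁻¹ * e * u ^ 4 with hcc
    have hcs : cc ∈ Subgroup.zpowers s := by
      obtain ⟨p, hp⟩ := heE
      obtain ⟨i, hi⟩ := (Submonoid.mem_powers_iff _ _).1 (mem_powers_iff_mem_zpowers.2 p.1.2)
      obtain ⟨j, hj⟩ := (Submonoid.mem_powers_iff _ _).1 (mem_powers_iff_mem_zpowers.2 p.2.2)
      have hee : e = w ^ i * s ^ j := by rw [← hp, hι, ← hi, ← hj]
      have h1 : (u ^ 4)⁻¹ * w * u ^ 4 = (z ^ 4)⁻¹ * w := by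
        have hz4 : u ^ 4 * z ^ 4 = z ^ 4 * u ^ 4 := by
          obtain ⟨l, hl⟩ := Subgroup.mem_zpowers_iff.1 hzs
          rw [← hl]; exact ((((hSs u hu).zpow_right l).pow_right 4).pow_left 4).eq
        have h0 := e0 4
        rw [mul_inv_eq_iff_eq_mul] at h0
        rw [mul_assoc, inv_mul_eq_iff_eq_mul, ← mul_assoc, eq_comm]
        calc u ^ 4 * (z ^ 4)⁻¹ * w = (z ^ 4)⁻¹ * (u ^ 4 * w) := by
              rw [← mul_assoc (z ^ 4)⁻¹, (show Commute (u ^ 4) ((z ^ 4)⁻¹) from
                (show Commute (u ^ 4) (z ^ 4) from hz4).inv_right).eq]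
          _ = w * u ^ 4 := by rw [h0, mul_assoc (z ^ 4) w, inv_mul_cancel_left]
      have hcc' : cc = e⁻¹ * ((((z ^ 4)⁻¹) ^ i) * e) := by
        rw [hcc, hee, show (w ^ i * s ^ j)⁻¹ * (u ^ 4)⁻¹ * (w ^ i * s ^ j) * u ^ 4 =
          (w ^ i * s ^ j)⁻¹ * (((u ^ 4)⁻¹ * w ^ i * u ^ 4) * ((u ^ 4)⁻¹ * s ^ j * u ^ 4)) by group]
        have hs4 : (u ^ 4)⁻¹ * s ^ j * u ^ 4 = s ^ j := by
          rw [mul_assoc, inv_mul_eq_iff_eq_mul]
          exact ((((hSs u hu).pow_left 4).pow_right j)).eq.symm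
        have hconj : (u ^ 4)⁻¹ * w ^ i * u ^ 4 = ((u ^ 4)⁻¹ * w * u ^ 4) ^ i := by
          have := conj_pow (a := (u ^ 4)⁻¹) (b := w) (i := i)
          rw [inv_inv] at this
          exact this.symm
        rw [hconj, hs4, h1, ((hzw.pow_left 4).inv_left).mul_pow]
        simp only [mul_assoc]
      rw [hcc', ((show Commute (((z ^ 4)⁻¹) ^ i) e from ?_)).eq, inv_mul_cancel_left]
      · exact Subgroup.pow_mem _ (Subgroup.inv_mem _ (Subgroup.pow_mem _ hzs 4)) i
      · rw [hee]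
        refine (((hzw.pow_left 4).inv_left).pow_pow i i).mul_right ?_
        obtain ⟨l, hl⟩ := Subgroup.mem_zpowers_iff.1 hzs
        rw [← hl]
        exact ((((Commute.refl s).zpow_left l).pow_left 4).inv_left).pow_pow i j
    have hc7 : cc ^ Nat.choose 7 2 = 1 := orderOf_dvd_iff_pow_eq_one.1 (by
      have h := Subgroup.orderOf_dvd_natCard _ hcs
      rw [Nat.card_zpowers, hs7] at h
      exact h.trans (by decide))
    have hpow := mul_pow_of_central (g := u ^ 4) (e := e) (c := cc) (by rw [hcc]; group) (by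
        obtain ⟨l, hl⟩ := Subgroup.mem_zpowers_iff.1 hcs
        rw [← hl]; exact (((hSs u hu).symm.zpow_left l).pow_right 4))
      (by
        obtain ⟨p, hp⟩ := heE
        obtain ⟨i, hi⟩ := Subgroup.mem_zpowers_iff.1 p.1.2
        obtain ⟨j, hj⟩ := Subgroup.mem_zpowers_iff.1 p.2.2
        obtain ⟨l, hl⟩ := Subgroup.mem_zpowers_iff.1 hcs
        rw [← hp, hι, ← hi, ← hj, ← hl]
        exact (hws.symm.zpow_zpow l i).mul_right ((Commute.refl s).zpow_zpow l j)) 7
    rw [hE7 e heE, mul_one, hc7, mul_one, ← hhu, conj_pow, ← hb, ← pow_mul, mul_comm 4 7, pow_mul,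
      ← hb, ← pow_mul, mul_inv_eq_iff_eq_mul.2 (hhs.pow_right b).eq, pow_inj_mod, hs7] at hpow
    rw [← hb, ← pow_mod_orderOf, hs7, show b % 7 = 0 by omega, pow_zero]
  refine ⟨s, hs7, hpure, ⟨S, by rw [hS343]; norm_num, hES hsE, hSs, hexp⟩, φ (mulPerm 3 (by decide)), ?_⟩
  rw [hsdef, ← map_inv, ← map_mul, ← map_mul, mulPerm_conj, map_pow]
  rfl

end Cfsg.Agent.Transpos.SevenSylow
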