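import Cfsg.Agent.Lib.Transpos.M24Traces

/-!
# Isomorphisms between the centralisers of members in type M(24)

A `Star D D' a a'` is an isomorphism of the groups generated by the members commuting with `a` and `a'`
carrying these members onto each other and `a` to `a'`.  With a sign on both groups and the rigidity of
type M(23) there is one carrying a given member to a given one.
-/

set_option autoImplicit false
set_option linter.style.haveILetI false
set_option linter.unusedSectionVars false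

namespace Cfsg.Agent.Transpos

open Cfsg Cfsg.Agent.ClassicalSimple

universe u v

/-- Any two groups of type M(23) are isomorphic with their classes. -/
def M23Rigid : Prop :=
  ∀ {Q : Type u} [Group Q] [Finite Q] (E : Set Q) {Q' : Type v} [Group Q'] [Finite Q'] (E' : Set Q'),
    M23 E → M23 E' → ∃ e : Q ≃* Q', e '' E = E'

variable {G : Type u} [Group G] {D : Set G} {G' : Type v} [Group G'] {D' : Set G'}

/-- An isomorphism of the groups generated by the members commuting with `a` and with `a'`. -/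
structure Star (D : Set G) (D' : Set G') (a : G) (a' : G') where
  /-- The isomorphism. -/
  θ : ↥(Subgroup.closure (Dc D a)) ≃* ↥(Subgroup.closure (Dc D' a'))
  mem_iff : ∀ x, (θ x : G') ∈ Dc D' a' ↔ (x : G) ∈ Dc D a
  self : ∀ ha, (θ ⟨a, ha⟩ : G') = a'

namespace Star

variable {a : G} {a' : G'} (s : Star D D' a a')

open scoped Classical in
/-- The isomorphism on elements of the group. -/
noncomputable def f (x : G) : G' :=
  if h : x ∈ Subgroup.closure (Dc D a) then (s.θ ⟨x, h⟩ : G') else 1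

theorem f_eq {x : G} (h : x ∈ Subgroup.closure (Dc D a)) : s.f x = s.θ ⟨x, h⟩ := dif_pos h

theorem f_mem_closure {x : G} (h : x ∈ Subgroup.closure (Dc D a)) :
    s.f x ∈ Subgroup.closure (Dc D' a') := by rw [s.f_eq h]; exact SetLike.coe_mem _

theorem f_mul {x y : G} (hx : x ∈ Subgroup.closure (Dc D a)) (hy : y ∈ Subgroup.closure (Dc D a)) :
    s.f (x * y) = s.f x * s.f y := by
  rw [s.f_eq (mul_mem hx hy), s.f_eq hx, s.f_eq hy, ← Subgroup.coe_mul, ← map_mul]
  rfl

theorem f_inv {x : G} (hx : x ∈ Subgroup.closure (Dc D a)) : s.f x⁻¹ = (s.f x)⁻¹ := by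
  rw [s.f_eq (inv_mem hx), s.f_eq hx, ← Subgroup.coe_inv, ← map_inv]
  rfl

theorem f_inj {x y : G} (hx : x ∈ Subgroup.closure (Dc D a)) (hy : y ∈ Subgroup.closure (Dc D a))
    (e : s.f x = s.f y) : x = y := by
  rw [s.f_eq hx, s.f_eq hy] at e
  exact congrArg Subtype.val (s.θ.injective (Subtype.ext e))

theorem f_comm {x y : G} (hx : x ∈ Subgroup.closure (Dc D a)) (hy : y ∈ Subgroup.closure (Dc D a)) :
    Commute (s.f x) (s.f y) ↔ Commute x y :=
  ⟨fun h => s.f_inj (mul_mem hx hy) (mul_mem hy hx) (by rw [s.f_mul hx hy, s.f_mul hy hx]; exact h.eq),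
    fun h => by show s.f x * s.f y = s.f y * s.f x; rw [← s.f_mul hx hy, ← s.f_mul hy hx, h.eq]⟩

theorem f_mem {x : G} (hx : x ∈ Dc D a) : s.f x ∈ Dc D' a' := by
  rw [s.f_eq (Subgroup.subset_closure hx)]
  exact (s.mem_iff _).2 hx

theorem exists_f {y : G'} (hy : y ∈ Dc D' a') : ∃ x ∈ Dc D a, s.f x = y := by
  obtain ⟨x, e⟩ := s.θ.surjective ⟨y, Subgroup.subset_closure hy⟩
  have hx : (x : G) ∈ Dc D a := (s.mem_iff x).1 (by rw [e]; exact hy)
  exact ⟨x, hx, by rw [s.f_eq x.2, e]⟩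

theorem f_dc {b x : G} (hb : b ∈ Dc D a) (hx : x ∈ Dc D a) :
    s.f x ∈ Dc D' (s.f b) ↔ x ∈ Dc D b :=
  ⟨fun h => ⟨hx.1, fun e => h.2.1 (by rw [e]),
      (s.f_comm (Subgroup.subset_closure hb) (Subgroup.subset_closure hx)).1 h.2.2⟩,
    fun h => ⟨(s.f_mem hx).1,
      fun e => h.2.1 (s.f_inj (Subgroup.subset_closure hx) (Subgroup.subset_closure hb) e),
      (s.f_comm (Subgroup.subset_closure hb) (Subgroup.subset_closure hx)).2 h.2.2⟩⟩

theorem f_self (ha : a ∈ Subgroup.closure (Dc D a)) : s.f a = a' := by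
  rw [s.f_eq ha]; exact s.self ha

/-- Follow by a conjugation. -/
def conj (hD' : IsThreeTranspositionGroup D') (ha' : a' ∈ D')
    (y : ↥(Subgroup.closure (Dc D' a'))) : Star D D' a a' where
  θ := s.θ.trans (MulAut.conj y)
  mem_iff x := by
    have hst := fun {g : G'} (hg : g ∈ Subgroup.closure (Dc D' a')) =>
      ((tr_of_group hD').dc ha').stab_closure hg
    show (y : G') * s.θ x * (y : G')⁻¹ ∈ _ ↔ _
    refine ⟨fun h => (s.mem_iff x).1 ?_, fun h => (hst y.2 _ ((s.mem_iff x).2 h)).1⟩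
    have := (hst (inv_mem y.2) _ h).1
    rwa [show (y : G')⁻¹ * ((y : G') * s.θ x * (y : G')⁻¹) * (y : G')⁻¹⁻¹ = s.θ x by group] at this
  self ha := by
    show (y : G') * (s.θ ⟨a, ha⟩ : G') * (y : G')⁻¹ = a'
    have hya : Commute (y : G') a' := Subgroup.mem_centralizer_singleton_iff.1
      ((Subgroup.closure_le _).2 (fun z hz => Subgroup.mem_centralizer_singleton_iff.2 hz.2.2.eq.symm)
        y.2)
    rw [s.self, hya.eq, mul_inv_cancel_right]

theorem conj_f (hD' : IsThreeTranspositionGroup D') (ha' : a' ∈ D')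
    (y : ↥(Subgroup.closure (Dc D' a'))) {x : G} (hx : x ∈ Subgroup.closure (Dc D a)) :
    (s.conj hD' ha' y).f x = (y : G') * s.f x * (y : G')⁻¹ := by
  rw [f_eq _ hx, s.f_eq hx]
  rfl

end Star

variable [Finite G] [Finite G']

namespace M24

variable (H : M24 D)
include H

/-- The centraliser of a member is transitive on the members commuting with it. -/
theorem exists_conj_dc {a b b' : G} (ha : a ∈ D) (hb : b ∈ Dc D a) (hb' : b' ∈ Dc D a) :
    ∃ y : ↥(Subgroup.closure (Dc D a)), (y : G) * b * (y : G)⁻¹ = b' := by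
  obtain ⟨C, hC⟩ := H.chart a ha
  obtain ⟨q, hq⟩ := hC.trans _ (C.img_mem hb) _ (C.img_mem hb')
  obtain ⟨y, rfl⟩ := C.surj q
  exact ⟨y, C.inj (C.conj_mem y hb) hb' ((C.img_pi y hb (C.conj_mem y hb)).trans hq)⟩

/-- The kernel of a cover at `a` is `1`, `a`. -/
theorem eq_of_pi_one {a : G} (ha : a ∈ D) (C : Cover (Dc D a)) {x : ↥(Subgroup.closure (Dc D a))}
    (hx : C.π x = 1) : (x : G) = 1 ∨ (x : G) = a :=
  H.eq_one_or_eq ha (Subgroup.mem_centralizer_singleton_iff.1 ((H.cent_eq ha).ge x.2)) fun y hy =>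
    congrArg Subtype.val (C.ker x hx ⟨y, Subgroup.subset_closure hy⟩).eq

/-- With a sign, a cover at `a` makes the group generated a direct product with two elements. -/
theorem exists_split {a : G} (ha : a ∈ D) (C : Cover (Dc D a)) (χ : G →* ℤˣ)
    (hχ : ∀ d ∈ D, χ d = -1) :
    ∃ ι : ↥(Subgroup.closure (Dc D a)) ≃* C.Q × ℤˣ,
      ∀ x, ι x = (C.π x, χ (x : G)) := by
  set ι : ↥(Subgroup.closure (Dc D a)) →* C.Q × ℤˣ :=
    C.π.prod (χ.comp (Subgroup.closure (Dc D a)).subtype) with hι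
  have hinj : Function.Injective ι := by
    refine (injective_iff_map_eq_one ι).2 fun x hx => ?_
    have h2 : χ (x : G) = 1 := congrArg Prod.snd hx
    rcases H.eq_of_pi_one ha C (congrArg Prod.fst hx : C.π x = 1) with e | e
    · exact Subtype.ext e
    · rw [e, hχ a ha] at h2
      exact absurd h2 (by decide)
  have hsurj : Function.Surjective ι := by
    rintro ⟨q, s⟩
    obtain ⟨x, rfl⟩ := C.surj q
    set el : ↥(Subgroup.closure (Dc D a)) := ⟨a, H.mem_closure_dc ha⟩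
    have hπ : C.π el = 1 := C.pi_eq_one el fun z hz => hz.2.2
    by_cases h : χ (x : G) = s
    · exact ⟨x, Prod.ext rfl h⟩
    · refine ⟨x * el, Prod.ext ?_ ?_⟩
      · show C.π (x * el) = C.π x
        rw [map_mul, hπ, mul_one]
      · show χ ((x : G) * a) = s
        rw [map_mul, hχ a ha]
        rcases Int.units_eq_one_or (χ (x : G)) with h1 | h1 <;>
          rcases Int.units_eq_one_or s with h2 | h2 <;> simp [h1, h2] at h ⊢
  exact ⟨MulEquiv.ofBijective ι ⟨hinj, hsurj⟩, fun x => rfl⟩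

variable (H' : M24 D') (hrig : M23Rigid.{u, v}) (χ : G →* ℤˣ) (hχ : ∀ d ∈ D, χ d = -1)
  (χ' : G' →* ℤˣ) (hχ' : ∀ d ∈ D', χ' d = -1)
include H' hrig hχ hχ'

/-- The centralisers of members are isomorphic. -/
theorem exists_star {a : G} {a' : G'} (ha : a ∈ D) (ha' : a' ∈ D') : Nonempty (Star D D' a a') := by
  obtain ⟨C, hC⟩ := H.chart a ha
  obtain ⟨C', hC'⟩ := H'.chart a' ha'
  obtain ⟨e, he⟩ := hrig C.E C'.E hC hC'
  obtain ⟨ι, hι⟩ := H.exists_split ha C χ hχ
  obtain ⟨ι', hι'⟩ := H'.exists_split ha' C' χ' hχ'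
  let θ : ↥(Subgroup.closure (Dc D a)) ≃* ↥(Subgroup.closure (Dc D' a')) :=
    ι.trans ((e.prodCongr (MulEquiv.refl ℤˣ)).trans ι'.symm)
  have hθ : ∀ x y, e (C.π x) = C'.π y → χ (x : G) = χ' (y : G') → θ x = y := fun x y h1 h2 => by
    show ι'.symm _ = y
    rw [MulEquiv.symm_apply_eq, hι']
    show (e.prodCongr (MulEquiv.refl ℤˣ)) (ι x) = _
    rw [hι]
    exact Prod.ext h1 h2
  refine ⟨⟨θ, fun x => ⟨fun h => ?_, fun h => ?_⟩, fun hac => congrArg Subtype.val (hθ ⟨a, hac⟩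
    ⟨a', H'.mem_closure_dc ha'⟩ ?_ ?_)⟩⟩
  · obtain ⟨α, hα, e1⟩ := (he.symm ▸ C'.map_mem _ h : C'.π ⟨_, Subgroup.subset_closure h⟩ ∈ e '' C.E)
    obtain ⟨z, hz, rfl⟩ := C.lift α hα
    have : θ ⟨z, Subgroup.subset_closure hz⟩ = θ x := hθ _ _ e1 (by
      rw [hχ z hz.1, hχ' _ h.1])
    rw [← θ.injective this]
    exact hz
  · obtain ⟨z, hz, e1⟩ := C'.lift (e (C.π x)) (he ▸ ⟨_, C.map_mem _ h, rfl⟩)
    rw [hθ x ⟨z, Subgroup.subset_closure hz⟩ e1.symm (by rw [hχ _ h.1, hχ' z hz.1])]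
    exact hz
  · rw [C.pi_eq_one _ fun z hz => hz.2.2, C'.pi_eq_one _ fun z hz => hz.2.2, map_one]
  · rw [hχ a ha, hχ' a' ha']

/-- A member commuting with `a` can be sent to any commuting with `a'`. -/
theorem exists_star_map {a b : G} {a' b' : G'} (ha : a ∈ D) (hb : b ∈ Dc D a) (ha' : a' ∈ D')
    (hb' : b' ∈ Dc D' a') : ∃ s : Star D D' a a', s.f b = b' := by
  obtain ⟨s⟩ := H.exists_star H' hrig χ hχ χ' hχ' ha ha'
  obtain ⟨y, hy⟩ := H'.exists_conj_dc ha' (s.f_mem hb) hb'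
  exact ⟨s.conj H'.grp ha' y, (s.conj_f H'.grp ha' y (Subgroup.subset_closure hb)).trans hy⟩

end M24

end Cfsg.Agent.Transpos
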