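import Cfsg.Agent.Lib.Transpos.M24Local
import Cfsg.Agent.Lib.Transpos.M24Pair
import Cfsg.Agent.Lib.Transpos.M23Thirteen
import Cfsg.Agent.Lib.Transpos.M22PairNormalizer

/-!
# Subgroups of order thirteen in type M(24)

`M24.thirteen_six`: a subgroup of order 13 centralises the six members of a product of two groups
`Perm (Fin 3)`, and `M24.thirteen_fx`: no others.  `M24.thirteen_local`, `M24.thirteen_index`: the
orders of the normaliser parts.
-/

set_option autoImplicit false
set_option linter.style.haveILetI false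
set_option linter.unusedSectionVars false

namespace Cfsg.Agent.Transpos

open Cfsg

universe u

variable {G : Type u} [Group G] {D : Set G}

/-- Two commuting non-commuting pairs of members. -/
structure PairSix (D : Set G) (a d b c : G) : Prop where
  ha : a ∈ D
  hd : d ∈ D
  hb : b ∈ D
  hc : c ∈ D
  had : ¬ Commute a d
  hbc : ¬ Commute b c
  hab : Commute a b
  hac : Commute a c
  hdb : Commute d b
  hdc : Commute d c

namespace PairSix

variable {a d b c : G} (S : PairSix D a d b c)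
include S

theorem swap : PairSix D b c a d := ⟨S.hb, S.hc, S.ha, S.hd, S.hbc, S.had, S.hab.symm, S.hdb.symm,
  S.hac.symm, S.hdc.symm⟩

theorem mem_dc : b ∈ Dc D a ∧ c ∈ Dc D a := by
  refine ⟨⟨S.hb, fun e => S.hbc (e.symm ▸ S.hac), S.hab⟩,
    ⟨S.hc, fun e => S.hbc (e.symm ▸ S.hab.symm), S.hac⟩⟩

/-- Conjugation by `a d` moves `a` to `d`. -/
theorem conj_cycle (hE : IsThreeTranspositionSet D) : a * d * a * (a * d)⁻¹ = d := by
  rw [mul_inv_rev, inv_eq hE S.ha, inv_eq hE S.hd]
  calc a * d * a * (d * a) = (a * d * a) * d * a := by group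
    _ = (d * a * d) * d * a := by rw [braid hE S.ha S.hd S.had]
    _ = d * a * (d * d) * a := by group
    _ = d * (a * a) := by rw [sq_one hE S.hd]; group
    _ = d := by rw [sq_one hE S.ha, mul_one]

theorem conj_flip (hE : IsThreeTranspositionSet D) : d * a * d⁻¹ = a * d * a := by
  rw [inv_eq hE S.hd, braid hE S.ha S.hd S.had]

theorem conj_self (hE : IsThreeTranspositionSet D) : a * d * a⁻¹ = a * d * a := by
  rw [inv_eq hE S.ha]

theorem conj_mem (hD : IsThreeTranspositionGroup D) : a * d * a ∈ D := by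
  rw [← S.conj_self hD.1]; exact hD.2.1 a d S.hd

theorem commute_conj : Commute b (a * d * a) :=
  ((S.hab.symm.mul_right S.hdb.symm).mul_right S.hab.symm)

end PairSix

/-- The six members. -/
def pairSixSet (a d b c : G) : Set G := {a, d, a * d * a, b, c, b * c * b}

namespace M24

variable [Finite G] (H : M24 D) (hprim : IsPrimitiveUnderConj D) (h24 : IsOfTypeM24 G D)
include H hprim h24

theorem thirteen_sq : ¬ 13 ^ 2 ∣ Nat.card G := by
  rw [H.card_group hprim h24]; norm_num

variable {X : Subgroup G} (hX : Nat.card X = 13)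
include hX

/-- A fixed member commutes with exactly three others, which do not commute with each other. -/
theorem thirteen_nbr {f : G} (hf : f ∈ Fx D X) :
    (Fx D X ∩ Dc D f).ncard = 3 ∧
      ∀ u ∈ Fx D X ∩ Dc D f, ∀ w ∈ Fx D X ∩ Dc D f, w ≠ u → ¬ Commute u w := by
  obtain ⟨C, hC⟩ := H.chart f hf.1
  have hodd : Odd (Nat.card X) := by rw [hX]; decide
  have hXf := (FixGraph.mem_fx.1 hf).2
  have hY : Nat.card (C.image X) = 13 := by rw [C.card_image H hf.1 hXf hodd, hX]
  have himg : ∀ {x} (hx : x ∈ Dc D f), C.img hx ∈ Fx C.E (C.image X) ↔ x ∈ Fx D X :=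
    fun hx => C.img_fx H hf.1 hXf hodd hx
  refine ⟨?_, fun u hu w hw hne hc => ?_⟩
  · rw [← hC.thirteen_fx hC.primitive hY]
    refine Set.ncard_congr (fun x hx => C.img hx.2) (fun x hx => (himg hx.2).2 hx.1)
      (fun x y hx hy e => C.inj hx.2 hy.2 e) fun β hβ => ?_
    obtain ⟨x, hx, rfl⟩ := C.lift β hβ.1
    exact ⟨x, ⟨(himg hx).1 hβ, hx⟩, rfl⟩
  · exact hC.thirteen_pairwise hY ((himg hu.2).2 hu.1) ((himg hw.2).2 hw.1)
      (fun e => hne (C.inj hw.2 hu.2 e)) ((C.comm_iff hu.2 hw.2).2 hc)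

/-- Two non-commuting fixed members commute with the same fixed members. -/
theorem thirteen_common {f u : G} (hf : f ∈ Fx D X) (hu : u ∈ Fx D X) (hnc : ¬ Commute f u) :
    Fx D X ∩ Dc D f = Fx D X ∩ Dc D u := by
  set W := Dc D f ∩ Dc D u with hW
  have hWn : W.ncard = 3240 := (H.pair_data hprim h24 hf.1 hu.1 hnc).1
  have hmod := FixGraph.modEq_fx (by norm_num : Nat.Prime 13) hX W fun x hx s hs =>
    conj_common H.grp (mem_centralizer_pair.2
      ⟨FixGraph.commute_of_fx hf hx, FixGraph.commute_of_fx hu hx⟩) hs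
  set F := W ∩ (Subgroup.centralizer (X : Set G) : Set G) with hF
  rw [hWn] at hmod
  have hFf : F ⊆ Fx D X ∩ Dc D f := fun x hx => ⟨⟨hx.1.1.1, hx.2⟩, hx.1.1⟩
  have hFu : F ⊆ Fx D X ∩ Dc D u := fun x hx => ⟨⟨hx.1.2.1, hx.2⟩, hx.1.2⟩
  have h3 := (H.thirteen_nbr hprim h24 hX hf).1
  have h3' := (H.thirteen_nbr hprim h24 hX hu).1
  have hle := Set.ncard_le_ncard hFf (Set.toFinite _)
  have hge : 3 ≤ F.ncard := by
    unfold Nat.ModEq at hmod
    omega
  rw [← Set.eq_of_subset_of_ncard_le hFf (by omega) (Set.toFinite _),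
    Set.eq_of_subset_of_ncard_le hFu (by omega) (Set.toFinite _)]

/-- A subgroup of order 13 fixes two commuting non-commuting pairs. -/
theorem thirteen_six :
    ∃ a d b c, PairSix D a d b c ∧ a ∈ Fx D X ∧ d ∈ Fx D X ∧ b ∈ Fx D X ∧ c ∈ Fx D X := by
  haveI : Fact (Nat.Prime 13) := ⟨by norm_num⟩
  have hp : IsPGroup 13 X := IsPGroup.of_card (n := 1) (by rw [hX, pow_one])
  have h := fixed_member_modEq H.grp.2.1 hp
  rw [H.ncard_class hprim h24] at h
  obtain ⟨a, ha⟩ : (Fx D X).Nonempty := by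
    rw [Set.nonempty_iff_ne_empty]
    intro e
    rw [show D ∩ (Subgroup.centralizer (X : Set G) : Set G) = Fx D X from rfl, e, Set.ncard_empty] at h
    exact absurd h (by decide)
  obtain ⟨h3, hpw⟩ := H.thirteen_nbr hprim h24 hX ha
  obtain ⟨b, c, _, hbc, -, -, he⟩ := Set.ncard_eq_three.1 h3
  have hb : b ∈ Fx D X ∩ Dc D a := he ▸ Or.inl rfl
  have hc : c ∈ Fx D X ∩ Dc D a := he ▸ Or.inr (Or.inl rfl)
  have hbc' := hpw b hb c hc hbc.symm
  obtain ⟨h3', hpw'⟩ := H.thirteen_nbr hprim h24 hX hb.1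
  have hab : a ∈ Fx D X ∩ Dc D b := ⟨ha, mem_dc_symm ha.1 hb.2⟩
  obtain ⟨d, hd, hda⟩ := Set.exists_ne_of_one_lt_ncard (by rw [h3']; norm_num) a
  have hd' : d ∈ Fx D X ∩ Dc D c := H.thirteen_common hprim h24 hX hb.1 hc.1 hbc' ▸ hd
  exact ⟨a, d, b, c, ⟨ha.1, hd.1.1, hb.1.1, hc.1.1, hpw' a hab d hd hda, hbc', hb.2.2.2, hc.2.2.2,
    hd.2.2.2.symm, hd'.2.2.2.symm⟩, ha, hd.1, hb.1, hc.1⟩

variable {a d b c : G} (S : PairSix D a d b c) (hfa : a ∈ Fx D X) (hfd : d ∈ Fx D X) (hfb : b ∈ Fx D X)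
  (hfc : c ∈ Fx D X)
include S hfa hfd hfb hfc

/-- The fixed members commuting with `a`. -/
theorem thirteen_nbr_eq : Fx D X ∩ Dc D a = {b, c, b * c * b} := by
  have hE := H.grp.1
  have hconj : b * c * b ∈ Fx D X := by
    rw [← S.swap.conj_self hE]
    exact FixGraph.conj_fx H.grp.2.1 (SmallSimple.centralizer_le_normalizer _ hfb.2) hfc
  have hne1 : b * c * b ≠ b := fun e => S.hbc (by
    have : b * c = 1 := mul_eq_right.1 e
    rw [show c = b from (inv_eq_of_mul_eq_one_right this).symm.trans (inv_eq hE S.hb)])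
  have hne2 : b * c * b ≠ c := fun e => S.hbc (by
    rw [commute_iff_eq, ← mul_inv_eq_iff_eq_mul, inv_eq hE S.hb]; exact e)
  have hne3 : b * c * b ≠ a := fun e => S.mem_dc.2.2.1 (by
    calc c = b * (b * c * b) * b := by
          rw [show b * (b * c * b) * b = (b * b) * c * (b * b) by group, sq_one hE S.hb]; group
      _ = a := by rw [e, S.hab.symm.eq, mul_assoc, sq_one hE S.hb, mul_one])
  have hsub : ({b, c, b * c * b} : Set G) ⊆ Fx D X ∩ Dc D a := by
    rintro x (rfl | rfl | rfl)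
    exacts [⟨hfb, S.mem_dc.1⟩, ⟨hfc, S.mem_dc.2⟩,
      ⟨hconj, hconj.1, hne3, (S.hab.mul_right S.hac).mul_right S.hab⟩]
  refine (Set.eq_of_subset_of_ncard_le hsub (le_of_eq ?_) (Set.toFinite _)).symm
  rw [(H.thirteen_nbr hprim h24 hX hfa).1]
  exact (Set.ncard_eq_three.2 ⟨b, c, b * c * b, fun e => S.hbc (by rw [e]), hne1.symm, hne2.symm,
    rfl⟩).symm

/-- The fixed members. -/
theorem thirteen_fx : Fx D X = pairSixSet a d b c := by
  have h1 := H.thirteen_nbr_eq hprim h24 hX S hfa hfd hfb hfc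
  have h2 := H.thirteen_nbr_eq hprim h24 hX S.swap hfb hfc hfa hfd
  have hsub1 : ∀ x ∈ ({b, c, b * c * b} : Set G), x ∈ Fx D X := fun x hx => (h1.symm ▸ hx).1
  have hsub2 : ∀ x ∈ ({a, d, a * d * a} : Set G), x ∈ Fx D X := fun x hx => (h2.symm ▸ hx).1
  refine Set.ext fun f => ⟨fun hf => ?_, ?_⟩
  · by_cases hfa' : f = a
    · exact Or.inl hfa'
    by_cases hc : Commute a f
    · have hf' : f ∈ ({b, c, b * c * b} : Set G) := h1 ▸ ⟨hf, hf.1, hfa', hc⟩
      rcases hf' with e | e | e
      · exact Or.inr (Or.inr (Or.inr (Or.inl e)))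
      · exact Or.inr (Or.inr (Or.inr (Or.inr (Or.inl e))))
      · exact Or.inr (Or.inr (Or.inr (Or.inr (Or.inr e))))
    · have hb : b ∈ Fx D X ∩ Dc D f :=
        H.thirteen_common hprim h24 hX hfa hf hc ▸ ⟨hfb, S.mem_dc.1⟩
      have hf' : f ∈ ({a, d, a * d * a} : Set G) := h2 ▸ ⟨hf, mem_dc_symm hf.1 hb.2⟩
      rcases hf' with e | e | e
      exacts [Or.inl e, Or.inr (Or.inl e), Or.inr (Or.inr (Or.inl e))]
  · rintro (e | e | e | e | e | e) <;> subst e
    exacts [hfa, hfd, hsub2 _ (by simp), hfb, hfc, hsub1 _ (by simp)]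

/-- The normaliser normalises the product of the two groups. -/
theorem thirteen_le_normalizer : Subgroup.normalizer (X : Set G) ≤ Subgroup.normalizer
    ((Subgroup.centralizer (Subgroup.closure ({a, b, c, d} : Set G) : Set G) : Subgroup G) : Set G) := by
  intro n hn
  set T := Subgroup.closure ({a, b, c, d} : Set G)
  have hfx := H.thirteen_fx hprim h24 hX S hfa hfd hfb hfc
  have hm : ∀ x ∈ ({a, b, c, d} : Set G), x ∈ T := fun x hx => Subgroup.subset_closure hx
  have h6 : pairSixSet a d b c ⊆ T := by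
    rintro x (e | e | e | e | e | e) <;> subst e
    exacts [hm _ (by simp), hm _ (by simp), mul_mem (mul_mem (hm _ (by simp)) (hm _ (by simp)))
      (hm _ (by simp)), hm _ (by simp), hm _ (by simp),
      mul_mem (mul_mem (hm _ (by simp)) (hm _ (by simp))) (hm _ (by simp))]
  have hT : ∀ k ∈ Subgroup.normalizer (X : Set G), ∀ t ∈ T, k * t * k⁻¹ ∈ T := by
    intro k hk
    have : T ≤ T.comap (MulAut.conj k).toMonoidHom := (Subgroup.closure_le _).2 fun x hx =>
      h6 (hfx ▸ FixGraph.conj_fx H.grp.2.1 hk (by rcases hx with rfl | rfl | rfl | rfl <;> assumption))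
    exact fun t ht => this ht
  refine FixGraph.mem_normalizer fun k hk => Subgroup.mem_centralizer_iff.2 fun t ht => ?_
  have h := hT n⁻¹ (inv_mem hn) t ht
  have h' := Subgroup.mem_centralizer_iff.1 hk _ h
  calc t * (n * k * n⁻¹) = n * (n⁻¹ * t * n⁻¹⁻¹ * k) * n⁻¹ := by group
    _ = n * k * n⁻¹ * t := by rw [h']; group

omit hfd hfb hfc in
/-- The part of a subgroup commuting with `a`, `b`, `c` is twice the part commuting with all four. -/
theorem card_flip {P : Subgroup G} (haP : a ∈ P) (hP : P ≤ Subgroup.normalizer (X : Set G))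
    (hP' : P ≤ Subgroup.centralizer ({a} : Set G) ⊓ (Subgroup.centralizer ({b} : Set G) ⊓
      Subgroup.centralizer ({c} : Set G))) (hfd : d ∈ Fx D X) (hfb : b ∈ Fx D X) (hfc : c ∈ Fx D X) :
    Nat.card P = 2 * Nat.card ↥(P ⊓ Subgroup.centralizer ({d} : Set G)) := by
  have hE := H.grp.1
  have hne : a * d * a ≠ d := fun e => S.had (by
    rw [commute_iff_eq, ← mul_inv_eq_iff_eq_mul, inv_eq hE S.ha]; exact e)
  rw [← Set.ncard_pair hne.symm]
  refine card_eq_orbit_mul P d _ (fun k hk => ?_) ?_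
  · have hfk := FixGraph.conj_fx H.grp.2.1 (hP hk) hfd
    have hka := Subgroup.mem_centralizer_singleton_iff.1 (hP' hk).1
    have hnc : ¬ Commute a (k * d * k⁻¹) := fun h => S.had (by
      have e : k * a * k⁻¹ = a := mul_inv_eq_iff_eq_mul.2 hka
      rw [← e] at h
      exact (commute_conj_iff k).1 h)
    rw [H.thirteen_fx hprim h24 hX S hfa hfd hfb hfc] at hfk
    rcases hfk with e | e | e | e | e | e
    · exact absurd (by rw [e]) hnc
    · exact Or.inl e
    · exact Or.inr e
    · exact absurd (by rw [e]; exact S.hab) hnc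
    · exact absurd (by rw [e]; exact S.hac) hnc
    · exact absurd (by rw [e]; exact (S.hab.mul_right S.hac).mul_right S.hab) hnc
  · rintro o (rfl | rfl)
    · exact ⟨1, one_mem _, by group⟩
    · exact ⟨a, haP, S.conj_self hE⟩

/-- The local orders. -/
theorem thirteen_local :
    Nat.card ↥(Subgroup.centralizer (Subgroup.closure ({a, b, c, d} : Set G) : Set G) ⊓
      Subgroup.normalizer (X : Set G)) = 78 ∧
      Subgroup.centralizer (Subgroup.closure ({a, b, c, d} : Set G) : Set G) ⊓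
        Subgroup.centralizer (X : Set G) = X := by
  have hK : Subgroup.centralizer (Subgroup.closure ({a, b, c, d} : Set G) : Set G) =
      Subgroup.centralizer ({a} : Set G) ⊓ (Subgroup.centralizer ({b} : Set G) ⊓
        Subgroup.centralizer ({c} : Set G)) ⊓ Subgroup.centralizer ({d} : Set G) := by
    rw [Subgroup.centralizer_closure]
    ext x
    simp only [Subgroup.mem_inf, Subgroup.mem_centralizer_iff, Set.mem_insert_iff,
      Set.mem_singleton_iff, forall_eq_or_imp, forall_eq, and_assoc]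
  obtain ⟨C, hC⟩ := H.chart a S.ha
  have hodd : Odd (Nat.card X) := by rw [hX]; decide
  have hXa := (FixGraph.mem_fx.1 hfa).2
  have hY : Nat.card (C.image X) = 13 := by rw [C.card_image H S.ha hXa hodd, hX]
  obtain ⟨hb, hc⟩ := S.mem_dc
  obtain ⟨-, -, hcY, hnY⟩ := hC.thirteen_local hC.primitive hY
    ((C.img_fx H S.ha hXa hodd hb).2 hfb) ((C.img_fx H S.ha hXa hodd hc).2 hfc)
    fun e => S.hbc (by rw [C.inj hc hb e])
  set M := Subgroup.centralizer ({a} : Set G) ⊓ (Subgroup.centralizer ({b} : Set G) ⊓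
        Subgroup.centralizer ({c} : Set G)) with hM
  set Qb := Subgroup.centralizer ({C.img hb} : Set C.Q) ⊓ Subgroup.centralizer ({C.img hc} : Set C.Q)
  have hpull : ∀ (n : ↥(Subgroup.closure (Dc D a))) {x : G} (hx : x ∈ Dc D a),
      C.π n ∈ Subgroup.centralizer ({C.img hx} : Set C.Q) ↔
        (n : G) ∈ Subgroup.centralizer ({x} : Set G) := by
    intro n x hx
    rw [Subgroup.mem_centralizer_singleton_iff, Subgroup.mem_centralizer_singleton_iff,
      ← mul_inv_eq_iff_eq_mul, ← mul_inv_eq_iff_eq_mul, ← C.img_pi n hx (C.conj_mem n hx)]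
    exact ⟨fun e => C.inj _ hx e, fun e => C.img_congr _ hx e⟩
  -- the two parts in the cover
  have key : ∀ (P : Subgroup G) (P' : Subgroup C.Q),
      (∀ n : ↥(Subgroup.closure (Dc D a)), C.π n ∈ P' ↔ (n : G) ∈ P) →
      Nat.card ↥(P ⊓ M) = 2 * Nat.card ↥(P' ⊓ Qb) := by
    intro P P' hP
    have hle : P ⊓ M ≤ Subgroup.closure (Dc D a) := fun x hx => by
      rw [← H.cent_eq S.ha]; exact hx.2.1
    rw [← C.card_comap H S.ha, ← Nat.card_congr (Subgroup.subgroupOfEquivOfLe hle).toEquiv]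
    refine congrArg (fun W : Subgroup ↥(Subgroup.closure (Dc D a)) => Nat.card W)
      (Subgroup.ext fun n => ?_)
    rw [Subgroup.mem_subgroupOf, hM, Subgroup.mem_inf, Subgroup.mem_inf, Subgroup.mem_inf,
      Subgroup.mem_comap, Subgroup.mem_inf, Subgroup.mem_inf, hP n, hpull n hb, hpull n hc]
    exact and_congr_right fun _ => and_iff_right (by rw [H.cent_eq S.ha]; exact n.2)
  have hN := key _ _ (C.mem_normalizer_image H S.ha hXa hodd)
  have hZ := key _ _ (C.mem_centralizer_image H S.ha hXa hodd)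
  rw [hnY] at hN
  rw [hcY, hY] at hZ
  have haZ : a ∈ Subgroup.centralizer (X : Set G) := hfa.2
  have haM : a ∈ M := ⟨Subgroup.mem_centralizer_singleton_iff.2 rfl,
    Subgroup.mem_centralizer_singleton_iff.2 S.hab.eq, Subgroup.mem_centralizer_singleton_iff.2 S.hac.eq⟩
  have hcn := SmallSimple.centralizer_le_normalizer X
  have e1 := H.card_flip hprim h24 hX S hfa
    (P := Subgroup.normalizer (X : Set G) ⊓ M) ⟨hcn haZ, haM⟩ inf_le_left inf_le_right hfd hfb hfc
  have e2 := H.card_flip hprim h24 hX S hfa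
    (P := Subgroup.centralizer (X : Set G) ⊓ M) ⟨haZ, haM⟩ (inf_le_left.trans hcn) inf_le_right
      hfd hfb hfc
  rw [hN, inf_assoc, ← hK, inf_comm] at e1
  rw [hZ, inf_assoc, ← hK, inf_comm] at e2
  refine ⟨by omega, ?_⟩
  refine (Subgroup.eq_of_le_of_card_ge (le_inf (fun x hx => ?_) fun x hx => ?_) (by omega)).symm
  · rw [Subgroup.centralizer_closure]
    refine Subgroup.mem_centralizer_iff.2 fun f hf => (FixGraph.commute_of_fx (D := D) ?_ hx).symm.eq
    rcases hf with rfl | rfl | rfl | rfl <;> assumption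
  · haveI : Fact (Nat.Prime 13) := ⟨by norm_num⟩
    haveI := isCyclic_of_prime_card hX
    refine Subgroup.mem_centralizer_iff.2 fun k hk => ?_
    exact congrArg Subtype.val ((IsCyclic.commutative (α := X)).is_comm.comm ⟨k, hk⟩ ⟨x, hx⟩)

/-- The order of a subgroup between the product with the two groups and the normaliser. -/
theorem card_between {U : Subgroup G} (hU : U ≤ Subgroup.normalizer (X : Set G))
    (hT : ({a, b, c, d} : Set G) ⊆ U)
    (hK : Subgroup.centralizer (Subgroup.closure ({a, b, c, d} : Set G) : Set G) ⊓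
      Subgroup.normalizer (X : Set G) ≤ U)
    (O : Set G) (hO : ∀ k ∈ U, k * a * k⁻¹ ∈ O) (hO' : ∀ o ∈ O, ∃ k ∈ U, k * a * k⁻¹ = o) :
    Nat.card U = O.ncard * 936 := by
  have hE := H.grp.1
  have haU : a ∈ U := hT (by simp)
  have hbU : b ∈ U := hT (by simp)
  have hcU : c ∈ U := hT (by simp)
  have hfx := H.thirteen_fx hprim h24 hX S hfa hfd hfb hfc
  have hfix : ∀ {k x : G}, k ∈ Subgroup.centralizer ({x} : Set G) → k * x * k⁻¹ = x := fun h =>
    mul_inv_eq_iff_eq_mul.2 (Subgroup.mem_centralizer_singleton_iff.1 h)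
  have hsd : ∀ {x : G}, x ∈ U → Commute x a → x ∈ U ⊓ Subgroup.centralizer ({a} : Set G) :=
    fun hx h => ⟨hx, Subgroup.mem_centralizer_singleton_iff.2 h.eq⟩
  rw [card_eq_orbit_mul U a O hO hO']
  congr 1
  set U1 := U ⊓ Subgroup.centralizer ({a} : Set G) with hU1
  have hne : a * d * a ≠ d := fun e => S.had (by
    rw [commute_iff_eq, ← mul_inv_eq_iff_eq_mul, inv_eq hE S.ha]; exact e)
  have e1 := card_eq_orbit_mul U1 d {d, a * d * a} (fun k hk => by
    have hnc : ¬ Commute a (k * d * k⁻¹) := fun h => S.had (by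
      rw [← hfix hk.2] at h
      exact (commute_conj_iff k).1 h)
    have hfk := FixGraph.conj_fx H.grp.2.1 (hU hk.1) hfd
    rw [hfx] at hfk
    rcases hfk with e | e | e | e | e | e
    · exact absurd (by rw [e]) hnc
    · exact Or.inl e
    · exact Or.inr e
    · exact absurd (by rw [e]; exact S.hab) hnc
    · exact absurd (by rw [e]; exact S.hac) hnc
    · exact absurd (by rw [e]; exact (S.hab.mul_right S.hac).mul_right S.hab) hnc) (by
    rintro o (rfl | rfl)
    · exact ⟨1, one_mem _, by group⟩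
    · exact ⟨a, hsd haU (Commute.refl _), S.conj_self hE⟩)
  rw [Set.ncard_pair hne.symm] at e1
  set U2 := U1 ⊓ Subgroup.centralizer ({d} : Set G) with hU2
  have hbU2 : b ∈ U2 := ⟨hsd hbU S.hab.symm, Subgroup.mem_centralizer_singleton_iff.2 S.hdb.symm.eq⟩
  have hcU2 : c ∈ U2 := ⟨hsd hcU S.hac.symm, Subgroup.mem_centralizer_singleton_iff.2 S.hdc.symm.eq⟩
  have e2 := card_eq_orbit_mul U2 b {b, c, b * c * b} (fun k hk => by
    rw [← H.thirteen_nbr_eq hprim h24 hX S hfa hfd hfb hfc]
    refine ⟨FixGraph.conj_fx H.grp.2.1 (hU hk.1.1) hfb, ?_⟩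
    have := (stab_of_normal H.grp k).carries.dc a |>.1 b S.mem_dc.1
    rwa [hfix hk.1.2] at this) (by
    rintro o (rfl | rfl | rfl)
    · exact ⟨1, one_mem _, by group⟩
    · exact ⟨b * o, mul_mem hbU2 hcU2, S.swap.conj_cycle hE⟩
    · exact ⟨c, hcU2, S.swap.conj_flip hE⟩)
  rw [Set.ncard_eq_three.2 ⟨b, c, b * c * b, fun e => S.hbc (by rw [e]), fun e => S.hbc (by
      have : b * c = 1 := mul_eq_right.1 e.symm
      rw [show c = b from (inv_eq_of_mul_eq_one_right this).symm.trans (inv_eq hE S.hb)]), fun e => S.hbc (by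
      rw [commute_iff_eq, ← mul_inv_eq_iff_eq_mul, inv_eq hE S.hb]; exact e.symm), rfl⟩] at e2
  set U3 := U2 ⊓ Subgroup.centralizer ({b} : Set G) with hU3
  have hne' : b * c * b ≠ c := fun e => S.hbc (by
    rw [commute_iff_eq, ← mul_inv_eq_iff_eq_mul, inv_eq hE S.hb]; exact e)
  have e3 := card_eq_orbit_mul U3 c {c, b * c * b} (fun k hk => by
    have hnc : ¬ Commute b (k * c * k⁻¹) := fun h => S.hbc (by
      rw [← hfix hk.2] at h
      exact (commute_conj_iff k).1 h)
    have h := FixGraph.conj_fx H.grp.2.1 (hU hk.1.1.1) hfc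
    rw [hfx] at h
    rcases h with e | e | e | e | e | e
    · exact absurd (by rw [e]; exact S.hab.symm) hnc
    · exact absurd (by rw [e]; exact S.hdb.symm) hnc
    · exact absurd (by rw [e]; exact S.commute_conj) hnc
    · exact absurd (by rw [e]) hnc
    · exact Or.inl e
    · exact Or.inr e) (by
    rintro o (rfl | rfl)
    · exact ⟨1, one_mem _, by group⟩
    · exact ⟨b, ⟨hbU2, Subgroup.mem_centralizer_singleton_iff.2 rfl⟩, S.swap.conj_self hE⟩)
  rw [Set.ncard_pair hne'.symm] at e3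
  have e4 : U3 ⊓ Subgroup.centralizer ({c} : Set G) =
      Subgroup.centralizer (Subgroup.closure ({a, b, c, d} : Set G) : Set G) ⊓
        Subgroup.normalizer (X : Set G) := by
    rw [Subgroup.centralizer_closure]
    ext k
    simp only [hU3, hU2, hU1, Subgroup.mem_inf, Subgroup.mem_centralizer_singleton_iff]
    constructor
    · rintro ⟨⟨⟨⟨hk, ka⟩, kd⟩, kb⟩, kc⟩
      refine ⟨Subgroup.mem_centralizer_iff.2 fun f hf => ?_, hU hk⟩
      rcases hf with rfl | rfl | rfl | rfl
      exacts [ka.symm, kb.symm, kc.symm, kd.symm]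
    · rintro ⟨hk, hn⟩
      have hkU : k ∈ U := hK ⟨by rw [Subgroup.centralizer_closure]; exact hk, hn⟩
      have h := fun f hf => (Subgroup.mem_centralizer_iff.1 hk f hf).symm
      exact ⟨⟨⟨⟨hkU, h a (by simp)⟩, h d (by simp)⟩, h b (by simp)⟩, h c (by simp)⟩
  rw [e4, (H.thirteen_local hprim h24 hX S hfa hfd hfb hfc).1] at e3
  omega

/-- The product with the two groups has index two in the normaliser. -/
theorem thirteen_index :
    (((Subgroup.centralizer (Subgroup.closure ({a, b, c, d} : Set G) : Set G) ⊓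
      Subgroup.normalizer (X : Set G)) ⊔ Subgroup.closure ({a, b, c, d} : Set G)).subgroupOf
        (Subgroup.normalizer (X : Set G))).index = 2 := by
  have hE := H.grp.1
  set T := Subgroup.closure ({a, b, c, d} : Set G)
  set K := Subgroup.centralizer (T : Set G)
  set N := Subgroup.normalizer (X : Set G)
  set U := (K ⊓ N) ⊔ T with hUdef
  have hfx := H.thirteen_fx hprim h24 hX S hfa hfd hfb hfc
  have hcn := SmallSimple.centralizer_le_normalizer X
  have hTN : ({a, b, c, d} : Set G) ⊆ (N : Set G) := by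
    rintro x (rfl | rfl | rfl | rfl) <;> refine hcn ?_
    exacts [hfa.2, hfb.2, hfc.2, hfd.2]
  have hUN : U ≤ N := sup_le inf_le_right ((Subgroup.closure_le _).2 hTN)
  have hTU : ({a, b, c, d} : Set G) ⊆ (U : Set G) := fun x hx =>
    Subgroup.mem_sup_right (Subgroup.subset_closure hx)
  have haU : a ∈ U := hTU (by simp)
  have hdU : d ∈ U := hTU (by simp)
  have hne : a * d * a ≠ d := fun e => S.had (by
    rw [commute_iff_eq, ← mul_inv_eq_iff_eq_mul, inv_eq hE S.ha]; exact e)
  have hne' : a * d * a ≠ a := fun e => S.had (by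
    have : a * d = 1 := mul_eq_right.1 e
    rw [show d = a from (inv_eq_of_mul_eq_one_right this).symm.trans (inv_eq hE S.ha)])
  have htri : ({a, d, a * d * a} : Set G).ncard = 3 :=
    Set.ncard_eq_three.2 ⟨a, d, a * d * a, fun e => S.had (by rw [e]), hne'.symm, hne.symm, rfl⟩
  -- the orbit of the product
  set P := Subgroup.closure ({a, d} : Set G) with hP
  have hPU : U ≤ Subgroup.normalizer (P : Set G) := by
    have haP : a ∈ P := Subgroup.subset_closure (by simp)
    have hdP : d ∈ P := Subgroup.subset_closure (by simp)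
    have hCP : Subgroup.centralizer (P : Set G) ≤ Subgroup.normalizer (P : Set G) :=
      SmallSimple.centralizer_le_normalizer _
    have hP2 : ∀ x, Commute x a → Commute x d → x ∈ Subgroup.normalizer (P : Set G) := fun x h1 h2 =>
      hCP (by rw [hP, Subgroup.centralizer_closure]; exact mem_centralizer_pair.2 ⟨h1, h2⟩)
    refine sup_le (fun k hk => ?_) ((Subgroup.closure_le _).2 ?_)
    · have h := fun f (hf : f ∈ ({a, b, c, d} : Set G)) =>
        (Subgroup.mem_centralizer_iff.1 hk.1 f (Subgroup.subset_closure hf)).symm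
      exact hP2 k (h a (by simp)) (h d (by simp))
    · rintro x (rfl | rfl | rfl | rfl)
      exacts [Subgroup.le_normalizer haP, hP2 x S.hab.symm S.hdb.symm, hP2 x S.hac.symm S.hdc.symm,
        Subgroup.le_normalizer hdP]
  have hout : ∀ x ∈ Fx D X, x ∈ P → x ∈ ({a, d, a * d * a} : Set G) := by
    intro x hx hxP
    rw [hfx] at hx
    have hx1 : Commute x a → Commute x d → x ∈ D → x ∈ ({a, d, a * d * a} : Set G) := fun h1 h2 hxD => by
      have h : x ∈ Subgroup.closure ({a, d} : Set G) ⊓ Subgroup.centralizer ({a, d} : Set G) :=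
        ⟨hxP, mem_centralizer_pair.2 ⟨h1, h2⟩⟩
      rw [closure_inf_centralizer H.grp S.ha S.hd S.had, Subgroup.mem_bot] at h
      exact absurd h (ne_one hE hxD)
    rcases hx with e | e | e | e | e | e
    exacts [Or.inl e, Or.inr (Or.inl e), Or.inr (Or.inr e),
      hx1 (e ▸ S.hab.symm) (e ▸ S.hdb.symm) (e ▸ S.hb),
      hx1 (e ▸ S.hac.symm) (e ▸ S.hdc.symm) (e ▸ S.hc),
      hx1 (e ▸ ((S.hab.mul_right S.hac).mul_right S.hab).symm)
        (e ▸ ((S.hdb.mul_right S.hdc).mul_right S.hdb).symm) (e ▸ S.swap.conj_mem H.grp)]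
  have hO' : ∀ o ∈ ({a, d, a * d * a} : Set G), ∃ k ∈ U, k * a * k⁻¹ = o := by
    rintro o (rfl | rfl | rfl)
    · exact ⟨1, one_mem _, by group⟩
    · exact ⟨a * o, mul_mem haU hdU, S.conj_cycle hE⟩
    · exact ⟨d, hdU, S.conj_flip hE⟩
  have e1 := H.card_between hprim h24 hX S hfa hfd hfb hfc hUN hTU le_sup_left {a, d, a * d * a}
    (fun k hk => hout _ (FixGraph.conj_fx H.grp.2.1 (hUN hk) hfa)
      (FixGraph.conj_mem_of_normalizer (hPU hk) (Subgroup.subset_closure (by simp)))) hO'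
  rw [htri] at e1
  -- the orbit of the normaliser
  obtain ⟨g, hg⟩ := H.trans a S.ha b S.hb
  obtain ⟨k, hk, hkg⟩ := FixGraph.exists_norm (by norm_num : Nat.Prime 13)
    (C := Subgroup.centralizer ({b} : Set G)) (g := g)
    (fun h => H.thirteen_sq hprim h24 ((dvd_of_eq (by norm_num)).trans
      (h.trans (Subgroup.card_subgroup_dvd_card _)))) hX (FixGraph.mem_fx.1 hfb).2
    fun x hx => Subgroup.mem_centralizer_singleton_iff.2 (by
      rw [← hg]; exact (commute_conj_iff g).2 (FixGraph.commute_of_fx hfa hx))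
  have hkab : k * g * a * (k * g)⁻¹ = b := by
    rw [show k * g * a * (k * g)⁻¹ = k * (g * a * g⁻¹) * k⁻¹ by group, hg,
      mul_inv_eq_iff_eq_mul.2 (Subgroup.mem_centralizer_singleton_iff.1 hk)]
  have e2 := H.card_between hprim h24 hX S hfa hfd hfb hfc (le_refl N) hTN inf_le_right
    (pairSixSet a d b c) (fun n hn => hfx ▸ FixGraph.conj_fx H.grp.2.1 hn hfa) (fun o ho => by
      rcases ho with e | e | e | e | e | e
      · obtain ⟨m, hm, hm'⟩ := hO' o (Or.inl e); exact ⟨m, hUN hm, hm'⟩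
      · obtain ⟨m, hm, hm'⟩ := hO' o (Or.inr (Or.inl e)); exact ⟨m, hUN hm, hm'⟩
      · obtain ⟨m, hm, hm'⟩ := hO' o (Or.inr (Or.inr e)); exact ⟨m, hUN hm, hm'⟩
      · exact ⟨k * g, hkg, e ▸ hkab⟩
      · refine ⟨b * c * (k * g), mul_mem (mul_mem (hTN (by simp)) (hTN (by simp))) hkg, e.symm ▸ ?_⟩
        rw [show b * c * (k * g) * a * (b * c * (k * g))⁻¹ =
          b * c * (k * g * a * (k * g)⁻¹) * (b * c)⁻¹ by group, hkab]
        exact S.swap.conj_cycle hE
      · refine ⟨c * (k * g), mul_mem (hTN (by simp)) hkg, e.symm ▸ ?_⟩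
        rw [show c * (k * g) * a * (c * (k * g))⁻¹ = c * (k * g * a * (k * g)⁻¹) * c⁻¹ by group, hkab]
        exact S.swap.conj_flip hE)
  have h6 : (pairSixSet a d b c).ncard = 6 := by
    have hu : pairSixSet a d b c = {a, d, a * d * a} ∪ {b, c, b * c * b} := by
      ext x
      simp only [pairSixSet, Set.mem_union, Set.mem_insert_iff, Set.mem_singleton_iff, or_assoc]
    have hdj : Disjoint ({a, d, a * d * a} : Set G) ({b, c, b * c * b} : Set G) := by
      rw [Set.disjoint_left]
      intro x hx hx'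
      rw [← H.thirteen_nbr_eq hprim h24 hX S hfa hfd hfb hfc] at hx'
      rcases hx with e | e | e
      · exact hx'.2.2.1 e
      · exact S.had (e ▸ hx'.2.2.2)
      · have h : Commute a (a * d * a) := e ▸ hx'.2.2.2
        rw [← S.conj_self hE] at h
        have h' : Commute (a * a * a⁻¹) (a * d * a⁻¹) := by rwa [mul_inv_cancel_right]
        exact S.had ((commute_conj_iff a).1 h')
    rw [hu, Set.ncard_union_eq hdj (Set.toFinite _) (Set.toFinite _), htri,
      ← H.thirteen_nbr_eq hprim h24 hX S hfa hfd hfb hfc, (H.thirteen_nbr hprim h24 hX hfa).1]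
  rw [h6] at e2
  have h := (U.subgroupOf N).card_mul_index
  rw [Nat.card_congr (Subgroup.subgroupOfEquivOfLe hUN).toEquiv, e1, e2] at h
  omega

end M24

end Cfsg.Agent.Transpos
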