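import Cfsg.Agent.Lib.Transpos.M24Equitable

/-!
# The traces on the common members of a commuting pair in type M(24)

`M24.exists_small_closed`: the common members of non-commuting `a` and `c` fall into closed parts, as
commuting ones have the same image in `S₃`.  `M24.no_common_trace`: for commuting `a`, `b`, a member
`c` at `b` off `a` and a member `d` at `a` off `b` have different sets of commuting common members
of `a` and `b`.
-/

set_option autoImplicit false
set_option linter.style.haveILetI false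
set_option linter.unusedSectionVars false

namespace Cfsg.Agent.Transpos

open Cfsg Cfsg.Agent.ClassicalSimple

universe u

/-- Commuting involutions of `Perm (Fin 3)` are equal. -/
theorem perm_three_inv_eq : ∀ σ τ : Equiv.Perm (Fin 3), σ * σ = 1 → τ * τ = 1 → σ * τ = τ * σ →
    σ ≠ 1 → τ ≠ 1 → σ = τ := by decide +kernel

/-- `Perm (Fin 3)` has trivial centre. -/
theorem perm_three_center : ∀ τ : Equiv.Perm (Fin 3), (∀ σ, σ * τ = τ * σ) → τ = 1 := by
  decide +kernel

variable {G : Type u} [Group G] [Finite G] {D : Set G}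

namespace M24

variable (H : M24 D) (hprim : IsPrimitiveUnderConj D) (h24 : IsOfTypeM24 G D)
include H hprim h24

/-- The common members of `a` and `c` have a small closed part at each of them. -/
theorem exists_small_closed {a c b : G} (ha : a ∈ D) (hc : c ∈ D) (hac : ¬ Commute a c)
    (hb : b ∈ Dc D a ∩ Dc D c) :
    ∃ S, ClosedIn D (Dc D a ∩ Dc D c) S ∧ b ∈ S ∧ S.ncard ≤ 2888 := by
  classical
  have hstr := H.common_structure hprim h24 ha hc hac
  set L := Subgroup.centralizer ({a, c} : Set G)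
  obtain ⟨hKL, N, hN, hF, ⟨eN⟩, ⟨eq⟩⟩ := hstr
  haveI := S0296.result (F := ZMod 3) 4 le_rfl
  haveI hNs : IsSimpleGroup ↥N := ClassicalSimple.isSimpleGroup_of_equiv eN
  let q : ↥L →* Equiv.Perm (Fin 3) := eq.toMonoidHom.comp (QuotientGroup.mk' N)
  have hq : ∀ x, q x = 1 ↔ x ∈ N := fun x => by
    show eq (QuotientGroup.mk x) = 1 ↔ _
    rw [MulEquiv.map_eq_one_iff, QuotientGroup.eq_one_iff]
  have hqs : Function.Surjective q := eq.surjective.comp (QuotientGroup.mk'_surjective N)
  set T := Dc D a ∩ Dc D c with hT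
  have hTL : ∀ {z}, z ∈ T → z ∈ L := fun hz => hKL ▸ Subgroup.subset_closure hz
  let el : ∀ {z : G}, z ∈ T → ↥L := fun {z} hz => ⟨z, hTL hz⟩
  have hsq : ∀ {z} (hz : z ∈ T), q (el hz) * q (el hz) = 1 := fun {z} hz => by
    rw [← map_mul, show el hz * el hz = 1 from Subtype.ext (sq_one H.grp.1 hz.1.1), map_one]
  have hgen : ∀ (K : Subgroup ↥L), (∀ z (hz : z ∈ T), el hz ∈ K) → K = ⊤ := fun K hK => by
    refine eq_top_iff.2 fun l _ => ?_
    have hle : Subgroup.closure T ≤ K.map L.subtype :=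
      (Subgroup.closure_le _).2 fun z hz => ⟨el hz, hK z hz, rfl⟩
    obtain ⟨m, hm, e⟩ := hle (by rw [hKL]; exact l.2)
    rwa [← Subtype.ext (a1 := m) (a2 := l) e]
  -- no common member lies in the simple subgroup
  have hout : ∀ z (hz : z ∈ T), q (el hz) ≠ 1 := by
    intro y hy hy1
    set K₂ := Subgroup.closure {x : ↥L | (x : G) ∈ T ∧ q x ≠ 1} with hK₂
    have hnorm : K₂.Normal := by
      refine ⟨fun n hn g => ?_⟩
      have hle : K₂ ≤ K₂.comap (MulAut.conj g).toMonoidHom := (Subgroup.closure_le _).2 fun x hx =>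
        Subgroup.subset_closure ⟨conj_common H.grp g.2 hx.1, fun h => hx.2 (by
          have h' : q (g * x * g⁻¹) = 1 := h
          rw [map_mul, map_mul, map_inv, mul_inv_eq_one] at h'
          exact mul_left_cancel (h'.trans (mul_one _).symm))⟩
      exact hle hn
    have hyK : el hy ∈ Subgroup.centralizer (K₂ : Set ↥L) := by
      rw [hK₂, Subgroup.centralizer_closure]
      refine Subgroup.mem_centralizer_iff.2 fun x hx => Subtype.ext ?_
      show (x : G) * y = y * x
      by_contra hne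
      have hb : (x : G) * y * x = y * x * y := (braid_of_pow_three (sq_one H.grp.1 hx.1.1.1)
        (sq_one H.grp.1 hy.1.1) (mul_pow_three H.grp hx.1.1.1 hy.1.1 hne)).symm
      have h' : q (x * el hy * x) = q (el hy * x * el hy) := congrArg q (Subtype.ext hb)
      rw [map_mul, map_mul, map_mul, map_mul, hy1, mul_one, one_mul, mul_one,
        show q x * q x = 1 from hsq hx.1] at h'
      exact hx.2 h'.symm
    haveI : (Subgroup.centralizer (K₂ : Set ↥L)).Normal := by
      haveI := hnorm; infer_instance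
    have hNK : N ≤ Subgroup.centralizer (K₂ : Set ↥L) := by
      rcases (inferInstance :
        ((Subgroup.centralizer (K₂ : Set ↥L)).subgroupOf N).Normal).eq_bot_or_eq_top with h | h
      · have hm : (⟨el hy, (hq _).1 hy1⟩ : ↥N) ∈
            (Subgroup.centralizer (K₂ : Set ↥L)).subgroupOf N := hyK
        rw [h, Subgroup.mem_bot] at hm
        exact absurd (congrArg (fun w : ↥N => ((w : ↥L) : G)) hm) (ne_one H.grp.1 hy.1.1)
      · exact Subgroup.subgroupOf_eq_top.1 h
    have hK₂N : K₂ ≤ N := by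
      refine le_trans ?_ (hF ▸ Components.centralizer_generalizedFittingSubgroup_le)
      exact fun x hx => Subgroup.mem_centralizer_iff.2 fun n hn =>
        (Subgroup.mem_centralizer_iff.1 (hNK hn) x hx).symm
    have hall : ∀ z (hz : z ∈ T), el hz ∈ N := fun z hz => (hq _).1 (by
      by_contra h
      exact h ((hq _).2 (hK₂N (Subgroup.subset_closure ⟨hz, h⟩))))
    obtain ⟨l, hl⟩ := hqs (Equiv.swap 0 1)
    rw [(hq l).2 ((hgen N hall).symm ▸ Subgroup.mem_top l)] at hl
    exact absurd hl (by decide)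
  -- the part at `b`
  set S := {z | ∃ hz : z ∈ T, q (el hz) = q (el hb)} with hS
  have hcl : ClosedIn D T S := by
    refine ⟨fun z hz => hz.1, fun z ⟨hz, e⟩ x hx hzx => ⟨hx, e ▸ ?_⟩⟩
    refine perm_three_inv_eq _ _ (hsq hx) (hsq hz) ?_ (hout _ hx) (hout _ hz)
    rw [← map_mul, ← map_mul]
    exact congrArg q (Subtype.ext hzx.2.2.symm.eq)
  refine ⟨S, hcl, ⟨hb, rfl⟩, ?_⟩
  obtain ⟨x, hxT, hxS⟩ : ∃ x ∈ T, x ∉ S := by
    by_contra hall
    push Not at hall
    refine hout b hb (perm_three_center _ fun σ => ?_)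
    obtain ⟨l, rfl⟩ := hqs σ
    have := hgen ((Subgroup.centralizer ({q (el hb)} : Set (Equiv.Perm (Fin 3)))).comap q)
      fun z hz => by
        obtain ⟨_, e⟩ := hall z hz
        rw [Subgroup.mem_comap, Subgroup.mem_centralizer_singleton_iff, e]
    exact Subgroup.mem_centralizer_singleton_iff.1 (Subgroup.mem_comap.1 (this ▸ Subgroup.mem_top l))
  have h1 : 352 ≤ (T \ S).ncard := by
    have hsub : insert x (T ∩ Dc D x) ⊆ T \ S := Set.insert_subset ⟨hxT, hxS⟩ fun z hz =>
      (hcl.sdiff fun w hw => hw.1.1).2 x ⟨hxT, hxS⟩ z hz.1 hz.2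
    have h := Set.ncard_le_ncard hsub (Set.toFinite _)
    rw [Set.ncard_insert_of_notMem fun h => h.2.2.1 rfl, H.ncard_common_adj ha hc hac hxT] at h
    exact h
  have h2 := Set.ncard_sdiff_add_ncard_of_subset hcl.1 (Set.toFinite T)
  rw [(H.pair_data hprim h24 ha hc hac).1] at h2
  omega

/-- The traces of the members at `b` off `a` and of those at `a` off `b` differ. -/
theorem no_common_trace {a b c d : G} (ha : a ∈ D) (hb : b ∈ Dc D a) (hc : c ∈ Dc D b)
    (hac : ¬ Commute a c) (hd : d ∈ Dc D a) (hbd : ¬ Commute b d) :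
    ¬ ∀ x ∈ Dc D a ∩ Dc D b, x ∈ Dc D c ↔ x ∈ Dc D d := by
  intro hall
  have hbT : b ∈ Dc D a ∩ Dc D c := ⟨hb, mem_dc_symm hb.1 hc⟩
  by_cases hdc : d ∈ Dc D c
  · obtain ⟨x, hx, hxb, hxd⟩ := H.commonSep ha hc.1 hac hbT ⟨hd, hdc⟩ hbd
    exact hxd ((hall x ⟨hx.1, hxb⟩).1 hx.2).2.2.symm
  · obtain ⟨S, hS, hbS, hn⟩ := H.exists_small_closed hprim h24 ha hc.1 hac hbT
    have h9 := H.equitable hprim h24 ha hc.1 hac hS hd hdc
    have hle : (Dc D a ∩ Dc D c) ∩ Dc D b ⊆ S ∩ Dc D d := fun x hx =>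
      ⟨hS.2 b hbS x hx.1 hx.2, (hall x ⟨hx.1.1, hx.2⟩).1 hx.1.2⟩
    have h := Set.ncard_le_ncard hle (Set.toFinite _)
    rw [H.ncard_common_adj ha hc.1 hac hbT] at h
    omega

end M24

end Cfsg.Agent.Transpos
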