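import Cfsg.Agent.Lib.Transpos.M24Far

/-!
# Uniqueness of the groups of type M(24)

`M24F.exists_graph_iso`: the commuting graphs of two such classes are isomorphic, by an isomorphism at
one member continued equivariantly over the members off it.  `iso_of_graph`: as the third member of a
non-commuting pair is determined by the graph, this comes from an isomorphism of the groups.
-/

set_option autoImplicit false
set_option linter.style.haveILetI false
set_option linter.unusedSectionVars false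

namespace Cfsg.Agent.Transpos

open Cfsg Cfsg.Agent.ClassicalSimple

universe u v

variable {G : Type u} [Group G] {D : Set G} {G' : Type v} [Group G'] {D' : Set G'}

/-- A commuting-preserving bijection of classes with `ThirdEq` is an isomorphism of the groups. -/
theorem iso_of_graph (hD : IsThreeTranspositionGroup D) (hZ : Subgroup.center G = ⊥)
    (hD' : IsThreeTranspositionGroup D') (hZ' : Subgroup.center G' = ⊥) (h3 : ThirdEq D') {Φ : G → G'}
    (hΦ : Set.BijOn Φ D D') (hcomm : ∀ x ∈ D, ∀ y ∈ D, (Commute (Φ x) (Φ y) ↔ Commute x y)) :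
    ∃ e : G ≃* G', e '' D = D' := by
  have hD1 := hD.1
  have hE1 := hD'.1
  -- the third member
  have heq : ∀ x ∈ D, ∀ y ∈ D, Φ (x * y * x⁻¹) = Φ x * Φ y * (Φ x)⁻¹ := by
    intro x hx y hy
    rw [inv_eq hD1 hx, inv_eq hE1 (hΦ.mapsTo hx)]
    by_cases hxy : Commute x y
    · rw [hxy.eq, mul_assoc, sq_one hD1 hx, mul_one, ((hcomm x hx y hy).2 hxy).eq, mul_assoc,
        sq_one hE1 (hΦ.mapsTo hx), mul_one]
    obtain ⟨hw, hwx, hwy, -, hwc⟩ := third_props hD hx hy hxy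
    have hne : ∀ {z w}, z ∈ D → w ∈ D → z ≠ w → Φ z ≠ Φ w := fun hz hw h e =>
      h (hΦ.injOn hz hw e)
    rcases h3 (hΦ.mapsTo hx) (hΦ.mapsTo hy) (hΦ.mapsTo hw) (fun h => hxy ((hcomm x hx y hy).1 h))
        (fun z' hz' => by
          obtain ⟨z, hz, rfl⟩ := hΦ.surjOn hz'.1.1
          exact (hcomm _ hw z hz).2 (hwc ((hcomm x hx z hz).1 hz'.1.2.2)
            ((hcomm y hy z hz).1 hz'.2.2.2))) with k | k | k
    · exact absurd k (hne hw hx hwx)
    · exact absurd k (hne hw hy hwy)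
    · exact k
  set P : Subgroup (G × G') := Subgroup.closure {p | p.1 ∈ D ∧ p.2 = Φ p.1} with hP
  have hPeq : ∀ p ∈ P, ∀ y ∈ D, Φ (p.1 * y * p.1⁻¹) = p.2 * Φ y * p.2⁻¹ := by
    intro p hp
    induction hp using Subgroup.closure_induction with
    | mem q hq => intro y hy; rw [hq.2]; exact heq _ hq.1 y hy
    | one => intro y _; simp
    | mul q r _ _ hq hr =>
      intro y hy
      have e := hq _ (hD.2.1 r.1 y hy)
      rw [hr y hy] at e
      simp only [Prod.fst_mul, Prod.snd_mul, mul_inv_rev]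
      rw [show q.1 * r.1 * y * (r.1⁻¹ * q.1⁻¹) = q.1 * (r.1 * y * r.1⁻¹) * q.1⁻¹ by group, e]
      group
    | inv q _ hq =>
      intro y hy
      have hy' : q.1⁻¹ * y * q.1 ∈ D := by
        have := hD.2.1 q.1⁻¹ y hy
        rwa [inv_inv] at this
      have e := hq _ hy'
      rw [show q.1 * (q.1⁻¹ * y * q.1) * q.1⁻¹ = y by group] at e
      simp only [Prod.fst_inv, Prod.snd_inv, inv_inv]
      rw [e]
      group
  let π₁ : ↥P →* G := (MonoidHom.fst G G').comp P.subtype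
  let π₂ : ↥P →* G' := (MonoidHom.snd G G').comp P.subtype
  have mem : ∀ x ∈ D, (x, Φ x) ∈ P := fun x hx => Subgroup.subset_closure ⟨hx, rfl⟩
  have s1 : Function.Surjective π₁ := by
    rw [← MonoidHom.range_eq_top, eq_top_iff, ← hD.2.2, Subgroup.closure_le]
    exact fun x hx => ⟨⟨_, mem x hx⟩, rfl⟩
  have s2 : Function.Surjective π₂ := by
    rw [← MonoidHom.range_eq_top, eq_top_iff, ← hD'.2.2, Subgroup.closure_le]
    intro y hy
    obtain ⟨x, hx, rfl⟩ := hΦ.surjOn hy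
    exact ⟨⟨_, mem x hx⟩, rfl⟩
  have i1 : Function.Injective π₁ := by
    refine (injective_iff_map_eq_one π₁).2 fun p hp => Subtype.ext (Prod.ext hp ?_)
    have hc : (p : G × G').2 ∈ Subgroup.center G' := by
      refine Subgroup.mem_center_iff.2 fun g => Subgroup.mem_centralizer_singleton_iff.1
        (?_ : g ∈ Subgroup.centralizer ({(p : G × G').2} : Set G'))
      refine (Subgroup.closure_le _).2 (fun y hy => ?_) (hD'.2.2 ▸ Subgroup.mem_top g)
      obtain ⟨x, hx, rfl⟩ := hΦ.surjOn hy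
      have e := hPeq _ p.2 x hx
      rw [show (p : G × G').1 = 1 from hp, one_mul, inv_one, mul_one] at e
      exact Subgroup.mem_centralizer_singleton_iff.2 (mul_inv_eq_iff_eq_mul.1 e.symm).symm
    rwa [hZ', Subgroup.mem_bot] at hc
  have i2 : Function.Injective π₂ := by
    refine (injective_iff_map_eq_one π₂).2 fun p hp => Subtype.ext (Prod.ext ?_ hp)
    have hc : (p : G × G').1 ∈ Subgroup.center G := by
      refine Subgroup.mem_center_iff.2 fun g => Subgroup.mem_centralizer_singleton_iff.1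
        (?_ : g ∈ Subgroup.centralizer ({(p : G × G').1} : Set G))
      refine (Subgroup.closure_le _).2 (fun x hx => ?_) (hD.2.2 ▸ Subgroup.mem_top g)
      have e := hPeq _ p.2 x hx
      rw [show (p : G × G').2 = 1 from hp, one_mul, inv_one, mul_one] at e
      exact Subgroup.mem_centralizer_singleton_iff.2
        (mul_inv_eq_iff_eq_mul.1 (hΦ.injOn (hD.2.1 _ x hx) hx e)).symm
    rwa [hZ, Subgroup.mem_bot] at hc
  let e₁ := MulEquiv.ofBijective π₁ ⟨i1, s1⟩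
  let e₂ := MulEquiv.ofBijective π₂ ⟨i2, s2⟩
  have hval : ∀ x ∈ D, (e₁.symm.trans e₂) x = Φ x := fun x hx => by
    show e₂ (e₁.symm x) = Φ x
    rw [show e₁.symm x = ⟨_, mem x hx⟩ from e₁.symm_apply_eq.2 rfl]
    rfl
  exact ⟨e₁.symm.trans e₂, (Set.image_congr hval).trans hΦ.image_eq⟩

variable [Finite G] [Finite G']

namespace M24F

variable (H : M24F D) (H' : M24F D') (hrig : M23Rigid.{u, v})
include H H' hrig

omit H' hrig in
/-- Elements of the group at `a` fixing `c` go to elements fixing `u`. -/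
theorem fix_far {a c : G} {a' u : G'} (ha : a ∈ D) (hc : c ∈ D) (hac : ¬ Commute a c)
    (φ : Star D D' a a') (hT : φ.f '' (Dc D a ∩ Dc D c) = Dc D' a' ∩ Dc D' u) {k : G}
    (hk : k ∈ Subgroup.closure (Dc D a)) (hkc : k * c * k⁻¹ = c) :
    φ.f k * u * (φ.f k)⁻¹ = u := by
  obtain ⟨hgen, -⟩ := H.toM24.common_structure H.prim H.type ha hc hac
  have hkT : k ∈ Subgroup.closure (Dc D a ∩ Dc D c) := hgen.ge (mem_centralizer_pair.2
    ⟨Subgroup.mem_centralizer_singleton_iff.1 ((H.toM24.cent_eq ha).ge hk),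
      mul_inv_eq_iff_eq_mul.1 hkc⟩)
  obtain ⟨r, hr⟩ := φ.exists_restrict (fun x hx => hx.1) hT
  have h1 : φ.f k ∈ Subgroup.closure (Dc D' a' ∩ Dc D' u) := by
    rw [← hr ⟨k, hkT⟩]; exact SetLike.coe_mem _
  have h2 := (mem_centralizer_pair.1 ((Subgroup.closure_le _).2
    (fun x hx => mem_centralizer_pair.2 ⟨hx.1.2.2.symm, hx.2.2.2.symm⟩) h1)).2
  rw [h2.eq, mul_inv_cancel_right]

/-- The commuting graphs are isomorphic. -/
theorem exists_graph_iso :
    ∃ Φ : G → G', Set.BijOn Φ D D' ∧ ∀ x ∈ D, ∀ y ∈ D, (Commute (Φ x) (Φ y) ↔ Commute x y) := by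
  classical
  obtain ⟨a, ha, -⟩ := H.prim.2.1
  obtain ⟨a', ha', -⟩ := H'.prim.2.1
  obtain ⟨c, hc, hac⟩ := H.toM24.exists_off ha
  obtain ⟨χ, hχ⟩ := H.sign
  obtain ⟨χ', hχ'⟩ := H'.sign
  obtain ⟨φ⟩ := H.toM24.exists_star H'.toM24 hrig χ hχ χ' hχ' ha ha'
  obtain ⟨b, hb⟩ := H.toM24.common_nonempty H.prim H.type ha hc hac
  obtain ⟨ψ, hψa, hψ⟩ := H.exists_compat H' hrig ha hb.1 ha' φ
  have hT := H.image_far H' hrig ha hc hac ha' φ hb ψ hψa hψ
  have hcb := mem_dc_symm hc hb.2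
  have hu := (ψ.f_mem hcb).1
  have hau : ¬ Commute a' (ψ.f c) := fun h => hac ((ψ.f_comm
    (Subgroup.subset_closure (mem_dc_symm ha hb.1)) (Subgroup.subset_closure hcb)).1 (hψa.symm ▸ h))
  set u := ψ.f c
  clear hψ hψa
  set Γ := Subgroup.closure (Dc D a) with hΓ
  have hΓa : ∀ {g}, g ∈ Γ → Commute g a := fun hg =>
    Subgroup.mem_centralizer_singleton_iff.1 ((H.toM24.cent_eq ha).ge hg)
  have hfa : ∀ {g}, g ∈ Γ → Commute (φ.f g) a' := fun hg =>
    Subgroup.mem_centralizer_singleton_iff.1 ((H'.toM24.cent_eq ha').ge (φ.f_mem_closure hg))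
  -- the inverse
  set s := φ.symm (H.toM24.mem_closure_dc ha) with hs
  have hsφ : ∀ {g}, g ∈ Γ → s.f (φ.f g) = g := fun hg => φ.symm_f _ hg
  have hTs : s.f '' (Dc D' a' ∩ Dc D' u) = Dc D a ∩ Dc D c := by
    rw [← hT, ← Set.image_comp]
    exact (Set.image_congr fun x hx => hsφ (Subgroup.subset_closure hx.1)).trans (Set.image_id _)
  have hfix : ∀ {g}, g ∈ Γ → (φ.f g * u * (φ.f g)⁻¹ = u ↔ g * c * g⁻¹ = c) := fun {g} hg =>
    ⟨fun e => by
      have := H'.fix_far ha' hu hau s hTs (φ.f_mem_closure hg) e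
      rwa [hsφ hg] at this, fun e => H.fix_far ha hc hac φ hT hg e⟩
  have hfar : ∀ x ∈ D, ¬ Commute a x → ∃ g ∈ Γ, g * c * g⁻¹ = x := fun x hx hax => by
    obtain ⟨g, hga, hgc⟩ := H.toM24.exists_conj_off H.prim ha hc hac hx hax
    exact ⟨g, (H.toM24.cent_eq ha).le
      (Subgroup.mem_centralizer_singleton_iff.2 (mul_inv_eq_iff_eq_mul.1 hga)), hgc⟩
  have hfar' : ∀ {g}, g ∈ Γ → ¬ Commute a (g * c * g⁻¹) := fun {g} hg h =>
    hac ((commute_conj_iff g).1 (by rw [(hΓa hg).eq, mul_inv_cancel_right]; exact h))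
  let Φ : G → G' := fun x => if x = a then a' else if x ∈ Dc D a then φ.f x else
    if h : ∃ g ∈ Γ, g * c * g⁻¹ = x then φ.f h.choose * u * (φ.f h.choose)⁻¹ else 1
  have Φa : Φ a = a' := if_pos rfl
  have Φn : ∀ {x}, x ∈ Dc D a → Φ x = φ.f x := fun {x} hx => by
    simp only [Φ, if_neg hx.2.1, if_pos hx]
  have Φf : ∀ {g}, g ∈ Γ → Φ (g * c * g⁻¹) = φ.f g * u * (φ.f g)⁻¹ := fun {g} hg => by
    have h : ∃ h ∈ Γ, h * c * h⁻¹ = g * c * g⁻¹ := ⟨g, hg, rfl⟩
    have n1 : g * c * g⁻¹ ≠ a := fun e => hfar' hg (by rw [e])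
    have n2 : g * c * g⁻¹ ∉ Dc D a := fun e => hfar' hg e.2.2
    simp only [Φ, if_neg n1, if_neg n2, dif_pos h]
    obtain ⟨hk, ek⟩ := h.choose_spec
    set k := h.choose
    have hgk : g⁻¹ * k ∈ Γ := mul_mem (inv_mem hg) hk
    have e : g⁻¹ * k * c * (g⁻¹ * k)⁻¹ = c := by
      rw [show g⁻¹ * k * c * (g⁻¹ * k)⁻¹ = g⁻¹ * (k * c * k⁻¹) * g by group, ek]; group
    have e' := (hfix hgk).2 e
    rw [φ.f_mul (inv_mem hg) hk, φ.f_inv hg] at e'
    calc φ.f k * u * (φ.f k)⁻¹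
        = φ.f g * ((φ.f g)⁻¹ * φ.f k * u * ((φ.f g)⁻¹ * φ.f k)⁻¹) * (φ.f g)⁻¹ := by group
      _ = φ.f g * u * (φ.f g)⁻¹ := by rw [e']
  -- the three kinds
  have cases3 : ∀ x ∈ D, x = a ∨ x ∈ Dc D a ∨ ∃ g ∈ Γ, g * c * g⁻¹ = x := fun x hx => by
    by_cases hxa : x = a
    · exact Or.inl hxa
    by_cases h : Commute a x
    exacts [Or.inr (Or.inl ⟨hx, hxa, h⟩), Or.inr (Or.inr (hfar x hx h))]
  have hfarΦ : ∀ {g}, g ∈ Γ → ¬ Commute a' (φ.f g * u * (φ.f g)⁻¹) := fun {g} hg h =>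
    hau ((commute_conj_iff (φ.f g)).1 (by rw [(hfa hg).eq, mul_inv_cancel_right]; exact h))
  have hmaps : Set.MapsTo Φ D D' := fun x hx => by
    rcases cases3 x hx with rfl | h | ⟨g, hg, rfl⟩
    · rw [Φa]; exact ha'
    · rw [Φn h]; exact (φ.f_mem h).1
    · rw [Φf hg]; exact H'.toM24.conj_mem _ hu
  have hinj : Set.InjOn Φ D := by
    intro x hx y hy e
    rcases cases3 x hx with rfl | hxn | ⟨g, hg, rfl⟩ <;>
      rcases cases3 y hy with rfl | hyn | ⟨h, hh, rfl⟩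
    · rfl
    · rw [Φa, Φn hyn] at e; exact absurd e.symm (φ.f_mem hyn).2.1
    · rw [Φa, Φf hh] at e; exact absurd (e ▸ Commute.refl a') (hfarΦ hh)
    · rw [Φa, Φn hxn] at e; exact absurd e (φ.f_mem hxn).2.1
    · rw [Φn hxn, Φn hyn] at e
      exact φ.f_inj (Subgroup.subset_closure hxn) (Subgroup.subset_closure hyn) e
    · rw [Φn hxn, Φf hh] at e; exact absurd (e ▸ (φ.f_mem hxn).2.2) (hfarΦ hh)
    · rw [Φa, Φf hg] at e; exact absurd (e.symm ▸ Commute.refl a') (hfarΦ hg)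
    · rw [Φn hyn, Φf hg] at e; exact absurd (e.symm ▸ (φ.f_mem hyn).2.2) (hfarΦ hg)
    · rw [Φf hg, Φf hh] at e
      have hgh : g⁻¹ * h ∈ Γ := mul_mem (inv_mem hg) hh
      have e' : φ.f (g⁻¹ * h) * u * (φ.f (g⁻¹ * h))⁻¹ = u := by
        rw [φ.f_mul (inv_mem hg) hh, φ.f_inv hg,
          show (φ.f g)⁻¹ * φ.f h * u * ((φ.f g)⁻¹ * φ.f h)⁻¹ =
            (φ.f g)⁻¹ * (φ.f h * u * (φ.f h)⁻¹) * φ.f g by group, ← e]
        group
      have e'' := (hfix hgh).1 e'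
      calc g * c * g⁻¹ = g * (g⁻¹ * h * c * (g⁻¹ * h)⁻¹) * g⁻¹ := by rw [e'']
        _ = h * c * h⁻¹ := by group
  have hsurj : Set.SurjOn Φ D D' := by
    intro y hy
    by_cases hya : y = a'
    · exact ⟨a, ha, by rw [Φa, hya]⟩
    by_cases hc' : Commute a' y
    · obtain ⟨x, hx, e⟩ := φ.exists_f (⟨hy, hya, hc'⟩ : y ∈ Dc D' a')
      exact ⟨x, hx.1, by rw [Φn hx, e]⟩
    obtain ⟨g', hga, hgc⟩ := H'.toM24.exists_conj_off H'.prim ha' hu hau hy hc'
    obtain ⟨g, eg⟩ := φ.θ.surjective ⟨g', (H'.toM24.cent_eq ha').le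
      (Subgroup.mem_centralizer_singleton_iff.2 (mul_inv_eq_iff_eq_mul.1 hga))⟩
    refine ⟨(g : G) * c * (g : G)⁻¹, H.toM24.conj_mem _ hc, ?_⟩
    rw [Φf g.2, φ.f_eq g.2, eg]
    exact hgc
  refine ⟨Φ, ⟨hmaps, hinj, hsurj⟩, ?_⟩
  have hnf : ∀ z (hz : z ∈ Dc D a) g (hg : g ∈ Γ),
      Commute (φ.f z) (φ.f g * u * (φ.f g)⁻¹) ↔ Commute z (g * c * g⁻¹) := by
    intro z hz g hg
    have hw : g⁻¹ * z * g ∈ Dc D a := by
      have := ((H.toM24.tr.dc ha).stab_closure (inv_mem hg) z hz).1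
      rwa [inv_inv] at this
    have hwΓ := Subgroup.subset_closure (k := Dc D a) hw
    rw [show z = g * (g⁻¹ * z * g) * g⁻¹ by group, φ.f_mul (mul_mem hg hwΓ) (inv_mem hg),
      φ.f_mul hg hwΓ, φ.f_inv hg]
    constructor
    · intro h
      have h1 := (commute_conj_iff (φ.f g)).1 h
      have : φ.f (g⁻¹ * z * g) ∈ φ.f '' (Dc D a ∩ Dc D c) := by
        rw [hT]
        exact ⟨φ.f_mem hw, (φ.f_mem hw).1,
          fun e => hau (e ▸ (φ.f_mem hw).2.2), h1.symm⟩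
      obtain ⟨x, hx, e⟩ := this
      rw [← φ.f_inj (Subgroup.subset_closure hx.1) hwΓ e]
      exact (Commute.conj_iff g).2 hx.2.2.2.symm
    · intro h
      have h1 := (commute_conj_iff g).1 h
      have hm : φ.f (g⁻¹ * z * g) ∈ Dc D' a' ∩ Dc D' u := hT ▸ ⟨_, ⟨hw, hw.1,
        fun e => hac (e ▸ hw.2.2), h1.symm⟩, rfl⟩
      exact (Commute.conj_iff (φ.f g)).2 hm.2.2.2.symm
  have hff : ∀ g (hg : g ∈ Γ) h (hh : h ∈ Γ),
      Commute (φ.f g * u * (φ.f g)⁻¹) (φ.f h * u * (φ.f h)⁻¹) ↔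
        Commute (g * c * g⁻¹) (h * c * h⁻¹) := by
    intro g hg h hh
    have hk : g⁻¹ * h ∈ Γ := mul_mem (inv_mem hg) hh
    rw [show h * c * h⁻¹ = g * (g⁻¹ * h * c * (g⁻¹ * h)⁻¹) * g⁻¹ by group,
      show φ.f h * u * (φ.f h)⁻¹ =
        φ.f g * (φ.f (g⁻¹ * h) * u * (φ.f (g⁻¹ * h))⁻¹) * (φ.f g)⁻¹ by
          rw [φ.f_mul (inv_mem hg) hh, φ.f_inv hg]; group]
    constructor
    · intro e
      have := H'.far_comm H hrig.symm ha' hu hau ha s hc hac hTs (φ.f_mem_closure hk)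
        ((commute_conj_iff _).1 e)
      rw [hsφ hk] at this
      exact (Commute.conj_iff g).2 this
    · intro e
      exact (Commute.conj_iff (φ.f g)).2
        (H.far_comm H' hrig ha hc hac ha' φ hu hau hT hk ((commute_conj_iff _).1 e))
  intro x hx y hy
  rcases cases3 x hx with rfl | hxn | ⟨g, hg, rfl⟩ <;>
    rcases cases3 y hy with rfl | hyn | ⟨h, hh, rfl⟩
  · simp
  · rw [Φa, Φn hyn]; exact iff_of_true (φ.f_mem hyn).2.2 hyn.2.2
  · rw [Φa, Φf hh]; exact iff_of_false (hfarΦ hh) (hfar' hh)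
  · rw [Φa, Φn hxn]; exact iff_of_true (φ.f_mem hxn).2.2.symm hxn.2.2.symm
  · rw [Φn hxn, Φn hyn]; exact φ.f_comm (Subgroup.subset_closure hxn) (Subgroup.subset_closure hyn)
  · rw [Φn hxn, Φf hh]; exact hnf x hxn h hh
  · rw [Φa, Φf hg]; exact iff_of_false (fun e => hfarΦ hg e.symm) (fun e => hfar' hg e.symm)
  · rw [Φn hyn, Φf hg]
    exact ⟨fun e => ((hnf y hyn g hg).1 e.symm).symm, fun e => ((hnf y hyn g hg).2 e.symm).symm⟩
  · rw [Φf hg, Φf hh]; exact hff g hg h hh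

/-- Two groups of type M(24) with signs are isomorphic with their classes. -/
theorem exists_iso : ∃ e : G ≃* G', e '' D = D' := by
  obtain ⟨Φ, hΦ, hcomm⟩ := H.exists_graph_iso H' hrig
  exact iso_of_graph H.grp H.center H'.grp H'.center (H'.toM24.thirdEq H'.prim H'.type) hΦ hcomm

end M24F

end Cfsg.Agent.Transpos
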