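import Cfsg.Agent.Lib.ClassicalSimple.ThreeTranspositions
import Cfsg.Prelude.Def_SporadicB

/-!
# Classes of 3-transpositions of `SU_n(2)` consist of transvections

`exists_transvection`: a member of a generating class of 3-transpositions of `SU_n(2)` is a
transvection.  The argument is that of `U6.exists_eq_tv`, in arbitrary dimension and without
passing to the quotient by the centre.
-/

set_option autoImplicit false
set_option linter.unusedSectionVars false
set_option linter.unusedSimpArgs false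

namespace Cfsg.Agent.Transpos.SUClass

open Cfsg.Agent.ClassicalSimple

variable {F V : Type*} [Field F] [AddCommGroup V] [Module F V]
  {σ : F →+* F} {h : V →ₛₗ[σ] V →ₗ[F] F}

/-- A unitary form over four elements. -/
structure Ctx (σ : F →+* F) (h : V →ₛₗ[σ] V →ₗ[F] F) : Prop where
  form : IsUnitaryForm σ h
  two : (1 : F) + 1 = 0
  norm : ∀ x : F, x ≠ 0 → σ x * x = 1
  cube : ∀ x : F, x ≠ 0 → x * x * x = 1

namespace Ctx

variable (c : Ctx σ h)
include c

theorem addF (x : F) : x + x = 0 := by linear_combination x * c.two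

theorem addV (x : V) : x + x = 0 := by
  rw [← two_smul F x, ← one_add_one_eq_two, c.two, zero_smul]

theorem eq_one {x : F} (hx : σ x = x) (h0 : x ≠ 0) : x = 1 := by
  have e := c.norm x h0
  rw [hx] at e
  linear_combination c.cube x h0 - x * e

/-- A hermitian form with zero diagonal vanishes. -/
theorem eq_zero_of_diag {b : F} (hb : ∀ m : F, m * b + σ (m * b) = 0) : b = 0 := by
  by_contra h0
  obtain ⟨d, hd⟩ := c.form.exists_trace_one
  have := hb (d * b⁻¹)
  rw [inv_mul_cancel_right₀ h0, hd] at this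
  exact one_ne_zero this

end Ctx

variable (c : Ctx σ h) [Finite F] [FiniteDimensional F V]
include c

/-- The transvection with centre `u`. -/
noncomputable def tv (u : V) (hu : h u u = 0) : SUH h :=
  ⟨uRootElt c.form u 0 1 hu (map_zero _) (by simp [c.two]), uRootElt_det c.form _ _ _⟩

theorem tv_smul {u : V} (hu : h u u = 0) (x : V) : tv c u hu • x = x + h u x • u := by
  rw [show tv c u hu • x = uRootElt c.form u 0 1 hu (map_zero _) (by simp [c.two]) • x from rfl,
    uRootElt_smul]
  simp

theorem ext_smul {g k : SUH h} (e : ∀ x : V, g • x = k • x) : g = k :=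
  Subtype.ext (UH.ext' e)

theorem tv_sq {u : V} (hu : h u u = 0) : tv c u hu * tv c u hu = 1 := ext_smul c fun x => by
  rw [mul_smul, tv_smul, tv_smul, one_smul, map_add, map_smul, hu, smul_zero, add_zero,
    add_assoc, c.addV, add_zero]

theorem tv_inv {u : V} (hu : h u u = 0) : (tv c u hu)⁻¹ = tv c u hu :=
  inv_eq_of_mul_eq_one_left (tv_sq c hu)

theorem isom (g : SUH h) (x y : V) : h (g • x) (g • y) = h x y := uh_smul_smul (g : UH h) x y

theorem tv_conj (g : SUH h) {u : V} (hu : h u u = 0) :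
    g * tv c u hu * g⁻¹ = tv c (g • u) (by rw [isom c, hu]) := ext_smul c fun x => by
  have e : h u (g⁻¹ • x) = h (g • u) x := by rw [← isom c g, smul_inv_smul]
  rw [mul_smul, mul_smul, tv_smul, tv_smul, e, smul_add, smul_inv_smul]
  exact congrArg (x + ·) (((g : UH h) : V ≃ₗ[F] V).map_smul _ _)

theorem tv_commute_of_fix (g : SUH h) {u : V} (hu : h u u = 0) (hg : g • u = u) :
    Commute g (tv c u hu) := by
  have e := tv_conj c g hu
  simp only [hg] at e
  exact mul_inv_eq_iff_eq_mul.1 e

theorem tv_commute {u w : V} (hu : h u u = 0) (hw : h w w = 0) (huw : h u w = 0) :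
    Commute (tv c u hu) (tv c w hw) :=
  tv_commute_of_fix c _ hw (by rw [tv_smul, huw, zero_smul, add_zero])

/-- An involution has a vector pairing to 1 with its image. -/
theorem exists_pair {g : SUH h} (hg : g * g = 1) (hne : g ≠ 1) :
    ∃ x, h x (g • x + x) = 1 := by
  have hgg : ∀ x : V, g • g • x = x := fun x => by rw [← mul_smul, hg, one_smul]
  have hsym : ∀ x y : V, h y (g • x + x) = σ (h x (g • y + y)) := fun x y => by
    have e : h y (g • x) = h (g • y) x := by rw [← isom c g, hgg]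
    rw [map_add, map_add, map_add, e, c.form.swap x (g • y), c.form.swap x y]
  suffices key : ∃ x, h x (g • x + x) ≠ 0 by
    obtain ⟨x, hx⟩ := key
    exact ⟨x, c.eq_one (hsym x x).symm hx⟩
  by_contra hall
  push Not at hall
  refine hne (ext_smul c fun x => ?_)
  have e : g • x + x = 0 := c.form.sep _ fun y => by
    refine c.form.comm_zero (c.eq_zero_of_diag fun m => ?_)
    have e := hall (y + m • x)
    rw [smul_add g y, show g • (m • x) = m • g • x from ((g : UH h) : V ≃ₗ[F] V).map_smul _ _,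
      add_add_add_comm, ← smul_add m] at e
    simp only [map_add, map_smul, map_smulₛₗ, LinearMap.add_apply, LinearMap.smul_apply,
      smul_eq_mul, RingHom.id_apply] at e
    have hx := hall x
    have hy := hall y
    have hxy := hsym y x
    simp only [map_add] at hx hy hxy ⊢
    rw [map_mul, map_add, ← hxy]
    linear_combination e - hy - m * σ m * hx
  rw [one_smul]
  exact (eq_neg_of_add_eq_zero_left e).trans (neg_eq_of_add_eq_zero_left (c.addV x))

/-- An involution with all products with conjugates of order at most 3 is a transvection. -/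
theorem exists_eq_tv {g : SUH h} (hg : g * g = 1) (hne : g ≠ 1)
    (hord : ∀ k : SUH h, (g * (k * g * k⁻¹)) ^ 2 = 1 ∨ (g * (k * g * k⁻¹)) ^ 3 = 1) :
    ∃ (v : V) (hv : h v v = 0), v ≠ 0 ∧ g = tv c v hv := by
  have hinv : ∀ {g : SUH h}, g * g = 1 → ∀ x : V, g • g • x = x := fun hg x => by
    rw [← mul_smul, hg, one_smul]
  have hiso : ∀ {g : SUH h}, g * g = 1 → ∀ x : V, h (g • x + x) (g • x + x) = 0 := fun {g} hg x => by
    have e : h x (g • x) = h (g • x) x := by rw [← isom c g, hinv hg]
    simp only [map_add, LinearMap.add_apply, isom c, e]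
    linear_combination (h x x + h (g • x) x) * c.two
  have hfix : ∀ {g : SUH h}, g * g = 1 → ∀ x : V, g • (g • x + x) = g • x + x := fun hg x => by
    rw [smul_add, hinv hg, add_comm]
  obtain ⟨x, hx⟩ := exists_pair c hg hne
  generalize hadef : g • x + x = a at hx
  have haa : h a a = 0 := hadef ▸ hiso hg x
  have hga : g • a = a := hadef ▸ hfix hg x
  have ha0 : a ≠ 0 := fun e => by simp [e] at hx
  have hax : h a x = 1 := by rw [c.form.swap x a, hx, map_one]
  have hct : Commute g (tv c a haa) := tv_commute_of_fix c g haa hga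
  set g₁ := g * tv c a haa with hg₁
  have hg₁2 : g₁ * g₁ = 1 := by
    rw [hg₁, mul_assoc, ← mul_assoc (tv c a haa), ← hct.eq, mul_assoc, tv_sq, mul_one, hg]
  have h1a : g₁ • a = a := by rw [hg₁, mul_smul, tv_smul, haa, zero_smul, add_zero, hga]
  have h1x : g₁ • x = x := by
    rw [hg₁, mul_smul, tv_smul, hax, one_smul, smul_add, hga]
    conv_lhs => rw [← hadef, ← add_assoc, c.addV, zero_add]
  by_cases hg11 : g₁ = 1
  · exact ⟨a, haa, ha0, (eq_inv_of_mul_eq_one_left (hg₁ ▸ hg11 : g * tv c a haa = 1)).trans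
      (tv_inv c haa)⟩
  exfalso
  obtain ⟨y₀, hy₀⟩ := exists_pair c hg₁2 hg11
  set y := y₀ + h a y₀ • x with hydef
  have hb : g₁ • y + y = g₁ • y₀ + y₀ := by
    rw [hydef, smul_add, show g₁ • (h a y₀ • x) = h a y₀ • g₁ • x from
      ((g₁ : UH h) : V ≃ₗ[F] V).map_smul _ _, h1x, add_add_add_comm, c.addV, add_zero]
  generalize hbdef : g₁ • y₀ + y₀ = b at hy₀ hb
  have hbb : h b b = 0 := hbdef ▸ hiso hg₁2 y₀
  have h1b : g₁ • b = b := hbdef ▸ hfix hg₁2 y₀
  have hfixperp : ∀ s : V, g₁ • s = s → h s b = 0 := fun s hs => by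
    rw [← hbdef, map_add]
    conv_lhs => arg 1; rw [← hs, isom c]
    exact c.addF _
  have hab : h a b = 0 := hfixperp a h1a
  have hxb : h x b = 0 := hfixperp x h1x
  have hyb : h y b = 1 := by simp [hydef, hxb, hy₀]
  have hay : h a y = 0 := by simp [hydef, hax, c.addF]
  have hby : h b y = 1 := by rw [c.form.swap y b, hyb, map_one]
  have hbx : h b x = 0 := c.form.comm_zero hxb
  have hba : h b a = 0 := c.form.comm_zero hab
  have hct1 : Commute g₁ (tv c b hbb) := tv_commute_of_fix c g₁ hbb h1b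
  set g₂ := g₁ * tv c b hbb with hg₂
  have hg₂2 : g₂ * g₂ = 1 := by
    rw [hg₂, hct1.symm.mul_mul_mul_comm, hg₁2, tv_sq, mul_one]
  have h2a : g₂ • a = a := by rw [hg₂, mul_smul, tv_smul, hba, zero_smul, add_zero, h1a]
  have h2b : g₂ • b = b := by rw [hg₂, mul_smul, tv_smul, hbb, zero_smul, add_zero, h1b]
  have h2x : g₂ • x = x := by rw [hg₂, mul_smul, tv_smul, hbx, zero_smul, add_zero, h1x]
  have h2y : g₂ • y = y := by
    rw [hg₂, mul_smul, tv_smul, hby, one_smul, smul_add, h1b]
    conv_lhs => rw [← hb, ← add_assoc, c.addV, zero_add]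
  -- hyperbolic partners fixed by `g₂`
  obtain ⟨d, hd⟩ := c.form.exists_trace_one
  set a' := x + (d * h x x) • a with ha'def
  have hsa : σ (d * h x x) = σ d * h x x := by rw [map_mul, c.form.σ_self]
  have ha'a' : h a' a' = 0 := by
    simp [ha'def, haa, hax, hx, hsa]
    linear_combination h x x * hd + h x x * c.two
  have haa' : h a a' = 1 := by simp [ha'def, haa, hax]
  have ha'a : h a' a = 1 := by rw [c.form.swap a a', haa', map_one]
  have hba' : h b a' = 0 := by simp [ha'def, hba, hbx]
  have ha'b : h a' b = 0 := c.form.comm_zero hba'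
  set y₁ := y + h a' y • a with hy₁
  have hay₁ : h a y₁ = 0 := by simp [hy₁, haa, hay]
  have hby₁ : h b y₁ = 1 := by simp [hy₁, hba, hby]
  have ha'y₁ : h a' y₁ = 0 := by simp [hy₁, ha'a, c.addF]
  have hy₁b : h y₁ b = 1 := by rw [c.form.swap b y₁, hby₁, map_one]
  set b' := y₁ + (d * h y₁ y₁) • b with hb'def
  have hsb : σ (d * h y₁ y₁) = σ d * h y₁ y₁ := by rw [map_mul, c.form.σ_self]
  have hb'b' : h b' b' = 0 := by
    simp [hb'def, hbb, hby₁, hy₁b, hsb]
    linear_combination h y₁ y₁ * hd + h y₁ y₁ * c.two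
  have hab' : h a b' = 0 := by simp [hb'def, hab, hay₁]
  have hb'a : h b' a = 0 := c.form.comm_zero hab'
  have ha'b' : h a' b' = 0 := by simp [hb'def, ha'b, ha'y₁]
  have hb'a' : h b' a' = 0 := c.form.comm_zero ha'b'
  have hbb' : h b b' = 1 := by simp [hb'def, hbb, hby₁]
  have hb'b : h b' b = 1 := by rw [c.form.swap b b', hbb', map_one]
  have hlin : ∀ (m : F) (v : V), g₂ • (m • v) = m • g₂ • v := fun m v =>
    ((g₂ : UH h) : V ≃ₗ[F] V).map_smul m v
  have h2a' : g₂ • a' = a' := by rw [ha'def, smul_add, hlin, h2x, h2a]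
  have h2y₁ : g₂ • y₁ = y₁ := by rw [hy₁, smul_add, hlin, h2y, h2a]
  have h2b' : g₂ • b' = b' := by rw [hb'def, smul_add, hlin, h2y₁, h2b]
  have q1 : h (a + a') (a + a') = 0 := by simp [haa, ha'a', haa', ha'a, c.two]
  have q2 : h (b + b') (b + b') = 0 := by simp [hbb, hb'b', hbb', hb'b, c.two]
  have q3 : h (a + b') (a + b') = 0 := by simp [haa, hb'b', hab', hb'a]
  set k := tv c _ q3 * tv c a haa * tv c b' hb'b' * tv c _ q2 * tv c _ q1 with hk
  have hk2 : Commute g₂ k :=
    ((((tv_commute_of_fix c g₂ q3 (by rw [smul_add, h2a, h2b'])).mul_right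
      (tv_commute_of_fix c g₂ haa h2a)).mul_right (tv_commute_of_fix c g₂ hb'b' h2b')).mul_right
      (tv_commute_of_fix c g₂ q2 (by rw [smul_add, h2b, h2b']))).mul_right
      (tv_commute_of_fix c g₂ q1 (by rw [smul_add, h2a, h2a']))
  have r1 : ∀ v : V, a + (a + v) = v := fun v => by rw [← add_assoc, c.addV, zero_add]
  have r2 : ∀ v : V, b + (b + v) = v := fun v => by rw [← add_assoc, c.addV, zero_add]
  have hka : k • a = a' + b' := by
    simp [hk, mul_smul, tv_smul, haa, haa', ha'a, hba, hb'a, hab', hb'a', hb'b', ha'b', hab,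
      hbb', hb'b, hba', ha'b, r1]
    abel_nf
    simp [two_zsmul, c.addV]
  have hkb : k • b = b' := by
    simp [hk, mul_smul, tv_smul, haa, haa', ha'a, hba, hb'a, hab', hb'a', hb'b', hbb, ha'b', hab,
      hbb', hb'b, hba', ha'b, r2]
  have q4 : h (a' + b') (a' + b') = 0 := by simp [ha'a', hb'b', ha'b', hb'a']
  have hgdec : g = g₂ * (tv c b hbb * tv c a haa) := by
    rw [hg₂, mul_assoc g₁, ← mul_assoc (tv c b hbb), tv_sq, one_mul, hg₁, mul_assoc, tv_sq,
      mul_one]
  have hcg : Commute g₂ (tv c b hbb * tv c a haa) :=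
    (tv_commute_of_fix c g₂ hbb h2b).mul_right (tv_commute_of_fix c g₂ haa h2a)
  have hconj : k * g * k⁻¹ = g₂ * (tv c b' hb'b' * tv c _ q4) := by
    have e1 := tv_conj c k hbb
    have e2 := tv_conj c k haa
    simp only [hkb] at e1
    simp only [hka] at e2
    rw [← e1, ← e2, hgdec]
    calc k * (g₂ * (tv c b hbb * tv c a haa)) * k⁻¹
        = k * g₂ * (tv c b hbb * tv c a haa) * k⁻¹ := by group
      _ = g₂ * k * (tv c b hbb * tv c a haa) * k⁻¹ := by rw [hk2.eq]
      _ = _ := by group
  have hP : g * (k * g * k⁻¹) =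
      tv c b hbb * tv c a haa * (tv c b' hb'b' * tv c _ q4) := by
    rw [hconj]
    conv_lhs => arg 1; rw [hgdec, hcg.eq]
    rw [mul_assoc, ← mul_assoc g₂ g₂, hg₂2, one_mul]
  set P := g * (k * g * k⁻¹) with hPdef
  have P1 : P • a = a' + b' + b := by
    simp [hP, mul_smul, tv_smul, haa, haa', ha'a, hba, hb'a, hab', hbb', hba', ha'b', hb'a',
      hb'b', hab]
    abel_nf
    simp [two_zsmul, c.addV]
  have P2 : P • P • a = b' := by
    rw [P1]
    simp [hP, mul_smul, tv_smul, haa, haa', ha'a, hba, hb'a, hab', hbb', hba', ha'b', hb'a',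
      hb'b', hab, hbb, ha'a', ha'b, hb'b, c.two]
    abel_nf
    simp [show ∀ v : V, (2 : ℤ) • v = 0 from fun v => by rw [two_zsmul, c.addV],
      show ∀ v : V, (3 : ℤ) • v = v from fun v => by
        rw [show (3 : ℤ) = 2 + 1 from rfl, add_zsmul, two_zsmul, c.addV, one_zsmul, zero_add],
      show ∀ v : V, (4 : ℤ) • v = 0 from fun v => by
        rw [show (4 : ℤ) = 2 + 2 from rfl, add_zsmul, two_zsmul, c.addV]]
  have P3 : P • b' = b + b' := by
    simp [hP, mul_smul, tv_smul, hab', hbb', ha'b', hb'b', hbb, hab]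
    abel
  have hscal : ∀ n : ℕ, P ^ n = 1 → h b (P ^ n • a) = 0 := fun n hn => by
    rw [hn, one_smul, hba]
  rcases hord k with e | e
  · have := hscal 2 e
    rw [show P ^ 2 • a = P • P • a by rw [← mul_smul, pow_two], P2, hbb'] at this
    exact one_ne_zero this
  · have := hscal 3 e
    have e3 : P ^ 3 • a = P • (P • P • a) := by
      rw [← mul_smul, ← mul_smul, pow_succ', pow_two]
      exact congrArg (· • a) (mul_assoc P P P).symm
    rw [e3, P2, P3, map_add, hbb, hbb', zero_add] at this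
    exact one_ne_zero this

end Cfsg.Agent.Transpos.SUClass

namespace Cfsg.Agent.Transpos

open Cfsg.Agent.ClassicalSimple
open scoped Matrix

/-- A member of a class of 3-transpositions of `SU_n(2)` is a transvection `v ↦ v + h(v,u) u`. -/
theorem exists_transvection {n : ℕ} {F : Type} [Field F] [Fintype F] (hF : Fintype.card F = 4)
    {E : Set ↥(Cfsg.SU n F 2)} (hE : Cfsg.IsThreeTranspositionClass E) :
    ∀ e ∈ E, ∃ u : Fin n → F, u ≠ 0 ∧ Cfsg.hermForm n F 2 u u = 0 ∧
      ∀ v : Fin n → F, e.1.1 *ᵥ v = v + Cfsg.hermForm n F 2 v u • u := by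
  classical
  have hF' : Fintype.card F = 2 ^ 2 := by rw [hF]; rfl
  obtain ⟨h1, -, hnorm⟩ := card_four_facts hF'
  have htwo : (1 : F) + 1 = 0 := by simpa using h1
  have hcube : ∀ x : F, x ≠ 0 → x * x * x = 1 := fun x hx => by
    have := FiniteField.pow_card_sub_one_eq_one x hx
    rw [hF, show 4 - 1 = 3 from rfl, pow_three] at this
    rw [mul_assoc, this]
  let c : SUClass.Ctx (Forms.qEnd hF') (Forms.hermB hF' n) :=
    ⟨hermB_isUnitary hF', htwo, hnorm, hcube⟩
  obtain ⟨⟨hord, h3⟩, ⟨d, -, hEd⟩, -⟩ := hE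
  intro e he
  set g := suEquiv hF' e
  have hee : e * e = 1 :=
    (pow_two e).symm.trans (((congrArg (fun m : ℕ => e ^ m) (hord e he)).symm).trans (pow_orderOf_eq_one e))
  have hg2 : g * g = 1 := by rw [← map_mul, hee, map_one]
  have hgne : g ≠ 1 := fun h => by
    have := hord e he
    rw [(map_eq_one_iff _ (MulEquiv.injective _)).1 h, orderOf_one] at this
    exact absurd this (by norm_num)
  obtain ⟨u, hu, hu0, hg⟩ := SUClass.exists_eq_tv c hg2 hgne fun k => by
    have hconj : (suEquiv hF').symm k * e * ((suEquiv hF').symm k)⁻¹ ∈ E := by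
      rw [hEd] at he ⊢
      change IsConj d e at he
      exact he.trans (isConj_iff.2 ⟨_, rfl⟩)
    have := (h3 e he _ hconj).imp (congrArg (suEquiv hF')) (congrArg (suEquiv hF'))
    simpa only [map_pow, map_mul, map_inv, MulEquiv.apply_symm_apply, map_one] using this
  refine ⟨u, hu0, hu, fun v => ?_⟩
  rw [← suEquiv_smul hF']
  change g • v = _
  rw [hg, SUClass.tv_smul]
  rfl

end Cfsg.Agent.Transpos
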