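import Cfsg.Agent.Lib.Transpos.U6Split
import Cfsg.Prelude.Def_Transfer

/-!
# The Thompson subgroup of a double cover of `PSU₆(2)`

* `Dbl.elem_le_card`, `Dbl.exists_conj_A0`: every elementary abelian 2-subgroup has order at most
  `2¹⁰`, with equality exactly for the conjugates of `A0`;
* `Dbl.thompson`: the Thompson subgroup of a Sylow 2-subgroup is a conjugate of `A0`;
* `Dbl.ncard_class`: a conjugation invariant set containing `z`, free of squares, lying on equally
  many lines at each of its points in `A0` and not reduced to `z`, meets `A0` in 22 elements.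
-/

set_option autoImplicit false
set_option maxRecDepth 20000

namespace Cfsg.Agent.Transpos.L6

open Cfsg Cfsg.Agent.ClassicalSimple

theorem testBit_maskOf {l : List ℕ} {n : ℕ} (h : n ∈ l) : (maskOf l).testBit (nX n) = true := by
  induction l with
  | nil => simp at h
  | cons m l ih =>
    simp only [maskOf, List.foldr_cons, Nat.testBit_lor, Bool.or_eq_true]
    rcases List.mem_cons.1 h with rfl | h
    · exact Or.inl (by simp [Nat.one_shiftLeft])
    · exact Or.inr (ih h)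

theorem qData_length : ∀ e1 e2, (qData e1 e2).length = 21 := by decide +kernel

/-- Counting by a nodup list. -/
theorem ncard_filter {l : List ℕ} (hl : l.Nodup) (m : ℕ) (a : ℕ) :
    {w : ℕ | w ∈ l ∧ m.testBit (w ^^^ a) = true}.ncard = lineCount l m a := by
  classical
  rw [lineCount, ← List.toFinset_card_of_nodup (hl.filter _), ← Set.ncard_coe_finset]
  congr 1
  ext w
  simp

variable {C : Type*} [Group C] [Finite C] {Δ : Dbl C}

/-- Elementary abelian of exponent two. -/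
def El2 (B : Subgroup C) : Prop := (∀ a ∈ B, ∀ b ∈ B, Commute a b) ∧ ∀ a ∈ B, a * a = 1

omit [Finite C] in
theorem el2_iff {B : Subgroup C} : IsElementaryAbelian 2 B ↔ El2 B :=
  ⟨fun h => ⟨fun a ha b hb => congrArg Subtype.val (h.1.is_comm.comm (⟨a, ha⟩ : B) ⟨b, hb⟩),
    fun a ha => by rw [← pow_two]; exact h.2 a ha⟩,
   fun h => ⟨⟨⟨fun a b => Subtype.ext (h.1 a a.2 b b.2).eq⟩⟩, fun a ha => by rw [pow_two]; exact h.2 a ha⟩⟩

variable {x : C} (g : Good Δ x)

/-- The preimage of the elements fixing the plane. -/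
noncomputable def A0 : Subgroup C where
  carrier := {c | ∃ a < 1024, c = f10 Δ x a}
  one_mem' := ⟨0, by omega, f10_zero.symm⟩
  mul_mem' := fun ⟨a, ha, e⟩ ⟨b, hb, e'⟩ =>
    ⟨a ^^^ b, Nat.xor_lt_two_pow (n := 10) ha hb, by rw [f10_xor g, e, e']⟩
  inv_mem' := fun ⟨a, ha, e⟩ => ⟨a, ha, by
    rw [e, inv_eq_of_mul_eq_one_right (show f10 Δ x a * f10 Δ x a = 1 from bprod_sq (f10_inv g) a)]⟩

theorem mem_A0 {c : C} : c ∈ A0 g ↔ ∃ a < 1024, c = f10 Δ x a := Iff.rfl

theorem A0_el2 : El2 (A0 g) := by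
  refine ⟨?_, ?_⟩
  · rintro _ ⟨a, -, rfl⟩ _ ⟨b, -, rfl⟩; exact bprod_comm (f10_inv g) a b
  · rintro _ ⟨a, -, rfl⟩; exact bprod_sq (f10_inv g) a

theorem card_A0 : Nat.card (A0 g) = 2 ^ 10 := by
  have := Nat.card_congr (Equiv.ofBijective
    (fun a : Fin 1024 => (⟨f10 Δ x a, a, a.2, rfl⟩ : A0 g))
    ⟨fun a b e => Fin.ext (f10_inj g a.2 b.2 (congrArg Subtype.val e)),
      fun ⟨c, a, ha, e⟩ => ⟨⟨a, ha⟩, Subtype.ext e.symm⟩⟩)
  rw [← this, Nat.card_fin]; rfl

theorem mem_A0_iff {c : C} : c ∈ A0 g ↔ ∃ a < 512, Δ.ψ c = mkQ (R a) := by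
  constructor
  · rintro ⟨a, ha, rfl⟩
    refine ⟨a % 512, Nat.mod_lt _ (by norm_num), ?_⟩
    rcases Nat.lt_or_ge a 512 with h | h
    · rw [Nat.mod_eq_of_lt h, ψ_f10 g]
    · have e : a = (a % 512) ^^^ 512 := by
        have key : ∀ b < 512, b ^^^ 512 = b + 512 := by decide +kernel
        rw [key _ (Nat.mod_lt _ (by norm_num))]; omega
      conv_lhs => rw [e, f10_xor g, map_mul, ψ_f10 g, f10_z, Δ.ψz, mul_one]
  · rintro ⟨a, ha, e⟩
    rcases mem_preimage_R g ha e with h | h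
    · exact ⟨a, by omega, h⟩
    · exact ⟨_, Nat.xor_lt_two_pow (n := 10) (by omega) (by norm_num), h⟩

theorem A0_le : A0 g ≤ TQ.comap Δ.ψ := fun c hc => by
  obtain ⟨a, -, e⟩ := (mem_A0_iff g).1 hc
  exact ⟨R a, mem_Tg.2 ⟨0, by omega, R_prm a⟩, e.symm⟩

/-- Elementary abelian subgroups of the Sylow subgroup. -/
theorem elem_sylow {B : Subgroup C} (hB : El2 B) (hle : B ≤ TQ.comap Δ.ψ) :
    Nat.card B ≤ 2 ^ 10 ∧ (2 ^ 10 ≤ Nat.card B → B = A0 g) := by
  classical
  let B' : Subgroup SG := (B.map Δ.ψ).comap mkQ ⊓ Tg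
  have hinv : ∀ b : SG, b ∈ B' → InT b ∧ ∃ c ∈ B, Δ.ψ c = mkQ b := fun b hb =>
    ⟨mem_Tg.1 hb.2, Subgroup.mem_map.1 hb.1⟩
  obtain ⟨h1, h2⟩ := elem_bound (B := B') (fun b hb => (hinv b hb).1) (fun b hb k hk => by
      obtain ⟨hbT, c, hc, ec⟩ := hinv b hb
      obtain ⟨hkT, d, hd, ed⟩ := hinv k hk
      refine commutatorElement_eq_one_iff_mul_comm.1 (mkQ_injOn (mem_Tg.1 ?_) ?_)
      · rw [commutatorElement_def]
        exact Tg.mul_mem (Tg.mul_mem (Tg.mul_mem hb.2 hk.2) (Tg.inv_mem hb.2)) (Tg.inv_mem hk.2)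
      · rw [map_commutatorElement, ← ec, ← ed, ← map_commutatorElement,
          commutatorElement_eq_one_iff_mul_comm.2 (hB.1 c hc d hd).eq, map_one])
    (fun b hb => by
      obtain ⟨-, c, hc, ec⟩ := hinv b hb
      refine mkQ_injOn (mem_Tg.1 (Tg.mul_mem hb.2 hb.2)) ?_
      rw [map_mul, ← ec, ← map_mul, hB.2 c hc, map_one])
  have hsel : ∀ c : B, ∃ b : B', mkQ b = Δ.ψ c := fun c => by
    obtain ⟨t, ht, e⟩ := hle c.2
    exact ⟨⟨t, Subgroup.mem_comap.2 ⟨c, c.2, e.symm⟩, ht⟩, e⟩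
  choose t ht using hsel
  have hcard : Nat.card B ≤ Nat.card B' * 2 := by
    let φ : B → B' × Bool := fun c => (t c, decide ((c : C) = Classical.epsilon fun y => Δ.ψ y = mkQ (t c).1))
    have hφ : Function.Injective φ := fun c d e => by
      obtain ⟨e1, e2⟩ := Prod.mk.inj e
      have hcd : Δ.ψ c = Δ.ψ d := by rw [← ht, ← ht, e1]
      set y := Classical.epsilon fun y => Δ.ψ y = mkQ (t c).1 with hy
      rw [← e1] at e2
      have hy' : Δ.ψ y = Δ.ψ c :=
        (Classical.epsilon_spec (p := fun y => Δ.ψ y = mkQ (t c).1) ⟨c, (ht c).symm⟩).trans (ht c)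
      rcases Δ.eq_or hcd with h | h
      · exact Subtype.ext h
      exfalso
      rcases Δ.eq_or hy'.symm with k | k
      · have : (d : C) = y := by simpa [k, eq_comm] using e2
        rw [k, ← this] at h
        exact Δ.z1 (mul_eq_left.1 h.symm)
      · have hne : (c : C) ≠ y := fun h' => Δ.z1 (mul_eq_left.1 (k.symm.trans h'))
        have : (d : C) ≠ y := by simpa [hne] using e2
        exact this (mul_right_cancel (h.symm.trans k))
    have := Nat.card_le_card_of_injective φ hφ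
    simpa [Nat.card_prod] using this
  refine ⟨hcard.trans (by omega), fun hB10 => ?_⟩
  have hle' : B ≤ A0 g := fun c hc => (mem_A0_iff g).2 (by
    obtain ⟨a, ha, e⟩ := h2 (by omega) _ (t ⟨c, hc⟩).2
    exact ⟨a, ha, by rw [← e, ht ⟨c, hc⟩]⟩)
  exact Subgroup.eq_of_le_of_card_ge hle' (by rw [card_A0]; exact hB10)

variable (Δ) in
theorem card_preimage_TQ : Nat.card ↥(TQ.comap Δ.ψ) = 2 ^ 16 := by
  classical
  have hk : Nat.card Δ.ψ.ker = 2 := by
    have h : ((Δ.ψ.ker : Subgroup C) : Set C) = {1, Δ.z} := by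
      ext c
      simp only [SetLike.mem_coe, MonoidHom.mem_ker, Set.mem_insert_iff, Set.mem_singleton_iff]
      exact ⟨Δ.ker c, fun h => h.elim (fun h => by rw [h, map_one]) fun h => by rw [h, Δ.ψz]⟩
    rw [← SetLike.coe_sort_coe, Nat.card_coe_set_eq, h, Set.ncard_pair Δ.z1.symm]
  have h1 := Subgroup.card_mul_index (TQ.comap Δ.ψ)
  rw [Subgroup.index_comap_of_surjective TQ Δ.surj, Subgroup.card_eq_card_quotient_mul_card_subgroup Δ.ψ.ker,
    hk, Nat.card_congr (QuotientGroup.quotientKerEquivOfSurjective Δ.ψ Δ.surj).toEquiv,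
    ← Subgroup.card_mul_index TQ, card_TQ] at h1
  exact Nat.eq_of_mul_eq_mul_right (Nat.pos_of_ne_zero fun h => by simpa [h] using TQ_index_odd)
    (h1.trans (by ring))

variable (Δ) in
/-- The Sylow subgroup of the cover. -/
noncomputable def SylT : Sylow 2 C :=
  Sylow.ofCard (TQ.comap Δ.ψ) (by
    have hm : Odd (TQ.comap Δ.ψ).index := by
      rw [Subgroup.index_comap_of_surjective TQ Δ.surj]; exact TQ_index_odd
    rw [← Subgroup.card_mul_index (TQ.comap Δ.ψ), card_preimage_TQ Δ,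
      Nat.factorization_mul (by norm_num) (fun h => by simp [h] at hm),
      Finsupp.add_apply, Nat.Prime.factorization_pow Nat.prime_two,
      Nat.factorization_eq_zero_of_not_dvd (fun h => (Nat.not_even_iff_odd.2 hm) (even_iff_two_dvd.2 h))]
    simp)

theorem coe_SylT : (SylT Δ : Subgroup C) = TQ.comap Δ.ψ := rfl

/-- A 2-subgroup is conjugate into the Sylow subgroup. -/
theorem exists_conj_sylT {B : Subgroup C} (hB : IsPGroup 2 B) :
    ∃ c : C, B.map (MulAut.conj c).toMonoidHom ≤ TQ.comap Δ.ψ := by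
  haveI : Fact (Nat.Prime 2) := ⟨Nat.prime_two⟩
  obtain ⟨P, hP⟩ := hB.exists_le_sylow
  obtain ⟨c, hc⟩ := MulAction.exists_smul_eq C P (SylT Δ)
  refine ⟨c, ?_⟩
  rw [← coe_SylT, ← hc]
  exact Subgroup.map_mono hP

omit [Finite C] in
theorem El2.map {B : Subgroup C} (h : El2 B) (c : C) : El2 (B.map (MulAut.conj c).toMonoidHom) := by
  refine ⟨?_, ?_⟩
  · rintro _ ⟨a, ha, rfl⟩ _ ⟨b, hb, rfl⟩; exact (h.1 a ha b hb).map _
  · rintro _ ⟨a, ha, rfl⟩; rw [← map_mul, h.2 a ha, map_one]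

omit [Finite C] in
theorem El2.isPGroup {B : Subgroup C} (h : El2 B) : IsPGroup 2 B := fun a =>
  ⟨1, Subtype.ext (by simp [pow_two, h.2 a a.2])⟩

omit [Finite C] in
theorem card_map_conj (B : Subgroup C) (c : C) :
    Nat.card (B.map (MulAut.conj c).toMonoidHom) = Nat.card B :=
  Nat.card_congr (B.equivMapOfInjective _ (MulAut.conj c).injective).toEquiv.symm

/-- Elementary abelian subgroups. -/
theorem elem_conj {B : Subgroup C} (hB : El2 B) :
    Nat.card B ≤ 2 ^ 10 ∧ (2 ^ 10 ≤ Nat.card B → ∃ c : C, B.map (MulAut.conj c).toMonoidHom = A0 g) := by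
  obtain ⟨c, hc⟩ := exists_conj_sylT (Δ := Δ) hB.isPGroup
  have h := elem_sylow g (hB.map c) hc
  rw [card_map_conj] at h
  exact ⟨h.1, fun h' => ⟨c, h.2 h'⟩⟩

/-- The Thompson subgroup of a Sylow subgroup. -/
theorem thompson (S : Sylow 2 C) : ∃ c : C,
    Cfsg.thompsonSubgroupOf 2 (S : Subgroup C) = (A0 g).map (MulAut.conj c).toMonoidHom := by
  haveI : Fact (Nat.Prime 2) := ⟨Nat.prime_two⟩
  obtain ⟨c, hc⟩ := MulAction.exists_smul_eq C (SylT Δ) S
  refine ⟨c, ?_⟩
  set A := (A0 g).map (MulAut.conj c).toMonoidHom with hA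
  have hAS : A ≤ (S : Subgroup C) := by rw [← hc]; exact Subgroup.map_mono (A0_le g)
  have hAel : El2 A := (A0_el2 g).map c
  have hAcard : Nat.card A = 2 ^ 10 := by rw [hA, card_map_conj, card_A0]
  set A' := A.subgroupOf (S : Subgroup C)
  have hA' : A'.map (S : Subgroup C).subtype = A := Subgroup.map_subgroupOf_eq_of_le hAS
  have hcardA' : Nat.card A' = 2 ^ 10 := by
    rw [← hAcard, ← hA']; exact Nat.card_congr (A'.equivMapOfInjective _ Subtype.coe_injective).toEquiv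
  have hel : ∀ B : Subgroup ↥(S : Subgroup C), IsElementaryAbelian 2 B → El2 (B.map (S : Subgroup C).subtype) := by
    intro B hB
    refine ⟨?_, ?_⟩
    · rintro _ ⟨a, ha, rfl⟩ _ ⟨b, hb, rfl⟩
      exact congrArg (fun t : B => ((t : ↥(S : Subgroup C)) : C)) (hB.1.is_comm.comm (⟨a, ha⟩ : B) ⟨b, hb⟩)
    · rintro _ ⟨a, ha, rfl⟩
      rw [← map_mul, ← pow_two, hB.2 a ha, map_one]
  have hcardB : ∀ B : Subgroup ↥(S : Subgroup C), Nat.card (B.map (S : Subgroup C).subtype) = Nat.card B :=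
    fun B => Nat.card_congr (B.equivMapOfInjective _ Subtype.coe_injective).toEquiv.symm
  have hmax : Cfsg.maxElementaryAbelianSubgroups 2 ↥(S : Subgroup C) = {A'} := by
    have hA'el : IsElementaryAbelian 2 A' :=
      ⟨⟨⟨fun a b => Subtype.ext (Subtype.ext (hAel.1 a.1.1 a.2 b.1.1 b.2).eq)⟩⟩,
        fun a ha => Subtype.ext (by rw [pow_two]; exact hAel.2 a.1 ha)⟩
    ext B
    simp only [Cfsg.maxElementaryAbelianSubgroups, Set.mem_setOf_eq, Set.mem_singleton_iff]
    constructor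
    · rintro ⟨hB, hmaxB⟩
      refine Subgroup.map_injective (S : Subgroup C).subtype_injective ?_
      rw [hA']
      have h := elem_sylow g ((hel B hB).map c⁻¹) (fun y hy => by
        obtain ⟨b, hb, rfl⟩ := hy
        obtain ⟨b', -, rfl⟩ := hb
        have hcS : (S : Subgroup C) = ((c • SylT Δ : Sylow 2 C) : Subgroup C) := by rw [hc]
        have key : ∀ v : C, v ∈ (S : Subgroup C) →
            v ∈ (SylT Δ : Subgroup C).map (MulAut.conj c).toMonoidHom := fun v hv => by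
          rw [hcS] at hv; exact hv
        have := key _ b'.2
        obtain ⟨t, ht, e⟩ := this
        rw [← coe_SylT]
        show c⁻¹ * (b' : C) * c⁻¹⁻¹ ∈ _
        rw [← e]
        simpa [mul_assoc] using SetLike.mem_coe.1 ht)
      rw [card_map_conj, hcardB] at h
      have he := h.2 (hcardA' ▸ hmaxB A' hA'el)
      rw [hA, ← he, Subgroup.map_map]
      convert (Subgroup.map_id _).symm using 2
      ext y
      simp [mul_assoc]
    · rintro rfl
      refine ⟨hA'el, fun B hB => ?_⟩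
      rw [hcardA', ← hcardB]
      exact (elem_conj g (hel B hB)).1
  rw [Cfsg.thompsonSubgroupOf, Cfsg.thompsonSubgroup, hmax, sSup_singleton, hA']

/-- Involutions are conjugate into `A0`. -/
theorem exists_conj_mem {y : C} (hy : y * y = 1) : ∃ c : C, c * y * c⁻¹ ∈ A0 g := by
  by_cases h1 : Δ.ψ y = 1
  · exact ⟨1, (mem_A0_iff g).2 ⟨0, by norm_num, by simp [h1, R_zero]⟩⟩
  obtain ⟨t, ht⟩ := QuotientGroup.mk_surjective (Δ.ψ y)
  obtain ⟨a, ha1, ha⟩ := (U6.proj_eq_one_iff cx (t * t)).1 (by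
    rw [QuotientGroup.mk_mul, ht, ← map_mul, hy, map_one])
  have ha0 : a ≠ 0 := fun e => by simp [e] at ha1
  have ht3 : (t * t * t) * (t * t * t) = 1 := U6.ext_smul cx fun w => by
    rw [show t * t * t * (t * t * t) = (t * t) * ((t * t) * (t * t)) by group, one_smul]
    calc ((t * t) * ((t * t) * (t * t))) • w = (t * t) • (t * t) • (t * t) • w := by
          simp only [mul_smul]
      _ = a • a • a • w := by rw [ha, ha, ha]
      _ = w := by rw [smul_smul, smul_smul, cx.cube a ha0, one_smul]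
  have hmk : mkQ (t * t * t) = Δ.ψ y := by
    show QuotientGroup.mk (t * t * t) = _
    rw [QuotientGroup.mk_mul, QuotientGroup.mk_mul, ht, ← map_mul, hy, map_one, one_mul]
  obtain ⟨k, m, hk⟩ := exists_conj_model ht3 (fun e => h1 (by rw [← hmk, e, map_one]))
  obtain ⟨c, hc⟩ := Δ.surj (mkQ k)
  have : ∀ m, cm m < 512 := by decide +kernel
  refine ⟨c, (mem_A0_iff g).2 ⟨cm m, this m, ?_⟩⟩
  rw [map_mul, map_mul, map_inv, hc, ← hmk, ← map_inv, ← map_mul, ← map_mul, hk]

/-- The count of 22, and the members. -/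
theorem ncard_class' (hperf : commutator C = ⊤) {D : Set C} (hzD : Δ.z ∈ D)
    (hconj : ∀ c : C, ∀ d ∈ D, c * d * c⁻¹ ∈ D) (hsq : ∀ c : C, c * c ∉ D)
    (hreg : ∀ a ∈ D, a ∈ A0 g → ∀ b ∈ D, b ∈ A0 g →
      {w | w ∈ A0 g ∧ w ∈ D ∧ w * a ∈ D}.ncard = {w | w ∈ A0 g ∧ w ∈ D ∧ w * b ∈ D}.ncard)
    (hex : ∃ y ∈ D, y ≠ Δ.z ∧ y * y = 1) :
    {w | w ∈ A0 g ∧ w ∈ D}.ncard = 22 ∧ ∀ j < 21, Δ.z * Δ.Pb x j ∈ D := by
  classical
  set e1 := eps Δ x h1m
  set e2 := eps Δ x h2m
  obtain ⟨hfq, hfx, hfs, hqall, hcover, hc1, hc2, hnd⟩ := data_ok e1 e2 (not_split g hperf)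
  let S : ℕ → Prop := fun a => a < 1024 ∧ f10 Δ x a ∈ D
  have hlt : ∀ r < 8, ∀ a : ℕ, gact10 e1 e2 r a < 1024 := fun r hr a => by
    refine bmap_lt (k := 10) (fun i hi => ?_) a
    split
    · refine Nat.xor_lt_two_pow (n := 10) ((pc_ok _ (root_perm r hr i (by omega)).1).1.trans (by norm_num)) ?_
      split <;> norm_num
    · norm_num
  have hmove : ∀ r < 8, ∀ a < 1024, (S (gact10 e1 e2 r a) ↔ S a) := by
    intro r hr a ha
    obtain ⟨y, ey⟩ := Δ.surj (mkQ (Rt r))
    have e := root_conj_f10 g hr ey a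
    refine ⟨fun h => ⟨ha, ?_⟩, fun h => ⟨hlt r hr a, e ▸ hconj y _ h.2⟩⟩
    have := hconj y⁻¹ _ h.2
    rwa [← e, show y⁻¹ * (y * f10 Δ x a * y⁻¹) * y⁻¹⁻¹ = f10 Δ x a by group] at this
  -- squares
  have hs : ∀ n ∈ sData e1 e2, ¬ S (nX n) :=
    forest_spec (p := fun a => ¬ S a) (fun n hn => by
      simp only [sqRoot, Bool.and_eq_true, decide_eq_true_eq] at hn
      obtain ⟨⟨⟨h8, hI⟩, -⟩, he⟩ := hn
      intro hS
      have hr : nR n - 8 < 8 := by have : nR n < 16 := Nat.mod_lt _ (by norm_num); omega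
      have e := root_conj_f10 g hr (ψ_Yr g hr) (nI n)
      refine hsq (f10 Δ x (nI n) * Yr Δ x (nR n - 8)) ?_
      rw [he] at hS
      convert hS.2 using 1
      rw [f10_xor g, ← e, Yr_inv g hr]
      group)
      (fun r hr a ha hp => fun h => hp ((hmove r hr a ha).1 h)) _ [] hfs (by simp)
  have hx : ∀ n ∈ xData e1 e2, (S (nX n) ↔ S 7) :=
    forest_spec (p := fun a => (S a ↔ S 7)) (fun n hn => by
      simp only [decide_eq_true_eq] at hn; rw [hn.2.2])
      (fun r hr a ha hp => (hmove r hr a ha).trans hp) _ [] hfx (by simp)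
  have hq : ∀ n ∈ qData e1 e2, (S (nX n) ↔ S (tb e1 e2 0 ^^^ 512)) :=
    forest_spec (p := fun a => (S a ↔ S (tb e1 e2 0 ^^^ 512))) (fun n hn => by
      simp only [decide_eq_true_eq] at hn; rw [hn.2.2])
      (fun r hr a ha hp => (hmove r hr a ha).trans hp) _ [] hfq (by simp)
  have hS512 : S 512 := ⟨by norm_num, by rw [f10_z]; exact hzD⟩
  have hS0 : ¬ S 0 := fun h => hsq 1 (by simpa [f10_zero] using h.2)
  have hsplit : ∀ a, S a → a = 512 ∨ a ∈ (qData e1 e2).map nX ∨ a ∈ (xData e1 e2).map nX := by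
    intro a ha
    have h := congrArg (fun N => Nat.testBit N a) hcover
    simp only [Nat.testBit_lor, Nat.testBit_two_pow_sub_one, decide_eq_true ha.1, Bool.or_eq_true,
      Nat.one_shiftLeft] at h
    rcases h with (((h | h) | h) | h) | h
    · have : a = 0 := by
        by_contra hne
        rw [show (1 : ℕ) = 2 ^ 0 from rfl, Nat.testBit_two_pow_of_ne (Ne.symm hne)] at h
        cases h
      exact absurd (this ▸ ha) hS0
    · refine Or.inl ?_
      by_contra hne
      rw [Nat.testBit_two_pow_of_ne (Ne.symm hne)] at h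
      cases h
    · obtain ⟨n, hn, e⟩ := mem_of_maskOf h
      exact Or.inr (Or.inl (List.mem_map.2 ⟨n, hn, e⟩))
    · obtain ⟨n, hn, e⟩ := mem_of_maskOf h
      exact Or.inr (Or.inr (List.mem_map.2 ⟨n, hn, e⟩))
    · obtain ⟨n, hn, e⟩ := mem_of_maskOf h
      exact absurd (e ▸ ha) (hs n hn)
  have himg : ∀ P : ℕ → Prop, (∀ a, P a → a < 1024) →
      (f10 Δ x '' {a | P a}).ncard = {a | P a}.ncard := fun P hP =>
    Set.ncard_image_of_injOn fun a ha b hb e => f10_inj g (hP a ha) (hP b hb) e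
  have hcount : ∀ a < 1024, {w | w ∈ A0 g ∧ w ∈ D ∧ w * f10 Δ x a ∈ D}.ncard = {w | S w ∧ S (w ^^^ a)}.ncard := by
    intro a ha
    rw [← himg (fun w => S w ∧ S (w ^^^ a)) (fun w h => h.1.1)]
    congr 1
    ext c
    constructor
    · rintro ⟨⟨w, hw, rfl⟩, h1, h2⟩
      exact ⟨w, ⟨⟨hw, h1⟩, Nat.xor_lt_two_pow (n := 10) hw ha, by rwa [f10_xor g]⟩, rfl⟩
    · rintro ⟨w, ⟨⟨hw, h1⟩, -, h2⟩, rfl⟩
      exact ⟨⟨w, hw, rfl⟩, h1, by rwa [← f10_xor g]⟩
  have hno : ¬ S 7 := by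
    intro h7
    have hcnt : ∀ l mask, l.Nodup → (∀ a, S a ↔ a ∈ l) → (∀ a, a ∈ l ↔ mask.testBit a = true) →
        lineCount l mask 512 ≠ lineCount l mask 7 → False := by
      intro l mask hl hSl hmask hne
      refine hne ?_
      have := hreg _ hS512.2 ⟨512, by norm_num, rfl⟩ _ h7.2 ⟨7, by norm_num, rfl⟩
      rw [hcount 512 (by norm_num), hcount 7 (by norm_num)] at this
      simp only [hSl, hmask (_ ^^^ _)] at this
      rw [ncard_filter hl, ncard_filter hl] at this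
      exact this
    have hbit : ∀ a, (1 <<< 512 : ℕ).testBit a = true ↔ a = 512 := fun a => by
      rw [Nat.one_shiftLeft]
      refine ⟨fun h => by_contra fun hne => ?_, fun h => ?_⟩
      · rw [Nat.testBit_two_pow_of_ne (Ne.symm hne)] at h
        cases h
      · subst h; exact Nat.testBit_two_pow_self
    have hm : ∀ l a, (maskOf l).testBit a = true ↔ a ∈ l.map nX := fun l a =>
      ⟨fun h => by obtain ⟨n, hn, e⟩ := mem_of_maskOf h; exact List.mem_map.2 ⟨n, hn, e⟩,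
        fun h => by obtain ⟨n, hn, rfl⟩ := List.mem_map.1 h; exact testBit_maskOf hn⟩
    have hxS : ∀ a ∈ (xData e1 e2).map nX, S a := fun a ha => by
      obtain ⟨n, hn, rfl⟩ := List.mem_map.1 ha; exact (hx n hn).2 h7
    by_cases hq0 : S (tb e1 e2 0 ^^^ 512)
    · refine hcnt _ _ hnd (fun a => ⟨fun h => ?_, fun h => ?_⟩) (fun a => ?_) hc2
      · rcases hsplit a h with h | h | h <;> simp [h]
      · rcases List.mem_cons.1 h with rfl | h
        · exact hS512
        rcases List.mem_append.1 h with h | h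
        · obtain ⟨n, hn, rfl⟩ := List.mem_map.1 h; exact (hq n hn).2 hq0
        · exact hxS a h
      · simp only [Nat.testBit_lor, Bool.or_eq_true, hbit, hm, List.mem_cons, List.mem_append, or_assoc]
    · refine hcnt _ _ (hnd.sublist ((List.sublist_append_right _ _).cons_cons _)) (fun a => ⟨fun h => ?_, fun h => ?_⟩)
        (fun a => ?_) hc1
      · rcases hsplit a h with h' | h' | h'
        · simp [h']
        · obtain ⟨n, hn, rfl⟩ := List.mem_map.1 h'
          exact absurd ((hq n hn).1 h) hq0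
        · simp [h']
      · rcases List.mem_cons.1 h with rfl | h
        exacts [hS512, hxS a h]
      · simp only [Nat.testBit_lor, Bool.or_eq_true, hbit, hm, List.mem_cons]
  obtain ⟨y, hyD, hyz, hy2⟩ := hex
  obtain ⟨c, hc⟩ := exists_conj_mem g hy2
  obtain ⟨a, ha, ea⟩ := hc
  have hSa : S a := ⟨ha, ea ▸ hconj c y hyD⟩
  have hq0 : S (tb e1 e2 0 ^^^ 512) := by
    rcases hsplit a hSa with h | h | h
    · refine absurd ?_ hyz
      rw [h, f10_z] at ea
      calc y = c⁻¹ * (c * y * c⁻¹) * c := by group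
        _ = Δ.z := by rw [ea, mul_assoc, (Δ.zc c).eq, inv_mul_cancel_left]
    · obtain ⟨n, hn, rfl⟩ := List.mem_map.1 h; exact (hq n hn).1 hSa
    · obtain ⟨n, hn, rfl⟩ := List.mem_map.1 h; exact absurd ((hx n hn).1 hSa) hno
  have hS : ∀ a, S a ↔ a ∈ 512 :: (qData e1 e2).map nX := fun a => ⟨fun h => by
      rcases hsplit a h with h' | h' | h'
      · simp [h']
      · simp [h']
      · obtain ⟨n, hn, rfl⟩ := List.mem_map.1 h'; exact absurd ((hx n hn).1 h) hno,
    fun h => by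
      rcases List.mem_cons.1 h with rfl | h
      · exact hS512
      · obtain ⟨n, hn, rfl⟩ := List.mem_map.1 h; exact (hq n hn).2 hq0⟩
  refine ⟨?_, fun j hj => ?_⟩
  swap
  · have hmem : tb e1 e2 j ^^^ 512 ∈ (qData e1 e2).map nX := by
      have h1 : ((qData e1 e2).map nX).toFinset ⊆ (Finset.range 21).image fun j => tb e1 e2 j ^^^ 512 := by
        intro a ha
        rw [List.mem_toFinset, List.mem_map] at ha
        obtain ⟨n, hn, rfl⟩ := ha
        have := List.all_eq_true.1 hqall n hn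
        simp only [List.any_eq_true, List.mem_range, decide_eq_true_eq] at this
        obtain ⟨k, hk, e⟩ := this
        exact Finset.mem_image.2 ⟨k, Finset.mem_range.2 hk, e.symm⟩
      have h2 := Finset.eq_of_subset_of_card_le h1 (by
        rw [List.toFinset_card_of_nodup ((List.nodup_cons.1 hnd).2.sublist (List.sublist_append_left _ _)),
          List.length_map, qData_length]
        exact Finset.card_image_le.trans (by rw [Finset.card_range]))
      rw [← List.mem_toFinset, h2]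
      exact Finset.mem_image.2 ⟨j, Finset.mem_range.2 hj, rfl⟩
    have := ((hS _).2 (List.mem_cons_of_mem _ hmem)).2
    rwa [f10_xor g, f10_tb g hj, f10_z, ← (Δ.zc _).eq] at this
  have e : {w | w ∈ A0 g ∧ w ∈ D} = f10 Δ x '' {a | S a} := by
    ext w
    exact ⟨fun ⟨⟨a, ha, e⟩, h⟩ => ⟨a, ⟨ha, e ▸ h⟩, e.symm⟩, fun ⟨a, ha, e⟩ => e ▸ ⟨⟨a, ha.1, rfl⟩, ha.2⟩⟩
  rw [e, himg S (fun a h => h.1)]
  simp only [hS]
  rw [show {a : ℕ | a ∈ 512 :: (qData e1 e2).map nX} = ↑((512 :: (qData e1 e2).map nX).toFinset) by ext; simp,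
    Set.ncard_coe_finset,
    List.toFinset_card_of_nodup (hnd.sublist ((List.sublist_append_left _ _).cons_cons _)),
    List.length_cons, List.length_map, qData_length]

/-- The count of 22. -/
theorem ncard_class (hperf : commutator C = ⊤) {D : Set C} (hzD : Δ.z ∈ D)
    (hconj : ∀ c : C, ∀ d ∈ D, c * d * c⁻¹ ∈ D) (hsq : ∀ c : C, c * c ∉ D)
    (hreg : ∀ a ∈ D, a ∈ A0 g → ∀ b ∈ D, b ∈ A0 g →
      {w | w ∈ A0 g ∧ w ∈ D ∧ w * a ∈ D}.ncard = {w | w ∈ A0 g ∧ w ∈ D ∧ w * b ∈ D}.ncard)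
    (hex : ∃ y ∈ D, y ≠ Δ.z ∧ y * y = 1) :
    {w | w ∈ A0 g ∧ w ∈ D}.ncard = 22 :=
  (ncard_class' g hperf hzD hconj hsq hreg hex).1

/-- `A0` is generated by the points and `z`. -/
theorem A0_le_closure {H : Subgroup C} (hz : Δ.z ∈ H) (hP : ∀ j < 9, Δ.Pb x j ∈ H) : A0 g ≤ H := by
  rintro _ ⟨a, -, rfl⟩
  refine bprod_mem (S := H.toSubmonoid) (fun i hi => ?_) a
  split
  exacts [hP i (by omega), hz]

end Cfsg.Agent.Transpos.L6
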