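import Cfsg.Agent.Lib.Transpos.SUReach

/-!
# The perp graph on the vectors of norm one in the five-dimensional unitary space over four elements
-/

set_option autoImplicit false

namespace Cfsg.Agent.Transpos.SUReach

open Cfsg SU32

variable {n : ℕ}

/-- A totally isotropic subspace orthogonal to `m` orthonormal vectors is small. -/
theorem iso_bound {R : Submodule K4 (Fin n → K4)}
    (hR : ∀ a ∈ R, ∀ b ∈ R, hermForm n K4 2 a b = 0) {m : ℕ} (w : Fin m → Fin n → K4)
    (hw : ∀ i j, hermForm n K4 2 (w i) (w j) = if i = j then 1 else 0)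
    (hwR : ∀ i, ∀ r ∈ R, hermForm n K4 2 r (w i) = 0) :
    2 * Module.finrank K4 ↥R + m ≤ n := by
  classical
  set k := Module.finrank K4 ↥R with hk
  let b := Module.finBasis K4 ↥R
  let e : Fin k → Fin n → K4 := fun i => (b i : Fin n → K4)
  have he : LinearIndependent K4 e := b.linearIndependent.map' R.subtype (Submodule.ker_subtype _)
  set M := LinearMap.pi fun i => hl (e i) with hM
  have hM' := M.finrank_range_add_finrank_ker
  rw [LinearMap.range_eq_top.2 (surj he), finrank_top, Module.finrank_fin_fun, Module.finrank_fin_fun] at hM'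
  have hmem : ∀ {x}, (∀ i, hermForm n K4 2 x (e i) = 0) → x ∈ LinearMap.ker M := fun {x} h => by
    simp [hM, funext_iff, hl_apply, h]
  let f : Fin m ⊕ Fin k → ↥(LinearMap.ker M) := Sum.elim
    (fun i => ⟨w i, hmem fun j => by rw [swap, hwR i _ (b j).2, zero_pow two_ne_zero]⟩)
    fun i => ⟨e i, hmem fun j => hR _ (b i).2 _ (b j).2⟩
  have hf : LinearIndependent K4 f := by
    refine Fintype.linearIndependent_iff.2 fun g hg => ?_
    have hg' := congrArg Subtype.val hg
    simp only [f, Fintype.sum_sum_type, Sum.elim_inl, Sum.elim_inr, Submodule.coe_add,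
      Submodule.coe_smul, Submodule.coe_sum, ZeroMemClass.coe_zero] at hg'
    have h0 : ∀ i, g (Sum.inl i) = 0 := fun i => by
      have h := congrArg (hl (w i)) hg'
      rw [map_add, map_sum, map_sum, map_zero] at h
      simpa [map_smul, hl_apply, hw, show ∀ j, hermForm n K4 2 (e j) (w i) = 0 from
        fun j => hwR i _ (b j).2] using h
    rw [Finset.sum_eq_zero (fun i _ => by rw [h0, zero_smul]), zero_add] at hg'
    exact fun i => i.casesOn h0 (Fintype.linearIndependent_iff.1 he _ hg')
  have := hf.fintype_card_le_finrank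
  rw [Fintype.card_sum, Fintype.card_fin, Fintype.card_fin] at this
  omega

/-- The perp of a family. -/
def perp {j : ℕ} (u : Fin j → Fin n → K4) : Submodule K4 (Fin n → K4) :=
  LinearMap.ker (LinearMap.pi fun i => hl (u i))

theorem mem_perp {j : ℕ} {u : Fin j → Fin n → K4} {x : Fin n → K4} :
    x ∈ perp u ↔ ∀ i, hermForm n K4 2 x (u i) = 0 := by
  simp [perp, funext_iff, hl_apply]

theorem finrank_perp {j : ℕ} (u : Fin j → Fin n → K4) : n ≤ Module.finrank K4 ↥(perp u) + j := by
  set L := LinearMap.pi fun i => hl (u i) with hL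
  have h := L.finrank_range_add_finrank_ker
  have h' := (LinearMap.range L).finrank_le
  rw [Module.finrank_fin_fun] at h h'
  change n ≤ Module.finrank K4 ↥(LinearMap.ker L) + j
  omega

/-- A vector of norm one in the perp, when that is too large to be totally isotropic. -/
theorem exists_norm_one {j m : ℕ} {u : Fin j → Fin n → K4} (w : Fin m → Fin n → K4)
    (hw : ∀ i l, hermForm n K4 2 (w i) (w l) = if i = l then 1 else 0)
    (hwu : ∀ i, ∀ r ∈ perp u, hermForm n K4 2 r (w i) = 0)
    (hlt : n < 2 * Module.finrank K4 ↥(perp u) + m) :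
    ∃ r, (∀ i, hermForm n K4 2 r (u i) = 0) ∧ hermForm n K4 2 r r = 1 := by
  by_contra hno
  push Not at hno
  have hone : ∀ a : K4, a ^ 2 = a → a ≠ 1 → a = 0 := by decide
  have hall : ∀ r ∈ perp u, hermForm n K4 2 r r = 0 := fun r hr =>
    hone _ (swap r r).symm (hno r (mem_perp.1 hr))
  refine absurd (iso_bound (R := perp u) (fun a ha b hb => ?_) w hw hwu) (by omega)
  have key : ∀ m : K4, m ≠ 0 → m ^ 2 * hermForm n K4 2 a b + m * hermForm n K4 2 a b ^ 2 = 0 := by
    intro m hm
    have h := hall (a + m • b) (add_mem ha (Submodule.smul_mem _ m hb))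
    rw [add_left, add_right, add_right, smul_self hm, smul_right, smul_left, swap a b, hall a ha,
      hall b hb, zero_add, add_zero] at h
    exact h
  have : ∀ x : K4, (∀ m : K4, m ≠ 0 → m ^ 2 * x + m * x ^ 2 = 0) → x = 0 := by decide
  exact this _ key

/-- Any two vectors have a common neighbour. -/
theorem perp_two (e f : Fin 5 → K4) :
    ∃ m, hermForm 5 K4 2 m m = 1 ∧ hermForm 5 K4 2 m e = 0 ∧ hermForm 5 K4 2 m f = 0 := by
  obtain ⟨r, hr, h1⟩ := exists_norm_one (u := ![e, f]) (m := 0) Fin.elim0 (fun i => i.elim0)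
    (fun i => i.elim0) (by have := finrank_perp ![e, f]; omega)
  exact ⟨r, h1, hr 0, hr 1⟩

/-- An isotropic vector has a neighbour. -/
theorem perp_one (q : Fin 5 → K4) :
    ∃ m, hermForm 5 K4 2 m m = 1 ∧ hermForm 5 K4 2 q m = 0 := by
  obtain ⟨r, hr, h1, -⟩ := perp_two q q
  exact ⟨r, hr, by rw [swap, h1, zero_pow two_ne_zero]⟩

/-- Three vectors, two of them orthonormal, have a common neighbour. -/
theorem perp_three (e : Fin 5 → K4) {q q' : Fin 5 → K4} (hq : hermForm 5 K4 2 q q = 1)
    (hq' : hermForm 5 K4 2 q' q' = 1) (h : hermForm 5 K4 2 q q' = 0) :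
    ∃ m, hermForm 5 K4 2 m m = 1 ∧ hermForm 5 K4 2 m e = 0 ∧ hermForm 5 K4 2 m q = 0 ∧
      hermForm 5 K4 2 m q' = 0 := by
  have h' : hermForm 5 K4 2 q' q = 0 := by rw [swap, h, zero_pow two_ne_zero]
  obtain ⟨r, hr, h1⟩ := exists_norm_one (u := ![e, q, q']) ![q, q']
    (fun i l => by fin_cases i <;> fin_cases l <;> simp [hq, hq', h, h'])
    (fun i r hr => by fin_cases i; exacts [mem_perp.1 hr 1, mem_perp.1 hr 2])
    (by have := finrank_perp ![e, q, q']; omega)
  exact ⟨r, h1, hr 0, hr 1, hr 2⟩

/-- Two degenerate orthogonal pairs have a common neighbour. -/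
theorem perp_four {e q m m' : Fin 5 → K4} (he : hermForm 5 K4 2 e e = 1) (hq : hermForm 5 K4 2 q q = 1)
    (hm : hermForm 5 K4 2 m m = 1) (hm' : hermForm 5 K4 2 m' m' = 1) (heq : hermForm 5 K4 2 e q ≠ 0)
    (hme : hermForm 5 K4 2 m e = 0) (hmq : hermForm 5 K4 2 m q = 0) (hme' : hermForm 5 K4 2 m' e = 0)
    (hmq' : hermForm 5 K4 2 m' q = 0) (hmm : hermForm 5 K4 2 m m' ≠ 0) :
    ∃ k, hermForm 5 K4 2 k k = 1 ∧ hermForm 5 K4 2 k e = 0 ∧ hermForm 5 K4 2 k q = 0 ∧
      hermForm 5 K4 2 k m = 0 ∧ hermForm 5 K4 2 k m' = 0 := by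
  classical
  set u := ![e, q, m, m'] with hu
  have hem : hermForm 5 K4 2 e m = 0 := by rw [swap, hme, zero_pow two_ne_zero]
  have hem' : hermForm 5 K4 2 e m' = 0 := by rw [swap, hme', zero_pow two_ne_zero]
  have hqm : hermForm 5 K4 2 q m = 0 := by rw [swap, hmq, zero_pow two_ne_zero]
  have hqm' : hermForm 5 K4 2 q m' = 0 := by rw [swap, hmq', zero_pow two_ne_zero]
  have h2 : 2 ≤ Module.finrank K4 ↥(perp u) := by
    by_cases hli : LinearIndependent K4 u
    · -- the radicals of the two pairs
      set a := e + hermForm 5 K4 2 e q • q with ha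
      set b := m + hermForm 5 K4 2 m m' • m' with hb
      have rad : ∀ {x y : Fin 5 → K4}, hermForm 5 K4 2 x x = 1 → hermForm 5 K4 2 y y = 1 →
          hermForm 5 K4 2 x y ≠ 0 →
          hermForm 5 K4 2 (x + hermForm 5 K4 2 x y • y) x = 0 ∧
          hermForm 5 K4 2 (x + hermForm 5 K4 2 x y • y) y = 0 := fun {x y} hx hy hxy => by
        constructor
        · rw [add_left, smul_left, hx, swap x y, ← pow_succ', cube _ hxy, add_self']
        · rw [add_left, smul_left, hy, mul_one, add_self']
      have haP : a ∈ perp u := mem_perp.2 fun i => by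
        fin_cases i
        exacts [(rad he hq heq).1, (rad he hq heq).2,
          by simp [ha, hu, add_left, smul_left, hem, hqm], by simp [ha, hu, add_left, smul_left, hem', hqm']]
      have hbP : b ∈ perp u := mem_perp.2 fun i => by
        fin_cases i
        exacts [by simp [hb, hu, add_left, smul_left, hme, hme'], by simp [hb, hu, add_left, smul_left, hmq, hmq'],
          (rad hm hm' hmm).1, (rad hm hm' hmm).2]
      have hab : LinearIndependent K4 ![(⟨a, haP⟩ : ↥(perp u)), ⟨b, hbP⟩] := by
        refine Fintype.linearIndependent_iff.2 fun g hg => ?_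
        have hg' := congrArg Subtype.val hg
        simp only [Fin.sum_univ_two, Matrix.cons_val_zero, Matrix.cons_val_one, Submodule.coe_add,
          Submodule.coe_smul, ZeroMemClass.coe_zero, ha, hb, smul_add, smul_smul] at hg'
        have h4 := Fintype.linearIndependent_iff.1 hli
          ![g 0, g 0 * hermForm 5 K4 2 e q, g 1, g 1 * hermForm 5 K4 2 m m'] (by
            simpa [Fin.sum_univ_four, hu, ← add_assoc] using hg')
        intro i
        fin_cases i
        exacts [h4 0, h4 2]
      simpa using hab.fintype_card_le_finrank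
    · obtain ⟨g, hg, i, hi⟩ := Fintype.not_linearIndependent_iff.1 hli
      set L := LinearMap.pi fun i => hl (u i) with hL
      have hne : LinearMap.range L ≠ ⊤ := fun h => by
        obtain ⟨x, hx⟩ := LinearMap.range_eq_top.1 h (Pi.single i 1)
        have hs : hermForm 5 K4 2 x (∑ l, g l • u l) = ∑ l, g l ^ 2 * L x l := by
          rw [swap, ← hl_apply, map_sum, sum_sq]
          refine Finset.sum_congr rfl fun l _ => ?_
          rw [map_smul, smul_eq_mul, mul_pow, hl_apply, ← swap]
          simp [hL, hl_apply]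
        rw [hg, hx] at hs
        simp [hermForm, Pi.single_apply] at hs
        exact hi ((pow_eq_zero_iff two_ne_zero).1 hs.symm)
      have h := L.finrank_range_add_finrank_ker
      have h' := Submodule.finrank_lt hne
      rw [Module.finrank_fin_fun] at h h'
      change 2 ≤ Module.finrank K4 ↥(LinearMap.ker L)
      omega
  obtain ⟨r, hr, h1⟩ := exists_norm_one (u := u) ![e, m]
    (fun i l => by fin_cases i <;> fin_cases l <;> simp [he, hm, hem, hme])
    (fun i r hr => by fin_cases i; exacts [mem_perp.1 hr 0, mem_perp.1 hr 2]) (by omega)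
  exact ⟨r, h1, hr 0, hr 1, hr 2, hr 3⟩

end Cfsg.Agent.Transpos.SUReach
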