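import Cfsg.Agent.Lib.Transpos.OTwo.Certs

/-!
# Isotropic points of the unitary space over four elements

In coordinates a vector is isotropic iff its weight is even.

* `bridge`: points off the perp of `p` are joined by transvections with centres in that perp.
* `reach_five`, `reach_seven`: the seeds reach every point.
-/

set_option autoImplicit false
set_option linter.unusedSectionVars false

namespace Cfsg.Agent.Transpos.SUReach

open Cfsg SU32 OTwo

variable {n : ℕ}

theorem sq_add' : ∀ a b : K4, (a + b) ^ 2 = a ^ 2 + b ^ 2 := by decide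
theorem add_self' : ∀ a : K4, a + a = 0 := by decide
theorem cube : ∀ a : K4, a ≠ 0 → a ^ 3 = 1 := by decide
theorem four' : ∀ a : K4, (a ^ 2) ^ 2 = a := by decide

theorem add_selfV (x : Fin n → K4) : x + x = 0 := funext fun _ => add_self' _

/-- The form as a linear map in its first argument. -/
def hl (u : Fin n → K4) : (Fin n → K4) →ₗ[K4] K4 :=
  ∑ i, (u i ^ 2) • LinearMap.proj i

theorem hl_apply (u x : Fin n → K4) : hl u x = hermForm n K4 2 x u := by
  simp [hl, hermForm, mul_comm]

theorem sum_sq {ι : Type*} (s : Finset ι) (f : ι → K4) : (∑ i ∈ s, f i) ^ 2 = ∑ i ∈ s, f i ^ 2 := by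
  classical
  induction s using Finset.induction_on with
  | empty => simp
  | insert a s ha ih => rw [Finset.sum_insert ha, Finset.sum_insert ha, sq_add', ih]

theorem swap (x y : Fin n → K4) : hermForm n K4 2 y x = hermForm n K4 2 x y ^ 2 := by
  rw [hermForm, hermForm, sum_sq]
  refine Finset.sum_congr rfl fun i _ => ?_
  rw [mul_pow, four', mul_comm]

theorem add_left (x x' y : Fin n → K4) :
    hermForm n K4 2 (x + x') y = hermForm n K4 2 x y + hermForm n K4 2 x' y := by
  simp only [← hl_apply, map_add]

theorem smul_left (m : K4) (x y : Fin n → K4) :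
    hermForm n K4 2 (m • x) y = m * hermForm n K4 2 x y := by
  simp only [← hl_apply, map_smul, smul_eq_mul]

theorem add_right (x y y' : Fin n → K4) :
    hermForm n K4 2 x (y + y') = hermForm n K4 2 x y + hermForm n K4 2 x y' := by
  rw [swap (y + y'), add_left, sq_add', ← swap, ← swap]

theorem smul_right (m : K4) (x y : Fin n → K4) :
    hermForm n K4 2 x (m • y) = m ^ 2 * hermForm n K4 2 x y := by
  rw [swap (m • y), smul_left, mul_pow, ← swap]

theorem smul_self {m : K4} (hm : m ≠ 0) (x : Fin n → K4) :
    hermForm n K4 2 (m • x) (m • x) = hermForm n K4 2 x x := by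
  rw [smul_left, smul_right, ← mul_assoc, show m * m ^ 2 = 1 by rw [← pow_succ', cube m hm], one_mul]

/-- Independent vectors give independent functionals. -/
theorem surj {k : ℕ} {u : Fin k → Fin n → K4} (hu : LinearIndependent K4 u) :
    Function.Surjective (LinearMap.pi fun i => hl (u i)) := by
  classical
  rw [← LinearMap.dualMap_injective_iff, injective_iff_map_eq_zero]
  intro φ hφ
  set c : Fin k → K4 := fun i => φ (Pi.single i 1)
  have hc : ∀ j, ∑ i, c i ^ 2 * u i j = 0 := fun j => by
    have h0 : φ (LinearMap.pi (fun i => hl (u i)) (Pi.single j 1)) = 0 := by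
      simpa using LinearMap.congr_fun hφ (Pi.single j 1)
    have e : LinearMap.pi (fun i => hl (u i)) (Pi.single j 1) =
        ∑ i, (u i j ^ 2) • (Pi.single i 1 : Fin k → K4) := by
      ext l
      simp [hl, Pi.single_apply, Finset.sum_apply]
    rw [e, map_sum] at h0
    simp only [map_smul, smul_eq_mul] at h0
    have h1 := congrArg (· ^ 2) h0
    simp only [sum_sq, mul_pow, four', zero_pow (two_ne_zero)] at h1
    simpa [c, mul_comm] using h1
  have hz := Fintype.linearIndependent_iff.1 hu (fun i => c i ^ 2) (funext fun j => by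
    simpa [Finset.sum_apply] using hc j)
  refine (Pi.basisFun K4 (Fin k)).ext fun i => ?_
  simpa [c] using pow_eq_zero_iff (two_ne_zero) |>.1 (hz i)

/-! ## The bridge -/

/-- A vector with given pairings against three independent ones, isotropic. -/
theorem exists_iso {u : Fin 3 → Fin n → K4} (hn : 5 ≤ n) (hu : LinearIndependent K4 u)
    (hp : hermForm n K4 2 (u 0) (u 0) = 0) (hq : hermForm n K4 2 (u 1) (u 1) = 0)
    (hqp : hermForm n K4 2 (u 1) (u 0) ≠ 0) (t : Fin 3 → K4) :
    ∃ y, (∀ i, hermForm n K4 2 y (u i) = t i) ∧ hermForm n K4 2 y y = 0 := by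
  classical
  set L := LinearMap.pi fun i => hl (u i) with hL
  have hLsurj := surj hu
  obtain ⟨y, hy⟩ := hLsurj t
  have hyi : ∀ i, hermForm n K4 2 y (u i) = t i := fun i => by
    rw [← hl_apply, ← hy]; rfl
  -- the perp of the three vectors is not totally isotropic
  obtain ⟨r, hr, hrr⟩ : ∃ r, (∀ i, hermForm n K4 2 r (u i) = 0) ∧ hermForm n K4 2 r r ≠ 0 := by
    by_contra hall
    push Not at hall
    have hRiff : ∀ {r}, r ∈ LinearMap.ker L ↔ ∀ i, hermForm n K4 2 r (u i) = 0 := fun {r} => by
      simp [hL, funext_iff, hl_apply]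
    have hRR : ∀ a ∈ LinearMap.ker L, ∀ b ∈ LinearMap.ker L, hermForm n K4 2 a b = 0 := by
      intro a ha b hb
      have key : ∀ m : K4, m ≠ 0 → m ^ 2 * hermForm n K4 2 a b + m * hermForm n K4 2 a b ^ 2 = 0 := by
        intro m hm
        have h := hall (a + m • b) fun i => hRiff.1 (add_mem ha (Submodule.smul_mem _ m hb)) i
        rw [add_left, add_right, add_right, smul_self hm, smul_right, smul_left, swap a b,
          hall a (hRiff.1 ha), hall b (hRiff.1 hb), zero_add, add_zero] at h
        exact h
      have : ∀ x : K4, (∀ m : K4, m ≠ 0 → m ^ 2 * x + m * x ^ 2 = 0) → x = 0 := by decide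
      exact this _ key
    have hfr := L.finrank_range_add_finrank_ker
    rw [LinearMap.range_eq_top.2 hLsurj, finrank_top, Module.finrank_fin_fun, Module.finrank_fin_fun] at hfr
    set k := Module.finrank K4 ↥(LinearMap.ker L) with hk
    let b := Module.finBasis K4 ↥(LinearMap.ker L)
    let e : Fin k → Fin n → K4 := fun i => (b i : Fin n → K4)
    have he : LinearIndependent K4 e :=
      b.linearIndependent.map' (LinearMap.ker L).subtype (Submodule.ker_subtype _)
    set M := LinearMap.pi fun i => hl (e i) with hM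
    have hM' := M.finrank_range_add_finrank_ker
    rw [LinearMap.range_eq_top.2 (surj he), finrank_top, Module.finrank_fin_fun,
      Module.finrank_fin_fun] at hM'
    have hmemM : ∀ {x}, (∀ i, hermForm n K4 2 x (e i) = 0) → x ∈ LinearMap.ker M := fun {x} h => by
      simp [hM, funext_iff, hl_apply, h]
    let f : Fin (k + 2) → ↥(LinearMap.ker M) := Fin.cons ⟨u 0, hmemM fun i => by
        rw [swap, hRiff.1 (b i).2 0, zero_pow two_ne_zero]⟩
      (Fin.cons ⟨u 1, hmemM fun i => by rw [swap, hRiff.1 (b i).2 1, zero_pow two_ne_zero]⟩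
        fun i => ⟨e i, hmemM fun j => hRR _ (b i).2 _ (b j).2⟩)
    have hf : LinearIndependent K4 f := by
      refine Fintype.linearIndependent_iff.2 fun g hg => ?_
      have hg' := congrArg Subtype.val hg
      simp only [f, Fin.sum_univ_succ, Fin.cons_zero, Fin.cons_succ, Submodule.coe_add,
        Submodule.coe_smul, Submodule.coe_sum, ZeroMemClass.coe_zero] at hg'
      have hpe : ∀ (x : Fin n → K4) (g' : Fin k → K4),
          (∀ i, hermForm n K4 2 (e i) x = 0) → hl x (∑ i, g' i • e i) = 0 := fun x g' hx => by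
        simp [map_sum, hl_apply, hx]
      have h1 := congrArg (hl (u 0)) hg'
      rw [map_add, map_add, map_smul, map_smul, hpe _ _ (fun i => hRiff.1 (b i).2 0), map_zero] at h1
      simp [hl_apply, hp] at h1
      have h0 := congrArg (hl (u 1)) hg'
      rw [map_add, map_add, map_smul, map_smul, hpe _ _ (fun i => hRiff.1 (b i).2 1), map_zero] at h0
      have hpq : hermForm n K4 2 (u 0) (u 1) ≠ 0 := by
        rw [swap]; exact pow_ne_zero 2 hqp
      simp [hl_apply, hq] at h0
      replace h0 := h0.resolve_right hpq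
      replace h1 := h1.resolve_right hqp
      rw [h0, show g (Fin.succ 0) = 0 from h1, zero_smul, zero_smul, zero_add, zero_add] at hg'
      intro i
      refine Fin.cases h0 (fun i => ?_) i
      refine Fin.cases h1 (fun i => ?_) i
      exact Fintype.linearIndependent_iff.1 he _ hg' i
    have := hf.fintype_card_le_finrank
    rw [Fintype.card_fin] at this
    omega
  -- shift
  by_cases h0 : hermForm n K4 2 y y = 0
  · exact ⟨y, hyi, h0⟩
  have hdiag : ∀ x : Fin n → K4, hermForm n K4 2 x x ≠ 0 → hermForm n K4 2 x x = 1 := by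
    have hone : ∀ a : K4, a ≠ 0 → a ^ 2 = a → a = 1 := by decide
    exact fun x hx => hone _ hx (swap x x).symm
  have hm : ∀ a : K4, ∃ m : K4, m ≠ 0 ∧ m ^ 2 * a + m * a ^ 2 = 0 := by decide
  obtain ⟨m, hm0, hm⟩ := hm (hermForm n K4 2 y r)
  refine ⟨y + m • r, fun i => by rw [add_left, smul_left, hr, mul_zero, add_zero, hyi], ?_⟩
  rw [add_left, add_right, add_right, smul_self hm0, smul_right, smul_left, swap y r, hdiag y h0,
    hdiag r hrr]
  linear_combination hm + add_self' (1 : K4)

/-- Points off the perp of `p` are joined by transvections with centres in that perp. -/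
theorem bridge (hn : 5 ≤ n) : Bridge n := by
  intro p q s hp hpp hqq hss hqp hsp S hqS hsmul hrefl
  obtain ⟨l, hl0, hls⟩ : ∃ l : K4, l ≠ 0 ∧ hermForm n K4 2 (l • s) p = hermForm n K4 2 q p :=
    ⟨hermForm n K4 2 q p / hermForm n K4 2 s p, div_ne_zero hqp hsp, by
      rw [smul_left, div_mul_cancel₀ _ hsp]⟩
  suffices key : ∀ q s, q ∈ S → hermForm n K4 2 q q = 0 → hermForm n K4 2 s s = 0 →
      hermForm n K4 2 q p ≠ 0 → hermForm n K4 2 s p = hermForm n K4 2 q p → s ∈ S by
    have h := hsmul l⁻¹ (inv_ne_zero hl0) _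
      (key q (l • s) hqS hqq (by rw [smul_self hl0, hss]) hqp hls)
    rwa [inv_smul_smul₀ hl0] at h
  clear hqS hqq hss hqp hsp hls s q
  intro q s hqS hqq hss hqp hsp
  -- one step
  have step : ∀ a b, a ∈ S → hermForm n K4 2 a a = 0 → hermForm n K4 2 b b = 0 →
      hermForm n K4 2 a p = hermForm n K4 2 b p → hermForm n K4 2 a b = 1 → b ∈ S := by
    intro a b ha haa hbb hab h1
    have h := hrefl (a + b) (by rw [add_left, add_right, add_right, haa, hbb, swap a b, h1,
        one_pow, zero_add, add_zero, add_self'])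
      (by rw [add_left, hab, add_self']) a ha
    rwa [OTwo.refl, add_right, haa, h1, zero_add, one_smul, ← add_assoc, add_selfV, zero_add] at h
  by_cases hd : ∃ α : K4, s = q + α • p
  · obtain ⟨α, rfl⟩ := hd
    by_cases hα : α = 0
    · rwa [hα, zero_smul, add_zero]
    refine step q _ hqS hqq hss hsp.symm ?_
    rw [add_left, add_right, add_right, smul_self hα, hqq, hpp, smul_right, smul_left,
      swap q p, zero_add, add_zero] at hss
    rw [add_right, hqq, zero_add, smul_right]
    have key : ∀ a c : K4, a ≠ 0 → c ≠ 0 → a ^ 2 * c + a * c ^ 2 = 0 → a ^ 2 * c = 1 := by decide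
    exact key α _ hα hqp hss
  push Not at hd
  have hu : LinearIndependent K4 ![p, q, s] := by
    refine Fintype.linearIndependent_iff.2 fun g hg => ?_
    simp only [Fin.sum_univ_three, Matrix.cons_val_zero, Matrix.cons_val_one, Matrix.cons_val] at hg
    have h1 := congrArg (hl p) hg
    simp only [map_add, map_smul, map_zero, smul_eq_mul, hl_apply, hpp, hsp, mul_zero, zero_add] at h1
    have e12 : g 1 = g 2 := by
      have hadd : ∀ a b : K4, a + b = 0 → a = b := by decide
      rw [← add_mul, mul_eq_zero, or_iff_left hqp] at h1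
      exact hadd _ _ h1
    by_cases h2 : g 2 = 0
    · rw [e12, h2, zero_smul, zero_smul, add_zero, add_zero, smul_eq_zero, or_iff_left hp] at hg
      intro i; fin_cases i
      exacts [hg, e12.trans h2, h2]
    · refine absurd ?_ (hd ((g 2)⁻¹ * g 0))
      rw [e12] at hg
      have h3 := congrArg ((g 2)⁻¹ • ·) hg
      simp only [smul_add, smul_zero, smul_smul, inv_mul_cancel₀ h2, one_smul] at h3
      calc s = s + ((g 2)⁻¹ * g 0) • p + q + ((g 2)⁻¹ * g 0) • p + q := by
            rw [show s + ((g 2)⁻¹ * g 0) • p + q + ((g 2)⁻¹ * g 0) • p + q =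
              s + (((g 2)⁻¹ * g 0) • p + ((g 2)⁻¹ * g 0) • p) + (q + q) by abel, add_selfV, add_selfV,
              add_zero, add_zero]
        _ = (((g 2)⁻¹ * g 0) • p + q + s) + ((g 2)⁻¹ * g 0) • p + q := by abel
        _ = q + ((g 2)⁻¹ * g 0) • p := by rw [h3, zero_add, add_comm]
  obtain ⟨y, hy, hyy⟩ := exists_iso hn hu hpp hqq hqp ![0, 1, 1 + hermForm n K4 2 q s]
  have hyp : hermForm n K4 2 y p = 0 := hy 0
  have hyq : hermForm n K4 2 y q = 1 := hy 1
  have hys : hermForm n K4 2 y s = 1 + hermForm n K4 2 q s := hy 2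
  have hqy : hermForm n K4 2 q y = 1 := by rw [swap, hyq, one_pow]
  have hr : q + y ∈ S := by
    have h := hrefl y hyy hyp q hqS
    rwa [OTwo.refl, hqy, one_smul] at h
  refine step (q + y) s hr ?_ hss ?_ ?_
  · rw [add_left, add_right, add_right, hqq, hqy, hyq, hyy, zero_add, add_zero, add_self']
  · rw [add_left, hyp, add_zero, hsp]
  · rw [add_left, hys]
    linear_combination add_self' (hermForm n K4 2 q s)

/-! ## Reaching all points -/

section Reach

variable {S : Set (Fin n → K4)} (hsmul : ∀ m : K4, m ≠ 0 → ∀ v ∈ S, m • v ∈ S)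
  (hrefl : ∀ x ∈ S, ∀ v ∈ S, OTwo.refl x v ∈ S)

/-- The vector `e i + a e j`. -/
def two (i j : Fin n) (a : K4) : Fin n → K4 := Pi.single i 1 + Pi.single j a

theorem herm_single (v : Fin n → K4) (i : Fin n) (a : K4) :
    hermForm n K4 2 v (Pi.single i a) = v i * a ^ 2 := by
  classical
  simp [hermForm, Pi.single_apply, ite_pow]

theorem herm_two (v : Fin n → K4) (i j : Fin n) (a : K4) :
    hermForm n K4 2 v (two i j a) = v i + v j * a ^ 2 := by
  rw [two, add_right, herm_single, herm_single, one_pow, mul_one]

include hsmul hrefl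

/-- All vectors of weight two. -/
theorem two_mem (hseed : ∀ i j : Fin n, (j : ℕ) = i + 1 → ∀ a : K4, a ≠ 0 → two i j a ∈ S) :
    ∀ i j : Fin n, i ≠ j → ∀ a : K4, a ≠ 0 → two i j a ∈ S := by
  have inv3 : ∀ a : K4, a ≠ 0 → a⁻¹ = a ^ 2 := by decide
  have hsymm : ∀ i j a, a ≠ 0 → two i j a ∈ S → two j i (a ^ 2) ∈ S := by
    intro i j a ha h
    have h' := hsmul _ (pow_ne_zero 2 ha) _ h
    rwa [show a ^ 2 • two i j a = two j i (a ^ 2) by
      rw [two, two, smul_add, ← Pi.single_smul', ← Pi.single_smul', smul_eq_mul, smul_eq_mul, mul_one,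
        show a ^ 2 * a = 1 by rw [← pow_succ, cube a ha], add_comm]] at h'
  have up : ∀ d : ℕ, ∀ i j : Fin n, (j : ℕ) = i + 1 + d → ∀ a : K4, a ≠ 0 → two i j a ∈ S := by
    intro d
    induction d with
    | zero => exact fun i j h => hseed i j h
    | succ d ih =>
      intro i k hik a ha
      let j : Fin n := ⟨i + 1 + d, by omega⟩
      have hij : i ≠ j := fun e => by have := congrArg Fin.val e; simp [j] at this; omega
      have hjk : j ≠ k := fun e => by have := congrArg Fin.val e; simp [j] at this; omega
      have hik' : i ≠ k := fun e => by rw [e] at hik; omega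
      have hx := ih i j rfl 1 one_ne_zero
      have hv := hseed j k (by simp [j]; omega) a ha
      have h := hrefl _ hx _ hv
      rwa [show OTwo.refl (two i j 1) (two j k a) = two i k a by
        rw [OTwo.refl, herm_two]
        simp only [two, Pi.add_apply, Pi.single_eq_same, Pi.single_eq_of_ne hij,
          Pi.single_eq_of_ne hik', Pi.single_eq_of_ne hjk, zero_add, add_zero, one_pow, mul_one,
          one_smul]
        calc _ = Pi.single i 1 + Pi.single k a + (Pi.single j (1 : K4) + Pi.single j 1) := by abel
          _ = _ := by rw [add_selfV, add_zero]] at h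
  intro i j hij a ha
  rcases lt_or_gt_of_ne (fun e => hij (Fin.ext e) : (i : ℕ) ≠ j) with h | h
  · exact up (j - i - 1) i j (by omega) a ha
  · have := hsymm j i (a ^ 2) (pow_ne_zero 2 ha) (up (i - j - 1) j i (by omega) _ (pow_ne_zero 2 ha))
    rwa [four'] at this

/-- A monomial move: exchange and scale two coordinates. -/
theorem move (h2 : ∀ i j : Fin n, i ≠ j → ∀ a : K4, a ≠ 0 → two i j a ∈ S) {v : Fin n → K4}
    (hv : v ∈ S) {i j : Fin n} (hij : i ≠ j) {a : K4} (ha : a ≠ 0) :
    Function.update (Function.update v i (a ^ 2 * v j)) j (a * v i) ∈ S := by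
  have h := hrefl _ (h2 i j hij a ha) v hv
  convert h using 1
  ext k
  rw [OTwo.refl, herm_two]
  simp only [two, Pi.add_apply, Pi.smul_apply, smul_eq_mul]
  have e3 : a ^ 2 * a = 1 := by rw [← pow_succ, cube a ha]
  by_cases hkj : k = j
  · subst hkj
    rw [Function.update_self, Pi.single_eq_same, Pi.single_eq_of_ne hij.symm, zero_add]
    linear_combination (-(v k)) * e3 - add_self' (v k)
  rw [Function.update_of_ne hkj]
  by_cases hki : k = i
  · subst hki
    rw [Function.update_self, Pi.single_eq_same, Pi.single_eq_of_ne hkj, add_zero, mul_one]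
    linear_combination -add_self' (v k)
  rw [Function.update_of_ne hki, Pi.single_eq_of_ne hki, Pi.single_eq_of_ne hkj, add_zero, mul_zero,
    add_zero]

/-- All vectors of the weight of a given one having a zero coordinate. -/
theorem same_weight (h2 : ∀ i j : Fin n, i ≠ j → ∀ a : K4, a ≠ 0 → two i j a ∈ S) {t u : Fin n → K4}
    (ht : t ∈ S) (hz : ∃ k, t k = 0)
    (hw : (Finset.univ.filter fun i => t i ≠ 0).card = (Finset.univ.filter fun i => u i ≠ 0).card) :
    u ∈ S := by
  classical
  suffices key : ∀ (D : ℕ) (t : Fin n → K4), t ∈ S → (∃ k, t k = 0) →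
      (Finset.univ.filter fun i => t i ≠ 0).card = (Finset.univ.filter fun i => u i ≠ 0).card →
      (Finset.univ.filter fun i => t i ≠ u i).card = D → u ∈ S from key _ t ht hz hw rfl
  intro D
  induction D using Nat.strong_induction_on with
  | _ D ih =>
  intro t ht ⟨k, hk⟩ hw hD
  by_cases he : t = u
  · exact he ▸ ht
  -- a better vector
  suffices hbetter : ∃ t', t' ∈ S ∧ (∃ k, t' k = 0) ∧
      (Finset.univ.filter fun i => t' i ≠ 0).card = (Finset.univ.filter fun i => t i ≠ 0).card ∧
      (Finset.univ.filter fun i => t' i ≠ u i).card < D by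
    obtain ⟨t', h1, h2', h3, h4⟩ := hbetter
    exact ih _ h4 t' h1 h2' (h3.trans hw) rfl
  by_cases hsupp : ∀ i, t i = 0 ↔ u i = 0
  · obtain ⟨i, hi⟩ := Function.ne_iff.1 he
    have hti : t i ≠ 0 := fun h => hi (h.trans ((hsupp i).1 h).symm)
    have hui : u i ≠ 0 := fun h => hti ((hsupp i).2 h)
    have hik : i ≠ k := fun h => hti (h ▸ hk)
    set a := u i / t i with hadef
    have ha : a ≠ 0 := div_ne_zero hui hti
    have h := move hsmul hrefl h2 (move hsmul hrefl h2 ht hik ha) hik one_ne_zero
    have hval : Function.update (Function.update (Function.update (Function.update t i (a ^ 2 * t k)) k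
        (a * t i)) i (1 ^ 2 * Function.update (Function.update t i (a ^ 2 * t k)) k (a * t i) k)) k
        (1 * Function.update (Function.update t i (a ^ 2 * t k)) k (a * t i) i) =
        Function.update t i (u i) := by
      ext l
      by_cases hlk : l = k
      · subst hlk
        simp [hik, hik.symm, hk]
      by_cases hli : l = i
      · subst hli
        simp [hlk, hadef, hti]
      simp [hlk, hli]
    rw [hval] at h
    refine ⟨_, h, ⟨k, by rw [Function.update_of_ne hik.symm]; exact hk⟩, ?_, ?_⟩
    · refine congrArg Finset.card (Finset.filter_congr fun l _ => ?_)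
      by_cases hli : l = i
      · subst hli; simp [hui, hti]
      · simp [hli]
    · rw [← hD]
      refine Finset.card_lt_card ((Finset.ssubset_iff_of_subset ?_).2 ⟨i, by simp [hi], by simp⟩)
      intro l
      by_cases hli : l = i
      · subst hli; simp
      · simp [hli]
  · -- exchange
    obtain ⟨i, hti, hui⟩ : ∃ i, t i ≠ 0 ∧ u i = 0 := by
      by_contra hno
      push Not at hno
      refine hsupp fun l => ⟨fun h => ?_, fun h => by_contra fun h' => hno l h' h⟩
      by_contra h'
      have hss : (Finset.univ.filter fun i => t i ≠ 0) ⊂ (Finset.univ.filter fun i => u i ≠ 0) :=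
        (Finset.ssubset_iff_of_subset fun m => by simpa using hno m).2 ⟨l, by simp [h'], by simp [h]⟩
      have := Finset.card_lt_card hss
      omega
    obtain ⟨j, huj, htj⟩ : ∃ j, u j ≠ 0 ∧ t j = 0 := by
      by_contra hno
      push Not at hno
      have hss : (Finset.univ.filter fun i => u i ≠ 0) ⊂ (Finset.univ.filter fun i => t i ≠ 0) :=
        (Finset.ssubset_iff_of_subset fun m => by simpa using hno m).2 ⟨i, by simp [hti], by simp [hui]⟩
      have := Finset.card_lt_card hss
      omega
    have hij : i ≠ j := fun e => hti (e ▸ htj)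
    have h := move hsmul hrefl h2 ht hij (div_ne_zero huj hti)
    rw [htj, mul_zero, div_mul_cancel₀ _ hti] at h
    refine ⟨_, h, ⟨i, by simp [hij]⟩, ?_, ?_⟩
    · rw [show (Finset.univ.filter fun l => Function.update (Function.update t i 0) j (u j) l ≠ 0) =
        insert j ((Finset.univ.filter fun l => t l ≠ 0).erase i) by
        ext l
        by_cases hlj : l = j
        · subst hlj; simp [huj]
        by_cases hli : l = i
        · subst hli; simp [hlj]
        simp [hlj, hli],
        Finset.card_insert_of_notMem (by simp [htj]),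
        Finset.card_erase_of_mem (by simp [hti])]
      have : 0 < (Finset.univ.filter fun l => t l ≠ 0).card := Finset.card_pos.2 ⟨i, by simp [hti]⟩
      omega
    · rw [← hD]
      refine Finset.card_lt_card ((Finset.ssubset_iff_of_subset ?_).2
        ⟨j, by simp [htj, Ne.symm huj], by simp⟩)
      intro l
      by_cases hlj : l = j
      · subst hlj; simp
      by_cases hli : l = i
      · subst hli; simp [hlj, hui]
      simp [hlj, hli]

omit hsmul hrefl in
/-- A vector is isotropic iff its weight is even. -/
theorem self_eq_weight (v : Fin n → K4) :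
    hermForm n K4 2 v v = ((Finset.univ.filter fun i => v i ≠ 0).card : K4) := by
  classical
  rw [hermForm, Finset.natCast_card_filter]
  refine Finset.sum_congr rfl fun i _ => ?_
  split_ifs with h
  · rw [← pow_succ', cube _ h]
  · rw [not_not.1 h, zero_mul]

/-- Every point is reached. -/
theorem all_mem (hn : Odd n) (hseed : ∀ i j : Fin n, (j : ℕ) = i + 1 → ∀ a : K4, a ≠ 0 → two i j a ∈ S)
    {t : Fin n → K4} (ht : t ∈ S) (ht4 : (Finset.univ.filter fun i => t i ≠ 0).card = 4)
    {s : Fin n → K4} (hs : s ≠ 0) (hss : hermForm n K4 2 s s = 0) : s ∈ S := by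
  classical
  have h2 := two_mem hsmul hrefl hseed
  have hzero : ∀ v : Fin n → K4, Even (Finset.univ.filter fun i => v i ≠ 0).card → ∃ k, v k = 0 := by
    intro v hv
    by_contra hno
    push Not at hno
    rw [Finset.filter_true_of_mem fun i _ => hno i, Finset.card_univ, Fintype.card_fin] at hv
    exact Nat.not_even_iff_odd.2 hn hv
  suffices key : ∀ (w : ℕ) (s : Fin n → K4), (Finset.univ.filter fun i => s i ≠ 0).card = w →
      Even w → w ≠ 0 → s ∈ S by
    refine key _ s rfl ?_ fun h => hs (funext fun i => ?_)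
    · rw [self_eq_weight] at hss
      by_contra ho
      obtain ⟨k, hk⟩ := Nat.not_even_iff_odd.1 ho
      rw [hk, Nat.cast_add, Nat.cast_mul, Nat.cast_one, show ((2 : ℕ) : K4) = 0 by decide, zero_mul,
        zero_add] at hss
      exact one_ne_zero hss
    · by_contra hi
      exact Finset.notMem_empty i (Finset.card_eq_zero.1 h ▸ Finset.mem_filter.2 ⟨Finset.mem_univ _, hi⟩)
  intro w
  induction w using Nat.strong_induction_on with
  | _ w ih =>
  intro s hw hev hw0
  rcases Nat.lt_or_ge w 6 with hlt | hge
  · obtain ⟨k, rfl⟩ := hev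
    rcases (by omega : k = 1 ∨ k = 2) with rfl | rfl
    · obtain ⟨i, j, hij, e⟩ := Finset.card_eq_two.1 hw
      have hmem : ∀ l, s l ≠ 0 ↔ (l = i ∨ l = j) := fun l => by
        have := Finset.ext_iff.1 e l
        simpa using this
      have hsi : s i ≠ 0 := (hmem i).2 (Or.inl rfl)
      have hsj : s j ≠ 0 := (hmem j).2 (Or.inr rfl)
      have := hsmul _ hsi _ (h2 i j hij (s j / s i) (div_ne_zero hsj hsi))
      rwa [show s i • two i j (s j / s i) = s by
        ext l
        simp only [two, Pi.smul_apply, Pi.add_apply, smul_eq_mul]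
        by_cases hli : l = i
        · subst hli; simp [hij]
        by_cases hlj : l = j
        · subst hlj; simp [hij.symm, mul_div_cancel₀ _ hsi]
        have : s l = 0 := not_not.1 fun h => ((hmem l).1 h).elim hli hlj
        simp [hli, hlj, this]] at this
    · exact same_weight hsmul hrefl h2 ht (hzero t (by rw [ht4]; decide)) (ht4.trans hw.symm)
  -- reduce the weight
  obtain ⟨j, hj⟩ := hzero s (hw ▸ hev)
  obtain ⟨A, hA, hA3⟩ := Finset.exists_subset_card_eq
    (s := Finset.univ.filter fun i => s i ≠ 0) (n := 3) (by omega)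
  have hjA : j ∉ A := fun h => (Finset.mem_filter.1 (hA h)).2 hj
  set x : Fin n → K4 := fun l => if l ∈ A then s l else if l = j then 1 else 0 with hx
  have hxw : (Finset.univ.filter fun i => x i ≠ 0) = insert j A := by
    ext l
    simp only [Finset.mem_filter, Finset.mem_univ, true_and, Finset.mem_insert, hx]
    by_cases hl : l ∈ A
    · simp [hl, (Finset.mem_filter.1 (hA hl)).2]
    by_cases hlj : l = j <;> simp [hl, hlj, hjA]
  have hxS : x ∈ S := same_weight hsmul hrefl h2 ht (hzero t (by rw [ht4]; decide))
    (by rw [ht4, hxw, Finset.card_insert_of_notMem hjA, hA3])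
  have hsx : hermForm n K4 2 s x = 1 := by
    rw [hermForm, ← Finset.sum_subset (Finset.subset_univ A) fun l _ hl => ?_]
    · rw [Finset.sum_congr rfl fun l hl => (by
        simp only [hx, if_pos hl]
        rw [← pow_succ', cube _ (Finset.mem_filter.1 (hA hl)).2] : s l * x l ^ 2 = 1),
        Finset.sum_const, hA3]
      decide
    · simp only [hx, if_neg hl]
      by_cases hlj : l = j <;> simp [hlj, hj]
  have hsum : s + x ∈ S := by
    refine ih (w - 2) (by omega) _ ?_ (by obtain ⟨k, rfl⟩ := hev; exact ⟨k - 1, by omega⟩) (by omega)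
    rw [show (Finset.univ.filter fun l => (s + x) l ≠ 0) =
      insert j ((Finset.univ.filter fun l => s l ≠ 0) \ A) by
      ext l
      simp only [Finset.mem_filter, Finset.mem_univ, true_and, Finset.mem_insert, Finset.mem_sdiff,
        Pi.add_apply, hx]
      by_cases hl : l ∈ A
      · simp [hl, add_self', show l ≠ j from fun e => hjA (e ▸ hl)]
      by_cases hlj : l = j <;> simp [hl, hlj, hj, hjA],
      Finset.card_insert_of_notMem (by simp [hj]), Finset.card_sdiff_of_subset hA, hw, hA3]
    omega
  have h := hrefl x hxS _ hsum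
  rw [OTwo.refl, add_left, hsx, self_eq_weight, hxw, Finset.card_insert_of_notMem hjA, hA3,
    show ((3 + 1 : ℕ) : K4) = 0 by decide, add_zero, one_smul, add_assoc, add_selfV, add_zero] at h
  exact h

end Reach

theorem reach_five : Reach (1 + 4) seedsFive := fun S hsmul hrefl ht _ hs hss =>
  all_mem hsmul hrefl (by decide) (fun i j hij a ha => ht _ (by
    revert i j a; decide)) (t := ![1, 1, 1, w, 0]) (ht _ (by decide)) (by decide) hs hss

theorem reach_seven : Reach (3 + 4) seedsSeven := fun S hsmul hrefl ht _ hs hss =>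
  all_mem hsmul hrefl (by decide) (fun i j hij a ha => ht _ (by
    revert i j a; decide)) (t := ![1, 1, 1, w, 0, 0, 0]) (ht _ (by decide)) (by decide) hs hss

end Cfsg.Agent.Transpos.SUReach
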