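import Cfsg.Agent.Lib.Transpos.Burnside23

/-!
A group `Q = P ⋊ ⟨a⟩` (`P` a 3-group of index 2, generated by elements inverted by `a`) acting
faithfully on an abelian group of exponent 2 such that `a` centralises the fixed points of every
non-trivial element of `P` inverted by `a`: `Q` is `S₃` or has order 54.
-/

set_option autoImplicit false

namespace Cfsg.Agent.Transpos.ThreeByTwo

variable {Q : Type*} [Group Q] {W : Type*} [CommGroup W]

/-- The product of the orbit of `w` under an element of order 3. -/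
def nrm (g : MulAut W) (w : W) : W := w * g w * g (g w)

theorem nrm_fixed {g : MulAut W} {w : W} (h : g (g (g w)) = w) : g (nrm g w) = nrm g w := by
  simp only [nrm, map_mul, h]
  rw [mul_comm, mul_assoc]

/-- `a` fixes `w` if two commuting maps `f`, `g` of order 3 (on the orbit of `w`) have the property
that `a` fixes the fixed points of `f`, `g`, and of two maps agreeing with `f g` and `f g²`. -/
theorem fixed_of_plane (h2 : ∀ x : W, x * x = 1) (a f g p q : MulAut W) (S : Set W)
    (hS : ∀ x ∈ S, f x ∈ S ∧ g x ∈ S)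
    (hf3 : ∀ x ∈ S, f (f (f x)) = x) (hg3 : ∀ x ∈ S, g (g (g x)) = x)
    (hfg : ∀ x ∈ S, f (g x) = g (f x)) (hp : ∀ x ∈ S, p x = f (g x))
    (hq : ∀ x ∈ S, q x = f (g (g x)))
    (hf : ∀ x, f x = x → a x = x) (hg : ∀ x, g x = x → a x = x) (hpa : ∀ x, p x = x → a x = x)
    (hqa : ∀ x, q x = x → a x = x) {w : W} (hw : w ∈ S) : a w = w := by
  have hwf := (hS w hw).1
  have hwff := (hS _ hwf).1
  have hwg := (hS w hw).2
  have hwgg := (hS _ hwg).2
  have hgf : g (f (f w)) = f (f (g w)) := by rw [← hfg _ hwf, ← hfg _ hw]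
  have hggf : g (g (f w)) = f (g (g w)) := by
    rw [← hfg _ hw, ← hfg _ hwg]
  have hggff : g (g (f (f w))) = f (f (g (g w))) := by
    rw [hgf, ← hfg _ (hS _ hwg).1, ← hfg _ hwg]
  have hgw : g (g (g w)) = w := hg3 w hw
  set n1 := nrm f w with hn1
  set n2 := nrm g w with hn2
  set n3 := w * f (g w) * f (f (g (g w))) with hn3
  set n4 := w * f (g (g w)) * f (f (g w)) with hn4
  set s := n1 * g n1 * g (g n1) with hs
  have hps : p (f (g w)) = f (f (g (g w))) := by
    rw [hp _ (hS _ hwg).1, ← hfg _ hwg]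
  have hp3 : p (f (f (g (g w)))) = w := by
    rw [hp _ (hS _ (hS _ hwgg).1).1, ← hfg _ (hS _ hwgg).1, ← hfg _ hwgg, hgw, hf3 w hw]
  have hqs : q (f (g (g w))) = f (f (g w)) := by
    rw [hq _ (hS _ hwgg).1, ← hfg _ hwgg, hgw, ← hfg _ hw]
  have hq3 : q (f (f (g w))) = w := by
    rw [hq _ (hS _ (hS _ hwg).1).1, ← hfg _ (hS _ hwg).1, ← hfg _ hwg,
      ← hfg _ (hS _ hwgg).1, ← hfg _ hwgg, hgw, hf3 w hw]
  have e1 : a n1 = n1 := hf _ (nrm_fixed (hf3 w hw))
  have e2 : a n2 = n2 := hg _ (nrm_fixed hgw)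
  have e3 : a n3 = n3 := by
    apply hpa
    rw [hn3, map_mul, map_mul, hp w hw, hps, hp3, mul_comm, mul_assoc]
  have e4 : a n4 = n4 := by
    apply hqa
    rw [hn4, map_mul, map_mul, hq w hw, hqs, hq3, mul_comm, mul_assoc]
  have e5 : a s = s := by
    apply hg
    have h3 : g (g (g n1)) = n1 := by
      simp only [hn1, nrm, map_mul, hg3 w hw, hg3 _ hwf, hg3 _ hwff]
    rw [hs, map_mul, map_mul, h3, mul_comm, mul_assoc]
  have hw3 : w ^ 3 = w := by rw [pow_succ, pow_two, h2, one_mul]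
  have hgfg : g (f (g w)) = f (g (g w)) := (hfg _ hwg).symm
  have hgffg : g (f (f (g w))) = f (f (g (g w))) := by rw [← hfg _ (hS _ hwg).1, ← hfg _ hwg]
  have key : n1 * n2 * n3 * n4 = w ^ 3 * s := by
    simp only [hn1, hn2, hn3, hn4, hs, nrm, map_mul, hgf, ← hfg _ hw, hgfg, hgffg]
    rw [pow_succ, pow_two]
    ac_rfl
  have hw' : w = n1 * n2 * n3 * n4 * s := by
    rw [key, mul_assoc, h2, mul_one, hw3]
  conv_lhs => rw [hw', map_mul, map_mul, map_mul, map_mul, e1, e2, e3, e4, e5, ← hw']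

/-- The hypotheses. -/
structure Setup (P : Subgroup Q) (a : Q) (φ : Q →* MulAut W) : Prop where
  normal : P.Normal
  three : IsPGroup 3 P
  index : P.index = 2
  sq : a * a = 1
  notMem : a ∉ P
  inj : Function.Injective φ
  exp2 : ∀ x : W, x * x = 1
  cube : ∀ g ∈ P, a * g * a = g⁻¹ → g ^ 3 = 1
  fix : ∀ g ∈ P, a * g * a = g⁻¹ → g ≠ 1 → ∀ w, φ g w = w → φ a w = w
  ne_bot : P ≠ ⊥
  gen : Subgroup.closure {g : Q | g ∈ P ∧ a * g * a = g⁻¹} = P

variable {P : Subgroup Q} {a : Q} {φ : Q →* MulAut W}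

theorem Setup.a_inv (h : Setup P a φ) : a⁻¹ = a := inv_eq_of_mul_eq_one_right h.sq

theorem Setup.no_plane (h : Setup P a φ) {x y : Q} (hx : x ∈ P) (hy : y ∈ P)
    (ix : a * x * a = x⁻¹) (iy : a * y * a = y⁻¹) (hc : Commute x y) (hx1 : x ≠ 1) :
    y ∈ Subgroup.zpowers x := by
  by_contra hyx
  have cx := h.cube x hx ix
  have cy := h.cube y hy iy
  have hy1 : y ≠ 1 := fun e => hyx (e ▸ one_mem _)
  have icomb : ∀ u v : Q, a * u * a = u⁻¹ → a * v * a = v⁻¹ → Commute u v →
      a * (u * v) * a = (u * v)⁻¹ := by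
    intro u v iu iv huv
    rw [show a * (u * v) * a = (a * u * a) * (a * v * a) by
      rw [show (a * u * a) * (a * v * a) = a * u * (a * a) * v * a by group, h.sq, mul_one]; group,
      iu, iv, ← mul_inv_rev, huv.eq]
  have iy2 : a * (y * y) * a = (y * y)⁻¹ := icomb y y iy iy (Commute.refl y)
  have hp1 : x * y ≠ 1 := fun e => hyx
    (by rw [eq_inv_of_mul_eq_one_right e]; exact inv_mem (Subgroup.mem_zpowers x))
  have hq1 : x * (y * y) ≠ 1 := by
    intro e
    apply hyx
    have : y = x := by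
      have h3 : y * (y * y) = x * (y * y) := by rw [← pow_three, cy, e]
      exact mul_right_cancel h3
    rw [this]; exact Subgroup.mem_zpowers x
  have hfa : φ a = 1 := by
    ext w
    refine fixed_of_plane h.exp2 (φ a) (φ x) (φ y) (φ (x * y)) (φ (x * (y * y))) Set.univ
      (fun _ _ => ⟨trivial, trivial⟩) (fun v _ => ?_) (fun v _ => ?_) (fun v _ => ?_)
      (fun v _ => ?_) (fun v _ => ?_) (h.fix x hx ix hx1) (h.fix y hy iy hy1)
      (h.fix _ (P.mul_mem hx hy) (icomb x y ix iy hc) hp1)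
      (h.fix _ (P.mul_mem hx (P.mul_mem hy hy)) (icomb x _ ix iy2 (hc.mul_right hc)) hq1)
      (Set.mem_univ w)
    · simp only [← MulAut.mul_apply, ← map_mul, ← mul_assoc]
      rw [show x * x * x = 1 by rw [← pow_three', cx], map_one]; rfl
    · simp only [← MulAut.mul_apply, ← map_mul, ← mul_assoc]
      rw [show y * y * y = 1 by rw [← pow_three', cy], map_one]; rfl
    · simp only [← MulAut.mul_apply, ← map_mul, hc.eq]
    · rw [map_mul, MulAut.mul_apply]
    · rw [map_mul, map_mul, MulAut.mul_apply, MulAut.mul_apply]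
  exact h.notMem (by rw [h.inj (show φ a = φ 1 by rw [hfa, map_one])]; exact one_mem P)

theorem Setup.closure_eq_top (h : Setup P a φ) {K : Subgroup Q} (hPK : P ≤ K) (haK : a ∈ K) :
    K = ⊤ := by
  rw [eq_top_iff]
  intro g _
  by_cases hg : g ∈ P
  · exact hPK hg
  · have hag : a * g ∈ P := by
      rw [Subgroup.mul_mem_iff_of_index_two h.index]; simp [hg, h.notMem]
    have h1 := mul_mem haK (hPK hag)
    rwa [← mul_assoc, h.sq, one_mul] at h1

theorem Setup.small [Finite Q] (h : Setup P a φ) :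
    Nonempty (Q ≃* Equiv.Perm (Fin 3)) ∨
      (Nat.card Q = 54 ∧ ∃ b u x : Q, B23.Rels b u x ∧ Subgroup.closure ({b, u, x} : Set Q) = ⊤) := by
  classical
  haveI := h.normal
  haveI : Fact (Nat.Prime 3) := ⟨Nat.prime_three⟩
  haveI : Fact (Nat.Prime 2) := ⟨Nat.prime_two⟩
  haveI : Group.IsNilpotent P := h.three.isNilpotent
  have hai := h.a_inv
  set I : Set Q := {g : Q | g ∈ P ∧ a * g * a = g⁻¹} with hI
  obtain ⟨x₀, hx₀, hx₀1⟩ : ∃ x₀ ∈ I, x₀ ≠ 1 := by
    by_contra hcon
    push Not at hcon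
    refine h.ne_bot ?_
    rw [← h.gen, eq_bot_iff, Subgroup.closure_le]
    exact fun g hg => hcon g hg
  have haa : ∀ t, a * (a * t) = t := fun t => by rw [← mul_assoc, h.sq, one_mul]
  have hinvI : ∀ g ∈ I, a * g⁻¹ * a = g := fun g hg => by
    rw [show a * g⁻¹ * a = (a * g * a)⁻¹ by rw [mul_inv_rev, mul_inv_rev, hai, ← mul_assoc], hg.2,
      inv_inv]
  obtain ⟨n, hn⟩ := IsPGroup.iff_card.1 h.three
  have hcardQ : Nat.card Q = 2 * 3 ^ n := by
    have := P.card_mul_index
    rw [hn, h.index, mul_comm] at this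
    exact this.symm
  by_cases hab : ∀ x ∈ P, ∀ y ∈ P, Commute x y
  · -- abelian case
    left
    have hall : ∀ g ∈ P, g ∈ I := by
      intro g hg
      rw [← h.gen] at hg
      induction hg using Subgroup.closure_induction with
      | mem g hg => exact hg
      | one => exact ⟨one_mem _, by rw [mul_one, h.sq, inv_one]⟩
      | mul u v _ _ hu hv =>
        refine ⟨P.mul_mem hu.1 hv.1, ?_⟩
        rw [show a * (u * v) * a = a * u * (a * a) * v * a by rw [h.sq]; group,
          show a * u * (a * a) * v * a = (a * u * a) * (a * v * a) by group, hu.2, hv.2,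
          ← mul_inv_rev, (hab u hu.1 v hv.1).eq]
      | inv u _ hu => exact ⟨P.inv_mem hu.1, by rw [hinvI u hu, inv_inv]⟩
    have hP : P = Subgroup.zpowers x₀ :=
      le_antisymm (fun y hy => h.no_plane hx₀.1 hy hx₀.2 (hall y hy).2 (hab _ hx₀.1 y hy) hx₀1)
        (Subgroup.zpowers_le.2 hx₀.1)
    have hc3 : Nat.card P = 3 := by
      rw [hP, Nat.card_zpowers]
      exact orderOf_eq_prime (h.cube x₀ hx₀.1 hx₀.2) hx₀1
    have hc6 : Nat.card Q = 6 := by
      rw [hcardQ, ← hn, hc3]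
    have hA2 : Nat.card (Subgroup.zpowers a) = 2 := by
      rw [Nat.card_zpowers]
      exact orderOf_eq_prime (by rw [pow_two, h.sq]) fun e => h.notMem (e ▸ one_mem P)
    have hidx : (Subgroup.zpowers a).index = 3 := by
      have := (Subgroup.zpowers a).card_mul_index
      rw [hA2, hc6] at this
      omega
    haveI : Fintype (Q ⧸ Subgroup.zpowers a) := Fintype.ofFinite _
    have hinj : Function.Injective (MulAction.toPermHom Q (Q ⧸ Subgroup.zpowers a)) := by
      rw [← MonoidHom.ker_eq_bot_iff, ← Subgroup.normalCore_eq_ker, eq_bot_iff]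
      intro g hg
      have hga := Subgroup.normalCore_le _ hg
      obtain ⟨k, rfl⟩ := hga
      rcases Int.even_or_odd k with ⟨j, hj⟩ | ⟨j, hj⟩
      · show a ^ k = 1
        rw [hj, ← two_mul, zpow_mul, show a ^ (2 : ℤ) = 1 by rw [zpow_two, h.sq], one_zpow]
      · exfalso
        have hk : a ^ k = a := by
          rw [hj, zpow_add, zpow_mul, show a ^ (2 : ℤ) = 1 by rw [zpow_two, h.sq], one_zpow,
            one_mul, zpow_one]
        have h1 : x₀ * a * x₀⁻¹ ∈ Subgroup.zpowers a := by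
          have := hg x₀
          show _ ∈ Subgroup.zpowers a
          simpa [hk] using this
        have h2 : x₀ * a * x₀⁻¹ = x₀ * x₀ * a := by
          have e := hx₀.2
          calc x₀ * a * x₀⁻¹ = x₀ * a * (a * x₀ * a) := by rw [e]
            _ = x₀ * (a * a) * x₀ * a := by group
            _ = _ := by rw [h.sq, mul_one]
        rw [h2] at h1
        have h3 : x₀ * x₀ ∈ Subgroup.zpowers a :=
          (Subgroup.mul_mem_cancel_right _ (Subgroup.mem_zpowers a)).1 h1
        have h4 : orderOf (x₀ * x₀) ∣ 2 := hA2 ▸ Subgroup.orderOf_dvd_natCard _ h3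
        have h5 : (x₀ * x₀) ^ 3 = 1 := by
          rw [← pow_two, ← pow_mul, pow_mul', h.cube x₀ hx₀.1 hx₀.2, one_pow]
        have h6 : x₀ * x₀ = 1 := by
          have := Nat.dvd_gcd h4 (orderOf_dvd_of_pow_eq_one h5)
          exact orderOf_eq_one_iff.1 (Nat.dvd_one.1 (by simpa using this))
        exact hx₀1 (by
          have := h.cube x₀ hx₀.1 hx₀.2
          rwa [pow_three, h6, mul_one] at this)
    have hcard : Fintype.card (Q ⧸ Subgroup.zpowers a) = 3 := by
      rw [← Nat.card_eq_fintype_card]; exact hidx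
    let f := (Fintype.equivFinOfCardEq hcard).permCongrHom.toMonoidHom.comp
      (MulAction.toPermHom Q (Q ⧸ Subgroup.zpowers a))
    exact ⟨MulEquiv.ofBijective f ((Nat.bijective_iff_injective_and_card f).2
      ⟨(Fintype.equivFinOfCardEq hcard).permCongrHom.injective.comp hinj, by
        rw [hc6, Nat.card_eq_fintype_card (α := Equiv.Perm (Fin 3)), Fintype.card_perm,
          Fintype.card_fin]
        rfl⟩)⟩
  right
  -- the centre of `P` is fixed by `a`
  have hZ : ∀ z ∈ P, (∀ g ∈ P, Commute z g) → a * z * a = z := by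
    intro z hz hcz
    set z' := a * z * a with hz'
    have hz'P : z' ∈ P := by
      have := h.normal.conj_mem z hz a; rwa [hai] at this
    have hcz' : ∀ g ∈ P, Commute z' g := by
      intro g hg
      have hg' : a * g * a ∈ P := by have := h.normal.conj_mem g hg a; rwa [hai] at this
      have := (hcz _ hg').eq
      calc z' * g = a * (z * (a * g * a)) * a := by simp only [hz', mul_assoc, haa, h.sq, mul_one]
        _ = a * ((a * g * a) * z) * a := by rw [this]
        _ = g * z' := by simp only [hz', mul_assoc, haa]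
    have hz'i : z'⁻¹ = a * z⁻¹ * a := by simp only [hz', mul_inv_rev, hai, mul_assoc]
    set c := z * z'⁻¹ with hc
    have hcP : c ∈ P := P.mul_mem hz (P.inv_mem hz'P)
    have hcc : ∀ g ∈ P, Commute c g := fun g hg => (hcz g hg).mul_left (hcz' g hg).inv_left
    have hci : a * c * a = c⁻¹ := by
      rw [hc, hz'i]
      simp only [mul_inv_rev, hai, inv_inv, mul_assoc, h.sq, mul_one, haa]
    by_contra hne
    have hc1 : c ≠ 1 := fun e => hne (by
      rw [hc, mul_inv_eq_one] at e
      rw [hz'] at e ⊢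
      exact e.symm)
    apply hab
    have hPc : P ≤ Subgroup.zpowers c := by
      rw [← h.gen, Subgroup.closure_le]
      exact fun g hg => h.no_plane hcP hg.1 hci hg.2 (hcc g hg.1) hc1
    intro u hu v hv
    obtain ⟨i, rfl⟩ := hPc hu
    obtain ⟨j, rfl⟩ := hPc hv
    exact (Commute.refl c).zpow_zpow i j
  obtain ⟨u0, hu0P, hu0Z, hu0c⟩ : ∃ u0 ∈ P, (¬ ∀ g ∈ P, Commute u0 g) ∧
      ∀ g ∈ P, ∀ k ∈ P, Commute (u0 * g * u0⁻¹ * g⁻¹) k := by
    have h12 : Subgroup.upperCentralSeries P 1 ≠ Subgroup.upperCentralSeries P 2 := by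
      intro e
      apply hab
      have hall : ∀ m, Subgroup.upperCentralSeries P (m + 1) = Subgroup.upperCentralSeries P 1 := by
        intro m
        induction m with
        | zero => rfl
        | succ m ih =>
          ext x
          rw [Subgroup.mem_upperCentralSeries_succ_iff, ih, ← Subgroup.mem_upperCentralSeries_succ_iff,
            ← e]
      obtain ⟨m, hm⟩ := (inferInstance : Group.IsNilpotent P).nilpotent'
      have htop : Subgroup.upperCentralSeries P 1 = ⊤ := by
        rw [← hall m, eq_top_iff, ← hm]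
        exact Subgroup.upperCentralSeries_mono _ (Nat.le_succ m)
      rw [Subgroup.upperCentralSeries_one] at htop
      intro x hx y hy
      have : (⟨y, hy⟩ : P) ∈ Subgroup.center P := htop ▸ Subgroup.mem_top _
      exact congrArg Subtype.val (Subgroup.mem_center_iff.1 this ⟨x, hx⟩)
    obtain ⟨u, hu2, hu1⟩ := SetLike.exists_of_lt
      (lt_of_le_of_ne (Subgroup.upperCentralSeries_mono P (by norm_num : 1 ≤ 2)) h12)
    refine ⟨u, u.2, fun hall => hu1 ?_, fun g hg k hk => ?_⟩
    · rw [Subgroup.upperCentralSeries_one, Subgroup.mem_center_iff]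
      exact fun y => Subtype.ext (hall y y.2).eq.symm
    · have h1 := Subgroup.mem_upperCentralSeries_succ_iff.1 hu2 ⟨g, hg⟩
      rw [Subgroup.upperCentralSeries_one, Subgroup.mem_center_iff] at h1
      exact (congrArg Subtype.val (h1 ⟨k, hk⟩)).symm
  obtain ⟨u, hu⟩ : ∃ u, u = u0 * (a * u0⁻¹ * a) := ⟨_, rfl⟩
  have hu0' : a * u0⁻¹ * a ∈ P := by
    have := h.normal.conj_mem _ (P.inv_mem hu0P) a; rwa [hai] at this
  have huP : u ∈ P := hu ▸ P.mul_mem hu0P hu0'
  have hui : a * u * a = u⁻¹ := by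
    rw [hu, mul_inv_rev, mul_inv_rev, mul_inv_rev, inv_inv, hai,
      show a * (u0 * (a * u0⁻¹ * a)) * a = a * u0 * a * u0⁻¹ * (a * a) by group, h.sq, mul_one]
    group
  have hconjP : ∀ g ∈ P, a * g * a ∈ P := fun g hg => by
    have := h.normal.conj_mem g hg a; rwa [hai] at this
  have hu1 : u ≠ 1 := by
    intro e
    rw [hu] at e
    have hfix : a * u0 * a = u0 := by
      have h1 := eq_inv_of_mul_eq_one_right e
      rw [show a * u0⁻¹ * a = (a * u0 * a)⁻¹ by rw [mul_inv_rev, mul_inv_rev, hai, ← mul_assoc]] at h1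
      exact inv_injective h1
    apply hu0Z
    intro g hg
    rw [← h.gen] at hg
    induction hg using Subgroup.closure_induction with
    | one => exact Commute.one_right _
    | mul p q _ _ hp hq => exact hp.mul_right hq
    | inv p _ hp => exact hp.inv_right
    | mem x hx =>
      set z := u0 * x * u0⁻¹ * x⁻¹ with hz
      have hzc : ∀ k ∈ P, Commute z k := hu0c x hx.1
      have hzP : z ∈ P :=
        P.mul_mem (P.mul_mem (P.mul_mem hu0P hx.1) (P.inv_mem hu0P)) (P.inv_mem hx.1)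
      have h1 := hZ z hzP hzc
      have h2 : a * z * a = u0 * x⁻¹ * u0⁻¹ * x := by
        calc a * z * a = (a * u0 * a) * (a * x * a) * (a * u0 * a)⁻¹ * (a * x * a)⁻¹ := by
              rw [hz]; simp only [mul_inv_rev, hai]
              simp only [← mul_assoc]
              simp only [mul_assoc, show ∀ t, a * (a * t) = t from fun t => by rw [← mul_assoc, h.sq, one_mul]]
          _ = _ := by rw [hfix, hx.2, inv_inv]
      have h3 : u0 * x⁻¹ * u0⁻¹ * x = x⁻¹ * z⁻¹ * x := by rw [hz]; group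
      rw [h1, h3, mul_assoc, ((hzc x hx.1).inv_left).eq, inv_mul_cancel_left] at h2
      have hz3 : z = 1 := by
        obtain ⟨k, hk⟩ := h.three ⟨z, hzP⟩
        have hk' : z ^ 3 ^ k = 1 := congrArg Subtype.val hk
        have hsq : z ^ 2 = 1 := by rw [pow_two]; nth_rewrite 1 [h2]; exact inv_mul_cancel z
        have hg2 : z ^ Nat.gcd 2 (3 ^ k) = 1 := pow_gcd_eq_one.2 ⟨hsq, hk'⟩
        rwa [Nat.Coprime.gcd_eq_one (Nat.Coprime.pow_right k (by norm_num)), pow_one] at hg2
      rw [hz, mul_inv_eq_one] at hz3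
      exact mul_inv_eq_iff_eq_mul.1 hz3
  have huc : ∀ g ∈ P, ∀ k ∈ P, Commute (u * g * u⁻¹ * g⁻¹) k := by
    intro g hg k hk
    set v := a * u0⁻¹ * a with hv
    have hv' : ∀ g ∈ P, ∀ k ∈ P, Commute (v * g * v⁻¹ * g⁻¹) k := by
      intro g hg k hk
      set g' := a * g * a with hg'
      have hg'P : g' ∈ P := hconjP g hg
      have e1 : u0⁻¹ * g' * u0 * g'⁻¹ = u0⁻¹ * (u0 * g' * u0⁻¹ * g'⁻¹)⁻¹ * u0 := by group
      have e2 : u0⁻¹ * g' * u0 * g'⁻¹ = (u0 * g' * u0⁻¹ * g'⁻¹)⁻¹ := by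
        rw [e1, mul_assoc, ((hu0c g' hg'P u0 hu0P).inv_left).eq, inv_mul_cancel_left]
      have haa : ∀ t, a * (a * t) = t := fun t => by rw [← mul_assoc, h.sq, one_mul]
      have e3 : v * g * v⁻¹ * g⁻¹ = a * (u0⁻¹ * g' * u0 * g'⁻¹) * a := by
        rw [hv, hg', mul_inv_rev, mul_inv_rev, mul_inv_rev, mul_inv_rev, inv_inv, hai]
        simp only [mul_assoc, haa, h.sq, mul_one]
      have hz : ∀ k ∈ P, Commute (u0⁻¹ * g' * u0 * g'⁻¹) k := fun k hk => by
        rw [e2]; exact (hu0c g' hg'P k hk).inv_left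
      rw [e3, hZ _ (P.mul_mem (P.mul_mem (P.mul_mem (P.inv_mem hu0P) hg'P) hu0P) (P.inv_mem hg'P)) hz]
      exact hz k hk
    have e : u * g * u⁻¹ * g⁻¹ =
        u0 * (v * g * v⁻¹ * g⁻¹) * u0⁻¹ * (u0 * g * u0⁻¹ * g⁻¹) := by rw [hu]; group
    rw [e, ← (hv' g hg u0 hu0P).eq, mul_inv_cancel_right]
    exact (hv' g hg k hk).mul_left (hu0c g hg k hk)
  have hunc : ¬ ∀ g ∈ P, Commute u g := fun hall => hu1 (by
    have h1 := hZ u huP hall
    rw [hui] at h1
    have h3 := h.cube u huP hui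
    have h2 : u * u = 1 := by nth_rewrite 1 [← h1]; exact inv_mul_cancel u
    rwa [pow_three, h2, mul_one] at h3)
  let C : Q → Q := fun g => u * g * u⁻¹ * g⁻¹
  have hCmem : ∀ g ∈ P, C g ∈ P := fun g hg =>
    P.mul_mem (P.mul_mem (P.mul_mem huP hg) (P.inv_mem huP)) (P.inv_mem hg)
  have hCmul : ∀ g ∈ P, ∀ k ∈ P, C (g * k) = C g * C k := by
    intro g hg k hk
    have := (huc k hk g hg).eq
    calc u * (g * k) * u⁻¹ * (g * k)⁻¹ = (u * g * u⁻¹) * (u * k * u⁻¹ * k⁻¹) * g⁻¹ := by group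
      _ = (u * g * u⁻¹) * ((u * k * u⁻¹ * k⁻¹) * g⁻¹) := by rw [mul_assoc]
      _ = C g * C k := by
        rw [((huc k hk g hg).inv_right).eq]; show _ = u * g * u⁻¹ * g⁻¹ * _; simp only [C, mul_assoc]
  have hu3 := h.cube u huP hui
  have hC3 : ∀ g ∈ P, C g ^ 3 = 1 := by
    intro g hg
    set z := C g with hz
    have h1 : g * u * g⁻¹ = z⁻¹ * u := by simp only [hz, C]; group
    have h2 : (g * u * g⁻¹) ^ 3 = 1 := by rw [conj_pow, hu3, mul_one, mul_inv_cancel]
    rw [h1, ((huc g hg u huP).inv_left).mul_pow, hu3, mul_one, inv_pow, inv_eq_one] at h2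
    exact h2
  -- inverted elements
  have hIconj : ∀ x y, x ∈ I → y ∈ I → x * y * x ∈ I := by
    intro x y hx hy
    refine ⟨P.mul_mem (P.mul_mem hx.1 hy.1) hx.1, ?_⟩
    have haa : ∀ t, a * (a * t) = t := fun t => by rw [← mul_assoc, h.sq, one_mul]
    calc a * (x * y * x) * a = (a * x * a) * (a * y * a) * (a * x * a) := by
          simp only [mul_assoc, haa]
      _ = _ := by rw [hx.2, hy.2, mul_inv_rev, mul_inv_rev, mul_assoc]
  have happ : ∀ g k : Q, ∀ w, φ (g * k) w = φ g (φ k w) := fun g k w => by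
    rw [map_mul, MulAut.mul_apply]
  have hu3' : u * u * u = 1 := by rw [← pow_three', hu3]
  -- fixed points of a non-trivial commutator are fixed by everything
  have hfixz : ∀ x ∈ I, C x ≠ 1 → ∀ w, φ (C x) w = w → ∀ g, φ g w = w := by
    intro x hx hne
    obtain ⟨z, hz⟩ : ∃ z, z = u * x * u⁻¹ * x⁻¹ := ⟨_, rfl⟩
    have hCz : C x = z := hz.symm
    rw [hCz] at hne ⊢
    have hzP : z ∈ P := hCz ▸ hCmem x hx.1
    have hzc : ∀ k ∈ P, Commute z k := fun k hk => hz ▸ huc x hx.1 k hk
    set S : Set W := {w | φ z w = w} with hS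
    have hzQ : ∀ g : Q, Commute z g := by
      intro g
      by_cases hg : g ∈ P
      · exact hzc g hg
      · have hag : a * g ∈ P := by
          rw [Subgroup.mul_mem_iff_of_index_two h.index]; simp [hg, h.notMem]
        have hza : Commute z a := by
          have := hZ z hzP hzc
          show z * a = a * z
          calc z * a = a * z * a * a := by rw [this]
            _ = a * z := by rw [mul_assoc, h.sq, mul_one]
        have := hza.mul_right (hzc _ hag)
        rwa [← mul_assoc, h.sq, one_mul] at this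
    have hSinv : ∀ g : Q, ∀ w ∈ S, φ g w ∈ S := by
      intro g w hw
      show φ z (φ g w) = φ g w
      rw [← happ, (hzQ g).eq, happ, hw]
    have hux : ∀ w ∈ S, φ u (φ x w) = φ x (φ u w) := by
      intro w hw
      have e : u * x = z * (x * u) := by rw [hz]; group
      rw [← happ, e, happ z (x * u), happ x u]
      exact hSinv x _ (hSinv u w hw)
    have hc1 : ∀ w ∈ S, φ x (φ (u * u) w) = φ (u * u) (φ x w) := by
      intro w hw
      rw [happ u u w, happ u u (φ x w), hux w hw, hux _ (hSinv u w hw)]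
    have hx3 := h.cube x hx.1 hx.2
    have hx3' : x * x * x = 1 := by rw [← pow_three', hx3]
    have xx : x * x = x⁻¹ := eq_inv_of_mul_eq_one_left hx3'
    have uu : u * u = u⁻¹ := eq_inv_of_mul_eq_one_left hu3'
    have u4 : u * u * (u * u) = u := by
      rw [show u * u * (u * u) = (u * u * u) * u by group, hu3', one_mul]
    have uI : u ∈ I := ⟨huP, hui⟩
    have uiI : u⁻¹ ∈ I := ⟨P.inv_mem huP, by rw [hinvI u uI, inv_inv]⟩
    have xiI : x⁻¹ ∈ I := ⟨P.inv_mem hx.1, by rw [hinvI x hx, inv_inv]⟩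
    have hp := hIconj _ _ uiI hx
    have hq := hIconj _ _ uiI xiI
    have hp1 : u⁻¹ * x * u⁻¹ ≠ 1 := by
      intro e
      apply hne
      have : x = u * u := by
        calc x = u * (u⁻¹ * x * u⁻¹) * u := by group
          _ = u * u := by rw [e, mul_one]
      rw [hz, this]; group
    have hq1 : u⁻¹ * x⁻¹ * u⁻¹ ≠ 1 := by
      intro e
      apply hne
      have : x = (u * u)⁻¹ := by
        rw [← inv_inv x]
        congr 1
        calc x⁻¹ = u * (u⁻¹ * x⁻¹ * u⁻¹) * u := by group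
          _ = u * u := by rw [e, mul_one]
      rw [hz, this]; group
    have hpS : ∀ w ∈ S, φ (u⁻¹ * x * u⁻¹) w = φ u (φ x w) := by
      intro w hw
      rw [← uu, happ (u * u * x) (u * u), happ (u * u) x, hc1 w hw, ← happ (u * u) (u * u), u4]
    have hqS : ∀ w ∈ S, φ (u⁻¹ * x⁻¹ * u⁻¹) w = φ u (φ x (φ x w)) := by
      intro w hw
      rw [← uu, ← xx, happ (u * u * (x * x)) (u * u), happ (u * u) (x * x), happ x x, hc1 w hw,
        hc1 _ (hSinv x w hw), ← happ (u * u) (u * u), u4]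
    have hfixS : ∀ w ∈ S, φ a w = w := fun w hw =>
      fixed_of_plane h.exp2 (φ a) (φ u) (φ x) (φ (u⁻¹ * x * u⁻¹)) (φ (u⁻¹ * x⁻¹ * u⁻¹)) S
        (fun v hv => ⟨hSinv u v hv, hSinv x v hv⟩)
        (fun v _ => by rw [← happ, ← happ, hu3', map_one, MulAut.one_apply])
        (fun v _ => by rw [← happ, ← happ, hx3', map_one, MulAut.one_apply])
        hux hpS hqS
        (h.fix u huP hui hu1) (h.fix x hx.1 hx.2 (fun e => hne (by simp [hz, e])))
        (h.fix _ hp.1 hp.2 hp1) (h.fix _ hq.1 hq.2 hq1) hw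
    intro w hw g
    have hall : ∀ k ∈ P, ∀ w ∈ S, φ k w = w := by
      intro k hk
      rw [← h.gen] at hk
      induction hk using Subgroup.closure_induction with
      | one => intro w _; rw [map_one]; rfl
      | mul p q _ _ hp hq => intro w hw; rw [happ, hq w hw, hp w hw]
      | inv p _ hp =>
        intro w hw
        conv_lhs => rw [← hp w hw, ← happ, inv_mul_cancel, map_one]
        rfl
      | mem t ht =>
        intro w hw
        -- `t = a * b` with `b` conjugate to `a`
        have e : t = a * (t * a * t⁻¹) := by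
          have ht3 := h.cube t ht.1 ht.2
          rw [show a * (t * a * t⁻¹) = (a * t * a) * t⁻¹ by group, ht.2, ← mul_inv_rev]
          exact eq_inv_of_mul_eq_one_left (by rw [← pow_three, ht3])
        rw [e, happ a, happ (t * a) t⁻¹, happ t a, hfixS _ (hSinv t⁻¹ w hw), ← happ t t⁻¹,
          mul_inv_cancel, map_one, MulAut.one_apply, hfixS w hw]
    by_cases hg : g ∈ P
    · exact hall g hg w hw
    · have hag : a * g ∈ P := by
        rw [Subgroup.mul_mem_iff_of_index_two h.index]; simp [hg, h.notMem]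
      have h1 := hall _ hag w hw
      rw [happ] at h1
      have h2 := congrArg (φ a) h1
      rw [← happ, h.sq, map_one, MulAut.one_apply, hfixS w hw] at h2
      exact h2
  have uI : u ∈ I := ⟨huP, hui⟩
  obtain ⟨x, hx, hxne⟩ : ∃ x ∈ I, C x ≠ 1 := by
    by_contra hcon
    push Not at hcon
    apply hunc
    intro g hg
    rw [← h.gen] at hg
    induction hg using Subgroup.closure_induction with
    | one => exact Commute.one_right _
    | mul p q _ _ hp hq => exact hp.mul_right hq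
    | inv p _ hp => exact hp.inv_right
    | mem t ht =>
      have := hcon t ht
      simp only [C, mul_inv_eq_one] at this
      exact mul_inv_eq_iff_eq_mul.1 this
  have hxiI : x⁻¹ ∈ I := ⟨P.inv_mem hx.1, by rw [hinvI x hx, inv_inv]⟩
  have hx3 := h.cube x hx.1 hx.2
  obtain ⟨z, hz⟩ : ∃ z, z = C x := ⟨_, rfl⟩
  have hz3 : z * z * z = 1 := by rw [hz, ← pow_three', hC3 x hx.1]
  have hzi : z⁻¹ = z * z := inv_eq_of_mul_eq_one_right (by rw [← mul_assoc, hz3])
  have hCinv : ∀ g ∈ P, C g⁻¹ = (C g)⁻¹ := fun g hg => by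
    refine eq_inv_of_mul_eq_one_left ?_
    rw [← hCmul g⁻¹ (P.inv_mem hg) g hg, inv_mul_cancel]
    simp [C]
  have hfa : φ a ≠ 1 := fun e => h.notMem (by
    rw [h.inj (show φ a = φ 1 by rw [e, map_one])]; exact one_mem P)
  have hline : ∀ y ∈ I, C y = 1 ∨ C y = z ∨ C y = z⁻¹ := by
    intro y hy
    by_contra hcon
    push Not at hcon
    obtain ⟨n1, n2, n3⟩ := hcon
    apply hfa
    ext w
    have hc3 := hC3 y hy.1
    have hyiI : y⁻¹ ∈ I := ⟨P.inv_mem hy.1, by rw [hinvI y hy, inv_inv]⟩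
    have hzc : Commute z (C y) := hz ▸ huc x hx.1 _ (hCmem y hy.1)
    have hCxyx : C (x⁻¹ * y * x⁻¹) = z * C y := by
      rw [hCmul _ (P.mul_mem hxiI.1 hy.1) _ hxiI.1, hCmul _ hxiI.1 _ hy.1, hCinv x hx.1, ← hz,
        mul_assoc, ← (hzc.inv_left).eq, ← mul_assoc, ← mul_inv_rev, ← hzi, inv_inv]
    have hCxy'x : C (x⁻¹ * y⁻¹ * x⁻¹) = z * (C y * C y) := by
      rw [hCmul _ (P.mul_mem hxiI.1 hyiI.1) _ hxiI.1, hCmul _ hxiI.1 _ hyiI.1, hCinv x hx.1, ← hz,
        hCinv y hy.1, mul_assoc, ← (hzc.inv_left.inv_right).eq, ← mul_assoc, ← mul_inv_rev, ← hzi,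
        inv_inv]
      congr 1
      exact inv_eq_of_mul_eq_one_right (by rw [← mul_assoc, ← pow_three', hc3])
    have hfix : ∀ t ∈ I, C t ≠ 1 → ∀ v, φ (C t) v = v → φ a v = v := fun t ht hne v hv =>
      hfixz t ht hne v hv a
    refine fixed_of_plane h.exp2 (φ a) (φ z) (φ (C y)) (φ (z * C y)) (φ (z * (C y * C y))) Set.univ
      (fun _ _ => ⟨trivial, trivial⟩) (fun v _ => ?_) (fun v _ => ?_) (fun v _ => ?_)
      (fun v _ => happ _ _ v) (fun v _ => by rw [happ, happ]) ?_ (hfix y hy n1) ?_ ?_ (Set.mem_univ w)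
    · rw [← happ, ← happ, hz3, map_one, MulAut.one_apply]
    · rw [← happ, ← happ, ← pow_three', hc3, map_one, MulAut.one_apply]
    · rw [← happ, ← happ, hzc.eq]
    · exact hz ▸ hfix x hx hxne
    · rw [← hCxyx]
      refine hfix _ (hIconj _ _ hxiI hy) ?_
      rw [hCxyx]
      exact fun e => n3 (eq_inv_of_mul_eq_one_right e)
    · rw [← hCxy'x]
      refine hfix _ (hIconj _ _ hxiI hyiI) ?_
      rw [hCxy'x]
      intro e
      apply n2
      have h1 : (z * (C y * C y)) * C y = C y := by rw [e, one_mul]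
      rw [mul_assoc, mul_assoc, ← pow_three, hc3, mul_one] at h1
      exact h1.symm
  set K : Subgroup Q := Subgroup.closure {a, u, x} with hK
  have haK : a ∈ K := Subgroup.subset_closure (by simp)
  have huK : u ∈ K := Subgroup.subset_closure (by simp)
  have hxK : x ∈ K := Subgroup.subset_closure (by simp)
  have hcomm_line : ∀ y ∈ I, C y = 1 → y ∈ K := fun y hy hc => by
    simp only [C, mul_inv_eq_one] at hc
    exact (Subgroup.zpowers_le.2 huK)
      (h.no_plane huP hy.1 hui hy.2 (mul_inv_eq_iff_eq_mul.1 hc) hu1)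
  have hPK : P ≤ K := by
    rw [← h.gen, Subgroup.closure_le]
    intro y hy
    rcases hline y hy with e | e | e
    · exact hcomm_line y hy e
    · have h1 := hcomm_line _ (hIconj x y hx hy) (by
        rw [hCmul _ (P.mul_mem hx.1 hy.1) _ hx.1, hCmul _ hx.1 _ hy.1, ← hz, e, hz3])
      simpa [mul_assoc] using mul_mem (mul_mem (inv_mem hxK) h1) (inv_mem hxK)
    · have h1 := hcomm_line _ (hIconj x⁻¹ y hxiI hy) (by
        rw [hCmul _ (P.mul_mem hxiI.1 hy.1) _ hxiI.1, hCmul _ hxiI.1 _ hy.1, hCinv x hx.1, ← hz, e,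
          ← mul_inv_rev, ← mul_inv_rev, ← mul_assoc, hz3, inv_one])
      simpa [mul_assoc] using mul_mem (mul_mem hxK h1) hxK
  have hgen : Subgroup.closure ({a, u, x} : Set Q) = ⊤ := h.closure_eq_top hPK haK
  have hprod3 : ∀ p q c : Q, p * (p * p) = 1 → q * (q * q) = 1 → c * (c * c) = 1 →
      Commute c p → Commute c q → q * p = c * (p * q) → (p * q) ^ 3 = 1 := by
    intro p q c hp hq hc cp cq e
    have m1 : ∀ t, q * (p * t) = c * (p * (q * t)) := fun t => by
      rw [← mul_assoc, e]; simp only [mul_assoc]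
    have m2 : ∀ t, p * (c * t) = c * (p * t) := fun t => by rw [← mul_assoc, ← cp.eq, mul_assoc]
    have m3 : ∀ t, q * (c * t) = c * (q * t) := fun t => by rw [← mul_assoc, ← cq.eq, mul_assoc]
    simp only [pow_three, mul_assoc, m1, m2, m3]
    rw [hq, mul_one, hp, mul_one, hc]
  have hrels : B23.Rels a u x := by
    have hzP : ∀ k ∈ P, Commute z k := fun k hk => hz ▸ huc x hx.1 k hk
    have hux' : u * x = z * (x * u) := by rw [hz]; simp only [C]; group
    have hx3'' : x * (x * x) = 1 := by rw [← pow_three, hx3]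
    have hu3'' : u * (u * u) = 1 := by rw [← pow_three, hu3]
    refine ⟨h.sq, hu3, hx3, ?_, ?_, ?_, ?_⟩
    · refine hprod3 u x z⁻¹ hu3'' hx3'' ?_ (hzP u huP).inv_left (hzP x hx.1).inv_left ?_
      · rw [← mul_inv_rev, ← mul_inv_rev, hz3, inv_one]
      · rw [hux', inv_mul_cancel_left]
    · refine hprod3 u x⁻¹ z hu3'' ?_ (by rw [← mul_assoc, hz3]) (hzP u huP) (hzP _ hxiI.1) ?_
      · rw [← mul_inv_rev, ← mul_inv_rev, ← pow_three', hx3, inv_one]
      · have h1 : x⁻¹ * (u * x) * x⁻¹ = x⁻¹ * (z * (x * u)) * x⁻¹ := by rw [hux']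
        rw [show x⁻¹ * (u * x) * x⁻¹ = x⁻¹ * u by group,
          ← mul_assoc x⁻¹ z, ← (hzP _ hxiI.1).eq] at h1
        rw [h1]; group
    · rw [pow_two, ← mul_assoc, hui, inv_mul_cancel]
    · rw [pow_two, ← mul_assoc, hx.2, inv_mul_cancel]
  refine ⟨?_, a, u, x, hrels, hgen⟩
  have hle := B23.card_le hrels hgen
  have hn3 : 3 ≤ n := by
    by_contra hlt
    apply hab
    intro p hp q hq
    have hP9 : n = 0 ∨ n = 1 ∨ n = 2 := by omega
    rcases hP9 with rfl | rfl | rfl
    · have h1 := (Nat.card_eq_one_iff_unique.1 (show Nat.card P = 1 by rw [hn, pow_zero])).1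
      exact congrArg Subtype.val (Subsingleton.elim (⟨p, hp⟩ * ⟨q, hq⟩ : P) (⟨q, hq⟩ * ⟨p, hp⟩))
    · haveI := isCyclic_of_prime_card (show Nat.card P = 3 by simpa using hn)
      obtain ⟨g, hg⟩ := IsCyclic.exists_generator (α := P)
      obtain ⟨i, hi⟩ := hg ⟨p, hp⟩
      obtain ⟨j, hj⟩ := hg ⟨q, hq⟩
      have := ((Commute.refl g).zpow_zpow i j)
      dsimp only at hi hj
      rw [hi, hj] at this
      exact congrArg Subtype.val this
    · exact congrArg Subtype.val
        (IsPGroup.commutative_of_card_eq_prime_sq (p := 3) hn ⟨p, hp⟩ ⟨q, hq⟩)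
  rw [hcardQ] at hle ⊢
  have : 3 ^ 3 ≤ 3 ^ n := Nat.pow_le_pow_right (by norm_num) hn3
  omega

end Cfsg.Agent.Transpos.ThreeByTwo
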