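import Cfsg.Agent.Lib.Transpos.TwoRadicalPlane

/-!
# Two classes in a `Sys` coincide

If two generating classes satisfy `Cls` on the same module then the second is contained in the
first.
-/

set_option autoImplicit false
set_option linter.unusedSectionVars false

namespace Cfsg.Agent.Transpos.TwoRad

variable {Q : Type*} [Group Q] {V : Type*} [AddCommGroup V] [DistribMulAction Q V] {D E : Set Q}

/-- Members `d`, `t` of `D` with `t` fixed by `e` and `e` inducing `t` on `d`. -/
structure Trio (V : Type*) [AddCommGroup V] [DistribMulAction Q V] (D : Set Q) (e d t : Q) :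
    Prop where
  hd : d ∈ D
  ht : t ∈ D
  dt : ¬ Commute d t
  et : e * t * e = t
  ed : e * d * e = t * d * t
  fix : ∀ v : V, (d * t) • v = v → e • v = v

variable [Finite Q] (hS : Sys Q V) (hD : Cls Q V D) (hE : Cls Q V E)
include hS hD hE

theorem not_commute_moved {e d : Q} (he : e ∈ E) (hd : d ∈ D) (hne : e * d * e ≠ d) :
    ¬ Commute d (e * d * e) := by
  intro hc
  have hee := sq_one hE.tts he
  have hd' : e * d * e ∈ D := by
    have := hD.conj e d hd; rwa [inv_eq hE.tts he] at this
  have he' : d * e * d ∈ E := by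
    have := hE.conj d e he; rwa [inv_eq hD.tts hd] at this
  have hz : d * (e * d * e) = (d * e * d) * e := by group
  have hcE : Commute (d * e * d) e := by
    rw [commute_iff_sq hE.tts he' he, ← hz]
    exact (commute_iff_sq hD.tts hd hd').1 hc
  obtain ⟨g, hg, hgd, hgd'⟩ : ∃ g ∈ D, ¬ Commute g d ∧ Commute g (e * d * e) := by
    obtain ⟨g, hg, ⟨a, b⟩ | ⟨a, b⟩⟩ := hD.separate hS hd hd' hne.symm
    · exact ⟨g, hg, a, b⟩
    · refine ⟨e * g * e, by have := hD.conj e g hg; rwa [inv_eq hE.tts he] at this, ?_, ?_⟩
      · intro h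
        apply b
        have := (SemiconjBy.conj_iff (a := e * g * e) (x := d) (y := d) (b := e)).2 h
        simpa [inv_eq hE.tts he, conj_involutive hE.tts he, Commute] using this
      · have := (SemiconjBy.conj_iff (a := g) (x := d) (y := d) (b := e)).2 a
        simpa [inv_eq hE.tts he, Commute] using this
  have key : ∀ u : V, InU d u → u = 0 := by
    intro u hu
    have h0 := hD.nm_inU hS hd hg (fun h => hgd h.symm) hu
    have hdu := hD.fix_self hd hu
    have hu1 : u = g • u + d • g • u := by
      have h1 : (d * g) • (d * g) • u = g • u := by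
        rw [smul_smul (d * g), sq_eq_inv (hD.pow_three hd hg (fun h => hgd h.symm)),
          hD.mul_inv hd hg, mul_smul, hdu]
      rw [Nm, h1, mul_smul, add_assoc] at h0
      rw [add_comm]
      exact hS.eq_of_add_eq_zero h0
    have hb : (e * d * e) • g • u = g • u := by
      rw [smul_smul, ← hgd'.eq, mul_smul, hD.fix_of_commute hd hd' hc hu]
    have hu2 : u = g • u + ((d * e * d) * e) • g • u := by
      rw [← hz, mul_smul, hb]; exact hu1
    have heu : e • u = u := by
      have h1 : u = (g • u + e • g • u) + (e • g • u + (d * e * d) • e • g • u) := by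
        rw [add_assoc, hS.cancel, ← mul_smul]
        exact hu2
      have h2 : e • (g • u + e • g • u) = g • u + e • g • u :=
        hE.fix_self he ⟨g • u, rfl⟩
      have h3 : e • (e • g • u + (d * e * d) • e • g • u) = e • g • u + (d * e * d) • e • g • u :=
        hE.fix_of_commute he' he hcE ⟨e • g • u, rfl⟩
      rw [h1, smul_add, h2, h3]
    have hu' : InU (e * d * e) u := by
      have := hu.smul e
      rwa [inv_eq hE.tts he, heu] at this
    exact hD.inter_eq_zero hS hd hd' hne.symm hu hu'
  obtain ⟨u, hu, hu0⟩ := hD.exists_inU_ne_zero hS hd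
  exact hu0 (key u hu)

theorem trio_of_moved {e d : Q} (he : e ∈ E) (hd : d ∈ D) (hne : e * d * e ≠ d) :
    Trio V D e d (d * (e * d * e) * d) := by
  have hnc := not_commute_moved hS hD hE he hd hne
  have hd' : e * d * e ∈ D := by
    have := hD.conj e d hd; rwa [inv_eq hE.tts he] at this
  have he' : d * e * d ∈ E := by
    have := hE.conj d e he; rwa [inv_eq hD.tts hd] at this
  have hb := braid hD.tts hd hd' hnc
  refine ⟨hd, hD.conj_mem hd hd', fun h => hnc ((commute_conj_self_iff hD hd _).1 h), ?_, ?_, ?_⟩
  · rw [hb]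
    conv_rhs => rw [← hb]
    simp [mul_assoc, mul_mul_cancel hE.tts he, sq_one hE.tts he]
  · calc e * d * e = d * (d * (e * d * e) * d) * d := (conj_involutive hD.tts hd _).symm
      _ = (d * (e * d * e) * d) * d * (d * (e * d * e) * d) :=
        braid hD.tts hd (hD.conj_mem hd hd') fun h => hnc ((commute_conj_self_iff hD hd _).1 h)
  · intro v hv
    have h1 : ((e * d * e) * d) • v = v := by
      rwa [← mul_assoc, mul_mul_cancel hD.tts hd] at hv
    have hz : d * (e * d * e) = (d * e * d) * e := by group
    have h2 : (d * (e * d * e)) • v = v := by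
      rw [← hD.mul_inv hd' hd, inv_smul_eq_iff]; exact h1.symm
    rw [hz] at h2
    refine (hE.fix_both he' he (fun h => hnc ?_) h2).2
    rw [commute_iff_sq hD.tts hd hd', hz]
    exact (commute_iff_sq hE.tts he' he).1 h

variable {e d t : Q} (he : e ∈ E) (hne : e ∉ D) (h : Trio V D e d t)
include he hne h

theorem exists_moved_third : ∃ u : V, InU t u ∧ e • u ≠ u := by
  by_contra hcon
  push Not at hcon
  have hee := sq_one hE.tts he
  have htt := sq_one hD.tts h.ht
  have hdd := sq_one hD.tts h.hd
  have hd' : t * d * t ∈ D := hD.conj_mem h.ht h.hd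
  have hz : (t * e) * (t * d * t) = (t * d * t) * (t * e) := by
    calc (t * e) * (t * d * t) = t * (e * (e * d * e) * e) * e := by
          rw [h.ed]; simp only [mul_assoc, hee, mul_one]
      _ = t * d * e := by rw [conj_involutive hE.tts he]
      _ = (t * d * t) * (t * e) := by simp only [mul_assoc, mul_mul_cancel hD.tts h.ht]
  have hU : ∀ u : V, InU t u → (t * e) • u = u := fun u hu => by
    rw [mul_smul, hcon u hu, hD.fix_self h.ht hu]
  have hconj : (t * d * t) * d * (t * d * t) = t := by
    have hb := braid hD.tts h.hd h.ht h.dt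
    calc (t * d * t) * d * (t * d * t) = (d * t * d) * d * (d * t * d) := by rw [hb]
      _ = d * (t * d * t) * d := by
        simp only [mul_assoc, mul_mul_cancel hD.tts h.hd]
      _ = t := by rw [← hb, conj_involutive hD.tts h.hd]
  have hUd : ∀ u : V, InU d u → (t * e) • u = u := by
    intro u hu
    have h1 := hD.smul_inU hd' hu
    rw [hconj] at h1
    have h2 := hU _ h1
    rw [smul_smul, hz, mul_smul] at h2
    exact smul_left_cancel _ h2
  have hz1 : t * e = 1 := by
    refine hS.faithful _ fun v => ?_
    obtain ⟨α, β, hα, hβ, hv⟩ := hD.decomp hS h.hd h.ht h.dt v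
    have hfix := nm_fixed (hD.pow_three h.hd h.ht h.dt) v
    have hN : (t * e) • Nm (d * t) v = Nm (d * t) v := by
      rw [mul_smul, h.fix _ hfix, (hD.fix_both h.hd h.ht h.dt hfix).2]
    rw [hv, smul_add, smul_add, hN, hUd α hα, hU β hβ]
  exact hne ((eq_inv_of_mul_eq_one_left hz1).trans (inv_eq hE.tts he) ▸ h.ht)

theorem fix_inU_of_fixed {x : Q} (hx : x ∈ D) (hex : e * x * e = x) (hxt : x ≠ t)
    (hc : Commute x t) {u : V} (hu : InU x u) : e • u = u := by
  obtain ⟨α, β, hα, hβ, hv⟩ := hD.decomp hS h.hd h.ht h.dt u
  have hfix := nm_fixed (hD.pow_three h.hd h.ht h.dt) u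
  have ha := (hD.fix_both h.hd h.ht h.dt hfix).2
  have hα0 : α = 0 := by
    refine hD.inU_eq_zero hS h.hd h.ht h.dt hα ?_
    have htu := hD.fix_of_commute hx h.ht hc hu
    rw [hv, smul_add, smul_add, ha, hD.fix_self h.ht hβ] at htu
    exact add_left_cancel (add_right_cancel htu)
  rw [hα0, add_zero] at hv
  have h1 : u + e • u = β + e • β := by
    conv_lhs => rw [hv, smul_add, h.fix _ hfix]
    rw [add_add_add_comm, hS.char2, zero_add]
  have hu' : InU x (e • u) := by
    have := hu.smul e; rwa [inv_eq hE.tts he, hex] at this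
  have hβ' : InU t (e • β) := by
    have := hβ.smul e; rwa [inv_eq hE.tts he, h.et] at this
  have h0 := hD.inter_eq_zero hS hx h.ht hxt (hu.add hu') (h1 ▸ hβ.add hβ')
  exact (hS.eq_of_add_eq_zero h0).symm

theorem commute_fixed_third {x : Q} (hx : x ∈ D) (hex : e * x * e = x) : Commute x t := by
  by_contra hxt
  have hee := sq_one hE.tts he
  have hei := inv_eq hE.tts he
  have hxd : ¬ Commute x d := by
    intro hc
    have h1 : Commute x (t * d * t) := by
      have := (SemiconjBy.conj_iff (a := x) (x := d) (y := d) (b := e)).2 hc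
      simpa [hei, hex, h.ed, Commute] using this
    apply hxt
    have h2 := (hc.mul_right h1).mul_right hc
    have h3 : d * (t * d * t) * d = t := by
      rw [← braid hD.tts h.hd h.ht h.dt, conj_involutive hD.tts h.hd]
    rwa [h3] at h2
  have hT : Tri D t x d := by
    refine ⟨h.ht, hx, h.hd, fun c => hxt c.symm, fun c => h.dt c.symm, hxd, fun c => hxd ?_⟩
    have h1 : Commute x (t * d * t) := by
      have := (commute_conj_iff hD h.ht _ _).2 c
      rwa [conj_involutive hD.tts h.ht] at this
    have := (SemiconjBy.conj_iff (a := x) (x := t * d * t) (y := t * d * t) (b := e)).2 h1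
    simpa [hei, hex, ← h.ed, conj_involutive hE.tts he, Commute] using this
  have hN := hT.nilp hD
  have hea : Commute e (t * x) :=
    (commute_of_conj hE.tts he h.et).mul_right (commute_of_conj hE.tts he hex)
  have heb : e * (t * d) * e = (t * d)⁻¹ := by
    calc e * (t * d) * e = (e * t * e) * (e * d * e) := by
          simp [mul_assoc, mul_mul_cancel hE.tts he]
      _ = d * t := by rw [h.et, h.ed]; simp [mul_assoc, mul_mul_cancel hD.tts h.ht]
      _ = (t * d)⁻¹ := (hD.mul_inv h.ht h.hd).symm
  have fixb : ∀ v : V, (t * d) • v = v → e • v = v := by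
    intro v hv
    refine h.fix v ?_
    rw [← hD.mul_inv h.ht h.hd, inv_smul_eq_iff]; exact hv.symm
  have hzeta : zt (t * x) (t * d) = 1 := by
    generalize t * x = a at hN hea ⊢
    generalize t * d = b at hN heb fixb ⊢
    have eza : e * zt a b * e = (zt a b)⁻¹ := by
      calc e * zt a b * e = e * zt a b * e⁻¹ := by rw [hei]
        _ = (e * a * e⁻¹)⁻¹ * (e * b * e⁻¹) * (e * a * e⁻¹) * (e * b * e⁻¹)⁻¹ := by
          rw [zt]; group
        _ = zt a b⁻¹ := by rw [hea.eq, mul_inv_cancel_right, hei, heb, zt]
        _ = (zt a b)⁻¹ := hN.zt_inv_right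
    -- the three elements `b ζ^i` are conjugate by powers of `a`
    have hzi : ∀ k : ℕ, (a ^ k)⁻¹ * b * a ^ k = b * zt a b ^ k := by
      intro k
      induction k with
      | zero => simp
      | succ k ih =>
        have h1 : a⁻¹ * b * a = b * zt a b := by rw [hN.cb.eq, zt]; group
        calc (a ^ (k + 1))⁻¹ * b * a ^ (k + 1) = a⁻¹ * ((a ^ k)⁻¹ * b * a ^ k) * a := by
              rw [pow_succ]; group
          _ = a⁻¹ * b * (zt a b ^ k * a) := by rw [ih]; group
          _ = b * zt a b ^ (k + 1) := by
              rw [((hN.ca.pow_right k).symm).eq, ← mul_assoc, h1, mul_assoc, ← pow_succ']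
    have fixk : ∀ (k : ℕ) (w : V), (b * zt a b ^ k) • w = w → e • w = w := by
      intro k w hw
      rw [← hzi] at hw
      have h1 : b • a ^ k • w = a ^ k • w := by
        rw [smul_smul]
        rw [mul_assoc, mul_smul, inv_smul_eq_iff] at hw
        exact hw
      have h2 := fixb _ h1
      rw [smul_smul, (hea.pow_right k).eq, mul_smul] at h2
      exact smul_left_cancel _ h2
    have kill : ∀ (k : ℕ) (v : V), Nm (zt a b) v = 0 → Nm (b * zt a b ^ k) v = 0 := by
      intro k v hv
      have hck : Commute (zt a b) (b * zt a b ^ k) :=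
        hN.cb.symm.mul_right (Commute.self_pow _ k)
      have hc3 : (b * zt a b ^ k) ^ 3 = 1 := by
        rw [(hN.cb.pow_right k).mul_pow, hN.b3, ← pow_mul, mul_comm k, pow_mul, hN.z3, one_pow,
          one_mul]
      set y := Nm (b * zt a b ^ k) v with hy
      have h1 : e • y = y := fixk k y (nm_fixed hc3 v)
      have h2 : e • zt a b • y = zt a b • y := by
        refine fixk k _ ?_
        rw [smul_smul, ← hck.eq, mul_smul, hy, nm_fixed hc3]
      have h3 : e * zt a b = (zt a b)⁻¹ * e := by
        rw [← eza, mul_assoc _ e e, hee, mul_one]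
      rw [smul_smul, h3, mul_smul, h1, inv_smul_eq_iff, smul_smul] at h2
      have h4 : zt a b • y = y := by
        conv_lhs => rw [h2]
        rw [smul_smul, ← pow_three, hN.z3, one_smul]
      have h5 : Nm (zt a b) y = 0 := by
        rw [Nm]
        have e1 : y + zt a b • y + zt a b • zt a b • y = Nm (b * zt a b ^ k) (Nm (zt a b) v) := by
          rw [hy, smul_nm_of_commute hck, smul_nm_of_commute hck, ← nm_add, ← nm_add]
          rfl
        rw [e1, hv, nm_zero]
      rwa [nm_of_fixed hS h4] at h5
    refine hS.faithful _ fun v => ?_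
    have hw := nm_self_add hS hN.z3 v
    have hs := nm_sum_three hS hN.z3 hN.cb hw
    have k0 := kill 0 _ hw
    have k1 := kill 1 _ hw
    have k2 := kill 2 _ hw
    rw [pow_zero, mul_one] at k0
    rw [pow_one] at k1
    rw [pow_two, sq_eq_inv hN.z3] at k2
    rw [k0, k1, k2, add_zero, add_zero] at hs
    rw [hS.eq_of_add_eq_zero hs.symm]
    exact nm_fixed hN.z3 v
  refine ne_one hD.tts h.ht (hS.faithful t fun v => hT.fix_point hS hD ?_)
  rw [hzeta, one_smul]

omit he hne h

/-- The second class lies in the first. -/
theorem subset_of_two_classes : E ⊆ D := by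
  intro e he
  by_contra hne
  have hei := inv_eq hE.tts he
  obtain ⟨d, hd, hmoved⟩ : ∃ d ∈ D, e * d * e ≠ d := by
    by_contra hcon
    push Not at hcon
    refine ne_one hE.tts he (hS.central_eq_one (sq_one hE.tts he) fun g => ?_)
    have hg : g ∈ Subgroup.closure D := hD.gen ▸ Subgroup.mem_top g
    induction hg using Subgroup.closure_induction with
    | mem g hg => exact (commute_of_conj hE.tts he (hcon g hg)).symm
    | one => exact Commute.one_left e
    | mul _ _ _ _ h1 h2 => exact h1.mul_left h2
    | inv _ _ h1 => exact h1.inv_left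
  set t := d * (e * d * e) * d with ht
  have h : Trio V D e d t := trio_of_moved hS hD hE he hd hmoved
  -- the third point does not depend on the moved point
  have huniq : ∀ d' ∈ D, e * d' * e ≠ d' → e * d' * e = t * d' * t := by
    intro d' hd' hm
    set t' := d' * (e * d' * e) * d' with ht'
    have h' : Trio V D e d' t' := trio_of_moved hS hD hE he hd' hm
    by_cases heq : t' = t
    · rw [← heq]; exact h'.ed
    exfalso
    obtain ⟨u, hu, hu'⟩ := exists_moved_third hS hD hE he hne h'
    exact hu' (fix_inU_of_fixed hS hD hE he hne h h'.ht h'.et heq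
      (commute_fixed_third hS hD hE he hne h h'.ht h'.et) hu)
  have hc : Commute e t := commute_of_conj hE.tts he h.et
  have hcen : t * e = 1 := by
    refine hS.central_eq_one ?_ fun g => ?_
    · rw [show t * e * (t * e) = t * (e * t * e) by group, h.et, sq_one hD.tts h.ht]
    have hg : g ∈ Subgroup.closure D := hD.gen ▸ Subgroup.mem_top g
    induction hg using Subgroup.closure_induction with
    | mem g hg =>
      by_cases hm : e * g * e = g
      · exact (commute_fixed_third hS hD hE he hne h hg hm).mul_right
          (commute_of_conj hE.tts he hm).symm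
      · have h1 : g * (t * e) = (t * e) * g := by
          have h2 : (t * e) * g = t * (e * g * e) * e := by
            simp [mul_assoc, sq_one hE.tts he]
          rw [h2, huniq g hg hm]
          simp [mul_assoc, mul_mul_cancel hD.tts h.ht]
        exact h1
    | one => exact Commute.one_left _
    | mul _ _ _ _ h1 h2 => exact h1.mul_left h2
    | inv _ _ h1 => exact h1.inv_left
  exact hne ((eq_inv_of_mul_eq_one_left hcen).trans hei ▸ h.ht)

end Cfsg.Agent.Transpos.TwoRad
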