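import Cfsg.Agent.Lib.Transpos.TwoRadicalShift

/-!
# Classes of 3-transpositions over a self-centralising elementary abelian normal 2-subgroup
-/

set_option autoImplicit false
set_option linter.unusedSectionVars false

namespace Cfsg.Agent.Transpos.TwoRad

open Cfsg

variable {G : Type*} [Group G] (W : Subgroup G) [W.Normal] [hW : IsMulCommutative W]

/-- The action of the quotient by a commutative normal subgroup on it. -/
def quotConj : G ⧸ W →* MulAut W :=
  QuotientGroup.lift W MulAut.conjNormal fun x hx => by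
    ext y
    have h : x * (y : G) = y * x := congrArg Subtype.val (hW.is_comm.comm (⟨x, hx⟩ : W) y)
    simp [MulAut.conjNormal_apply, h]

/-- A commutative subgroup as a module. -/
@[reducible] def addW : AddCommGroup (Additive W) :=
  { (inferInstance : AddGroup (Additive W)) with
    add_comm := fun a b => congrArg Additive.ofMul (hW.is_comm.comm a.toMul b.toMul) }

attribute [local instance] addW

/-- The module structure over the quotient. -/
@[reducible] def quotModule : DistribMulAction (G ⧸ W) (Additive W) where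
  smul q v := Additive.ofMul (quotConj W q v.toMul)
  one_smul v := congrArg Additive.ofMul (by rw [map_one]; rfl)
  mul_smul q r v := congrArg Additive.ofMul (by rw [map_mul]; rfl)
  smul_zero q := congrArg Additive.ofMul (map_one (quotConj W q))
  smul_add q v w := congrArg Additive.ofMul (map_mul (quotConj W q) v.toMul w.toMul)

attribute [local instance] quotModule

/-- The underlying element of the group. -/
def cv (v : Additive W) : G := (v.toMul : G)

theorem cv_add (v w : Additive W) : cv W (v + w) = cv W v * cv W w := rfl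

theorem cv_zero : cv W (0 : Additive W) = 1 := rfl

theorem cv_mem (v : Additive W) : cv W v ∈ W := (v.toMul).2

theorem cv_inj {v w : Additive W} (h : cv W v = cv W w) : v = w :=
  Additive.toMul.injective (Subtype.ext h)

theorem cv_smul (g : G) (v : Additive W) :
    cv W ((g : G ⧸ W) • v) = g * cv W v * g⁻¹ := rfl

theorem mk_cv (v : Additive W) : (QuotientGroup.mk (cv W v) : G ⧸ W) = 1 :=
  (QuotientGroup.eq_one_iff _).2 (cv_mem W v)

theorem cube (x : G) (y : Additive W) :
    (cv W y * x) ^ 3 = cv W (Nm (x : G ⧸ W) y) * x ^ 3 := by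
  simp only [Nm, cv_add, cv_smul, pow_succ, pow_zero, one_mul]
  group

variable {W}

/-- Commuting images force commuting lifts. -/
theorem commute_lift (hW2 : ∀ a ∈ W, a * a = 1) {D : Set G} (hD : IsThreeTranspositionSet D)
    {d f : G} (hd : d ∈ D) (hf : f ∈ D) (h : Commute (d : G ⧸ W) (f : G ⧸ W)) : Commute d f := by
  by_contra hc
  apply hc
  rw [commute_iff_sq hD hd hf]
  have h3 := pow_three_of_not_commute hD hd hf hc
  have h2 : ((d * f : G) : G ⧸ W) ^ 2 = 1 := by
    rw [QuotientGroup.mk_mul, h.mul_pow, pow_two, pow_two, ← QuotientGroup.mk_mul,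
      ← QuotientGroup.mk_mul, sq_one hD hd, sq_one hD hf, QuotientGroup.mk_one, one_mul]
  have h3' : ((d * f : G) : G ⧸ W) ^ 3 = 1 := by rw [← QuotientGroup.mk_pow, h3, QuotientGroup.mk_one]
  rw [pow_succ, h2, one_mul, QuotientGroup.eq_one_iff] at h3'
  rw [pow_two]
  exact hW2 _ h3'

theorem smul_lift_mem (hW2 : ∀ a ∈ W, a * a = 1) {D : Set G} (hn : ∀ g : G, ∀ d ∈ D, g * d * g⁻¹ ∈ D)
    {d : G} (hd : d ∈ D) (w : Additive W) :
    cv W (w + (d : G ⧸ W) • w) * d ∈ D := by
  have hi : cv W w = (cv W w)⁻¹ := eq_inv_of_mul_eq_one_left (hW2 _ (cv_mem W w))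
  have e : cv W (w + (d : G ⧸ W) • w) * d = cv W w * d * cv W w := by
    rw [cv_add, cv_smul]; group
  rw [e]
  nth_rewrite 2 [hi]
  exact hn _ d hd

theorem sys (hW2 : ∀ a ∈ W, a * a = 1) (hcent : Subgroup.centralizer (W : Set G) ≤ W)
    (hcore : pCore 2 (G ⧸ W) = ⊥) : Sys (G ⧸ W) (Additive W) where
  char2 v := cv_inj W (by rw [cv_add, cv_zero, hW2 _ (cv_mem W v)])
  faithful q hq := by
    induction q using QuotientGroup.induction_on with
    | H g =>
      rw [QuotientGroup.eq_one_iff]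
      refine hcent (Subgroup.mem_centralizer_iff.2 fun y hy => ?_)
      have h := congrArg (cv W) (hq (Additive.ofMul (⟨y, hy⟩ : W)))
      rw [cv_smul] at h
      exact (mul_inv_eq_iff_eq_mul.1 h).symm
  core N hN h2 := le_bot_iff.1 (hcore ▸ PCore.le_pCore (hN := hN) h2)

theorem conj_mem_of_class {D : Set G} (hD : IsThreeTranspositionClass D) :
    ∀ g : G, ∀ d ∈ D, g * d * g⁻¹ ∈ D := by
  obtain ⟨-, ⟨d₀, -, hD⟩, -⟩ := hD
  intro g d hd
  rw [hD] at hd ⊢
  exact IsConj.trans (show IsConj d₀ d from hd) (isConj_iff.2 ⟨g, rfl⟩)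

theorem trans_of_class {D : Set G} (hD : IsThreeTranspositionClass D) :
    ∀ d ∈ D, ∀ e ∈ D, ∃ g : G, g * d * g⁻¹ = e := by
  obtain ⟨-, ⟨d₀, -, hD⟩, -⟩ := hD
  intro d hd e he
  rw [hD] at hd he
  exact isConj_iff.1 ((show IsConj d₀ d from hd).symm.trans (show IsConj d₀ e from he))

theorem cls (hW2 : ∀ a ∈ W, a * a = 1) (hS : Sys (G ⧸ W) (Additive W)) (hne : W ≠ ⊤) {D : Set G}
    (hD : IsThreeTranspositionClass D) :
    Cls (G ⧸ W) (Additive W) ((fun g : G => (g : G ⧸ W)) '' D) := by
  have htr := trans_of_class hD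
  have hn := conj_mem_of_class hD
  obtain ⟨ht, -, hgen⟩ := hD
  have hout : ∀ d ∈ D, (d : G ⧸ W) ≠ 1 := by
    intro d hd h1
    rw [QuotientGroup.eq_one_iff] at h1
    apply hne
    rw [eq_top_iff, ← hgen, Subgroup.closure_le]
    intro e he
    obtain ⟨g, rfl⟩ := htr d hd e he
    exact Subgroup.Normal.conj_mem inferInstance d h1 g
  have hsq : ∀ d ∈ D, (d : G ⧸ W) * (d : G ⧸ W) = 1 := fun d hd => by
    rw [← QuotientGroup.mk_mul, sq_one ht hd, QuotientGroup.mk_one]
  refine ⟨⟨?_, ?_⟩, ?_, ?_, ?_, ?_⟩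
  · rintro _ ⟨d, hd, rfl⟩
    exact orderOf_eq_prime (by rw [pow_two, hsq d hd]) (hout d hd)
  · rintro _ ⟨d, hd, rfl⟩ _ ⟨f, hf, rfl⟩
    rcases ht.2 d hd f hf with h | h
    · exact Or.inl (by rw [← QuotientGroup.mk_mul, ← QuotientGroup.mk_pow, h, QuotientGroup.mk_one])
    · exact Or.inr (by rw [← QuotientGroup.mk_mul, ← QuotientGroup.mk_pow, h, QuotientGroup.mk_one])
  · rintro q _ ⟨d, hd, rfl⟩
    induction q using QuotientGroup.induction_on with
    | H g => exact ⟨g * d * g⁻¹, hn g d hd, by simp⟩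
  · have := congrArg (Subgroup.map (QuotientGroup.mk' W)) hgen
    rwa [MonoidHom.map_closure, Subgroup.map_top_of_surjective _ (QuotientGroup.mk'_surjective W)]
      at this
  · rintro _ ⟨d, hd, rfl⟩ _ ⟨f, hf, rfl⟩ hc w
    set u := w + (d : G ⧸ W) • w with hu
    have h1 : Commute f (cv W u * d) := by
      refine commute_lift hW2 ht hf (smul_lift_mem hW2 hn hd w) ?_
      rw [QuotientGroup.mk_mul, mk_cv, one_mul]
      exact hc.symm
    have h2 : Commute f d := commute_lift hW2 ht hf hd hc.symm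
    have h3 : Commute f (cv W u) := by
      have := h1.mul_right h2
      rwa [mul_assoc, sq_one ht hd, mul_one] at this
    exact cv_inj W (by rw [cv_smul, h3.eq, mul_inv_cancel_right])
  · rintro _ ⟨d, hd, rfl⟩ _ ⟨f, hf, rfl⟩ hc v hv
    simp only at hc hv ⊢
    set u := v + (d : G ⧸ W) • v with hu
    have hdf : ((d * f : G) : G ⧸ W) • u = u := by
      have hfd : (f : G ⧸ W) • (d : G ⧸ W) • v = v := by
        rw [← mul_smul]
        rw [show (f : G ⧸ W) * d = ((d : G ⧸ W) * f)⁻¹ by
          rw [mul_inv_rev, inv_eq_of_mul_eq_one_left (hsq d hd),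
            inv_eq_of_mul_eq_one_left (hsq f hf)], inv_smul_eq_iff, hv]
      rw [QuotientGroup.mk_mul, hu, smul_add, hv, mul_smul, hfd]
    have hmem := smul_lift_mem hW2 hn hd v
    have hnc : ¬ Commute (cv W u * d) f := by
      intro h
      apply hc
      have h' := h.map (QuotientGroup.mk' W)
      simpa [mk_cv] using h'
    have h3 := pow_three_of_not_commute ht hmem hf hnc
    have hnc' : ¬ Commute d f := fun h => hc (by simpa using h.map (QuotientGroup.mk' W))
    rw [mul_assoc, cube, pow_three_of_not_commute ht hd hf hnc', mul_one,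
      nm_of_fixed hS hdf] at h3
    have h0 : u = 0 := cv_inj W (h3.trans (cv_zero W).symm)
    exact (hS.eq_of_add_eq_zero h0).symm

/-- Two classes of 3-transpositions generating the group are equal. -/
theorem class_subset [Finite G] (hW2 : ∀ a ∈ W, a * a = 1)
    (hcent : Subgroup.centralizer (W : Set G) ≤ W) (hcore : pCore 2 (G ⧸ W) = ⊥)
    (hne : W ≠ ⊤) (hZ : Subgroup.center G = ⊥) {D E : Set G} (hD : IsThreeTranspositionClass D)
    (hE : IsThreeTranspositionClass E) : E ⊆ D := by
  have hS := sys hW2 hcent hcore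
  have cD := cls hW2 hS hne hD
  have cE := cls hW2 hS hne hE
  have hnD := conj_mem_of_class hD
  have hnE := conj_mem_of_class hE
  have htr := trans_of_class hD
  let Sh : G ⧸ W → Additive W → Prop := fun q v =>
    ∃ d ∈ D, (d : G ⧸ W) = q ∧ cv W v * d ∈ E
  have hmk : ∀ (a b : G), (a : G ⧸ W) = b → ∃ v : Additive W, cv W v * b = a := fun a b h =>
    ⟨Additive.ofMul (⟨a * b⁻¹, by
      rw [← QuotientGroup.eq_one_iff, QuotientGroup.mk_mul, QuotientGroup.mk_inv, h,
        mul_inv_cancel]⟩ : W), inv_mul_cancel_right a b⟩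
  have hSh : Shift ((fun g : G => (g : G ⧸ W)) '' D) Sh := by
    refine ⟨?_, ?_, ?_, ?_, ?_⟩
    · rintro _ v ⟨d, hd, rfl, he⟩
      refine cv_inj W ?_
      rw [cv_smul, inv_eq hD.1 hd]
      have h1 := sq_one hE.1 he
      rw [show cv W v * d * (cv W v * d) = cv W v * (d * cv W v * d) by group] at h1
      rw [eq_inv_of_mul_eq_one_right h1,
        inv_eq_of_mul_eq_one_left (hW2 _ (cv_mem W v))]
    · rintro _ ⟨d, hd, rfl⟩
      obtain ⟨e, he, hed⟩ := subset_of_two_classes hS cE cD ⟨d, hd, rfl⟩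
      obtain ⟨v, hv⟩ := hmk e d hed
      exact ⟨v, d, hd, rfl, hv ▸ he⟩
    · rintro q hq r hr hc v w ⟨d, hd, rfl, hv⟩ ⟨f, hf, rfl, hw⟩
      have hnc : ¬ Commute (cv W v * d) (cv W w * f) := by
        intro h
        apply hc
        simpa [mk_cv] using h.map (QuotientGroup.mk' W)
      have hnc' : ¬ Commute d f := fun h => hc (by simpa using h.map (QuotientGroup.mk' W))
      have h3 := pow_three_of_not_commute hE.1 hv hw hnc
      have e1 : cv W v * d * (cv W w * f) = cv W (v + (d : G ⧸ W) • w) * (d * f) := by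
        rw [cv_add, cv_smul]; group
      rw [e1, cube, pow_three_of_not_commute hD.1 hd hf hnc', mul_one] at h3
      have h0 := cv_inj W (h3.trans (cv_zero W).symm)
      rw [nm_add, QuotientGroup.mk_mul] at h0
      rw [hS.eq_of_add_eq_zero h0, ← cD.smul_nm_left hq hr hc]
      exact (cD.fix_both hq hr hc (nm_fixed (cD.pow_three hq hr hc) w)).1
    · rintro q p v ⟨d, hd, rfl, hv⟩
      induction q using QuotientGroup.induction_on with
      | H g =>
        refine ⟨g * d * g⁻¹, hnD g d hd, by simp, ?_⟩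
        rw [cv_smul, show g * cv W v * g⁻¹ * (g * d * g⁻¹) = g * (cv W v * d) * g⁻¹ by group]
        exact hnE g _ hv
    · intro u hu
      refine cv_inj W ?_
      have : cv W u ∈ Subgroup.center G := Subgroup.mem_center_iff.2 fun g => by
        have h := congrArg (cv W) (hu (g : G ⧸ W))
        rw [cv_smul] at h
        exact mul_inv_eq_iff_eq_mul.1 h
      rw [hZ, Subgroup.mem_bot] at this
      rw [this, cv_zero]
  intro e he
  obtain ⟨d, hd, hde⟩ := subset_of_two_classes hS cD cE ⟨e, he, rfl⟩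
  obtain ⟨v, hv⟩ := hmk e d hde.symm
  have htr' : ∀ a ∈ (fun g : G => (g : G ⧸ W)) '' D, ∀ b ∈ (fun g : G => (g : G ⧸ W)) '' D,
      ∃ g : G ⧸ W, g * a * g⁻¹ = b := by
    rintro _ ⟨a, ha, rfl⟩ _ ⟨b, hb, rfl⟩
    obtain ⟨g, hg⟩ := htr a ha b hb
    exact ⟨g, by simp [← hg]⟩
  obtain ⟨w, hw⟩ := inU_of_shift hS cD hSh htr' ⟨d, hd, rfl⟩
    (show Sh (d : G ⧸ W) v from ⟨d, hd, rfl, hv ▸ he⟩)
  rw [← hv, hw]
  exact smul_lift_mem hW2 hnD hd w

end Cfsg.Agent.Transpos.TwoRad
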