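import Cfsg.Agent.Lib.Transpos.TwoRadicalSystem

/-!
# Three pairwise non-commuting transpositions in a `Cls`

For a point `g` and members `d`, `e` spanning an affine plane with it (`Tri`), the vectors
fixed by the commutator `ζ` of `gd` and `ge` are fixed by `g`.
-/

set_option autoImplicit false

namespace Cfsg.Agent.Transpos.TwoRad

variable {Q : Type*} [Group Q]

/-- The commutator which is central in the group generated by `a` and `b`. -/
def zt (a b : Q) : Q := a⁻¹ * b * a * b⁻¹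

/-- The relations of `B(2,3)` needed on two elements. -/
structure Nilp (a b : Q) : Prop where
  a3 : a ^ 3 = 1
  b3 : b ^ 3 = 1
  ca : Commute a (zt a b)
  cb : Commute b (zt a b)
  z3 : zt a b ^ 3 = 1

theorem Nilp.of_cubes {a b : Q} (a3 : a ^ 3 = 1) (b3 : b ^ 3 = 1) (ab3 : (a * b) ^ 3 = 1)
    (ab3' : (a * b⁻¹) ^ 3 = 1) : Nilp a b := by
  set x1 := b * a * b⁻¹ with hx1
  set x2 := b * x1 * b⁻¹ with hx2
  have b2 : b * b = b⁻¹ := eq_inv_of_mul_eq_one_left (by rw [← pow_three', b3])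
  have bi : b⁻¹ * b⁻¹ = b := by rw [← mul_inv_rev, b2, inv_inv]
  have p1 : a * x1 * x2 = 1 := by
    calc a * x1 * x2 = a * b * a * b * a * b * (b⁻¹ * (b⁻¹ * b⁻¹)) := by rw [hx2, hx1]; group
      _ = (a * b) ^ 3 := by rw [bi, inv_mul_cancel, mul_one, pow_three]; simp only [mul_assoc]
      _ = 1 := ab3
  have hy1 : b⁻¹ * a * b = x2 := by
    rw [hx2, hx1, show b * (b * a * b⁻¹) * b⁻¹ = (b * b) * a * (b⁻¹ * b⁻¹) by group, b2, bi]
  have p2 : a * x2 * x1 = 1 := by
    calc a * x2 * x1 = a * b⁻¹ * a * (b * b) * a * b⁻¹ := by rw [← hy1, hx1]; group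
      _ = (a * b⁻¹) ^ 3 := by rw [b2, pow_three]; simp only [mul_assoc]
      _ = 1 := ab3'
  have hx21 : x2 = x1⁻¹ * a⁻¹ := by rw [← mul_inv_rev]; exact eq_inv_of_mul_eq_one_right p1
  have hx21' : x2 = a⁻¹ * x1⁻¹ := by
    rw [show x2 = a⁻¹ * (a * x2 * x1) * x1⁻¹ by group, p2, mul_one]
  have c01 : Commute a x1 := by
    have h : Commute a⁻¹ x1⁻¹ := hx21'.symm.trans hx21
    simpa using h.inv_inv
  have x13 : x1 ^ 3 = 1 := by rw [hx1, conj_pow, a3, mul_one, mul_inv_cancel]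
  have hz : zt a b = a⁻¹ * x1 := by rw [zt, hx1]; group
  refine ⟨a3, b3, ?_, ?_, ?_⟩
  · rw [hz]; exact (Commute.refl a).inv_right.mul_right c01
  · have h : b * zt a b * b⁻¹ = zt a b := by
      rw [hz, show b * (a⁻¹ * x1) * b⁻¹ = x1⁻¹ * x2 by rw [hx2, hx1]; group, hx21, ← mul_assoc,
        show x1⁻¹ * x1⁻¹ = x1 by
          rw [← mul_inv_rev, eq_inv_of_mul_eq_one_left (a := x1 * x1) (b := x1)
            (by rw [← pow_three', x13]), inv_inv]]
      exact c01.inv_left.symm.eq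
    exact mul_inv_eq_iff_eq_mul.1 h
  · rw [hz, c01.inv_left.mul_pow, inv_pow, a3, x13, inv_one, one_mul]

theorem Nilp.swap_mul {a b : Q} (h : Nilp a b) : b * a = a * b * zt a b := by
  rw [mul_assoc a b, h.cb.eq, ← mul_assoc, zt]; group

theorem Nilp.zt_inv_left {a b : Q} (h : Nilp a b) : zt a⁻¹ b = (zt a b)⁻¹ := by
  have h1 : b * a⁻¹ * b⁻¹ = (zt a b)⁻¹ * a⁻¹ := by rw [zt]; group
  calc zt a⁻¹ b = a * (b * a⁻¹ * b⁻¹) := by rw [zt]; group
    _ = a * (zt a b)⁻¹ * a⁻¹ := by rw [h1, mul_assoc]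
    _ = (zt a b)⁻¹ := by rw [h.ca.inv_right.eq, mul_inv_cancel_right]

theorem Nilp.zt_inv_right {a b : Q} (h : Nilp a b) : zt a b⁻¹ = (zt a b)⁻¹ := by
  calc zt a b⁻¹ = b⁻¹ * (zt a b)⁻¹ * b := by rw [zt, zt]; group
    _ = (zt a b)⁻¹ := by rw [mul_assoc, ← h.cb.inv_right.eq, inv_mul_cancel_left]

variable {V : Type*} [AddCommGroup V] [DistribMulAction Q V] {D : Set Q}

/-- A point `g` and two further members spanning an affine plane with it. -/
structure Tri (D : Set Q) (g d e : Q) : Prop where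
  hg : g ∈ D
  hd : d ∈ D
  he : e ∈ D
  gd : ¬ Commute g d
  ge : ¬ Commute g e
  de : ¬ Commute d e
  de' : ¬ Commute (g * d * g) e

theorem commute_conj_iff (hD : Cls Q V D) {g : Q} (hg : g ∈ D) (x y : Q) :
    Commute (g * x * g) (g * y * g) ↔ Commute x y := by
  constructor
  · intro h
    have := (SemiconjBy.conj_iff (a := g * x * g) (x := g * y * g) (y := g * y * g) (b := g)).2 h
    simpa [inv_eq hD.tts hg, conj_involutive hD.tts hg, Commute] using this
  · intro h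
    have := (SemiconjBy.conj_iff (a := x) (x := y) (y := y) (b := g)).2 h
    simpa [inv_eq hD.tts hg, Commute] using this

theorem commute_conj_self_iff (hD : Cls Q V D) {g : Q} (hg : g ∈ D) (x : Q) :
    Commute g (g * x * g) ↔ Commute g x := by
  have := commute_conj_iff hD hg g x
  rwa [show g * g * g = g by rw [sq_one hD.tts hg, one_mul]] at this

namespace Tri

variable {g d e : Q}

theorem flip_left (hD : Cls Q V D) (h : Tri D g d e) : Tri D g (g * d * g) e :=
  ⟨h.hg, hD.conj_mem h.hg h.hd, h.he, fun c => h.gd ((commute_conj_self_iff hD h.hg d).1 c),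
    h.ge, h.de', by rw [conj_involutive hD.tts h.hg]; exact h.de⟩

theorem flip_right (hD : Cls Q V D) (h : Tri D g d e) : Tri D g d (g * e * g) := by
  refine ⟨h.hg, h.hd, hD.conj_mem h.hg h.he, h.gd,
    fun c => h.ge ((commute_conj_self_iff hD h.hg e).1 c), fun c => h.de' ?_,
    fun c => h.de ((commute_conj_iff hD h.hg d e).1 c)⟩
  have := (commute_conj_iff hD h.hg _ _).2 c
  rwa [conj_involutive hD.tts h.hg] at this

theorem left_inv (hD : Cls Q V D) (h : Tri D g d e) : g * (g * d * g) = (g * d)⁻¹ := by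
  rw [mul_assoc, mul_mul_cancel hD.tts h.hg, hD.mul_inv h.hg h.hd]

theorem right_inv (hD : Cls Q V D) (h : Tri D g d e) : g * (g * e * g) = (g * e)⁻¹ := by
  rw [mul_assoc, mul_mul_cancel hD.tts h.hg, hD.mul_inv h.hg h.he]

theorem nilp (hD : Cls Q V D) (h : Tri D g d e) : Nilp (g * d) (g * e) := by
  refine Nilp.of_cubes (hD.pow_three h.hg h.hd h.gd) (hD.pow_three h.hg h.he h.ge) ?_ ?_
  · rw [← mul_assoc]
    exact hD.pow_three (hD.conj_mem h.hg h.hd) h.he h.de'
  · have e1 : g * d * (g * e)⁻¹ = g * (d * e) * g⁻¹ := by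
      rw [hD.mul_inv h.hg h.he, inv_eq hD.tts h.hg]; group
    rw [e1, conj_pow, hD.pow_three h.hd h.he h.de, mul_one, mul_inv_cancel]

theorem conj_zt (hD : Cls Q V D) (h : Tri D g d e) :
    g * zt (g * d) (g * e) * g⁻¹ = zt (g * d) (g * e) := by
  have hN := h.nilp hD
  have ha : g * (g * d) * g⁻¹ = (g * d)⁻¹ := by
    rw [mul_mul_cancel hD.tts h.hg, inv_eq hD.tts h.hg, hD.mul_inv h.hg h.hd]
  have hb : g * (g * e) * g⁻¹ = (g * e)⁻¹ := by
    rw [mul_mul_cancel hD.tts h.hg, inv_eq hD.tts h.hg, hD.mul_inv h.hg h.he]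
  generalize g * d = a at hN ha ⊢
  generalize g * e = b at hN hb ⊢
  calc g * zt a b * g⁻¹ = (g * a * g⁻¹)⁻¹ * (g * b * g⁻¹) * (g * a * g⁻¹) * (g * b * g⁻¹)⁻¹ := by
        rw [zt]; group
    _ = a * (b⁻¹ * zt a b * b) * a⁻¹ := by rw [ha, hb, zt]; group
    _ = a * zt a b * a⁻¹ := by rw [mul_assoc b⁻¹, ← hN.cb.eq, inv_mul_cancel_left]
    _ = zt a b := by rw [hN.ca.eq, mul_inv_cancel_right]

/-- The lift of the direction `ab` inverted by `g`. -/
theorem dir (hD : Cls Q V D) (h : Tri D g d e) :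
    g * (g * d * (g * e) * (zt (g * d) (g * e))⁻¹) ∈ D ∧
      ¬ Commute g (g * (g * d * (g * e) * (zt (g * d) (g * e))⁻¹)) := by
  have hN := h.nilp hD
  have hz := h.conj_zt hD
  have ha : g * (g * d) * g⁻¹ = (g * d)⁻¹ := by
    rw [mul_mul_cancel hD.tts h.hg, inv_eq hD.tts h.hg, hD.mul_inv h.hg h.hd]
  have hb : g * (g * e) * g⁻¹ = (g * e)⁻¹ := by
    rw [mul_mul_cancel hD.tts h.hg, inv_eq hD.tts h.hg, hD.mul_inv h.hg h.he]
  have hne : g * d * (g * e) * (zt (g * d) (g * e))⁻¹ ≠ 1 := by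
    intro h1
    rw [mul_inv_eq_one] at h1
    have hab : Commute (g * d) (g * e) := by
      have := (hN.cb.symm).mul_left (Commute.refl (g * e)).inv_left
      rwa [← h1, mul_inv_cancel_right] at this
    have hz1 : zt (g * d) (g * e) = 1 := by
      rw [zt, mul_assoc (g * d)⁻¹, ← hab.eq, inv_mul_cancel_left, mul_inv_cancel]
    rw [hz1, ← mul_assoc] at h1
    apply h.de'
    rw [eq_inv_of_mul_eq_one_left h1, inv_eq hD.tts h.he]
  have c3 : (g * d * (g * e) * (zt (g * d) (g * e))⁻¹) ^ 3 = 1 := by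
    have h3 : (g * d * (g * e)) ^ 3 = 1 := by
      rw [← mul_assoc]; exact hD.pow_three (hD.conj_mem h.hg h.hd) h.he h.de'
    have hcc : Commute (g * d * (g * e)) (zt (g * d) (g * e))⁻¹ := (hN.ca.mul_left hN.cb).inv_right
    rw [hcc.mul_pow, h3, inv_pow, hN.z3, inv_one, one_mul]
  generalize g * d = a at hN hz ha hne c3 ⊢
  generalize g * e = b at hN hz hb hne c3 ⊢
  set c := a * b * (zt a b)⁻¹ with hc
  have hgc : g * c * g⁻¹ = c⁻¹ := by
    calc g * c * g⁻¹ = (g * a * g⁻¹) * (g * b * g⁻¹) * (g * zt a b * g⁻¹)⁻¹ := by rw [hc]; group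
      _ = a⁻¹ * b⁻¹ * (zt a b)⁻¹ := by rw [ha, hb, hz]
      _ = (zt a b * (b * a))⁻¹ := by group
      _ = (a * b * (zt a b * zt a b))⁻¹ := by
        congr 1
        rw [hN.swap_mul, (((hN.ca.mul_left hN.cb).mul_left (Commute.refl (zt a b))).symm).eq,
          mul_assoc]
      _ = c⁻¹ := by rw [hc, sq_eq_inv hN.z3]
  have hgc' : g * c⁻¹ = c * g := by
    have : (g * c * g⁻¹)⁻¹ = c := by rw [hgc, inv_inv]
    calc g * c⁻¹ = (g * c * g⁻¹)⁻¹ * g := by group
      _ = c * g := by rw [this]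
  have e1 : c * g * c⁻¹ = g * c := by
    rw [mul_assoc, hgc', ← mul_assoc, sq_eq_inv c3, ← hgc, inv_mul_cancel_right]
  refine ⟨e1 ▸ hD.conj c g h.hg, fun hcm => hne ?_⟩
  have h2 : g * c * g = c := by
    have h4 : g * (g * c) = g * c * g := hcm.eq
    rw [← h4, mul_mul_cancel hD.tts h.hg]
  rw [inv_eq hD.tts h.hg, h2] at hgc
  have h5 : c * c = 1 := mul_eq_one_iff_eq_inv.2 hgc
  rwa [pow_three', h5, one_mul] at c3

theorem fix_dir (hD : Cls Q V D) (h : Tri D g d e) {v : V}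
    (hz : zt (g * d) (g * e) • v = v) (hv : (g * d * (g * e)) • v = v) : g • v = v := by
  obtain ⟨hm, hc⟩ := h.dir hD
  refine hD.r3 g h.hg _ hm hc v ?_
  rw [mul_mul_cancel hD.tts h.hg, mul_smul, inv_smul_eq_iff.2 hz.symm, hv]

/-- The vectors fixed by the commutator are fixed by the point. -/
theorem fix_point (hS : Sys Q V) (hD : Cls Q V D) (h : Tri D g d e) {v : V}
    (hz : zt (g * d) (g * e) • v = v) : g • v = v := by
  have h' := h.flip_right hD
  have hN := h.nilp hD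
  have fa : ∀ w : V, (g * d) • w = w → g • w = w := hD.r3 g h.hg d h.hd h.gd
  have fb : ∀ w : V, (g * e) • w = w → g • w = w := hD.r3 g h.hg e h.he h.ge
  have fab := fun w => h.fix_dir hD (v := w)
  have fab' := fun w => h'.fix_dir hD (v := w)
  rw [h.right_inv hD, hN.zt_inv_right] at fab'
  have h3 : (g * d * (g * e)) ^ 3 = 1 := by
    rw [← mul_assoc]; exact hD.pow_three (hD.conj_mem h.hg h.hd) h.he h.de'
  have h3' : (g * d * (g * e)⁻¹) ^ 3 = 1 := by
    rw [← h.right_inv hD, ← mul_assoc]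
    exact hD.pow_three (hD.conj_mem h'.hg h'.hd) h'.he h'.de'
  generalize g * d = a at fa fab fab' h3 h3' hN hz
  generalize g * e = b at fb fab fab' h3 h3' hN hz
  have zfix : ∀ x : Q, Commute x (zt a b) → zt a b • Nm x v = Nm x v := fun x hx => by
    rw [smul_nm_of_commute hx.symm, hz]
  have g1 : g • Nm a v = Nm a v := fa _ (nm_fixed hN.a3 v)
  have g2 : g • Nm b v = Nm b v := fb _ (nm_fixed hN.b3 v)
  have g3 : g • Nm (a * b) v = Nm (a * b) v :=
    fab _ (zfix _ (hN.ca.mul_left hN.cb)) (nm_fixed h3 v)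
  have g4 : g • Nm (a * b⁻¹) v = Nm (a * b⁻¹) v :=
    fab' _ (inv_smul_eq_iff.2 (zfix _ (hN.ca.mul_left hN.cb.inv_left)).symm) (nm_fixed h3' v)
  have g5 : g • Nm a (Nm b v) = Nm a (Nm b v) := fa _ (nm_fixed hN.a3 _)
  have key : ∀ w : V, zt a b • w = w → b • a • w = a • b • w := fun w hw => by
    rw [smul_smul, smul_smul, hN.swap_mul, mul_smul, hw]
  have zs : ∀ w : V, zt a b • w = w → zt a b • a • w = a • w ∧ zt a b • b • w = b • w :=
    fun w hw => ⟨by rw [smul_smul, ← hN.ca.eq, mul_smul, hw],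
      by rw [smul_smul, ← hN.cb.eq, mul_smul, hw]⟩
  have hb4 : ∀ w : V, b • b • b • w = w := fun w => by
    rw [smul_smul, smul_smul, ← pow_three', hN.b3, one_smul]
  have t1 : Nm (a * b) v = v + a • b • v + a • a • b • b • v := by
    simp only [Nm, mul_smul]
    rw [key (b • v) (zs v hz).2]
  have t2 : Nm (a * b⁻¹) v = v + a • b • b • v + a • a • b • v := by
    rw [← sq_eq_inv hN.b3]
    simp only [Nm, mul_smul]
    rw [key (b • b • v) (zs _ (zs v hz).2).2, hb4, key v hz]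
  have tot : v = Nm a v + Nm b v + Nm (a * b) v + Nm (a * b⁻¹) v + Nm a (Nm b v) := by
    rw [t1, t2]
    simp only [Nm, smul_add]
    have : ∀ A B C E F G H I K : V, (A + B + C) + (A + E + F) + (A + G + H) + (A + I + K) +
        (A + E + F + (B + G + I) + (C + K + H)) = A := fun A B C E F G H I K => by
      calc (A + B + C) + (A + E + F) + (A + G + H) + (A + I + K) +
          (A + E + F + (B + G + I) + (C + K + H))
          = (A + A) + (A + A) + (B + B) + (C + C) + (E + E) + (F + F) + (G + G) + (H + H) +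
            (I + I) + (K + K) + A := by abel
        _ = A := by simp only [hS.char2, zero_add]
    exact (this _ _ _ _ _ _ _ _ _).symm
  rw [tot]
  simp only [smul_add, g1, g2, g3, g4, g5]

end Tri

end Cfsg.Agent.Transpos.TwoRad
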