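import Cfsg.Agent.Lib.Transpos.TwoRadicalFusion

/-!
# Shifts of a `Cls`

A family of shifts (`Shift`) records the classes of 3-transpositions of an extension lying over
the given one; every shift of `d` lies in the commutator space of `d`.
-/

set_option autoImplicit false
set_option linter.unusedSectionVars false

namespace Cfsg.Agent.Transpos.TwoRad

variable {Q : Type*} [Group Q] {V : Type*} [AddCommGroup V] [DistribMulAction Q V] {D : Set Q}

/-- The shifts `v` at `d`: `v + d` lies in a second class over `D`. -/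
structure Shift (D : Set Q) (Sh : Q → V → Prop) : Prop where
  fixed : ∀ d v, Sh d v → d • v = v
  total : ∀ d ∈ D, ∃ v, Sh d v
  glue : ∀ d ∈ D, ∀ f ∈ D, ¬ Commute d f → ∀ v w, Sh d v → Sh f w →
    Nm (d * f) v = Nm (d * f) w
  conj : ∀ (g d : Q) (v : V), Sh d v → Sh (g * d * g⁻¹) (g • v)
  fix0 : ∀ u : V, (∀ q : Q, q • u = u) → u = 0

variable [Finite Q] (hS : Sys Q V) (hD : Cls Q V D) {Sh : Q → V → Prop} (hSh : Shift D Sh)
include hS hD hSh

theorem shift_add_nm {d f : Q} (hd : d ∈ D) (hf : f ∈ D) (h : ¬ Commute d f) {v : V}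
    (hv : Sh d v) : InU d (v + Nm (d * f) v) := by
  obtain ⟨α, β, hα, hβ, he⟩ := hD.decomp hS hd hf h v
  have hN := nm_fixed (hD.pow_three hd hf h) v
  have hfix := hSh.fixed d v hv
  rw [he, smul_add, smul_add, (hD.fix_both hd hf h hN).1, hD.fix_self hd hα] at hfix
  have h0 := hD.inU_eq_zero hS hf hd (fun c => h c.symm) hβ (add_left_cancel hfix)
  have : v + Nm (d * f) v = α := by
    conv_lhs => lhs; rw [he, h0, add_zero]
    rw [add_comm, hS.cancel]
  rwa [this]

theorem shift_diff {d f : Q} (hd : d ∈ D) (hf : f ∈ D) (h : ¬ Commute d f) {v v' : V}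
    (hv : Sh d v) (hv' : Sh d v') : InU d (v + v') := by
  obtain ⟨w, hw⟩ := hSh.total f hf
  have h1 := (shift_add_nm hS hD hSh hd hf h hv).add (shift_add_nm hS hD hSh hd hf h hv')
  rw [hSh.glue d hd f hf h v w hv hw, hSh.glue d hd f hf h v' w hv' hw, add_add_add_comm,
    hS.char2, add_zero] at h1
  exact h1

omit hS hSh
variable {sh : Q → V}

/-- Two neighbours which commute give the same value. -/
theorem nm_eq_of_commute (hS : Sys Q V) (hSh : Shift D Sh) (hsh : ∀ q ∈ D, Sh q (sh q))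
    {d f g : Q} (hd : d ∈ D) (hf : f ∈ D) (hg : g ∈ D) (hdf : ¬ Commute d f)
    (hdg : ¬ Commute d g) (hfg : Commute f g) :
    Nm (d * f) (sh d) = Nm (d * g) (sh d) := by
  by_cases hne : f = g
  · rw [hne]
  set u1 := Nm (d * f) (sh d) with hu1
  set u2 := Nm (d * g) (sh d) with hu2
  have hgu2 : g • u2 = u2 := (hD.fix_both hd hg hdg (nm_fixed (hD.pow_three hd hg hdg) _)).2
  have hfd : ¬ Commute f d := fun c => hdf c.symm
  have hU : InU f (sh f + u1) := by
    rw [hu1, hSh.glue d hd f hf hdf _ _ (hsh d hd) (hsh f hf), ← hD.nm_swap hd hf hdf]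
    exact shift_add_nm hS hD hSh hf hd hfd (hsh f hf)
  have hsh' : Sh f (g • sh f) := by
    have := hSh.conj g f (sh f) (hsh f hf)
    rwa [hfg.symm.eq, mul_inv_cancel_right] at this
  have hf1 : InU f (u1 + g • u1) := by
    have e : g • (sh f + u1) = sh f + u1 := hD.fix_of_commute hf hg hfg hU
    have e2 : u1 + g • u1 = sh f + g • sh f := by
      rw [smul_add] at e
      refine hS.eq_of_add_eq_zero ?_
      calc u1 + g • u1 + (sh f + g • sh f) = (sh f + u1) + (g • sh f + g • u1) := by abel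
        _ = 0 := by rw [e, hS.char2]
    rw [e2]
    exact shift_diff hS hD hSh hf hd hfd (hsh f hf) hsh'
  have hfix : g • u1 = u1 := (hS.eq_of_add_eq_zero
    (hD.inter_eq_zero hS hf hg hne hf1 ⟨u1, rfl⟩)).symm
  refine hS.eq_of_add_eq_zero (hD.inU_eq_zero hS hd hg hdg ?_ (f := g) ?_)
  · have h1 := (shift_add_nm hS hD hSh hd hf hdf (hsh d hd)).add
      (shift_add_nm hS hD hSh hd hg hdg (hsh d hd))
    rwa [add_add_add_comm, hS.char2, zero_add] at h1
  · rw [smul_add, hfix, hgu2]

/-- All neighbours give the same value. -/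
theorem nm_eq (hS : Sys Q V) (hSh : Shift D Sh) (hsh : ∀ q ∈ D, Sh q (sh q))
    {d f g : Q} (hd : d ∈ D) (hf : f ∈ D) (hg : g ∈ D) (hdf : ¬ Commute d f)
    (hdg : ¬ Commute d g) : Nm (d * f) (sh d) = Nm (d * g) (sh d) := by
  by_cases hfg : Commute f g
  · exact nm_eq_of_commute hD hS hSh hsh hd hf hg hdf hdg hfg
  have ht := hD.conj_mem hd hf
  have hdt : ¬ Commute d (d * f * d) := fun c => hdf ((commute_conj_self_iff hD hd f).1 c)
  have hline : Nm (d * f) (sh d) = Nm (d * (d * f * d)) (sh d) := by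
    rw [mul_assoc d f d, mul_mul_cancel hD.tts hd, hD.nm_swap hd hf hdf]
  by_cases hgt : Commute g (d * f * d)
  · rw [hline]; exact nm_eq_of_commute hD hS hSh hsh hd ht hg hdt hdg hgt.symm
  have hgd : ¬ Commute g d := fun c => hdg c.symm
  have hgf : ¬ Commute g f := fun c => hfg c.symm
  have hT : Tri D g d f := by
    refine ⟨hg, hd, hf, hgd, hgf, hdf, fun c => hgt ?_⟩
    rw [braid hD.tts hg hd hgd] at c
    have := (commute_conj_iff hD hd (d * g * d) f).2 c
    rwa [conj_involutive hD.tts hd] at this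
  -- the difference at `g` vanishes
  set δ := Nm (g * d) (sh g) + Nm (g * f) (sh g) with hδ
  have hδU : InU g δ := by
    have h1 := (shift_add_nm hS hD hSh hg hd hgd (hsh g hg)).add
      (shift_add_nm hS hD hSh hg hf hgf (hsh g hg))
    rwa [add_add_add_comm, hS.char2, zero_add] at h1
  have eg1 : Nm (d * g) (sh d) = Nm (g * d) (sh g) := by
    rw [hSh.glue d hd g hg hdg _ _ (hsh d hd) (hsh g hg), ← hD.nm_swap hd hg hdg]
  have eg2 : Nm (f * g) (sh f) = Nm (g * f) (sh g) := by
    rw [hSh.glue f hf g hg hfg _ _ (hsh f hf) (hsh g hg), ← hD.nm_swap hf hg hfg]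
  have eg3 : Nm (d * f) (sh d) = Nm (f * d) (sh f) := by
    rw [hSh.glue d hd f hf hdf _ _ (hsh d hd) (hsh f hf), ← hD.nm_swap hd hf hdf]
  set δd := Nm (d * f) (sh d) + Nm (d * g) (sh d) with hδd
  set δf := Nm (f * d) (sh f) + Nm (f * g) (sh f) with hδf
  have hδdU : InU d δd := by
    have h1 := (shift_add_nm hS hD hSh hd hf hdf (hsh d hd)).add
      (shift_add_nm hS hD hSh hd hg hdg (hsh d hd))
    rwa [add_add_add_comm, hS.char2, zero_add] at h1
  have hfd : ¬ Commute f d := fun c => hdf c.symm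
  have hδfU : InU f δf := by
    have h1 := (shift_add_nm hS hD hSh hf hd hfd (hsh f hf)).add
      (shift_add_nm hS hD hSh hf hg hfg (hsh f hf))
    rwa [add_add_add_comm, hS.char2, zero_add] at h1
  have hsum : δd + δf = δ := by
    rw [hδd, hδf, hδ, ← eg1, ← eg2, ← eg3, add_add_add_comm, hS.char2, zero_add]
  have hk : Nm (d * f) δ = 0 := by
    rw [← hsum, nm_add, hD.nm_inU hS hd hf hdf hδdU, hD.nm_inU_right hS hd hf hdf hδfU, add_zero]
  have hN := hT.nilp hD
  have hz : Nm (zt (g * d) (g * f)) δ = 0 := by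
    obtain ⟨w, hw⟩ := hδU
    have hzfix : zt (g * d) (g * f) • Nm (zt (g * d) (g * f)) w =
        Nm (zt (g * d) (g * f)) w := nm_fixed hN.z3 w
    have hgz : Commute g (zt (g * d) (g * f)) := mul_inv_eq_iff_eq_mul.1 (hT.conj_zt hD)
    rw [hw, nm_add, ← smul_nm_of_commute hgz, hT.fix_point hS hD hzfix, hS.char2]
  -- the three lifts of the direction of `d f`
  have hdf' : d * f = (g * d)⁻¹ * (g * f) := by
    rw [hD.mul_inv hg hd, mul_assoc, mul_mul_cancel hD.tts hg]
  have hc : Commute (d * f) (zt (g * d) (g * f)) := by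
    rw [hdf']; exact hN.ca.inv_left.mul_left hN.cb
  have hsum3 := nm_sum_three hS hN.z3 hc hz
  have h1 : Nm (d * f * zt (g * d) (g * f)) δ = 0 := by
    obtain ⟨hm, hnc⟩ := (hT.flip_left hD).dir hD
    rw [hT.left_inv hD, hN.zt_inv_left, inv_inv, ← hdf'] at hm hnc
    have := hD.nm_inU hS hg hm hnc hδU
    rwa [mul_mul_cancel hD.tts hg] at this
  have h2 : Nm (d * f * (zt (g * d) (g * f))⁻¹) δ = 0 := by
    have hc3 : (d * f * (zt (g * d) (g * f))⁻¹) ^ 3 = 1 := by
      rw [hc.inv_right.mul_pow, hD.pow_three hd hf hdf, inv_pow, hN.z3, inv_one, one_mul]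
    have e : g * (d * f) * g⁻¹ = (d * f * (zt (g * d) (g * f))⁻¹)⁻¹ := by
      have ha : g * (g * d) * g⁻¹ = (g * d)⁻¹ := by
        rw [mul_mul_cancel hD.tts hg, inv_eq hD.tts hg, hD.mul_inv hg hd]
      have hb : g * (g * f) * g⁻¹ = (g * f)⁻¹ := by
        rw [mul_mul_cancel hD.tts hg, inv_eq hD.tts hg, hD.mul_inv hg hf]
      rw [hdf']
      generalize g * d = a at hN ha
      generalize g * f = b at hN hb
      have e1 : b * a⁻¹ = a⁻¹ * b * (zt a b)⁻¹ := by
        calc b * a⁻¹ = (zt a b)⁻¹ * (a⁻¹ * b) := by rw [zt]; group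
          _ = a⁻¹ * b * (zt a b)⁻¹ := ((hN.ca.inv_left.mul_left hN.cb).inv_right).symm
      calc g * (a⁻¹ * b) * g⁻¹ = (g * a * g⁻¹)⁻¹ * (g * b * g⁻¹) := by group
        _ = (b * a⁻¹)⁻¹ := by rw [ha, hb]; group
        _ = (a⁻¹ * b * (zt a b)⁻¹)⁻¹ := by rw [e1]
    have := congrArg (fun x => g • x) hk
    simp only [smul_nm, e, smul_zero, hD.fix_self hg hδU] at this
    rwa [nm_inv hc3] at this
  have hδ0 : δ = 0 := by rw [← hsum3, hk, h1, h2, add_zero, add_zero]
  rw [hδ0] at hsum
  have heq : δd = δf := hS.eq_of_add_eq_zero hsum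
  have hne : d ≠ f := fun he => hdf (he ▸ Commute.refl d)
  have hf' : InU f δd := by rw [heq]; exact hδfU
  exact hS.eq_of_add_eq_zero (hD.inter_eq_zero hS hd hf hne hδdU hf')

omit hD

/-- Every shift of `d` lies in the commutator space of `d`. -/
theorem inU_of_shift (hS : Sys Q V) (hD : Cls Q V D) (hSh : Shift D Sh)
    (htr : ∀ d ∈ D, ∀ e ∈ D, ∃ g : Q, g * d * g⁻¹ = e) {d : Q} (hd : d ∈ D)
    {v : V} (hv : Sh d v) : InU d v := by
  classical
  have hadj : ∀ q ∈ D, ∃ f ∈ D, ¬ Commute q f := by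
    intro q hq
    by_contra hcon
    push Not at hcon
    refine ne_one hD.tts hq (hS.central_eq_one (sq_one hD.tts hq) fun g => ?_)
    have hg : g ∈ Subgroup.closure D := hD.gen ▸ Subgroup.mem_top g
    induction hg using Subgroup.closure_induction with
    | mem g hg => exact (hcon g hg).symm
    | one => exact Commute.one_left q
    | mul _ _ _ _ h1 h2 => exact h1.mul_left h2
    | inv _ _ h1 => exact h1.inv_left
  choose! nb hnb hnc using hadj
  choose! sh hsh using hSh.total
  obtain ⟨u, hu⟩ : ∃ u, u = fun q => Nm (q * nb q) (sh q) := ⟨_, rfl⟩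
  have hval : ∀ q ∈ D, ∀ f ∈ D, ¬ Commute q f → u q = Nm (q * f) (sh q) := fun q hq f hf h => by
    rw [hu]; exact nm_eq hD hS hSh hsh hq (hnb q hq) hf (hnc q hq) h
  have hedge : ∀ q ∈ D, ∀ f ∈ D, ¬ Commute q f → u q = u f := by
    intro q hq f hf h
    rw [hval q hq f hf h, hval f hf q hq (fun c => h c.symm),
      hSh.glue q hq f hf h _ _ (hsh q hq) (hsh f hf), hD.nm_swap hq hf h]
  have hconj : ∀ g : Q, ∀ q ∈ D, u (g * q * g⁻¹) = u q := by
    intro g
    have hg : g ∈ Subgroup.closure D := hD.gen ▸ Subgroup.mem_top g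
    induction hg using Subgroup.closure_induction with
    | mem g hg =>
      intro q hq
      rw [inv_eq hD.tts hg]
      by_cases h : Commute g q
      · rw [conj_of_commute hD.tts hg h]
      · refine (hedge q hq _ (hD.conj_mem hg hq) fun c => h ?_).symm
        rw [braid hD.tts hg hq h] at c
        exact ((commute_conj_self_iff hD hq g).1 c).symm
    | one => intro q _; simp
    | mul p p' _ _ hp hp' =>
      intro q hq
      rw [show p * p' * q * (p * p')⁻¹ = p * (p' * q * p'⁻¹) * p⁻¹ by group,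
        hp _ (hD.conj p' q hq), hp' q hq]
    | inv p _ hp =>
      intro q hq
      rw [← hp (p⁻¹ * q * p⁻¹⁻¹) (hD.conj p⁻¹ q hq)]
      congr 1
      group
  have hconst : ∀ q ∈ D, u q = u d := fun q hq => by
    obtain ⟨g, hg⟩ := htr d hd q hq
    rw [← hg, hconj g d hd]
  -- the common value is fixed by the group
  have h0 : u d = 0 := by
    refine hSh.fix0 _ fun g => ?_
    have hg : g ∈ Subgroup.closure D := hD.gen ▸ Subgroup.mem_top g
    induction hg using Subgroup.closure_induction with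
    | mem g hg =>
      rw [← hconst g hg, hval g hg _ (hnb g hg) (hnc g hg)]
      exact (hD.fix_both hg (hnb g hg) (hnc g hg)
        (nm_fixed (hD.pow_three hg (hnb g hg) (hnc g hg)) _)).1
    | one => exact one_smul Q _
    | mul p p' _ _ hp hp' => rw [mul_smul, hp', hp]
    | inv p _ hp => rw [inv_smul_eq_iff, hp]
  have h1 := shift_add_nm hS hD hSh hd (hnb d hd) (hnc d hd) (hsh d hd)
  rw [← hval d hd _ (hnb d hd) (hnc d hd), h0, add_zero] at h1
  have h2 := (shift_diff hS hD hSh hd (hnb d hd) (hnc d hd) hv (hsh d hd)).add h1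
  rwa [add_assoc, hS.char2, add_zero] at h2

end Cfsg.Agent.Transpos.TwoRad
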