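import Cfsg.Agent.Lib.Transpos.Basic
import Cfsg.Agent.Lib.PCore.Basic

/-!
# Classes of 3-transpositions acting on a module of characteristic 2

`Cls D`: a generating normal set of 3-transpositions of a group `Q` acting on an elementary
abelian 2-group, with the two properties enjoyed by the images of a class of 3-transpositions
of an extension: commuting members fix each other's commutator spaces, and a vector fixed by
the product of two non-commuting members is fixed by both.
-/

set_option autoImplicit false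

namespace Cfsg.Agent.Transpos.TwoRad

open Cfsg

variable {Q : Type*} [Group Q] {V : Type*} [AddCommGroup V] [DistribMulAction Q V]

/-- The module is elementary abelian and faithful, and `O₂(Q) = 1`. -/
structure Sys (Q : Type*) [Group Q] (V : Type*) [AddCommGroup V] [DistribMulAction Q V] : Prop where
  char2 : ∀ v : V, v + v = 0
  faithful : ∀ q : Q, (∀ v : V, q • v = v) → q = 1
  core : ∀ N : Subgroup Q, N.Normal → IsPGroup 2 N → N = ⊥

/-- Members of the commutator space `[V, d]`. -/
def InU (d : Q) (u : V) : Prop := ∃ w : V, u = w + d • w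

/-- The sum over the group generated by an element of order 3. -/
def Nm (x : Q) (v : V) : V := v + x • v + x • x • v

/-- The properties of the image of a class of 3-transpositions. -/
structure Cls (Q : Type*) [Group Q] (V : Type*) [AddCommGroup V] [DistribMulAction Q V]
    (D : Set Q) : Prop where
  tts : IsThreeTranspositionSet D
  conj : ∀ g : Q, ∀ d ∈ D, g * d * g⁻¹ ∈ D
  gen : Subgroup.closure D = ⊤
  r2 : ∀ d ∈ D, ∀ f ∈ D, Commute d f → ∀ v : V, f • (v + d • v) = v + d • v
  r3 : ∀ d ∈ D, ∀ f ∈ D, ¬ Commute d f → ∀ v : V, (d * f) • v = v → d • v = v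

section char2

variable (hS : Sys Q V)
include hS

theorem Sys.neg (v : V) : -v = v := neg_eq_of_add_eq_zero_left (hS.char2 v)

theorem Sys.cancel (v w : V) : v + (v + w) = w := by rw [← add_assoc, hS.char2, zero_add]

theorem Sys.eq_of_add_eq_zero {v w : V} (h : v + w = 0) : v = w := by
  rw [eq_neg_of_add_eq_zero_left h, hS.neg]

theorem Sys.three (v : V) : v + v + v = v := by rw [hS.char2, zero_add]

/-- An involution centralising the whole group is trivial. -/
theorem Sys.central_eq_one {z : Q} (h2 : z * z = 1) (hc : ∀ g : Q, Commute g z) : z = 1 := by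
  have hn : (Subgroup.zpowers z).Normal := by
    refine ⟨fun n hn g => ?_⟩
    obtain ⟨k, rfl⟩ := hn
    rw [((hc g).zpow_right k).eq, mul_inv_cancel_right]
    exact ⟨k, rfl⟩
  have hp : IsPGroup 2 (Subgroup.zpowers z) := by
    intro n
    obtain ⟨k, hk⟩ := n.2
    refine ⟨1, Subtype.ext ?_⟩
    rw [Subgroup.coe_pow, ← hk, pow_one, ← zpow_natCast, ← zpow_mul, mul_comm, zpow_mul,
      zpow_natCast, pow_two, h2, one_zpow, Subgroup.coe_one]
  exact Subgroup.zpowers_eq_bot.1 (hS.core _ hn hp)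

end char2

/-! ### The operator `Nm` -/

theorem smul_nm {g x : Q} (v : V) : g • Nm x v = Nm (g * x * g⁻¹) (g • v) := by
  simp [Nm, smul_add, smul_smul, mul_assoc]

theorem smul_nm_of_commute {g x : Q} (h : Commute g x) (v : V) : g • Nm x v = Nm x (g • v) := by
  rw [smul_nm, h.eq, mul_inv_cancel_right]

theorem nm_add (x : Q) (v w : V) : Nm x (v + w) = Nm x v + Nm x w := by
  simp only [Nm, smul_add]; abel

theorem nm_zero (x : Q) : Nm x (0 : V) = 0 := by simp [Nm]

theorem sq_eq_inv {x : Q} (hx : x ^ 3 = 1) : x * x = x⁻¹ :=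
  eq_inv_of_mul_eq_one_left (by rw [← pow_three', hx])

theorem nm_fixed {x : Q} (hx : x ^ 3 = 1) (v : V) : x • Nm x v = Nm x v := by
  have h : x • x • x • v = v := by rw [smul_smul, smul_smul, ← pow_three', hx, one_smul]
  simp only [Nm, smul_add, h]
  abel

theorem nm_inv {x : Q} (hx : x ^ 3 = 1) (v : V) : Nm x⁻¹ v = Nm x v := by
  have h2 : x⁻¹ * x⁻¹ = x := by rw [← mul_inv_rev, sq_eq_inv hx, inv_inv]
  simp only [Nm, smul_smul, h2, sq_eq_inv hx]
  abel

theorem nm_of_fixed (hS : Sys Q V) {x : Q} {v : V} (h : x • v = v) : Nm x v = v := by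
  simp only [Nm, h]; exact hS.three v

theorem nm_nm (hS : Sys Q V) {x : Q} (hx : x ^ 3 = 1) (v : V) : Nm x (Nm x v) = Nm x v :=
  nm_of_fixed hS (nm_fixed hx v)

theorem nm_self_add (hS : Sys Q V) {x : Q} (hx : x ^ 3 = 1) (v : V) : Nm x (v + Nm x v) = 0 := by
  rw [nm_add, nm_nm hS hx, hS.char2]

/-- On the vectors moved by the central element `z`, the three lifts `x`, `xz`, `xz⁻¹` give a
partition of the identity. -/
theorem nm_sum_three (hS : Sys Q V) {x z : Q} (hz : z ^ 3 = 1) (hc : Commute x z) {v : V}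
    (hv : Nm z v = 0) : Nm x v + Nm (x * z) v + Nm (x * z⁻¹) v = v := by
  have h1 : (x * z) • (x * z) • v = (x * x) • z • z • v := by
    simp only [smul_smul]
    congr 1
    rw [show x * z * (x * z) = x * (z * x) * z by group, ← hc.eq]
    group
  have h2 : (x * z⁻¹) • (x * z⁻¹) • v = (x * x) • z • v := by
    simp only [smul_smul]
    congr 1
    rw [show x * z⁻¹ * (x * z⁻¹) = x * (z⁻¹ * x) * z⁻¹ by group, ← hc.inv_right.eq,
      show x * (x * z⁻¹) * z⁻¹ = x * x * (z⁻¹ * z⁻¹) by group,
      show z⁻¹ * z⁻¹ = z by rw [← mul_inv_rev, sq_eq_inv hz, inv_inv]]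
  have h3 : (x * z) • v = x • z • v := mul_smul x z v
  have h4 : (x * z⁻¹) • v = x • z • z • v := by rw [mul_smul, ← sq_eq_inv hz, mul_smul]
  have h5 : x • Nm z v + (x * x) • Nm z v = 0 := by rw [hv, smul_zero, smul_zero, add_zero]
  calc Nm x v + Nm (x * z) v + Nm (x * z⁻¹) v
      = v + v + v + (x • Nm z v + (x * x) • Nm z v) := by
        simp only [Nm, smul_add, h1, h2, ← mul_smul x x]
        simp only [h3, h4]
        abel
    _ = v := by rw [h5, hS.three, add_zero]

/-! ### The commutator spaces -/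

theorem InU.smul {d : Q} {u : V} (h : InU d u) (g : Q) : InU (g * d * g⁻¹) (g • u) := by
  obtain ⟨w, rfl⟩ := h
  exact ⟨g • w, by simp [smul_add, smul_smul, mul_assoc]⟩

theorem InU.add {d : Q} {u u' : V} (h : InU d u) (h' : InU d u') : InU d (u + u') := by
  obtain ⟨w, rfl⟩ := h
  obtain ⟨w', rfl⟩ := h'
  exact ⟨w + w', by rw [smul_add]; abel⟩

variable {D : Set Q}

theorem Cls.fix_self (hD : Cls Q V D) {d : Q} (hd : d ∈ D) {u : V} (h : InU d u) : d • u = u := by
  obtain ⟨w, rfl⟩ := h
  rw [smul_add, smul_smul, sq_one hD.tts hd, one_smul, add_comm]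

theorem Cls.fix_of_commute (hD : Cls Q V D) {d f : Q} (hd : d ∈ D) (hf : f ∈ D)
    (h : Commute d f) {u : V} (hu : InU d u) : f • u = u := by
  obtain ⟨w, rfl⟩ := hu
  exact hD.r2 d hd f hf h w

theorem Cls.conj_mem (hD : Cls Q V D) {g d : Q} (hg : g ∈ D) (hd : d ∈ D) : g * d * g ∈ D := by
  have := hD.conj g d hd
  rwa [inv_eq hD.tts hg] at this

theorem Cls.smul_inU (hD : Cls Q V D) {g d : Q} (hg : g ∈ D) {u : V} (h : InU d u) :
    InU (g * d * g) (g • u) := by
  have := h.smul g
  rwa [inv_eq hD.tts hg] at this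

theorem Cls.fix_both (hD : Cls Q V D) {d f : Q} (hd : d ∈ D) (hf : f ∈ D) (h : ¬ Commute d f)
    {v : V} (hv : (d * f) • v = v) : d • v = v ∧ f • v = v := by
  have h1 := hD.r3 d hd f hf h v hv
  refine ⟨h1, ?_⟩
  rw [mul_smul] at hv
  exact smul_left_cancel d (hv.trans h1.symm)

theorem Cls.pow_three (hD : Cls Q V D) {d f : Q} (hd : d ∈ D) (hf : f ∈ D) (h : ¬ Commute d f) :
    (d * f) ^ 3 = 1 := pow_three_of_not_commute hD.tts hd hf h

theorem Cls.mul_inv (hD : Cls Q V D) {d f : Q} (hd : d ∈ D) (hf : f ∈ D) : (d * f)⁻¹ = f * d := by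
  rw [mul_inv_rev, inv_eq hD.tts hd, inv_eq hD.tts hf]

theorem Cls.nm_swap (hD : Cls Q V D) {d f : Q} (hd : d ∈ D) (hf : f ∈ D) (h : ¬ Commute d f)
    (v : V) : Nm (f * d) v = Nm (d * f) v := by
  rw [← hD.mul_inv hd hf, nm_inv (hD.pow_three hd hf h)]

theorem Cls.smul_nm_left (hD : Cls Q V D) {d f : Q} (hd : d ∈ D) (hf : f ∈ D)
    (h : ¬ Commute d f) (v : V) : d • Nm (d * f) v = Nm (d * f) (d • v) := by
  rw [smul_nm, inv_eq hD.tts hd, mul_mul_cancel hD.tts hd, hD.nm_swap hd hf h]

theorem Cls.nm_inU (hS : Sys Q V) (hD : Cls Q V D) {d f : Q} (hd : d ∈ D) (hf : f ∈ D)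
    (h : ¬ Commute d f) {u : V} (hu : InU d u) : Nm (d * f) u = 0 := by
  obtain ⟨w, rfl⟩ := hu
  rw [nm_add, ← hD.smul_nm_left hd hf h,
    hD.r3 d hd f hf h _ (nm_fixed (hD.pow_three hd hf h) w), hS.char2]

theorem Cls.nm_inU_right (hS : Sys Q V) (hD : Cls Q V D) {d f : Q} (hd : d ∈ D) (hf : f ∈ D)
    (h : ¬ Commute d f) {u : V} (hu : InU f u) : Nm (d * f) u = 0 := by
  rw [← hD.nm_swap hd hf h]
  exact hD.nm_inU hS hf hd (fun h' => h h'.symm) hu

theorem Cls.inU_eq_zero (hS : Sys Q V) (hD : Cls Q V D) {d f : Q} (hd : d ∈ D) (hf : f ∈ D)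
    (h : ¬ Commute d f) {u : V} (hu : InU d u) (hfu : f • u = u) : u = 0 := by
  rw [← hD.nm_inU hS hd hf h hu, nm_of_fixed hS]
  rw [mul_smul, hfu, hD.fix_self hd hu]

theorem Cls.decomp (hS : Sys Q V) (hD : Cls Q V D) {d f : Q} (hd : d ∈ D) (hf : f ∈ D)
    (h : ¬ Commute d f) (v : V) :
    ∃ α β : V, InU d α ∧ InU f β ∧ v = Nm (d * f) v + α + β := by
  set k := v + Nm (d * f) v with hk
  have hk0 : Nm (d * f) k = 0 := nm_self_add hS (hD.pow_three hd hf h) v
  refine ⟨(k + f • k) + d • (k + f • k), (k + d • k) + f • (k + d • k), ⟨_, rfl⟩, ⟨_, rfl⟩, ?_⟩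
  have hk1 : k = (d * f) • k + (f * d) • k := by
    have h1 : (d * f) • (d * f) • k = (f * d) • k := by
      rw [smul_smul, sq_eq_inv (hD.pow_three hd hf h), hD.mul_inv hd hf]
    rw [Nm, h1, add_assoc] at hk0
    exact hS.eq_of_add_eq_zero hk0
  have h2 : (k + f • k) + d • (k + f • k) + ((k + d • k) + f • (k + d • k))
      = (k + k) + ((d • k + d • k) + ((f • k + f • k) + ((d * f) • k + (f * d) • k))) := by
    simp only [smul_add, mul_smul]; abel
  rw [add_assoc, h2, hS.char2, hS.char2, hS.char2, zero_add, zero_add, zero_add, ← hk1, hk,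
    add_comm v, hS.cancel]

theorem Cls.exists_inU_ne_zero (hS : Sys Q V) (hD : Cls Q V D) {d : Q} (hd : d ∈ D) :
    ∃ u : V, InU d u ∧ u ≠ 0 := by
  by_contra hcon
  apply ne_one hD.tts hd
  refine hS.faithful d fun v => ?_
  by_contra hne
  exact hcon ⟨v + d • v, ⟨v, rfl⟩, fun h0 => hne (hS.eq_of_add_eq_zero h0).symm⟩

/-! ### Twins -/

/-- Same commuting set. -/
def Twin (D : Set Q) (a b : Q) : Prop := a ∈ D ∧ b ∈ D ∧ ∀ g ∈ D, Commute g a ↔ Commute g b

theorem Twin.commute {a b : Q} (h : Twin D a b) : Commute a b :=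
  (h.2.2 a h.1).1 (Commute.refl a)

theorem Twin.symm {a b : Q} (h : Twin D a b) : Twin D b a :=
  ⟨h.2.1, h.1, fun g hg => (h.2.2 g hg).symm⟩

theorem Twin.trans {a b c : Q} (h : Twin D a b) (h' : Twin D b c) : Twin D a c :=
  ⟨h.1, h'.2.1, fun g hg => (h.2.2 g hg).trans (h'.2.2 g hg)⟩

theorem Twin.conj (hD : Cls Q V D) {a b : Q} (h : Twin D a b) (x : Q) :
    Twin D (x * a * x⁻¹) (x * b * x⁻¹) := by
  refine ⟨hD.conj x a h.1, hD.conj x b h.2.1, fun g hg => ?_⟩
  have h' := h.2.2 (x⁻¹ * g * x) (by simpa using hD.conj x⁻¹ g hg)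
  have key : ∀ c : Q, Commute (x⁻¹ * g * x) c ↔ Commute g (x * c * x⁻¹) := fun c => by
    conv_rhs => rw [show g = x * (x⁻¹ * g * x) * x⁻¹ by group]
    exact (SemiconjBy.conj_iff).symm
  rw [← key, ← key]
  exact h'

theorem Cls.twin_eq (hS : Sys Q V) [Finite Q] (hD : Cls Q V D) {s t : Q} (h : Twin D s t) :
    s = t := by
  set P : Set Q := {n | ∃ a b, Twin D a b ∧ n = a * b} with hP
  set N := Subgroup.closure P with hN
  have hPn : ∀ n ∈ P, ∀ x : Q, x * n * x⁻¹ ∈ P := by
    rintro _ ⟨a, b, hab, rfl⟩ x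
    exact ⟨_, _, hab.conj hD x, by group⟩
  have hNn : N.Normal := by
    constructor
    intro n hn x
    induction hn using Subgroup.closure_induction with
    | mem n hn => exact Subgroup.subset_closure (hPn n hn x)
    | one => simp [one_mem]
    | mul p q _ _ hp hq => simpa [mul_assoc] using mul_mem hp hq
    | inv p _ hp =>
      rw [show x * p⁻¹ * x⁻¹ = (x * p * x⁻¹)⁻¹ by group]
      exact inv_mem hp
  -- the members of `N` fix every twin class
  have hfix : ∀ n ∈ N, ∀ c ∈ D, Twin D c (n * c * n⁻¹) := by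
    intro n hn
    induction hn using Subgroup.closure_induction with
    | mem n hn =>
      obtain ⟨a, b, hab, rfl⟩ := hn
      intro c hc
      obtain ⟨ha, hb, hiff⟩ := hab
      by_cases hca : Commute c a
      · rw [(hca.mul_right ((hiff c hc).1 hca)).symm.eq, mul_inv_cancel_right]
        exact ⟨hc, hc, fun _ _ => Iff.rfl⟩
      · have hcb : ¬ Commute c b := fun h' => hca ((hiff c hc).2 h')
        have h1 := Twin.conj hD ⟨ha, hb, hiff⟩ c
        rw [inv_eq hD.tts hc, braid hD.tts hc ha hca, braid hD.tts hc hb hcb] at h1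
        have h2 := h1.symm.conj hD b
        rw [inv_eq hD.tts hb, conj_involutive hD.tts hb] at h2
        have hab' : Commute a b := Twin.commute ⟨ha, hb, hiff⟩
        have e : a * b * c * (a * b)⁻¹ = b * (a * c * a) * b := by
          rw [mul_inv_rev, inv_eq hD.tts ha, inv_eq hD.tts hb, hab'.eq]
          conv_lhs => rw [show b * a * c * (b * a) = b * a * c * (a * b) by rw [hab'.eq]]
          group
        rw [e]
        exact h2
    | one =>
      intro c hc
      rw [one_mul, inv_one, mul_one]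
      exact ⟨hc, hc, fun _ _ => Iff.rfl⟩
    | mul p q _ _ hp hq =>
      intro c hc
      have := (hp c hc).trans ((hq c hc).conj hD p)
      simpa [mul_assoc] using this
    | inv p _ hp =>
      intro c hc
      have h1 := hp (p⁻¹ * c * p) (by simpa using hD.conj p⁻¹ c hc)
      have h2 := h1.symm
      simpa [mul_assoc] using h2
  -- each generator lies in a normal 2-subgroup of `N`
  have hN2 : IsPGroup 2 N := by
    rw [← PCore.pCore_eq_top_iff, eq_top_iff]
    have hle : N ≤ (pCore 2 N).map N.subtype := by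
      rw [hN, Subgroup.closure_le]
      rintro _ ⟨a, b, hab, rfl⟩
      set W := Subgroup.closure {c | Twin D a c} with hW
      have hWi : ∀ w ∈ W, w * w = 1 ∧ ∀ c, Twin D a c → Commute w c := by
        intro w hw
        induction hw using Subgroup.closure_induction with
        | mem w hw => exact ⟨sq_one hD.tts hw.2.1, fun c hc => (hw.symm.trans hc).commute⟩
        | one => exact ⟨one_mul 1, fun c _ => Commute.one_left c⟩
        | mul p q hp' hq hp hq' =>
          have hpq : Commute p q := by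
            clear hq'
            induction hq using Subgroup.closure_induction with
            | mem q hq => exact hp.2 q hq
            | one => exact Commute.one_right p
            | mul _ _ _ _ h1 h2 => exact h1.mul_right h2
            | inv _ _ h1 => exact h1.inv_right
          refine ⟨?_, fun c hc => (hp.2 c hc).mul_left (hq'.2 c hc)⟩
          rw [show p * q * (p * q) = p * (q * p) * q by group, ← hpq.eq,
            show p * (p * q) * q = (p * p) * (q * q) by group, hp.1, hq'.1, one_mul]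
        | inv p _ hp =>
          refine ⟨?_, fun c hc => (hp.2 c hc).inv_left⟩
          rw [← mul_inv_rev, hp.1, inv_one]
      have hWn : (W.subgroupOf N).Normal := by
        constructor
        intro w hw n
        rw [Subgroup.mem_subgroupOf] at hw ⊢
        have : W ≤ W.comap (MulAut.conj (n : Q)).toMonoidHom := by
          rw [hW, Subgroup.closure_le]
          intro c hc
          exact Subgroup.subset_closure (hc.trans (hfix n n.2 c hc.2.1))
        simpa using this hw
      have h2 : IsPGroup 2 (W.subgroupOf N) := fun w => ⟨1, Subtype.ext (Subtype.ext (by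
        rw [pow_one, pow_two]
        simpa using (hWi _ w.2).1))⟩
      have habN : a * b ∈ N := Subgroup.subset_closure ⟨a, b, hab, rfl⟩
      refine ⟨⟨a * b, habN⟩, PCore.le_pCore (hN := hWn) h2 ?_, rfl⟩
      rw [Subgroup.mem_subgroupOf]
      exact mul_mem (Subgroup.subset_closure ⟨hab.1, hab.1, fun _ _ => Iff.rfl⟩)
        (Subgroup.subset_closure hab)
    intro n _
    obtain ⟨m, hm, hmn⟩ := hle n.2
    exact (Subtype.ext hmn : m = n) ▸ hm
  have h1 : s * t ∈ N := Subgroup.subset_closure ⟨s, t, h, rfl⟩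
  rw [hS.core N hNn hN2, Subgroup.mem_bot] at h1
  exact (eq_inv_of_mul_eq_one_left h1).trans (inv_eq hD.tts h.2.1)

theorem Cls.separate (hS : Sys Q V) [Finite Q] (hD : Cls Q V D) {s t : Q} (hs : s ∈ D)
    (ht : t ∈ D) (hne : s ≠ t) :
    ∃ g ∈ D, (¬ Commute g s ∧ Commute g t) ∨ (Commute g s ∧ ¬ Commute g t) := by
  by_contra hcon
  push Not at hcon
  refine hne (hD.twin_eq hS ⟨hs, ht, fun g hg => ⟨fun h => ?_, fun h => ?_⟩⟩)
  · exact (hcon g hg).2 h
  · by_contra h'
    exact (hcon g hg).1 h' h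

theorem Cls.inter_eq_zero (hS : Sys Q V) [Finite Q] (hD : Cls Q V D) {s t : Q} (hs : s ∈ D)
    (ht : t ∈ D) (hne : s ≠ t) {u : V} (h1 : InU s u) (h2 : InU t u) : u = 0 := by
  obtain ⟨g, hg, ⟨a, b⟩ | ⟨a, b⟩⟩ := hD.separate hS hs ht hne
  · exact hD.inU_eq_zero hS hs hg (fun h => a h.symm) h1 (hD.fix_of_commute ht hg b.symm h2)
  · exact hD.inU_eq_zero hS ht hg (fun h => b h.symm) h2 (hD.fix_of_commute hs hg a.symm h1)

end Cfsg.Agent.Transpos.TwoRad
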