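import Mathlib

/-!
# Products of a bit-indexed family of commuting involutions
-/

set_option autoImplicit false

namespace Cfsg.Agent.Transpos.L6

variable {M N : Type*} [Monoid M] [Monoid N]

/-- The product of `f i` over the bits `i < n` of `x`. -/
def bprod (f : ℕ → M) : ℕ → ℕ → M
  | 0, _ => 1
  | n + 1, x => bprod f n x * if x.testBit n then f n else 1

theorem bprod_zero (f : ℕ → M) : ∀ n, bprod f n 0 = 1
  | 0 => rfl
  | n + 1 => by simp [bprod, bprod_zero f n]

theorem bprod_map (φ : M →* N) (f : ℕ → M) : ∀ n x, φ (bprod f n x) = bprod (fun i => φ (f i)) n x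
  | 0, _ => map_one φ
  | n + 1, x => by simp only [bprod, map_mul, bprod_map φ f n x, apply_ite φ, map_one]

theorem bprod_congr {f g : ℕ → M} : ∀ {n} (_ : ∀ i < n, f i = g i) (x : ℕ), bprod f n x = bprod g n x
  | 0, _, _ => rfl
  | n + 1, h, x => by
    simp only [bprod, bprod_congr (fun i hi => h i (Nat.lt_succ_of_lt hi)) x, h n (Nat.lt_succ_self n)]

theorem bprod_mem {S : Submonoid M} {f : ℕ → M} : ∀ {n} (_ : ∀ i < n, f i ∈ S) (x : ℕ), bprod f n x ∈ S
  | 0, _, _ => S.one_mem
  | n + 1, h, x => S.mul_mem (bprod_mem (fun i hi => h i (Nat.lt_succ_of_lt hi)) x) (by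
      split
      exacts [h n (Nat.lt_succ_self n), S.one_mem])

theorem bprod_commute {f : ℕ → M} {y : M} : ∀ {n} (_ : ∀ i < n, Commute y (f i)) (x : ℕ),
    Commute y (bprod f n x)
  | 0, _, _ => Commute.one_right y
  | n + 1, h, x => (bprod_commute (fun i hi => h i (Nat.lt_succ_of_lt hi)) x).mul_right (by
      split
      exacts [h n (Nat.lt_succ_self n), Commute.one_right y])

/-- The family consists of commuting elements of square one. -/
def BInv (f : ℕ → M) (n : ℕ) : Prop :=
  (∀ i < n, f i * f i = 1) ∧ ∀ i < n, ∀ j < n, Commute (f i) (f j)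

theorem BInv.mono {f : ℕ → M} {n m : ℕ} (h : BInv f n) (hm : m ≤ n) : BInv f m :=
  ⟨fun i hi => h.1 i (hi.trans_le hm), fun i hi j hj => h.2 i (hi.trans_le hm) j (hj.trans_le hm)⟩

theorem bprod_xor {f : ℕ → M} : ∀ {n} (_ : BInv f n) (x y : ℕ),
    bprod f n (x ^^^ y) = bprod f n x * bprod f n y
  | 0, _, _, _ => (one_mul 1).symm
  | n + 1, h, x, y => by
    have hc : Commute (if x.testBit n then f n else 1) (bprod f n y) := by
      split
      · exact bprod_commute (fun i hi => h.2 n (Nat.lt_succ_self n) i (Nat.lt_succ_of_lt hi)) y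
      · exact Commute.one_left _
    simp only [bprod]
    rw [hc.mul_mul_mul_comm, bprod_xor (h.mono (Nat.le_succ n)) x y, Nat.testBit_xor]
    congr 1
    cases x.testBit n <;> cases y.testBit n <;> simp [h.1 n (Nat.lt_succ_self n)]

theorem bprod_sq {f : ℕ → M} {n : ℕ} (h : BInv f n) (x : ℕ) : bprod f n x * bprod f n x = 1 := by
  rw [← bprod_xor h, Nat.xor_self, bprod_zero]

theorem bprod_comm {f : ℕ → M} {n : ℕ} (h : BInv f n) (x y : ℕ) :
    Commute (bprod f n x) (bprod f n y) := by
  show bprod f n x * bprod f n y = bprod f n y * bprod f n x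
  rw [← bprod_xor h, ← bprod_xor h, Nat.xor_comm]

theorem bprod_single {f : ℕ → M} : ∀ {n i : ℕ}, i < n → bprod f n (1 <<< i) = f i
  | n + 1, i, hi => by
    simp only [bprod, Nat.one_shiftLeft]
    rcases eq_or_lt_of_le (Nat.lt_succ_iff.1 hi) with rfl | hlt
    · have h0 : ∀ m ≤ i, bprod f m (2 ^ i) = 1 := fun m => by
        induction m with
        | zero => intro _; rfl
        | succ m ih =>
          intro hm
          simp [bprod, ih (Nat.le_of_succ_le hm), Nat.testBit_two_pow_of_ne (show i ≠ m by omega)]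
      simp [h0 i le_rfl]
    · have := bprod_single (f := f) hlt
      rw [Nat.one_shiftLeft] at this
      simp [this, Nat.testBit_two_pow_of_ne hlt.ne]

theorem bprod_eq_list (f : ℕ → M) (x : ℕ) : ∀ n,
    bprod f n x = (((List.range n).filter fun i => x.testBit i).map f).prod
  | 0 => rfl
  | n + 1 => by
    rw [List.range_succ, List.filter_append, List.map_append, List.prod_append, ← bprod_eq_list f x n]
    simp only [bprod]
    by_cases h : x.testBit n <;> simp [h]

/-- The bit-product of a linearly extended permutation of the basis. -/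
def bmap (img : ℕ → ℕ) : ℕ → ℕ → ℕ
  | 0, _ => 0
  | n + 1, x => bmap img n x ^^^ if x.testBit n then img n else 0

theorem bprod_bmap {f : ℕ → M} {m : ℕ} (hf : BInv f m) (img : ℕ → ℕ) : ∀ (n x : ℕ),
    bprod f m (bmap img n x) = bprod (fun i => bprod f m (img i)) n x
  | 0, _ => bprod_zero f m
  | n + 1, x => by
    simp only [bmap, bprod, bprod_xor hf, bprod_bmap hf img n x, apply_ite (bprod f m),
      bprod_zero]

theorem bmap_xor (img : ℕ → ℕ) : ∀ n x y, bmap img n (x ^^^ y) = bmap img n x ^^^ bmap img n y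
  | 0, x, y => by simp [bmap]
  | n + 1, x, y => by
    simp only [bmap, bmap_xor img n x y, Nat.testBit_xor]
    cases x.testBit n <;> cases y.testBit n <;> simp [Nat.xor_assoc, Nat.xor_comm, Nat.xor_left_comm]

theorem bmap_lt {img : ℕ → ℕ} {k : ℕ} : ∀ {n} (_ : ∀ i < n, img i < 2 ^ k) (x : ℕ), bmap img n x < 2 ^ k
  | 0, _, _ => Nat.two_pow_pos k
  | n + 1, h, x => Nat.xor_lt_two_pow (bmap_lt (fun i hi => h i (Nat.lt_succ_of_lt hi)) x) (by
      split
      exacts [h n (Nat.lt_succ_self n), Nat.two_pow_pos k])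

end Cfsg.Agent.Transpos.L6
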