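import Cfsg.Agent.Lib.G2Four.Field
import Cfsg.Agent.Lib.Transpos.UnitaryCover

/-!
# A hyperbolic frame and Levi root elements in `SU₆(2)`

Vectors are coded by naturals (two bits a coordinate).  `W l` is the product of the transvections
with centres coded in `l`; the tables `P` (the 21 points of the plane `⟨e₁,e₂,e₃⟩`) and `rootL`
(root elements of the Levi factor, each a product of three commuting transvections) are checked by
evaluation.
-/

set_option autoImplicit false
set_option maxRecDepth 20000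

namespace Cfsg.Agent.Transpos.L6

open Cfsg Cfsg.Agent.ClassicalSimple

/-- The field with four elements. -/
abbrev K : Type := G2Four.K4

theorem hK : Fintype.card K = 2 ^ 2 := G2Four.card_K4

/-- The vector space. -/
abbrev V : Type := Fin 6 → K

/-- The hermitian form. -/
noncomputable abbrev hB : V →ₛₗ[Forms.qEnd hK] V →ₗ[K] K := Forms.hermB hK 6

/-- `SU₆(2)`. -/
noncomputable abbrev SG : Type := ↥(SUH hB)

/-- `PSU₆(2)`. -/
noncomputable abbrev QG : Type := SG ⧸ Subgroup.center SG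

/-- The context. -/
theorem cx : U6.Ctx (Forms.qEnd hK) hB := U6.ctx_of_card hK

/-- The vector with the given code. -/
def vec (c : ℕ) : V := fun j => ⟨Fin.ofNat 4 (c >>> (2 * (j : ℕ)))⟩

/-- The scalar with the given code. -/
def el (c : ℕ) : K := ⟨Fin.ofNat 4 c⟩

/-- A code of an isotropic vector. -/
def Iso (c : ℕ) : Prop := hermForm 6 K 2 (vec c) (vec c) = 0

instance (c : ℕ) : Decidable (Iso c) := inferInstanceAs (Decidable (_ = _))

theorem Iso.hb {c : ℕ} (h : Iso c) : hB (vec c) (vec c) = 0 := by rw [Forms.hermB_apply]; exact h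

/-- The transvection with coded centre. -/
noncomputable def T1 (c : ℕ) : SG := if h : Iso c then U6.tv cx (vec c) h.hb else 1

theorem T1_eq {c : ℕ} (h : Iso c) : T1 c = U6.tv cx (vec c) h.hb := dif_pos h

/-- Computable action of a transvection. -/
def tn (c : ℕ) (x : V) : V := x + hermForm 6 K 2 x (vec c) • vec c

theorem T1_smul {c : ℕ} (h : Iso c) (x : V) : T1 c • x = tn c x := by
  rw [T1_eq h, U6.tv_smul, Forms.hermB_apply]; rfl

/-- A product of transvections. -/
noncomputable def W (l : List ℕ) : SG := (l.map T1).prod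

/-- Computable action of a product of transvections. -/
def wn (l : List ℕ) (x : V) : V := l.foldr tn x

theorem W_nil : W [] = 1 := rfl

theorem W_cons (c : ℕ) (l : List ℕ) : W (c :: l) = T1 c * W l := by simp [W]

theorem W_append (l m : List ℕ) : W (l ++ m) = W l * W m := by simp [W]

theorem W_smul {l : List ℕ} (hl : ∀ c ∈ l, Iso c) (x : V) : W l • x = wn l x := by
  induction l with
  | nil => exact one_smul _ _
  | cons c l ih =>
    rw [W_cons, mul_smul, ih fun a ha => hl a (List.mem_cons_of_mem _ ha),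
      T1_smul (hl c (List.mem_cons_self ..))]
    rfl

theorem smul_add' (g : SG) (x y : V) : g • (x + y) = g • x + g • y :=
  ((g : UH hB) : V ≃ₗ[K] V).map_add x y

theorem smul_smul' (g : SG) (a : K) (x : V) : g • (a • x) = a • g • x :=
  ((g : UH hB) : V ≃ₗ[K] V).map_smul a x

/-- The frame: `e` for `i < 3`, then `f`. -/
def fr (i : Fin 6) : V := vec ([5, 80, 1280, 14, 224, 3584].getD i 0)

/-- The partner in the frame. -/
def opp (i : Fin 6) : Fin 6 := i + 3

theorem fr_single : ∀ (i : Fin 6) (a : K),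
    ∑ j : Fin 6, hermForm 6 K 2 (Pi.single i a) (fr (opp j)) • fr j = Pi.single i a := by
  decide +kernel

theorem fr_pair : ∀ i j : Fin 6, hermForm 6 K 2 (fr j) (fr i) = if j = opp i then 1 else 0 := by
  decide +kernel

/-- Coordinates in the frame. -/
theorem expand (x : V) : ∑ j : Fin 6, hB (fr (opp j)) x • fr j = x := by
  let T : V →ₗ[K] V := ∑ j : Fin 6, (hB (fr (opp j))).smulRight (fr j)
  have hT : T = LinearMap.id := LinearMap.pi_ext fun i a => by
    simpa [T, Forms.hermB_apply] using fr_single i a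
  simpa [T] using LinearMap.congr_fun hT x

/-- An element is determined by the images of the frame. -/
theorem ext_fr {g k : SG} (h : ∀ i, g • fr i = k • fr i) : g = k := U6.ext_smul cx fun x => by
  have key : ∀ g : SG, g • x = ∑ j : Fin 6, hB (fr (opp j)) x • g • fr j := fun g => by
    conv_lhs => rw [← expand x]
    rw [show g • (∑ j : Fin 6, hB (fr (opp j)) x • fr j) =
      ∑ j : Fin 6, g • (hB (fr (opp j)) x • fr j) from map_sum ((g : UH hB) : V ≃ₗ[K] V) _ _]
    exact Finset.sum_congr rfl fun j _ => smul_smul' g _ _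
  rw [key g, key k]
  exact Finset.sum_congr rfl fun j _ => by rw [h j]

/-- Equality of two products by evaluation. -/
theorem W_eq {l m : List ℕ} (hl : ∀ c ∈ l, Iso c) (hm : ∀ c ∈ m, Iso c)
    (h : ∀ i, wn l (fr i) = wn m (fr i)) : W l = W m :=
  ext_fr fun i => by rw [W_smul hl, W_smul hm, h]

/-! ## Tables -/

/-- The 21 points of the plane. -/
def Pc : List ℕ := [5, 80, 1280, 85, 165, 1285, 2565, 1360, 2640, 245, 3845, 3920, 1365, 2645, 3925,
  1445, 2725, 4005, 1525, 2805, 4085]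

/-- Point `j`. -/
def P (j : ℕ) : ℕ := Pc.getD j 5

/-- Root elements: 0,1 ↔ (12), 2,3 ↔ (23), 4,5 ↔ (13), 6 ↔ (21), 7 ↔ (32). -/
def rootL (r : ℕ) : List ℕ :=
  [[229, 5, 224], [149, 5, 224], [3664, 80, 3584], [2384, 80, 3584], [3589, 5, 3584],
    [2309, 5, 3584], [94, 80, 14], [1504, 1280, 224]].getD r []

/-- The permutations of the points under the root elements. -/
def perm (r : ℕ) (j : ℕ) : ℕ :=
  ([[0, 3, 2, 1, 9, 5, 6, 12, 13, 4, 10, 14, 7, 8, 11, 19, 20, 18, 17, 15, 16],
    [0, 9, 2, 4, 3, 5, 6, 20, 18, 1, 10, 19, 16, 17, 15, 14, 12, 13, 8, 11, 7],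
    [0, 1, 7, 3, 4, 12, 16, 2, 11, 9, 20, 8, 5, 19, 17, 18, 6, 14, 15, 13, 10],
    [0, 1, 11, 3, 4, 15, 19, 8, 7, 9, 14, 2, 18, 16, 10, 5, 13, 20, 12, 6, 17],
    [0, 1, 5, 3, 4, 2, 10, 12, 18, 9, 6, 15, 7, 17, 19, 11, 20, 13, 8, 14, 16],
    [0, 1, 10, 3, 4, 6, 5, 20, 17, 9, 2, 14, 16, 18, 11, 19, 12, 8, 13, 15, 7],
    [3, 1, 2, 0, 9, 12, 13, 7, 8, 4, 14, 11, 5, 6, 10, 18, 19, 20, 15, 16, 17],
    [0, 7, 2, 12, 16, 5, 6, 1, 11, 20, 10, 8, 3, 14, 13, 17, 4, 15, 19, 18, 9]].getD r []).getD j 0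

theorem iso_all : (∀ j < 21, Iso (P j) ∧ vec (P j) ≠ 0) ∧
    ∀ r < 8, ∀ c ∈ rootL r, Iso c ∧ vec c ≠ 0 := by decide +kernel

theorem iso_P {j : ℕ} (h : j < 21) : Iso (P j) := (iso_all.1 j h).1

theorem iso_root {r : ℕ} (h : r < 8) : ∀ c ∈ rootL r, Iso c := fun c hc => (iso_all.2 r h c hc).1

theorem root_perm : ∀ r < 8, ∀ j < 21, perm r j < 21 ∧ perm r (perm r j) = j ∧
    ∃ s : K, s ≠ 0 ∧ wn (rootL r) (vec (P j)) = s • vec (P (perm r j)) := by decide +kernel

theorem root_comm : ∀ r < 8, ∀ a ∈ rootL r, ∀ b ∈ rootL r,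
    hermForm 6 K 2 (vec a) (vec b) = 0 := by decide +kernel

theorem pts_comm : ∀ i < 21, ∀ j < 21, hermForm 6 K 2 (vec (P i)) (vec (P j)) = 0 := by
  decide +kernel

theorem pts_indep : ∀ i < 21, ∀ j < 21, i ≠ j → ∀ m : K, vec (P i) ≠ m • vec (P j) := by
  decide +kernel

end Cfsg.Agent.Transpos.L6
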