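import Cfsg.Agent.Lib.Transpos.U6Bits
import Cfsg.Agent.Lib.Transpos.U6Levi
import Cfsg.Agent.Lib.Forms.UniTwo
import Cfsg.Agent.Lib.Forms.HermCenter

/-!
# A Sylow 2-subgroup of `SU₆(2)` and its elementary abelian subgroups

`InT g`: `g` acts unitriangularly on the totally isotropic plane of the frame.  Such an element is
uniquely `Ug u * R x` (`u < 64`, `x < 512`); an elementary abelian subgroup of these elements has
order at most `2⁹`, with equality only for `{R x}` (`card_elem_le`, `elem_eq`).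
-/

set_option autoImplicit false
set_option maxRecDepth 20000

namespace Cfsg.Agent.Transpos.L6

open Cfsg Cfsg.Agent.ClassicalSimple

/-- Codes of the points in the basis given by the first nine. -/
def pc (j : ℕ) : ℕ :=
  [1, 2, 4, 8, 16, 32, 64, 128, 256, 27, 101, 390, 175, 335, 492, 433, 215, 370, 316, 474, 249].getD j 0

/-- The centres of `R x`. -/
def Rl (x : ℕ) : List ℕ := ((List.range 9).filter fun i => x.testBit i).map P

/-- The elements fixing the plane pointwise. -/
noncomputable def R (x : ℕ) : SG := bprod (fun i => T1 (P i)) 9 x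

theorem R_eq (x : ℕ) : R x = W (Rl x) := by
  rw [R, bprod_eq_list, W, Rl, List.map_map]; rfl

theorem Rl_iso (x : ℕ) : ∀ c ∈ Rl x, Iso c := by
  intro c hc
  simp only [Rl, List.mem_map, List.mem_filter, List.mem_range] at hc
  obtain ⟨i, ⟨hi, -⟩, rfl⟩ := hc
  exact iso_P (by omega)

theorem T1_sq (c : ℕ) : T1 c * T1 c = 1 := by
  unfold T1
  split
  exacts [U6.tv_sq cx _, one_mul 1]

theorem T1_commute {a b : ℕ} (h : hermForm 6 K 2 (vec b) (vec a) = 0) : Commute (T1 a) (T1 b) := by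
  unfold T1
  split
  · split
    · exact U6.tv_commute cx _ _ (by rw [Forms.hermB_apply]; exact h)
    · exact Commute.one_right _
  · exact Commute.one_left _

theorem R_inv9 : BInv (fun i => T1 (P i)) 9 :=
  ⟨fun _ _ => T1_sq _, fun i hi j hj => T1_commute (pts_comm j (by omega) i (by omega))⟩

theorem R_xor (x y : ℕ) : R (x ^^^ y) = R x * R y := bprod_xor R_inv9 x y

theorem R_zero : R 0 = 1 := bprod_zero _ _

theorem R_sq (x : ℕ) : R x * R x = 1 := bprod_sq R_inv9 x

theorem R_inj_aux : ∀ x < 512, x ≠ 0 → ∃ i, wn (Rl x) (fr i) ≠ fr i := by decide +kernel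

theorem R_inj {x y : ℕ} (hx : x < 512) (hy : y < 512) (h : R x = R y) : x = y := by
  by_contra hne
  have h1 : R (x ^^^ y) = 1 := by rw [R_xor, h, R_sq]
  obtain ⟨i, hi⟩ := R_inj_aux _ (Nat.xor_lt_two_pow (n := 9) hx hy)
    (fun e => hne (Nat.xor_eq_zero_iff.1 e))
  exact hi (by rw [← W_smul (Rl_iso _), ← R_eq, h1, one_smul])

theorem pc_ok : ∀ j < 21, pc j < 512 ∧ ∀ i, wn (Rl (pc j)) (fr i) = wn [P j] (fr i) := by
  decide +kernel

theorem R_pc {j : ℕ} (hj : j < 21) : R (pc j) = T1 (P j) := by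
  rw [R_eq, W_eq (Rl_iso _) (fun c hc => by rw [List.mem_singleton.1 hc]; exact iso_P hj)
    (pc_ok j hj).2, W_cons, W_nil, mul_one]

theorem T1_scal {a b : ℕ} (ha : Iso a) (hb : Iso b) {g : SG} {s : K} (hs : s ≠ 0)
    (e : g • vec a = s • vec b) : g * T1 a * g⁻¹ = T1 b := by
  rw [T1_eq ha, T1_eq hb, U6.tv_conj cx g ha.hb]
  refine U6.ext_smul cx fun x => ?_
  rw [U6.tv_smul, U6.tv_smul, e, map_smulₛₗ, LinearMap.smul_apply, smul_eq_mul, smul_smul]
  congr 2
  linear_combination hB (vec b) x * cx.norm s hs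

/-- The root element. -/
noncomputable def Rt (r : ℕ) : SG := W (rootL r)

theorem Rt_conj_pt {r j : ℕ} (hr : r < 8) (hj : j < 21) :
    Rt r * T1 (P j) * (Rt r)⁻¹ = T1 (P (perm r j)) := by
  obtain ⟨h1, -, s, hs, e⟩ := root_perm r hr j hj
  exact T1_scal (iso_P hj) (iso_P h1) hs (by rw [Rt, W_smul (iso_root hr)]; exact e)

/-- The action of a root element on `R`. -/
def gact (r x : ℕ) : ℕ := bmap (fun i => pc (perm r i)) 9 x

theorem gact_lt {r : ℕ} (hr : r < 8) (x : ℕ) : gact r x < 512 :=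
  bmap_lt (k := 9) (fun i hi => (pc_ok _ (root_perm r hr i (by omega)).1).1) x

theorem Rt_conj {r : ℕ} (hr : r < 8) (x : ℕ) : Rt r * R x * (Rt r)⁻¹ = R (gact r x) := by
  show (MulAut.conj (Rt r)).toMonoidHom (R x) = _
  rw [R, bprod_map, R, gact, bprod_bmap R_inv9]
  refine bprod_congr (fun i hi => ?_) x
  exact (Rt_conj_pt hr (by omega)).trans (R_pc (root_perm r hr i (by omega)).1).symm

/-! ## Unitriangular action on the plane -/

/-- The three parameters. -/
def ua (u : ℕ) : K := el u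
/-- Second parameter. -/
def ub (u : ℕ) : K := el (u / 4)
/-- Third parameter. -/
def uc (u : ℕ) : K := el (u / 16)

/-- The code of given parameters. -/
def umk (a b c : K) : ℕ := a.v.val + 4 * b.v.val + 16 * c.v.val

/-- The product of parameters. -/
def umul (u v : ℕ) : ℕ := umk (ua u + ua v) (ub u + ub v) (uc u + uc v + ua u * ub v)

theorem umk_spec : ∀ a b c : K, umk a b c < 64 ∧ ua (umk a b c) = a ∧ ub (umk a b c) = b ∧
    uc (umk a b c) = c := by decide +kernel

/-- `g` acts on the plane with parameters `u`. -/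
def Prm (g : SG) (u : ℕ) : Prop :=
  g • fr 0 = fr 0 ∧ g • fr 1 = fr 1 + ua u • fr 0 ∧ g • fr 2 = fr 2 + ub u • fr 1 + uc u • fr 0

theorem Prm.mul {g h : SG} {u v : ℕ} (hg : Prm g u) (hh : Prm h v) : Prm (g * h) (umul u v) := by
  obtain ⟨-, e1, e2, e3⟩ := umk_spec (ua u + ua v) (ub u + ub v) (uc u + uc v + ua u * ub v)
  refine ⟨by rw [mul_smul, hh.1, hg.1], ?_, ?_⟩
  · rw [mul_smul, hh.2.1, smul_add', smul_smul', hg.1, hg.2.1, umul, e1]; module
  · rw [mul_smul, hh.2.2, smul_add', smul_add', smul_smul', smul_smul', hg.1, hg.2.1, hg.2.2,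
      umul, e2, e3]
    module

theorem Prm_one : Prm 1 0 := by
  refine ⟨one_smul _ _, ?_, ?_⟩ <;> rw [one_smul] <;> simp [ua, ub, uc, show el 0 = (0 : K) from rfl]

theorem prm_unique_aux : ∀ u < 64, ∀ v < 64, fr 1 + ua u • fr 0 = fr 1 + ua v • fr 0 →
    fr 2 + ub u • fr 1 + uc u • fr 0 = fr 2 + ub v • fr 1 + uc v • fr 0 → u = v := by decide +kernel

theorem Prm.unique {g : SG} {u v : ℕ} (hu : u < 64) (hv : v < 64) (h : Prm g u) (h' : Prm g v) :
    u = v := prm_unique_aux u hu v hv (h.2.1.symm.trans h'.2.1) (h.2.2.symm.trans h'.2.2)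

/-- The elements acting unitriangularly on the plane. -/
def InT (g : SG) : Prop := ∃ u < 64, Prm g u

theorem InT.mul {g h : SG} : InT g → InT h → InT (g * h) :=
  fun ⟨_, _, hg⟩ ⟨_, _, hh⟩ => ⟨_, (umk_spec _ _ _).1, hg.mul hh⟩

theorem InT.one : InT 1 := ⟨0, by omega, Prm_one⟩

/-- The subgroup of such elements. -/
noncomputable def Tg : Subgroup SG := Subgroup.closure {g | InT g}

instance : Finite SG := Finite.of_injective (fun g : SG => fun x : V => g • x)
  fun _ _ e => U6.ext_smul cx (congrFun e)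

theorem mem_Tg {g : SG} : g ∈ Tg ↔ InT g := by
  refine ⟨fun h => ?_, fun h => Subgroup.subset_closure h⟩
  refine Subgroup.closure_induction (p := fun x _ => InT x) (fun x hx => hx) InT.one
    (fun x y _ _ => InT.mul) (fun x _ hx => ?_) h
  obtain ⟨n, hn⟩ : ∃ n : ℕ, x⁻¹ = x ^ n := ⟨orderOf x - 1, inv_eq_of_mul_eq_one_right (by
    rw [← pow_succ', Nat.sub_add_cancel (orderOf_pos x), pow_orderOf_eq_one])⟩
  rw [hn]
  clear hn
  induction n with
  | zero => rw [pow_zero]; exact InT.one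
  | succ n ih => rw [pow_succ]; exact ih.mul hx

/-- Root indices of a lift of parameters. -/
def uR (u : ℕ) : List ℕ :=
  let w := u % 16 + 16 * (uc u + ua u * ub u).v.val
  ([0, 1, 2, 3, 4, 5].filter fun i => w.testBit i)

/-- A lift of parameters. -/
noncomputable def Ug (u : ℕ) : SG := W ((uR u).flatMap rootL)

theorem uR_ok : ∀ u < 64, (∀ r ∈ uR u, r < 6) ∧
    wn ((uR u).flatMap rootL) (fr 0) = fr 0 ∧
    wn ((uR u).flatMap rootL) (fr 1) = fr 1 + ua u • fr 0 ∧
    wn ((uR u).flatMap rootL) (fr 2) = fr 2 + ub u • fr 1 + uc u • fr 0 := by decide +kernel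

theorem Ug_iso {u : ℕ} (hu : u < 64) : ∀ c ∈ (uR u).flatMap rootL, Iso c := by
  intro c hc
  obtain ⟨r, hr, hc⟩ := List.mem_flatMap.1 hc
  exact iso_root ((uR_ok u hu).1 r hr |>.trans (by omega)) c hc

theorem Ug_prm {u : ℕ} (hu : u < 64) : Prm (Ug u) u := by
  obtain ⟨-, h0, h1, h2⟩ := uR_ok u hu
  exact ⟨by rw [Ug, W_smul (Ug_iso hu), h0], by rw [Ug, W_smul (Ug_iso hu), h1],
    by rw [Ug, W_smul (Ug_iso hu), h2]⟩

theorem R_prm_aux : ∀ i < 9, ∀ k : Fin 3, tn (P i) (fr k.castSucc.castSucc.castSucc) =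
    fr k.castSucc.castSucc.castSucc := by decide +kernel

theorem R_fix (x : ℕ) (k : Fin 3) :
    R x • fr k.castSucc.castSucc.castSucc = fr k.castSucc.castSucc.castSucc := by
  have : R x ∈ (MulAction.stabilizer SG (fr k.castSucc.castSucc.castSucc)).toSubmonoid :=
    bprod_mem (fun i hi => by
      show T1 (P i) • _ = _
      rw [T1_smul (iso_P (by omega))]; exact R_prm_aux i hi k) x
  exact this

theorem R_prm (x : ℕ) : Prm (R x) 0 := by
  refine ⟨R_fix x 0, ?_, ?_⟩
  · have := R_fix x 1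
    simp [ua, show el 0 = (0 : K) from rfl]; exact this
  · have := R_fix x 2
    simp [ub, uc, show el 0 = (0 : K) from rfl]; exact this

/-- The code of a hermitian matrix. -/
def hcode (a b c p q s : K) : ℕ :=
  bmap (fun i => [1, 11, 24, 37, 96, 2, 134, 384, 4].getD i 0) 9
    (a.v.val + 2 * p.v.val + 8 * q.v.val + 32 * b.v.val + 64 * s.v.val + 256 * c.v.val)

theorem hcode_ok : ∀ a b c p q s : K, a * a = a → b * b = b → c * c = c →
    hcode a b c p q s < 512 ∧
    wn (Rl (hcode a b c p q s)) (fr 3) = fr 3 + (a • fr 0 + (p * p) • fr 1 + (q * q) • fr 2) ∧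
    wn (Rl (hcode a b c p q s)) (fr 4) = fr 4 + (p • fr 0 + b • fr 1 + (s * s) • fr 2) ∧
    wn (Rl (hcode a b c p q s)) (fr 5) = fr 5 + (q • fr 0 + s • fr 1 + c • fr 2) := by
  decide +kernel

theorem qEnd_eq (x : K) : Forms.qEnd hK x = x * x := by rw [Forms.qEnd_apply, pow_two]

set_option maxHeartbeats 1000000 in
/-- An element fixing the plane pointwise is some `R x`. -/
theorem exists_R {g : SG} (h0 : g • fr 0 = fr 0) (h1 : g • fr 1 = fr 1) (h2 : g • fr 2 = fr 2) :
    ∃ x < 512, g = R x := by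
  have hfr : ∀ i j, hB (fr i) (fr j) = if j = opp i then 1 else 0 := fun i j => by
    rw [Forms.hermB_apply]; exact fr_pair i j
  have hk : ∀ i : Fin 6, i.val < 3 → g • fr i = fr i := fun i hi => by
    fin_cases i <;> first | exact h0 | exact h1 | exact h2 | (simp at hi)
  have hj : ∀ j : Fin 6, g • fr j = hB (fr 0) (g • fr j) • fr 3 + hB (fr 1) (g • fr j) • fr 4 +
      hB (fr 2) (g • fr j) • fr 5 + (hB (fr 3) (g • fr j) • fr 0 + hB (fr 4) (g • fr j) • fr 1 +
        hB (fr 5) (g • fr j) • fr 2) := fun j => by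
    conv_lhs => rw [← expand (g • fr j)]
    simp [Fin.sum_univ_six, opp]
    abel
  have hlow : ∀ i j : Fin 6, i.val < 3 → hB (fr i) (g • fr j) = if j = opp i then 1 else 0 :=
    fun i j hi => by
      conv_lhs => arg 1; rw [← hk i hi]
      rw [U6.isom cx, hfr]
  set H : Fin 6 → Fin 6 → K := fun i j => hB (fr i) (g • fr j) with hH
  have d3 : g • fr 3 = fr 3 + (H 3 3 • fr 0 + H 4 3 • fr 1 + H 5 3 • fr 2) := by
    conv_lhs => rw [hj 3, hlow 0 3 (by decide), hlow 1 3 (by decide), hlow 2 3 (by decide)]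
    simp [opp, hH]
  have d4 : g • fr 4 = fr 4 + (H 3 4 • fr 0 + H 4 4 • fr 1 + H 5 4 • fr 2) := by
    conv_lhs => rw [hj 4, hlow 0 4 (by decide), hlow 1 4 (by decide), hlow 2 4 (by decide)]
    simp [opp, hH]
  have d5 : g • fr 5 = fr 5 + (H 3 5 • fr 0 + H 4 5 • fr 1 + H 5 5 • fr 2) := by
    conv_lhs => rw [hj 5, hlow 0 5 (by decide), hlow 1 5 (by decide), hlow 2 5 (by decide)]
    simp [opp, hH]
  have herm : ∀ i j : Fin 6, hB (g • fr i) (g • fr j) = if j = opp i then 1 else 0 :=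
    fun i j => by rw [U6.isom cx, hfr]
  have hadd : ∀ a : K, a + a = 0 := cx.addF
  have hsol : ∀ a b : K, b + a = 0 → a = b := by decide +kernel
  have r33 := herm 3 3
  have r44 := herm 4 4
  have r55 := herm 5 5
  have r34 := herm 3 4
  have r35 := herm 3 5
  have r45 := herm 4 5
  simp only [d3, d4, d5, map_add, LinearMap.add_apply, map_smulₛₗ, LinearMap.smul_apply, hfr,
    RingHom.id_apply, smul_eq_mul, qEnd_eq, opp, Fin.reduceAdd, Fin.reduceEq, if_false, if_true,
    mul_zero, zero_mul, mul_one, add_zero, zero_add, reduceIte] at r33 r44 r55 r34 r35 r45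
  obtain ⟨hx, e3, e4, e5⟩ := hcode_ok (H 3 3) (H 4 4) (H 5 5) (H 3 4) (H 3 5) (H 4 5)
    (hsol _ _ (by linear_combination r33)) (hsol _ _ (by linear_combination r44))
    (hsol _ _ (by linear_combination r55))
  have s34 : H 4 3 = H 3 4 * H 3 4 := by
    have : ∀ a b : K, b + a * a = 0 → a = b * b := by decide +kernel
    exact this _ _ (by linear_combination r34)
  have s35 : H 5 3 = H 3 5 * H 3 5 := by
    have : ∀ a b : K, b + a * a = 0 → a = b * b := by decide +kernel
    exact this _ _ (by linear_combination r35)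
  have s45 : H 5 4 = H 4 5 * H 4 5 := by
    have : ∀ a b : K, b + a * a = 0 → a = b * b := by decide +kernel
    exact this _ _ (by linear_combination r45)
  refine ⟨_, hx, ext_fr fun i => ?_⟩
  fin_cases i
  · exact h0.trans (R_fix _ 0).symm
  · exact h1.trans (R_fix _ 1).symm
  · exact h2.trans (R_fix _ 2).symm
  · show g • fr 3 = _
    rw [R_eq, W_smul (Rl_iso _), d3, s34, s35]; exact e3.symm
  · show g • fr 4 = _
    rw [R_eq, W_smul (Rl_iso _), d4, s45]; exact e4.symm
  · show g • fr 5 = _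
    rw [R_eq, W_smul (Rl_iso _), d5]; exact e5.symm

/-- Normal form. -/
theorem exists_nf {g : SG} {u : ℕ} (hu : u < 64) (hg : Prm g u) :
    ∃ x < 512, g = Ug u * R x := by
  have h := Ug_prm hu
  obtain ⟨x, hx, e⟩ := exists_R (g := (Ug u)⁻¹ * g)
    (by rw [mul_smul, hg.1, inv_smul_eq_iff, h.1]) (by rw [mul_smul, hg.2.1, inv_smul_eq_iff, h.2.1])
    (by rw [mul_smul, hg.2.2, inv_smul_eq_iff, h.2.2])
  exact ⟨x, hx, by rw [← e, mul_inv_cancel_left]⟩

/-- The action of parameters on `R`. -/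
def uact (u x : ℕ) : ℕ := (uR u).foldr gact x

theorem Ug_conj {u : ℕ} (hu : u < 64) (x : ℕ) : Ug u * R x * (Ug u)⁻¹ = R (uact u x) := by
  have key : ∀ l : List ℕ, (∀ r ∈ l, r < 8) →
      W (l.flatMap rootL) * R x * (W (l.flatMap rootL))⁻¹ = R (l.foldr gact x) := by
    intro l hl
    induction l with
    | nil => simp [W_nil]
    | cons r l ih =>
      rw [List.flatMap_cons, W_append, List.foldr_cons,
        ← Rt_conj (hl r (List.mem_cons_self ..)), ← ih fun a ha => hl a (List.mem_cons_of_mem _ ha)]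
      simp [Rt, mul_assoc]
  exact key _ fun r hr => ((uR_ok u hu).1 r hr).trans (by omega)

theorem uact_lt {u : ℕ} (hu : u < 64) {x : ℕ} (hx : x < 512) : uact u x < 512 := by
  have h := (uR_ok u hu).1
  unfold uact
  revert h
  generalize uR u = l
  intro h
  cases l with
  | nil => exact hx
  | cons r l => exact gact_lt ((h r (List.mem_cons_self ..)).trans (by omega)) _

end Cfsg.Agent.Transpos.L6
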