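import Cfsg.Agent.Lib.Transpos.U6Elem
import Cfsg.Agent.Lib.Transpos.U6Orbits

/-!
# A double cover of `PSU₆(2)`: canonical lifts and elementary abelian subgroups

For a double cover `ψ : C → PSU₆(2)` the lift `x₀` of one transvection commutes with every lift of
an element fixing it (`stable`), so all transvections get lifts `Pl` permuted by conjugation; those
of the plane span, with `z`, the subgroup `A0` of order `2¹⁰`.
-/

set_option autoImplicit false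
set_option maxRecDepth 20000

namespace Cfsg.Agent.Transpos.L6

open Cfsg Cfsg.Agent.ClassicalSimple

/-- The projection. -/
noncomputable def mkQ : SG →* QG := QuotientGroup.mk' (Subgroup.center SG)

/-- A double cover. -/
structure Dbl (C : Type*) [Group C] where
  ψ : C →* QG
  z : C
  surj : Function.Surjective ψ
  zz : z * z = 1
  zc : ∀ x, Commute z x
  ker : ∀ x, ψ x = 1 → x = 1 ∨ x = z
  z1 : z ≠ 1
  ψz : ψ z = 1

variable {C : Type*} [Group C] (Δ : Dbl C)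

theorem pt_eq {c : ℕ} (h : Iso c) : U6.pt cx (vec c) h.hb = mkQ (T1 c) := by rw [T1_eq h]; rfl

theorem mkQ_injOn {g : SG} (hg : InT g) (h : mkQ g = 1) : g = 1 := by
  obtain ⟨a, -, ha⟩ := (U6.proj_eq_one_iff cx g).1 h
  obtain ⟨u, -, hu⟩ := hg
  have e := ha (fr 0)
  rw [hu.1] at e
  have h0 : fr 0 ≠ 0 := fr_li.ne_zero 0
  have ha1 : a = 1 := (smul_left_injective K h0 (by simpa using e)).symm
  exact U6.ext_smul cx fun x => by rw [ha, ha1, one_smul, one_smul]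

namespace Dbl

theorem sq_eq {x y : C} (e : Δ.ψ x = Δ.ψ y) : x * x = y * y := U6.sq_of_eq Δ.ψ Δ.zz Δ.zc Δ.ker e

theorem commute_of_eq {x y w : C} (e : Δ.ψ x = Δ.ψ y) (hc : Commute w y) : Commute w x :=
  U6.commute_of_eq Δ.ψ Δ.zz Δ.zc Δ.ker e hc

theorem eq_or {x y : C} (e : Δ.ψ x = Δ.ψ y) : x = y ∨ x = y * Δ.z :=
  U6.eq_or_eq_mul Δ.ψ Δ.zz Δ.zc Δ.ker e

/-- Lifts of orthogonal transvections commute. -/
theorem commute_orth {a b : ℕ} (ha : Iso a) (hb : Iso b) (hb0 : vec b ≠ 0)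
    (hab : hermForm 6 K 2 (vec b) (vec a) = 0) {x y : C} (ex : Δ.ψ x = mkQ (T1 a))
    (ey : Δ.ψ y = mkQ (T1 b)) : Commute x y := by
  have h0 : hB (vec a) (vec b) = 0 := by rw [Forms.hermB_apply]; exact hab
  rw [← pt_eq ha] at ex
  rw [← pt_eq hb] at ey
  by_cases hm : ∃ m : K, vec a = m • vec b
  · obtain ⟨m, hm⟩ := hm
    by_cases hm0 : m = 0
    · refine Commute.symm (Δ.commute_of_eq (y := 1) ?_ (Commute.one_right y))
      rw [ex, map_one]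
      refine (QuotientGroup.eq_one_iff _).2 ?_
      have : U6.tv cx (vec a) ha.hb = 1 := U6.ext_smul cx fun v => by
        rw [U6.tv_smul, hm, hm0]; simp
      rw [this]; exact Subgroup.one_mem _
    · exact Δ.commute_of_eq (w := y) (by rw [ex, ey, U6.pt_congr cx hb.hb ha.hb hm0 hm])
        (Commute.refl y) |>.symm
  · push Not at hm
    exact U6.lift_commute cx Δ.ψ Δ.surj Δ.zz Δ.zc Δ.ker ha.hb hb.hb h0 hm ex ey

theorem sq_T1 {a : ℕ} (ha : Iso a) (ha0 : vec a ≠ 0) {x : C} (ex : Δ.ψ x = mkQ (T1 a)) : x * x = 1 := by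
  rw [← pt_eq ha] at ex
  exact U6.lift_sq cx Δ.ψ Δ.surj Δ.zz Δ.zc Δ.ker ha.hb ha0 ex

/-- Every element over a product of transvections orthogonal to `a` commutes with a lift of `a`. -/
theorem commute_W {a : ℕ} (ha : Iso a) (ha0 : vec a ≠ 0) {x : C} (ex : Δ.ψ x = mkQ (T1 a)) :
    ∀ l : List ℕ, (∀ b ∈ l, Iso b ∧ hermForm 6 K 2 (vec a) (vec b) = 0) →
      ∀ y, Δ.ψ y = mkQ (W l) → Commute x y
  | [], _, y, ey => Δ.commute_of_eq (y := 1) (by rw [ey, W_nil, map_one, map_one]) (Commute.one_right x)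
  | b :: l, h, y, ey => by
    obtain ⟨p, hp⟩ := Δ.surj (mkQ (T1 b))
    obtain ⟨q, hq⟩ := Δ.surj (mkQ (W l))
    obtain ⟨hb, hab⟩ := h b (List.mem_cons_self ..)
    refine Δ.commute_of_eq (y := p * q) (by rw [ey, map_mul, hp, hq, ← map_mul, W_cons])
      ((Δ.commute_orth hb ha ha0 hab hp ex).symm.mul_right
        (commute_W ha ha0 ex l (fun c hc => h c (List.mem_cons_of_mem _ hc)) q hq))

end Dbl

theorem perp_first : (∀ r < 6, ∀ c ∈ rootL r, Iso c ∧ hermForm 6 K 2 (vec 5) (vec c) = 0) ∧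
    ∀ i < 9, Iso (P i) ∧ hermForm 6 K 2 (vec 5) (vec (P i)) = 0 := by decide +kernel

theorem nf_perp {g : SG} (hg : InT g) :
    ∃ l : List ℕ, (∀ b ∈ l, Iso b ∧ hermForm 6 K 2 (vec 5) (vec b) = 0) ∧ g = W l := by
  obtain ⟨u, hu, hp⟩ := hg
  obtain ⟨x, -, rfl⟩ := exists_nf hu hp
  refine ⟨(uR u).flatMap rootL ++ Rl x, fun b hb => ?_, by rw [W_append, ← R_eq]; rfl⟩
  rcases List.mem_append.1 hb with hb | hb
  · obtain ⟨r, hr, hc⟩ := List.mem_flatMap.1 hb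
    exact perp_first.1 r ((uR_ok u hu).1 r hr) b hc
  · simp only [Rl, List.mem_map, List.mem_filter, List.mem_range] at hb
    obtain ⟨i, ⟨hi, -⟩, rfl⟩ := hb
    exact perp_first.2 i hi

theorem card_QG_two : ∃ m, Odd m ∧ Nat.card QG = 2 ^ 15 * m := by
  refine ⟨3 * 3 * 9 * 15 * 33 * 63 / 9, by decide, ?_⟩
  have h1 := Forms.card_PSU_mul (n := 6) hK (by norm_num)
  rw [Forms.card_GU hK 6, Nat.card_congr (centerQuotientCongr (suEquiv hK)).toEquiv] at h1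
  norm_num [Finset.prod_range_succ, Nat.even_iff] at h1 ⊢
  change 3 * (3 * Nat.card QG) = _ at h1
  omega

theorem P0_iso : Iso 5 ∧ vec 5 ≠ 0 := ⟨iso_P (j := 0) (by omega), (iso_all.1 0 (by omega)).2⟩

/-- The unitriangular elements in the quotient. -/
noncomputable def TQ : Subgroup QG := Tg.map mkQ

theorem card_TQ : Nat.card TQ = 2 ^ 15 := by
  have h1 : Nat.card TQ = Nat.card Tg := by
    refine (Nat.card_congr (Equiv.ofBijective (fun g : Tg => (⟨mkQ g.1, g.1, g.2, rfl⟩ : TQ))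
      ⟨fun a b e => ?_, ?_⟩)).symm
    · have h : mkQ (a.1⁻¹ * b.1) = 1 := by
        rw [map_mul, map_inv]; exact inv_mul_eq_one.2 (congrArg Subtype.val e)
      exact Subtype.ext (inv_mul_eq_one.1 (mkQ_injOn (mem_Tg.1 (Tg.mul_mem (Tg.inv_mem a.2) b.2)) h))
    · rintro ⟨_, g, hg, rfl⟩; exact ⟨⟨g, hg⟩, rfl⟩
  have h2 : Nat.card Tg = Nat.card (Fin 64 × Fin 512) := by
    refine (Nat.card_congr (Equiv.ofBijective
      (fun p : Fin 64 × Fin 512 => (⟨Ug p.1 * R p.2, mem_Tg.2 (InT.mul ⟨_, p.1.2, Ug_prm p.1.2⟩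
        ⟨0, by omega, R_prm _⟩)⟩ : Tg)) ⟨fun a b e => ?_, fun g => ?_⟩)).symm
    · have e' : Ug a.1 * R a.2 = Ug b.1 * R b.2 := congrArg Subtype.val e
      have hz : ∀ u < 64, umul u 0 = u := by decide +kernel
      have ha := (Ug_prm a.1.2).mul (R_prm a.2)
      have hb := (Ug_prm b.1.2).mul (R_prm b.2)
      rw [e', hz _ a.1.2] at ha
      rw [hz _ b.1.2] at hb
      have h1 : (a.1 : ℕ) = b.1 := Prm.unique a.1.2 b.1.2 ha hb
      refine Prod.ext (Fin.ext h1) (Fin.ext (R_inj a.2.2 b.2.2 ?_))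
      rw [h1] at e'
      exact mul_left_cancel e'
    · obtain ⟨u, hu, hp⟩ := mem_Tg.1 g.2
      obtain ⟨x, hx, e⟩ := exists_nf hu hp
      exact ⟨(⟨u, hu⟩, ⟨x, hx⟩), Subtype.ext e.symm⟩
  rw [h1, h2, Nat.card_prod, Nat.card_fin, Nat.card_fin]; rfl

theorem TQ_index_odd : Odd TQ.index := by
  obtain ⟨m, hm, e⟩ := card_QG_two
  have h := Subgroup.card_mul_index TQ
  rw [card_TQ, e] at h
  rwa [Nat.eq_of_mul_eq_mul_left (by norm_num) h]

instance : Finite QG := inferInstance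

namespace Dbl

variable [Finite C]

/-- Elements fixing the first transvection in the image commute with its lifts. -/
theorem stable {x : C} (ex : Δ.ψ x = mkQ (T1 5)) {g : C}
    (hg : Commute (Δ.ψ g) (mkQ (T1 5))) : Commute g x := by
  classical
  set Kc := Subgroup.centralizer ({x} : Set C)
  set Sb := (Subgroup.centralizer ({mkQ (T1 5)} : Set QG)).comap Δ.ψ
  have hle : Kc ≤ Sb := fun y hy => by
    show Δ.ψ y ∈ Subgroup.centralizer _
    rw [Subgroup.mem_centralizer_singleton_iff, ← ex, ← map_mul, ← map_mul,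
      Subgroup.mem_centralizer_singleton_iff.1 hy]
  have hT : TQ.comap Δ.ψ ≤ Kc := fun y hy => by
    obtain ⟨t, ht, e⟩ := hy
    obtain ⟨l, hl, rfl⟩ := nf_perp (mem_Tg.1 ht)
    exact Subgroup.mem_centralizer_singleton_iff.2
      (Δ.commute_W P0_iso.1 P0_iso.2 ex l hl y e.symm).eq.symm
  have hodd : Odd Kc.index := by
    have := Subgroup.index_comap_of_surjective TQ Δ.surj
    exact (this ▸ TQ_index_odd).of_dvd_nat (Subgroup.index_dvd_of_le hT)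
  by_contra hgx
  have hgS : g ∈ Sb := Subgroup.mem_centralizer_singleton_iff.2 hg.eq
  have hgK : g ∉ Kc := fun h => hgx (Subgroup.mem_centralizer_singleton_iff.1 h)
  have key : ∀ y ∈ Sb, y ∉ Kc → y * x * y⁻¹ = x * Δ.z := fun y hy hyK => by
    refine (Δ.eq_or (y := x) ?_).resolve_left fun e => hyK
      (Subgroup.mem_centralizer_singleton_iff.2 (mul_inv_eq_iff_eq_mul.1 e))
    rw [map_mul, map_mul, map_inv, ex, Subgroup.mem_centralizer_singleton_iff.1 hy,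
      mul_inv_cancel_right]
  have h2 : (Kc.subgroupOf Sb).index = 2 := by
    refine Subgroup.index_eq_two_iff.2 ⟨⟨g, hgS⟩, fun b => ?_⟩
    rw [xor_iff_iff_not]
    simp only [Subgroup.mem_subgroupOf, Subgroup.coe_mul]
    constructor
    · intro h hb; exact hgK ((Kc.mul_mem_cancel_left hb).1 h)
    · intro hb
      refine Subgroup.mem_centralizer_singleton_iff.2 (mul_inv_eq_iff_eq_mul.1 ?_)
      calc (b : C) * g * x * ((b : C) * g)⁻¹ = b * (g * x * g⁻¹) * (b : C)⁻¹ := by group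
        _ = (b * x * (b : C)⁻¹) * Δ.z := by
            rw [key g hgS hgK, ← mul_assoc, mul_assoc _ Δ.z, (Δ.zc _).eq, ← mul_assoc]
        _ = x := by rw [key b b.2 hb, mul_assoc, Δ.zz, mul_one]
  have h3 : Kc.relIndex Sb * Sb.index = Kc.index := Subgroup.relIndex_mul_index hle
  rw [Subgroup.relIndex, h2] at h3
  rw [← h3] at hodd
  exact Nat.not_even_iff_odd.2 hodd (even_two_mul _)

/-- The lift of the transvection `c` conjugate to `x`. -/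
noncomputable def Pl (x : C) (c : ℕ) : C :=
  Classical.epsilon fun y => ∃ g, Δ.ψ g * mkQ (T1 5) * (Δ.ψ g)⁻¹ = mkQ (T1 c) ∧ y = g * x * g⁻¹

theorem Pl_eq {x : C} (ex : Δ.ψ x = mkQ (T1 5)) {c : ℕ} {g : C}
    (hg : Δ.ψ g * mkQ (T1 5) * (Δ.ψ g)⁻¹ = mkQ (T1 c)) : Δ.Pl x c = g * x * g⁻¹ := by
  obtain ⟨k, hk, e⟩ := Classical.epsilon_spec (p := fun y => ∃ g, Δ.ψ g * mkQ (T1 5) * (Δ.ψ g)⁻¹ =
    mkQ (T1 c) ∧ y = g * x * g⁻¹) ⟨_, g, hg, rfl⟩
  show Classical.epsilon _ = _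
  rw [e]
  have hst : Commute (k⁻¹ * g) x := Δ.stable ex (by
    have hh := hg.trans hk.symm
    show Δ.ψ (k⁻¹ * g) * _ = _
    rw [map_mul, map_inv]
    calc (Δ.ψ k)⁻¹ * Δ.ψ g * mkQ (T1 5)
        = (Δ.ψ k)⁻¹ * (Δ.ψ g * mkQ (T1 5) * (Δ.ψ g)⁻¹) * Δ.ψ g := by group
      _ = mkQ (T1 5) * ((Δ.ψ k)⁻¹ * Δ.ψ g) := by rw [hh]; group)
  calc k * x * k⁻¹ = g * ((k⁻¹ * g)⁻¹ * x * (k⁻¹ * g)) * g⁻¹ := by group
    _ = g * x * g⁻¹ := by rw [mul_assoc (k⁻¹ * g)⁻¹, ← hst.eq, inv_mul_cancel_left]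

theorem exists_Pl {x : C} (ex : Δ.ψ x = mkQ (T1 5)) {c : ℕ} (hc : Iso c) (hc0 : vec c ≠ 0) :
    ∃ g, Δ.ψ g * mkQ (T1 5) * (Δ.ψ g)⁻¹ = mkQ (T1 c) ∧ Δ.Pl x c = g * x * g⁻¹ := by
  obtain ⟨k, hk⟩ := U6.pt_exists_conj cx P0_iso.1.hb hc.hb P0_iso.2 hc0
  rw [pt_eq P0_iso.1, pt_eq hc] at hk
  obtain ⟨g, rfl⟩ := Δ.surj k
  exact ⟨g, hk, Δ.Pl_eq ex hk⟩

theorem ψ_Pl {x : C} (ex : Δ.ψ x = mkQ (T1 5)) {c : ℕ} (hc : Iso c) (hc0 : vec c ≠ 0) :
    Δ.ψ (Δ.Pl x c) = mkQ (T1 c) := by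
  obtain ⟨g, hg, e⟩ := Δ.exists_Pl ex hc hc0
  rw [e, map_mul, map_mul, map_inv, ex, hg]

theorem Pl_five {x : C} (ex : Δ.ψ x = mkQ (T1 5)) : Δ.Pl x 5 = x := by
  rw [Δ.Pl_eq ex (g := 1) (by simp)]; simp

theorem Pl_conj {x : C} (ex : Δ.ψ x = mkQ (T1 5)) {a b : ℕ} (ha : Iso a) (ha0 : vec a ≠ 0)
    (hb : Iso b) {g : C} {k : SG} (hk : Δ.ψ g = mkQ k) {s : K} (hs : s ≠ 0)
    (e : k • vec a = s • vec b) : g * Δ.Pl x a * g⁻¹ = Δ.Pl x b := by
  obtain ⟨g₀, hg₀, e₀⟩ := Δ.exists_Pl ex ha ha0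
  rw [e₀, Δ.Pl_eq ex (g := g * g₀) ?_]
  · group
  · rw [map_mul, mul_inv_rev, ← mul_assoc, mul_assoc (Δ.ψ g), mul_assoc (Δ.ψ g), hg₀, hk,
      ← map_inv, ← map_mul, ← map_mul, T1_scal ha hb hs e]

theorem Pl_smul {x : C} (ex : Δ.ψ x = mkQ (T1 5)) {a b : ℕ} (ha : Iso a) (ha0 : vec a ≠ 0)
    (hb : Iso b) {s : K} (hs : s ≠ 0) (e : vec a = s • vec b) : Δ.Pl x a = Δ.Pl x b := by
  simpa using Δ.Pl_conj ex ha ha0 hb (g := 1) (k := 1) (by simp) hs (by rw [one_smul]; exact e)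

/-- The lifts of the points of the plane. -/
noncomputable def Pb (x : C) (j : ℕ) : C := Δ.Pl x (P j)

theorem ψ_Pb {x : C} (ex : Δ.ψ x = mkQ (T1 5)) {j : ℕ} (hj : j < 21) :
    Δ.ψ (Δ.Pb x j) = mkQ (T1 (P j)) := Δ.ψ_Pl ex (iso_P hj) (iso_all.1 j hj).2

theorem Pb_inv21 {x : C} (ex : Δ.ψ x = mkQ (T1 5)) : BInv (Δ.Pb x) 21 :=
  ⟨fun i hi => Δ.sq_T1 (iso_P hi) (iso_all.1 i hi).2 (Δ.ψ_Pb ex hi), fun i hi j hj =>
    Δ.commute_orth (iso_P hi) (iso_P hj) (iso_all.1 j hj).2 (pts_comm j hj i hi) (Δ.ψ_Pb ex hi) (Δ.ψ_Pb ex hj)⟩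

/-- Product of lifts over a mask. -/
noncomputable def Phi (x : C) (m : ℕ) : C := bprod (Δ.Pb x) 21 m

theorem ψ_Phi {x : C} (ex : Δ.ψ x = mkQ (T1 5)) (m : ℕ) : Δ.ψ (Δ.Phi x m) = mkQ (R (imgm m)) := by
  rw [Phi, bprod_map, R, imgm, bprod_bmap R_inv9, bprod_map]
  refine bprod_congr (fun i hi => ?_) m
  rw [Δ.ψ_Pb ex hi, ← R_pc hi]; rfl


/-- A lift normalised so that the first line multiplies to one. -/
theorem exists_good : ∃ x, Δ.ψ x = mkQ (T1 5) ∧ Δ.Phi x L0 = 1 := by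
  obtain ⟨x, ex⟩ := Δ.surj (mkQ (T1 5))
  rcases Δ.ker (Δ.Phi x L0) (by rw [Δ.ψ_Phi ex, imgm_h.1, R_zero, map_one]) with h | h
  · exact ⟨x, ex, h⟩
  have ex' : Δ.ψ (x * Δ.z) = mkQ (T1 5) := by rw [map_mul, ex, Δ.ψz, mul_one]
  refine ⟨x * Δ.z, ex', ?_⟩
  have hp : ∀ i < 21, Δ.Pb (x * Δ.z) i = Δ.Pb x i * Δ.z := fun i hi => by
    obtain ⟨g, hg, e⟩ := Δ.exists_Pl ex (iso_P hi) (iso_all.1 i hi).2
    show Δ.Pl _ _ = Δ.Pl _ _ * _
    rw [e, Δ.Pl_eq ex' hg, ← mul_assoc, mul_assoc _ Δ.z, (Δ.zc g⁻¹).eq, ← mul_assoc]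
  have key : ∀ n, bprod (fun i => Δ.Pb x i * Δ.z) n L0 =
      bprod (Δ.Pb x) n L0 * bprod (fun _ => Δ.z) n L0 := fun n => by
    induction n with
    | zero => exact (one_mul 1).symm
    | succ n ih =>
      simp only [bprod, ih]
      by_cases hb : L0.testBit n
      · simp only [hb, if_true]
        have hc : Commute (bprod (fun _ => Δ.z) n L0) (Δ.Pb x n) :=
          (bprod_commute (fun i _ => (Δ.zc _).symm) L0).symm
        exact hc.mul_mul_mul_comm _ _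
      · simp [hb]
  show bprod _ 21 L0 = 1
  rw [bprod_congr hp, key, show bprod (Δ.Pb x) 21 L0 = Δ.Phi x L0 from rfl, h]
  simp [bprod, L0, Nat.testBit, Nat.shiftRight_eq_div_pow, Δ.zz, ← mul_assoc]

end Dbl

end Cfsg.Agent.Transpos.L6
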