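import Cfsg.Agent.Lib.Transpos.U6Borel

/-!
# Elementary abelian subgroups and involution classes
-/

set_option autoImplicit false
set_option maxRecDepth 20000

namespace Cfsg.Agent.Transpos.L6

open Cfsg Cfsg.Agent.ClassicalSimple

/-- The fixed points of parameters on `R`. -/
def fixS (u : ℕ) : Finset ℕ := (Finset.range 512).filter fun x => uact u x = x

theorem fix_small : ∀ u < 64, u ≠ 0 → umul u u = 0 → (fixS u).card ≤ 32 := by decide +kernel

theorem fix_center : ((fixS 16).filter fun x => uact 32 x = x).card ≤ 16 := by decide +kernel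

set_option synthInstance.maxSize 1000 in
theorem commuting_params : ∀ u < 64, ∀ v < 64, umul u u = 0 → umul v v = 0 →
    umul u v = umul v u → (u % 4 = 0 ∧ v % 4 = 0) ∨ (u / 4 % 4 = 0 ∧ v / 4 % 4 = 0) ∨
    (u % 16 = 0 ∨ v % 16 = 0) := by decide +kernel

theorem half_card : ((Finset.range 64).filter fun u => u % 4 = 0).card = 16 ∧
    ((Finset.range 64).filter fun u => u / 4 % 4 = 0).card = 16 := by decide +kernel

theorem umul_center : ∀ u < 64, umul 16 (umul 16 u) = u ∧ umul 32 (umul 32 u) = u ∧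
    (umul 16 u % 4 = u % 4 ∧ umul 32 u % 4 = u % 4) ∧
    (umul 16 u / 4 % 4 = u / 4 % 4 ∧ umul 32 u / 4 % 4 = u / 4 % 4) ∧
    umul 16 u < 64 ∧ umul 32 u < 64 := by decide +kernel

theorem umul_cancel : ∀ u < 64, ∀ v < 64, umul u u = 0 → umul v u = 16 → umul 16 u = v := by
  decide +kernel

theorem umul_cancel' : ∀ u < 64, ∀ v < 64, umul u u = 0 → umul v u = 32 → umul 32 u = v := by
  decide +kernel

section elem

variable {B : Subgroup SG}

/-- A commutative exponent 2 subgroup of unitriangular elements has order at most `2⁹`, with equality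
only for the elements fixing the plane. -/
theorem elem_bound (hB : ∀ g ∈ B, InT g) (hc : ∀ g ∈ B, ∀ k ∈ B, Commute g k)
    (h2 : ∀ g ∈ B, g * g = 1) :
    Nat.card B ≤ 512 ∧ (512 ≤ Nat.card B → ∀ g ∈ B, ∃ x < 512, g = R x) := by
  classical
  choose u hu64 hu using hB
  let E : Finset ℕ := (Finset.range 64).filter fun v => ∃ g ∈ B, Prm g v
  let Kx : Finset ℕ := (Finset.range 512).filter fun x => R x ∈ B
  have hsq : ∀ {g : SG} {v : ℕ}, g ∈ B → v < 64 → Prm g v → umul v v = 0 := fun {g v} hg _ hp =>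
    Prm.unique (umk_spec _ _ _).1 (by omega) (hp.mul hp) (h2 g hg ▸ Prm_one)
  -- fixed points
  have hfix : ∀ v ∈ E, ∀ x ∈ Kx, uact v x = x := fun v hv x hx => by
    simp only [E, Kx, Finset.mem_filter, Finset.mem_range] at hv hx
    obtain ⟨hv, g, hg, hp⟩ := hv
    obtain ⟨y, -, rfl⟩ := exists_nf hv hp
    have hcm : Ug v * R y * R x = R x * (Ug v * R y) := hc _ hg _ hx.2
    refine R_inj (uact_lt hv hx.1) hx.1 ?_
    rw [← Ug_conj hv, mul_inv_eq_iff_eq_mul]
    have e1 : R y * R x = R x * R y := (bprod_comm R_inv9 y x).eq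
    refine mul_right_cancel (b := R y) ?_
    rw [mul_assoc, ← e1, ← mul_assoc, hcm, mul_assoc]
  -- the count
  have hcount : Nat.card B ≤ E.card * Kx.card := by
    have hsel : ∀ v ∈ E, ∃ g ∈ B, Prm g v := fun v hv => by
      simp only [E, Finset.mem_filter] at hv
      exact hv.2
    choose s hs hs' using hsel
    have hx : ∀ g : B, ∃ p : ℕ × ℕ, p ∈ E ×ˢ Kx ∧ ∃ h : p.1 ∈ E, (g : SG) = s p.1 h * R p.2 := fun g => by
      have hgE : u g.1 g.2 ∈ E := Finset.mem_filter.2
        ⟨Finset.mem_range.2 (hu64 _ g.2), g.1, g.2, hu _ g.2⟩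
      set g₀ := s _ hgE
      have h0 : Prm (g₀⁻¹ * g.1) 0 := by
        rw [inv_eq_of_mul_eq_one_right (h2 _ (hs _ hgE))]
        have := (hs' _ hgE).mul (hu _ g.2)
        rwa [hsq g.2 (hu64 _ g.2) (hu _ g.2)] at this
      obtain ⟨y, hy, e⟩ := exists_R (g := g₀⁻¹ * g.1) h0.1
        (by simpa [ua, show el 0 = (0 : K) from rfl] using h0.2.1)
        (by simpa [ub, uc, show el 0 = (0 : K) from rfl] using h0.2.2)
      refine ⟨(_, y), Finset.mem_product.2 ⟨hgE, Finset.mem_filter.2 ⟨Finset.mem_range.2 hy, ?_⟩⟩,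
        hgE, by rw [← e, mul_inv_cancel_left]⟩
      rw [← e]; exact B.mul_mem (B.inv_mem (hs _ hgE)) g.2
    choose f hf hf' hf'' using hx
    let φ : B → ↥(E ×ˢ Kx) := fun g => ⟨f g, hf g⟩
    have hφ : Function.Injective φ := fun g k e => by
      have e' : f g = f k := congrArg Subtype.val e
      refine Subtype.ext ((hf'' g).trans ?_)
      rw [hf'' k]; simp only [e']
    have := Nat.card_le_card_of_injective φ hφ
    rwa [Nat.card_eq_fintype_card (α := ↥(E ×ˢ Kx)), Fintype.card_coe, Finset.card_product] at this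
  have hE64 : ∀ v ∈ E, v < 64 ∧ umul v v = 0 := fun v hv => by
    simp only [E, Finset.mem_filter, Finset.mem_range] at hv
    obtain ⟨hv, g, hg, hp⟩ := hv
    exact ⟨hv, hsq hg hv hp⟩
  have hK512 : Kx.card ≤ 512 := (Finset.card_filter_le _ _).trans (by simp)
  have hEc : ∀ v ∈ E, ∀ w ∈ E, umul v w = umul w v ∧ umul v w ∈ E := fun v hv w hw => by
    simp only [E, Finset.mem_filter, Finset.mem_range] at hv hw ⊢
    obtain ⟨hv, g, hg, hp⟩ := hv
    obtain ⟨hw, k, hk, hq⟩ := hw
    exact ⟨Prm.unique (umk_spec _ _ _).1 (umk_spec _ _ _).1 (hp.mul hq)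
      ((hc g hg k hk).eq ▸ hq.mul hp), (umk_spec _ _ _).1, g * k, B.mul_mem hg hk, hp.mul hq⟩
  have hne : ∀ v ∈ E, v ≠ 0 → Kx.card ≤ 32 := fun v hv h0 =>
    (Finset.card_le_card fun x hx => Finset.mem_filter.2
      ⟨Finset.mem_range.2 (Finset.mem_range.1 (Finset.mem_filter.1 hx).1), hfix v hv x hx⟩).trans
      (fix_small v (hE64 v hv).1 h0 (hE64 v hv).2)
  by_cases hE : ∀ v ∈ E, v = 0
  · have hE1 : E.card ≤ 1 := Finset.card_le_one.2 fun a ha b hb => (hE a ha).trans (hE b hb).symm
    refine ⟨hcount.trans ((Nat.mul_le_mul hE1 hK512).trans (by norm_num)), fun _ g hg => ?_⟩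
    have hu0 : u g hg = 0 := hE _ (Finset.mem_filter.2 ⟨Finset.mem_range.2 (hu64 _ hg), g, hg, hu _ hg⟩)
    have hp := hu0 ▸ hu _ hg
    exact exists_R hp.1 (by simpa [ua, show el 0 = (0 : K) from rfl] using hp.2.1)
      (by simpa [ub, uc, show el 0 = (0 : K) from rfl] using hp.2.2)
  push Not at hE
  obtain ⟨v₀, hv₀, hv₀0⟩ := hE
  have hK32 := hne v₀ hv₀ hv₀0
  suffices hlt : E.card * Kx.card < 512 from
    ⟨hcount.trans hlt.le, fun h => absurd (hcount.trans_lt hlt) (not_lt.2 h)⟩
  by_cases h8 : E.card ≤ 8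
  · exact (Nat.mul_le_mul h8 hK32).trans_lt (by norm_num)
  have big : ∀ S : Finset ℕ, S.card = 16 → E ⊆ S →
      (∀ v ∈ S, umul 16 v ∈ S ∧ umul 32 v ∈ S) → E.card * Kx.card < 512 := fun S hS hES hcl => by
    have hE16 : E.card ≤ 16 := (Finset.card_le_card hES).trans hS.le
    have hmem : ∀ c : ℕ, (c = 16 ∨ c = 32) → c ∈ E := fun c hc => by
      have hinj : Set.InjOn (umul c) (E : Set ℕ) := fun a ha b hb e => by
        have ka := umul_center a (hE64 a ha).1
        have kb := umul_center b (hE64 b hb).1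
        rcases hc with rfl | rfl
        · rw [← ka.1, ← kb.1, e]
        · rw [← ka.2.1, ← kb.2.1, e]
      obtain ⟨a, ha⟩ : (E.image (umul c) ∩ E).Nonempty := Finset.card_pos.1 (by
        have h1 := Finset.card_union_add_card_inter (E.image (umul c)) E
        have h2 : (E.image (umul c) ∪ E).card ≤ 16 := (Finset.card_le_card
          (Finset.union_subset (Finset.image_subset_iff.2 fun v hv => by
            rcases hc with rfl | rfl
            exacts [(hcl v (hES hv)).1, (hcl v (hES hv)).2]) hES)).trans hS.le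
        rw [Finset.card_image_of_injOn hinj] at h1
        omega)
      obtain ⟨hai, haE⟩ := Finset.mem_inter.1 ha
      obtain ⟨b, hb, rfl⟩ := Finset.mem_image.1 hai
      have key : ∀ b < 64, umul b b = 0 → umul (umul 16 b) b = 16 ∧ umul (umul 32 b) b = 32 := by
        decide +kernel
      have := key b (hE64 b hb).1 (hE64 b hb).2
      have hm := (hEc _ haE _ hb).2
      rcases hc with rfl | rfl
      · rwa [this.1] at hm
      · rwa [this.2] at hm
    have hK16 : Kx.card ≤ 16 := (Finset.card_le_card fun x hx => Finset.mem_filter.2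
      ⟨Finset.mem_filter.2 ⟨(Finset.mem_filter.1 hx).1, hfix 16 (hmem 16 (Or.inl rfl)) x hx⟩,
        hfix 32 (hmem 32 (Or.inr rfl)) x hx⟩).trans fix_center
    exact (Nat.mul_le_mul hE16 hK16).trans_lt (by norm_num)
  by_cases ha : ∀ v ∈ E, v % 4 = 0
  · exact big _ half_card.1 (fun v hv => Finset.mem_filter.2 ⟨Finset.mem_range.2 (hE64 v hv).1, ha v hv⟩)
      fun v hv => by
        simp only [Finset.mem_filter, Finset.mem_range] at hv ⊢
        have := umul_center v hv.1
        omega
  · refine big _ half_card.2 (fun v hv => Finset.mem_filter.2 ⟨Finset.mem_range.2 (hE64 v hv).1, ?_⟩)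
      fun v hv => by
        simp only [Finset.mem_filter, Finset.mem_range] at hv ⊢
        have := umul_center v hv.1
        omega
    push Not at ha
    obtain ⟨w, hw, hw4⟩ := ha
    rcases commuting_params v (hE64 v hv).1 w (hE64 w hw).1 (hE64 v hv).2 (hE64 w hw).2
      (hEc v hv w hw).1 with h | h | h <;> omega

end elem

/-! ## Classes of involutions -/

theorem fr_li : LinearIndependent K fr :=
  linearIndependent_of_top_le_span_of_card_eq_finrank
    (fun x _ => by
      rw [← expand x]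
      exact Submodule.sum_mem _ fun j _ => Submodule.smul_mem _ _ (Submodule.subset_span ⟨j, rfl⟩))
    (by simp)

/-- The code of the product of the first `m + 1` basic transvections. -/
def cm (m : Fin 3) : ℕ := [1, 3, 7].getD m 0

theorem model_act : ∀ (m : Fin 3) (j : Fin 6),
    wn (Rl (cm m)) (fr j) = if 3 ≤ j.val ∧ j.val ≤ 3 + m.val then fr j + fr (opp j) else fr j := by
  decide +kernel

/-- The matrix of an element. -/
noncomputable def mat (g : SG) : Matrix (Fin 6) (Fin 6) K := ((suEquiv hK).symm g).1.1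

theorem mat_mulVec (g : SG) (x : V) : Matrix.mulVec (mat g) x = g • x := by
  rw [mat, ← suEquiv_smul hK, MulEquiv.apply_symm_apply]

theorem mat_isom (g : SG) (u v : V) :
    hermForm 6 K 2 (Matrix.mulVec (mat g) u) (Matrix.mulVec (mat g) v) = hermForm 6 K 2 u v := by
  rw [mat_mulVec, mat_mulVec, ← Forms.hermB_apply hK, ← Forms.hermB_apply hK, U6.isom cx]

theorem mat_sq {g : SG} (hg : g * g = 1) : mat g * mat g = 1 :=
  Matrix.mulVec_injective (funext fun x => by
    rw [← Matrix.mulVec_mulVec, mat_mulVec, mat_mulVec, ← mul_smul, hg, one_smul, Matrix.one_mulVec])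

theorem rank_model (m : Fin 3) : (mat (R (cm m)) - 1).rank = m.val + 1 := by
  have hT : ∀ x, Matrix.mulVecLin (mat (R (cm m)) - 1) x = R (cm m) • x - x := fun x => by
    rw [Matrix.mulVecLin_apply, Matrix.sub_mulVec, mat_mulVec, Matrix.one_mulVec]
  have hfr : ∀ j, Matrix.mulVecLin (mat (R (cm m)) - 1) (fr j) =
      if 3 ≤ j.val ∧ j.val ≤ 3 + m.val then fr (opp j) else 0 := fun j => by
    rw [hT, R_eq, W_smul (Rl_iso _), model_act]
    split <;> simp
  let v : Fin (m.val + 1) → V := fun i => fr ⟨i.val, by omega⟩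
  have hv : LinearIndependent K v :=
    fr_li.comp _ fun a b e => Fin.ext (Fin.mk.inj e)
  have hrange : LinearMap.range (Matrix.mulVecLin (mat (R (cm m)) - 1)) =
      Submodule.span K (Set.range v) := by
    refine le_antisymm ?_ ?_
    · rintro _ ⟨x, rfl⟩
      rw [← expand x, map_sum]
      refine Submodule.sum_mem _ fun j _ => ?_
      rw [map_smul, hfr]
      split
      · rename_i h
        refine Submodule.smul_mem _ _ (Submodule.subset_span ⟨⟨j.val - 3, by omega⟩, ?_⟩)
        exact congrArg fr (Fin.ext (by simp [opp, Fin.val_add]; omega))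
      · rw [smul_zero]; exact Submodule.zero_mem _
    · rw [Submodule.span_le]
      rintro _ ⟨i, rfl⟩
      refine ⟨fr ⟨i.val + 3, by omega⟩, ?_⟩
      rw [hfr, if_pos ⟨by simp, by simp; omega⟩]
      exact congrArg fr (Fin.ext (by simp [opp, Fin.val_add]; omega))
  show Module.finrank K (LinearMap.range (Matrix.mulVecLin (mat (R (cm m)) - 1))) = _
  rw [hrange, finrank_span_eq_card hv, Fintype.card_fin]

/-- Every involution is conjugate to one of the three models. -/
theorem exists_conj_model {g : SG} (hg : g * g = 1) (hne : g ≠ 1) :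
    ∃ (k : SG) (m : Fin 3), k * g * k⁻¹ = R (cm m) := by
  haveI : CharP K 2 := CharTwo.of_one_ne_zero_of_two_eq_zero one_ne_zero G2Four.two_eq_zero
  have hne' : mat g ≠ 1 := fun e => hne (U6.ext_smul cx fun x => by
    rw [← mat_mulVec, e, Matrix.one_mulVec, one_smul])
  have hr1 : (mat g - 1).rank ≠ 0 := fun h0 => by
    have h : Matrix.mulVecLin (mat g - 1) = 0 :=
      LinearMap.range_eq_bot.1 (Submodule.finrank_eq_zero.1 h0)
    exact hne' (sub_eq_zero.1 (Matrix.mulVec_injective (funext fun v => by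
      rw [Matrix.zero_mulVec]; exact LinearMap.congr_fun h v)))
  have hr3 : (mat g - 1).rank ≤ 3 := by
    have hle : LinearMap.range (Forms.UniTwo.nil (mat g)) ≤ LinearMap.ker (Forms.UniTwo.nil (mat g)) := by
      rintro _ ⟨x, rfl⟩
      exact Forms.UniTwo.nil_nil (mat_sq hg) x
    have h1 := LinearMap.finrank_range_add_finrank_ker (Forms.UniTwo.nil (mat g))
    have h2 := Submodule.finrank_mono hle
    rw [Module.finrank_fin_fun] at h1
    show Module.finrank K (LinearMap.range (Forms.UniTwo.nil (mat g))) ≤ 3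
    omega
  obtain ⟨m, hm⟩ : ∃ m : Fin 3, (mat g - 1).rank = m.val + 1 :=
    ⟨⟨(mat g - 1).rank - 1, by omega⟩, by simp; omega⟩
  obtain ⟨A, hA1, hA2, hA3⟩ := Forms.UniTwo.exists_conj (q := 2) hK (mat_isom g) (mat_sq hg)
    (mat_isom (R (cm m))) (mat_sq (R_sq _)) hne' (hm.trans (rank_model m).symm)
  let k : SG := suEquiv hK ⟨⟨A, hA1⟩, (mem_SU_iff hK _).2 fun x y => hA2 y x⟩
  refine ⟨k, m, ?_⟩
  rw [mul_inv_eq_iff_eq_mul]
  refine U6.ext_smul cx fun x => ?_
  rw [mul_smul, mul_smul, ← mat_mulVec g, ← mat_mulVec (R (cm m)), suEquiv_smul, suEquiv_smul,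
    Matrix.mulVec_mulVec, Matrix.mulVec_mulVec, hA3]

end Cfsg.Agent.Transpos.L6
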