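import Cfsg.Agent.Lib.Transpos.U6Double

/-!
# The ten-bit model in a double cover; the cover is not split on the plane

`f10` identifies `A0` (the preimage of the elements fixing the plane) with the ten-bit codes;
`not_split` uses the transfer: in a perfect double cover the two relations cannot both be trivial.
-/

set_option autoImplicit false
set_option maxRecDepth 20000

namespace Cfsg.Agent.Transpos.L6

open Cfsg Cfsg.Agent.ClassicalSimple
open scoped commutatorElement

theorem bprod_ext {M : Type*} [Monoid M] {f : ℕ → M} {n x : ℕ} (hx : x < 2 ^ n) :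
    ∀ m, n ≤ m → bprod f m x = bprod f n x := by
  intro m hm
  induction m, hm using Nat.le_induction with
  | base => rfl
  | succ m hm ih =>
    have : x.testBit m = false := Nat.testBit_eq_false_of_lt (hx.trans_le (Nat.pow_le_pow_right two_pos hm))
    simp [bprod, this, ih]

variable {C : Type*} [Group C] [Finite C] (Δ : Dbl C)

/-- A normalised lift. -/
structure Good (x : C) : Prop where
  lift : Δ.ψ x = mkQ (T1 5)
  five : Δ.Phi x L0 = 1

/-- The values of the two further relations. -/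
noncomputable def eps (x : C) (m : ℕ) : Bool := by
  classical exact decide (Δ.Phi x m = Δ.z)

variable {Δ}
variable {x : C} (g : Good Δ x)
include g

theorem Phi_xor (a b : ℕ) : Δ.Phi x (a ^^^ b) = Δ.Phi x a * Δ.Phi x b :=
  bprod_xor (Δ.Pb_inv21 g.lift) a b

theorem Phi_rel {m : ℕ} (hm : imgm m = 0) :
    Δ.Phi x m = if eps Δ x m then Δ.z else 1 := by
  classical
  rcases Δ.ker (Δ.Phi x m) (by rw [Δ.ψ_Phi g.lift, hm, R_zero, map_one]) with h | h
  · simp [eps, h, Δ.z1.symm]
  · simp [eps, h]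

theorem root_conj_Pb {r j : ℕ} (hr : r < 8) (hj : j < 21) {y : C} (ey : Δ.ψ y = mkQ (Rt r)) :
    y * Δ.Pb x j * y⁻¹ = Δ.Pb x (perm r j) := by
  obtain ⟨h1, -, s, hs, e⟩ := root_perm r hr j hj
  exact Δ.Pl_conj g.lift (iso_P hj) (iso_all.1 j hj).2 (iso_P h1) ey hs
    (by rw [Rt, W_smul (iso_root hr)]; exact e)

theorem root_conj_Phi {r : ℕ} (hr : r < 8) {y : C} (ey : Δ.ψ y = mkQ (Rt r)) (m : ℕ) :
    y * Δ.Phi x m * y⁻¹ = Δ.Phi x (pperm r m) := by
  show (MulAut.conj y).toMonoidHom (Δ.Phi x m) = _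
  rw [Dbl.Phi, bprod_map, Dbl.Phi, pperm, bprod_bmap (Δ.Pb_inv21 g.lift)]
  refine bprod_congr (fun i hi => ?_) m
  rw [bprod_single (root_perm r hr i hi).1]
  exact root_conj_Pb g hr hi ey

theorem Phi_term {p : ℕ × ℕ} (hp : p.1 < 8) (hm : imgm p.2 = 0) : Δ.Phi x (term p) = 1 := by
  obtain ⟨y, ey⟩ := Δ.surj (mkQ (Rt p.1))
  rw [term, Phi_xor g, ← root_conj_Phi g hp ey]
  have hc : Commute y (Δ.Phi x p.2) := by
    rw [Phi_rel g hm]
    split
    exacts [(Δ.zc y).symm, Commute.one_right y]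
  rw [hc.eq, mul_inv_cancel_right]
  exact bprod_sq (Δ.Pb_inv21 g.lift) _

/-- The lift of point `j` in terms of the first nine and `z`. -/
theorem Pb_code {j : ℕ} (hj : j < 21) :
    Δ.Pb x j = Δ.Phi x (pc j) * if cval (eps Δ x h1m) (eps Δ x h2m) j then Δ.z else 1 := by
  have hI := Δ.Pb_inv21 g.lift
  by_cases h9 : j < 9
  · have : ∀ j < 9, pc j = 1 <<< j := by decide +kernel
    simp [cval, h9, this j h9, Dbl.Phi, bprod_single hj]
  obtain ⟨k, rfl⟩ : ∃ k, j = k + 9 := ⟨j - 9, by omega⟩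
  have hk : k < 12 := by omega
  have hl : k < certs.length := by rw [show certs.length = 12 from rfl]; exact hk
  obtain ⟨h, hp⟩ := certs_ok k hk _ (List.getElem?_eq_getElem hl)
  have hfold : ∀ l : List (ℕ × ℕ), (∀ p ∈ l, p.1 < 8 ∧ imgm p.2 = 0) →
      Δ.Phi x ((l.map term).foldr (· ^^^ ·) 0) = 1 := fun l hl => by
    induction l with
    | nil => exact bprod_zero _ _
    | cons p l ih =>
      rw [List.map_cons, List.foldr_cons, Phi_xor g,
        Phi_term g (hl p (List.mem_cons_self ..)).1 (hl p (List.mem_cons_self ..)).2,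
        ih fun q hq => hl q (List.mem_cons_of_mem _ hq), one_mul]
  have e : Δ.Phi x (1 <<< (k + 9)) * Δ.Phi x (pc (k + 9)) =
      if cval (eps Δ x h1m) (eps Δ x h2m) (k + 9) then Δ.z else 1 := by
    rw [← Phi_xor g, h, Phi_xor g, Phi_xor g, Phi_xor g, hfold _ hp, mul_one]
    simp only [apply_ite (Δ.Phi x), g.five, Phi_rel g imgm_h.2.1, Phi_rel g imgm_h.2.2,
      show Δ.Phi x 0 = 1 from bprod_zero _ _, ite_self]
    simp only [cval, if_neg h9, Nat.add_sub_cancel, List.getD_eq_getElem _ _ hl]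
    generalize certs[k].2.1 = b, certs[k].2.2.1 = b', eps Δ x h1m = a, eps Δ x h2m = a'
    cases b <;> cases b' <;> cases a <;> cases a' <;> simp [Δ.zz]
  rw [Dbl.Phi, bprod_single hj] at e
  rw [← e]
  show _ = bprod _ _ _ * (Δ.Pb x (k + 9) * bprod _ _ _)
  rw [← mul_assoc, ← (bprod_commute (fun i hi => hI.2 _ hj _ hi) _).eq, mul_assoc,
    bprod_sq hI, mul_one]

omit g in
/-- The basis of ten. -/
noncomputable def f10 (Δ : Dbl C) (x : C) (a : ℕ) : C :=
  bprod (fun i => if i < 9 then Δ.Pb x i else Δ.z) 10 a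

theorem f10_inv : BInv (fun i => if i < 9 then Δ.Pb x i else Δ.z) 10 := by
  have hI := Δ.Pb_inv21 g.lift
  refine ⟨fun i hi => ?_, fun i hi j hj => ?_⟩
  · dsimp only
    split
    exacts [hI.1 i (by omega), Δ.zz]
  · dsimp only
    split <;> split
    exacts [hI.2 i (by omega) j (by omega), (Δ.zc _).symm, Δ.zc _, Commute.refl _]

theorem f10_xor (a b : ℕ) : f10 Δ x (a ^^^ b) = f10 Δ x a * f10 Δ x b := bprod_xor (f10_inv g) a b

omit g in
theorem f10_zero : f10 Δ x 0 = 1 := bprod_zero _ _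

omit g in
theorem f10_z : f10 Δ x 512 = Δ.z := by
  have := bprod_single (f := fun i => if i < 9 then Δ.Pb x i else Δ.z) (n := 10) (i := 9) (by omega)
  simpa [f10, Nat.one_shiftLeft] using this

omit g in
theorem f10_low {a : ℕ} (ha : a < 512) : f10 Δ x a = Δ.Phi x a := by
  rw [f10, Dbl.Phi, bprod_ext (n := 9) (by simpa using ha) 10 (by omega),
    bprod_ext (n := 9) (by simpa using ha) 21 (by omega)]
  exact bprod_congr (fun i hi => if_pos hi) a

theorem ψ_f10 (a : ℕ) : Δ.ψ (f10 Δ x a) = mkQ (R a) := by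
  rw [f10, bprod, bprod_congr (g := Δ.Pb x) (fun i hi => if_pos hi) a, map_mul,
    show Δ.ψ (if a.testBit 9 then (if 9 < 9 then Δ.Pb x 9 else Δ.z) else 1) = 1 by
      split <;> simp [Δ.ψz], mul_one, bprod_map, R, bprod_map]
  exact bprod_congr (fun i hi => Δ.ψ_Pb g.lift (by omega)) a

theorem f10_inj {a b : ℕ} (ha : a < 1024) (hb : b < 1024) (e : f10 Δ x a = f10 Δ x b) : a = b := by
  have h := ψ_f10 g (a ^^^ b)
  rw [f10_xor g, e, f10, bprod_sq (f10_inv g), map_one] at h
  have hR : R ((a ^^^ b) % 512) = R (a ^^^ b) := by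
    rw [R, R]
    have key : ∀ n ≤ 9, ∀ y, bprod (fun i => T1 (P i)) n (y % 512) = bprod (fun i => T1 (P i)) n y := by
      intro n hn y
      induction n with
      | zero => rfl
      | succ n ih =>
        have ht : (y % 512).testBit n = y.testBit n := by
          rw [show (512 : ℕ) = 2 ^ 9 from rfl, Nat.testBit_mod_two_pow, decide_eq_true (show n < 9 by omega),
            Bool.true_and]
        simp only [bprod, ih (by omega), ht]
    exact key 9 le_rfl _
  have h1 : R (a ^^^ b) = 1 := mkQ_injOn ⟨0, by omega, R_prm _⟩ h.symm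
  have h2 : (a ^^^ b) % 512 = 0 := R_inj (Nat.mod_lt _ (by norm_num)) (by norm_num) (by rw [hR, h1, R_zero])
  have h3 : a ^^^ b < 1024 := Nat.xor_lt_two_pow (n := 10) ha hb
  rcases (show a ^^^ b = 0 ∨ a ^^^ b = 512 by omega) with h4 | h4
  · exact Nat.xor_eq_zero_iff.1 h4
  · have : f10 Δ x (a ^^^ b) = 1 := by rw [f10_xor g, e]; exact bprod_sq (f10_inv g) _
    rw [h4, f10_z] at this
    exact absurd this Δ.z1

/-- The code of a point. -/
theorem f10_tb {j : ℕ} (hj : j < 21) :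
    f10 Δ x (tb (eps Δ x h1m) (eps Δ x h2m) j) = Δ.Pb x j := by
  rw [tb, f10_xor g, f10_low (pc_ok j hj).1, Pb_code g hj]
  by_cases h : cval (eps Δ x h1m) (eps Δ x h2m) j = true
  · simp [h, f10_z]
  · simp [h, f10_zero]

theorem root_conj_f10 {r : ℕ} (hr : r < 8) {y : C} (ey : Δ.ψ y = mkQ (Rt r)) (a : ℕ) :
    y * f10 Δ x a * y⁻¹ = f10 Δ x (gact10 (eps Δ x h1m) (eps Δ x h2m) r a) := by
  show (MulAut.conj y).toMonoidHom (f10 Δ x a) = _
  rw [f10, bprod_map, f10, gact10, bprod_bmap (f10_inv g)]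
  refine bprod_congr (fun i hi => ?_) a
  by_cases h : i < 9
  · simp only [h, if_true]
    exact (root_conj_Pb g hr (by omega) ey).trans (f10_tb g (root_perm r hr i (by omega)).1).symm
  · simp only [h, if_false]
    refine Eq.trans ?_ f10_z.symm
    show y * Δ.z * y⁻¹ = Δ.z
    rw [← (Δ.zc y).eq, mul_inv_cancel_right]

theorem mem_preimage_R {c : C} {a : ℕ} (ha : a < 512) (h : Δ.ψ c = mkQ (R a)) :
    c = f10 Δ x a ∨ c = f10 Δ x (a ^^^ 512) := by
  rcases Δ.eq_or (h.trans (ψ_f10 g a).symm) with e | e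
  · exact Or.inl e
  · exact Or.inr (by rw [f10_xor g, f10_z]; exact e)

end Cfsg.Agent.Transpos.L6
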