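import Cfsg.Agent.Lib.Transpos.U6Model

/-!
# A perfect double cover is not split on the plane

If both relations are trivial, the commutator subgroup of the Sylow subgroup over `TQ` avoids `z`,
against the transfer.
-/

set_option autoImplicit false
set_option maxRecDepth 20000

namespace Cfsg.Agent.Transpos.L6

open Cfsg Cfsg.Agent.ClassicalSimple
open scoped commutatorElement

section general

variable {G : Type*} [Group G]

/-- A subgroup with commutators of generators in a normalised `N` has derived subgroup in `N`. -/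
theorem commutator_closure_le {S : Set G} {N : Subgroup G}
    (hn : ∀ s ∈ S, ∀ n ∈ N, s * n * s⁻¹ ∈ N) (hn' : ∀ s ∈ S, ∀ n ∈ N, s⁻¹ * n * s ∈ N)
    (hc : ∀ s ∈ S, ∀ t ∈ S, ⁅s, t⁆ ∈ N) :
    ⁅Subgroup.closure S, Subgroup.closure S⁆ ≤ N := by
  have hN : ∀ g ∈ Subgroup.closure S, (∀ n ∈ N, g * n * g⁻¹ ∈ N) ∧ ∀ n ∈ N, g⁻¹ * n * g ∈ N := fun g hg => by
    induction hg using Subgroup.closure_induction with
    | mem s hs => exact ⟨hn s hs, hn' s hs⟩
    | one => simp
    | mul a b _ _ ha hb =>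
      refine ⟨fun n h => ?_, fun n h => ?_⟩
      · rw [show a * b * n * (a * b)⁻¹ = a * (b * n * b⁻¹) * a⁻¹ by group]; exact ha.1 _ (hb.1 n h)
      · rw [show (a * b)⁻¹ * n * (a * b) = b⁻¹ * (a⁻¹ * n * a) * b by group]; exact hb.2 _ (ha.2 n h)
    | inv a _ ha => exact ⟨by simpa using ha.2, by simpa using ha.1⟩
  have step : ∀ s ∈ S, ∀ t ∈ Subgroup.closure S, ⁅s, t⁆ ∈ N := fun s hs t ht => by
    induction ht using Subgroup.closure_induction with
    | mem u hu => exact hc s hs u hu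
    | one => simp
    | mul a b ha _ iha ihb =>
      rw [show ⁅s, a * b⁆ = ⁅s, a⁆ * (a * ⁅s, b⁆ * a⁻¹) by simp [commutatorElement_def]; group]
      exact N.mul_mem iha ((hN a ha).1 _ ihb)
    | inv a ha iha =>
      rw [show ⁅s, a⁻¹⁆ = a⁻¹ * ⁅s, a⁆⁻¹ * a by simp [commutatorElement_def]; group]
      exact (hN a ha).2 _ (N.inv_mem iha)
  rw [Subgroup.commutator_le]
  intro p hp q hq
  induction hp using Subgroup.closure_induction with
  | mem u hu => exact step u hu q hq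
  | one => simp
  | mul a b ha _ iha ihb =>
    rw [show ⁅a * b, q⁆ = a * ⁅b, q⁆ * a⁻¹ * ⁅a, q⁆ by simp [commutatorElement_def]; group]
    exact N.mul_mem ((hN a ha).1 _ ihb) iha
  | inv a ha iha =>
    rw [show ⁅a⁻¹, q⁆ = a⁻¹ * ⁅a, q⁆⁻¹ * a by simp [commutatorElement_def]; group]
    exact (hN a ha).2 _ (N.inv_mem iha)

/-- Transfer: a central involution of a perfect group lies in the derived subgroup of any subgroup of
odd index containing it. -/
theorem mem_commutator_of_odd_index [Finite G] (hperf : commutator G = ⊤) {H : Subgroup G}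
    (hH : Odd H.index) {z : G} (hz : z * z = 1) (hzc : ∀ x, Commute z x) :
    z ∈ ⁅H, H⁆ := by
  have : H.FiniteIndex := inferInstance
  let φ : ↥H →* Abelianization ↥H := Abelianization.of
  have key : ∀ (k : ℕ) (g₀ : G), g₀⁻¹ * z ^ k * g₀ ∈ H → g₀⁻¹ * z ^ k * g₀ = z ^ k :=
    fun k g₀ _ => by rw [mul_assoc, ((hzc g₀).pow_left k).eq, inv_mul_cancel_left]
  have h1 := MonoidHom.transfer_eq_pow φ z key
  have h2 : MonoidHom.transfer φ z = 1 := by
    have : commutator G ≤ (MonoidHom.transfer φ).ker := Abelianization.commutator_subset_ker _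
    exact MonoidHom.mem_ker.1 (this (hperf ▸ Subgroup.mem_top z))
  rw [h2] at h1
  obtain ⟨m, hm⟩ := hH
  have hpow : z ^ H.index = z := by rw [hm, pow_succ, pow_mul, pow_two, hz, one_pow, one_mul]
  have hmem := MonoidHom.transfer_eq_pow_aux z key
  have h3 : (⟨z ^ H.index, hmem⟩ : ↥H) ∈ commutator ↥H := (QuotientGroup.eq_one_iff _).1 h1.symm
  have := Subgroup.mem_map_of_mem H.subtype h3
  rw [commutator_def, Subgroup.map_commutator, ← MonoidHom.range_eq_map, Subgroup.range_subtype] at this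
  rw [← hpow]; exact this

end general

/-- The centres of the root element moved by another. -/
def imgC (a b : ℕ) : List ℕ :=
  match a, b with
  | 0, 2 => [3813, 5, 3808]
  | 0, 3 => [2533, 5, 2528]
  | 1, 2 => [2453, 5, 3808]
  | _, _ => [1941, 5, 2528]

/-- The root elements with the same image as the commutator. -/
def comC (a b : ℕ) : List ℕ :=
  match a, b with
  | 0, 2 => [4]
  | 0, 3 => [5]
  | 1, 2 => [5]
  | _, _ => [4, 5]

/-- The centres concerned. -/
def allC (a b : ℕ) : List ℕ := rootL a ++ imgC a b ++ (comC a b).flatMap rootL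

/-- Their places in the plane after moving by `wq`. -/
def allI (a b : ℕ) : List ℕ :=
  (match a, b with
    | 0, 2 => [3, 0, 1, 12, 0, 7]
    | 0, 3 => [3, 0, 1, 14, 0, 11]
    | 1, 2 => [9, 0, 1, 20, 0, 7]
    | _, _ => [9, 0, 1, 19, 0, 11]) ++
  (comC a b).flatMap fun r => if r = 4 then [5, 0, 2] else [10, 0, 2]

set_option synthInstance.maxSize 2000 in
theorem comm_data : ∀ a < 2, ∀ b < 4, 2 ≤ b →
    (∀ c ∈ allC a b, Iso c ∧ vec c ≠ 0) ∧
    (rootL a).length = (imgC a b).length ∧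
    (∀ p ∈ (rootL a).zip (imgC a b), ∃ s : K, s ≠ 0 ∧ wn (rootL b) (vec p.1) = s • vec p.2) ∧
    (allI a b).length = (allC a b).length ∧
    (∀ p ∈ (allC a b).zip (allI a b), p.2 < 21 ∧
      ∃ s : K, s ≠ 0 ∧ wn [176, 2816] (vec p.1) = s • vec (P p.2)) ∧
    imgm ((allI a b).foldr (fun i m => 1 <<< i ^^^ m) 0) = 0 ∧
    ∀ r ∈ comC a b, 4 ≤ r ∧ r < 6 := by decide +kernel

theorem wq_iso : ∀ c ∈ [176, 2816], Iso c := by decide +kernel

set_option synthInstance.maxSize 2000 in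
theorem fixed_data : ∀ r < 6, ∀ c < 6, 4 ≤ c → ∀ v ∈ rootL c, ∃ s : K, s ≠ 0 ∧
    wn (rootL r) (vec v) = s • vec v := by decide +kernel

theorem pair_data : ∀ a ∈ rootL 0 ++ rootL 1, ∀ b ∈ rootL 0 ++ rootL 1,
    hermForm 6 K 2 (vec a) (vec b) = 0 := by decide +kernel

theorem pair_data' : ∀ a ∈ rootL 2 ++ rootL 3, ∀ b ∈ rootL 2 ++ rootL 3,
    hermForm 6 K 2 (vec a) (vec b) = 0 := by decide +kernel

theorem gact10_low : ∀ r < 6, ∀ i < 9, tb false false (perm r i) < 512 := by decide +kernel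

variable {C : Type*} [Group C] [Finite C] (Δ : Dbl C)

/-- The product of canonical lifts of a list of centres. -/
noncomputable def PL (x : C) (l : List ℕ) : C := (l.map (Δ.Pl x)).prod

/-- The canonical lift of a root element. -/
noncomputable def Yr (x : C) (r : ℕ) : C := PL Δ x (rootL r)

variable {Δ} {x : C} (g : Good Δ x)
include g

theorem ψ_PL : ∀ {l : List ℕ}, (∀ c ∈ l, Iso c ∧ vec c ≠ 0) → Δ.ψ (PL Δ x l) = mkQ (W l)
  | [], _ => by simp [PL, W_nil]
  | c :: l, h => by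
    have ih := ψ_PL (l := l) fun a ha => h a (List.mem_cons_of_mem _ ha)
    simp only [PL, List.map_cons, List.prod_cons, map_mul] at ih ⊢
    rw [ih, Δ.ψ_Pl g.lift (h c (List.mem_cons_self ..)).1 (h c (List.mem_cons_self ..)).2, ← map_mul, W_cons]

theorem PL_conj {y : C} {k : SG} (hy : Δ.ψ y = mkQ k) : ∀ {l m : List ℕ}, l.length = m.length →
    (∀ c ∈ l, Iso c ∧ vec c ≠ 0) → (∀ c ∈ m, Iso c) →
    (∀ p ∈ l.zip m, ∃ s : K, s ≠ 0 ∧ k • vec p.1 = s • vec p.2) →
    y * PL Δ x l * y⁻¹ = PL Δ x m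
  | [], [], _, _, _, _ => by simp [PL]
  | c :: l, b :: m, hlen, hl, hm, hp => by
    have ih := PL_conj hy (l := l) (m := m) (by simpa using hlen)
      (fun a ha => hl a (List.mem_cons_of_mem _ ha)) (fun a ha => hm a (List.mem_cons_of_mem _ ha))
      (fun p hp' => hp p (List.mem_cons_of_mem _ hp'))
    obtain ⟨s, hs, e⟩ := hp (c, b) (List.mem_cons_self ..)
    have h1 := Δ.Pl_conj g.lift (hl c (List.mem_cons_self ..)).1 (hl c (List.mem_cons_self ..)).2
      (hm b (List.mem_cons_self ..)) hy hs e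
    simp only [PL, List.map_cons, List.prod_cons] at ih ⊢
    rw [← ih, ← h1]; group

theorem PL_orth {l m : List ℕ} (hl : ∀ c ∈ l, Iso c ∧ vec c ≠ 0) (hm : ∀ c ∈ m, Iso c ∧ vec c ≠ 0)
    (h : ∀ a ∈ l, ∀ b ∈ m, hermForm 6 K 2 (vec b) (vec a) = 0) : Commute (PL Δ x l) (PL Δ x m) := by
  refine Commute.list_prod_left _ _ fun p hp => Commute.list_prod_right _ _ fun q hq => ?_
  obtain ⟨a, ha, rfl⟩ := List.mem_map.1 hp
  obtain ⟨b, hb, rfl⟩ := List.mem_map.1 hq
  exact Δ.commute_orth (hl a ha).1 (hm b hb).1 (hm b hb).2 (h a ha b hb)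
    (Δ.ψ_Pl g.lift (hl a ha).1 (hl a ha).2) (Δ.ψ_Pl g.lift (hm b hb).1 (hm b hb).2)

theorem ψ_Yr {r : ℕ} (hr : r < 8) : Δ.ψ (Yr Δ x r) = mkQ (Rt r) := ψ_PL g (iso_all.2 r hr)

theorem Yr_sq {r : ℕ} (hr : r < 8) : Yr Δ x r * Yr Δ x r = 1 := by
  have key : ∀ l : List ℕ, (∀ c ∈ l, Iso c ∧ vec c ≠ 0) →
      (∀ a ∈ l, ∀ b ∈ l, hermForm 6 K 2 (vec a) (vec b) = 0) → PL Δ x l * PL Δ x l = 1 := by
    intro l hl ho
    induction l with
    | nil => simp [PL]
    | cons c l ih =>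
      have hh : ∀ a ∈ l, a ∈ c :: l := fun a ha => List.mem_cons_of_mem _ ha
      have hc : Commute (PL Δ x [c]) (PL Δ x l) := PL_orth g
        (fun a ha => List.mem_singleton.1 ha ▸ hl c (List.mem_cons_self ..)) (fun a ha => hl a (hh a ha))
        fun a ha b hb => List.mem_singleton.1 ha ▸ ho b (hh b hb) c (List.mem_cons_self ..)
      simp only [PL, List.map_cons, List.map_nil, List.prod_cons, List.prod_nil, mul_one] at hc ih ⊢
      rw [hc.symm.mul_mul_mul_comm, ih (fun a ha => hl a (hh a ha))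
        (fun a ha b hb => ho a (hh a ha) b (hh b hb)), mul_one]
      exact Δ.sq_T1 (hl c (List.mem_cons_self ..)).1 (hl c (List.mem_cons_self ..)).2
        (Δ.ψ_Pl g.lift (hl c (List.mem_cons_self ..)).1 (hl c (List.mem_cons_self ..)).2)
  exact key _ (iso_all.2 r hr) (root_comm r hr)

theorem Yr_inv {r : ℕ} (hr : r < 8) : (Yr Δ x r)⁻¹ = Yr Δ x r :=
  inv_eq_of_mul_eq_one_right (Yr_sq g hr)

theorem Phi_kernel (h1 : eps Δ x h1m = false) (h2 : eps Δ x h2m = false) {m : ℕ} (hm : imgm m = 0) :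
    Δ.Phi x m = 1 := by
  have hI := Δ.Pb_inv21 g.lift
  have e : bprod (Δ.Pb x) 21 m = bprod (fun i => Δ.Phi x (pc i)) 21 m :=
    bprod_congr (fun i hi => by rw [Pb_code g hi, h1, h2]; simp [cval]) m
  show bprod _ 21 m = 1
  simp only [Dbl.Phi] at e
  rw [e, ← bprod_bmap hI, show bmap pc 21 m = imgm m from rfl, hm, bprod_zero]

theorem not_split (hperf : commutator C = ⊤) : (eps Δ x h1m || eps Δ x h2m) = true := by
  by_contra hne
  rw [Bool.or_eq_true, not_or, Bool.not_eq_true, Bool.not_eq_true] at hne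
  obtain ⟨h1, h2⟩ := hne
  -- commutators of root elements
  have hab : ∀ a < 2, ∀ b < 4, 2 ≤ b →
      ⁅Yr Δ x a, Yr Δ x b⁆ * PL Δ x ((comC a b).flatMap rootL) = 1 := by
    intro a ha b hb hb2
    obtain ⟨hiso, hlen, hz, hlen', hz', hk, -⟩ := comm_data a ha b hb hb2
    have e1 : Yr Δ x b * Yr Δ x a * (Yr Δ x b)⁻¹ = PL Δ x (imgC a b) := PL_conj g (ψ_Yr g (by omega)) hlen
      (iso_all.2 a (by omega)) (fun c hc => (hiso c (by simp [allC, hc])).1) fun p hp => by
        obtain ⟨s, hs, e⟩ := hz p hp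
        exact ⟨s, hs, by rw [Rt, W_smul (iso_root (by omega))]; exact e⟩
    have e2 : ⁅Yr Δ x a, Yr Δ x b⁆ * PL Δ x ((comC a b).flatMap rootL) = PL Δ x (allC a b) := by
      simp only [commutatorElement_def, allC, PL, List.map_append, List.prod_append]
      show Yr Δ x a * Yr Δ x b * (Yr Δ x a)⁻¹ * (Yr Δ x b)⁻¹ * _ =
        Yr Δ x a * PL Δ x (imgC a b) * _
      rw [← e1, Yr_inv g (r := a) (by omega)]
      group
    obtain ⟨y, ey⟩ := Δ.surj (mkQ (W [176, 2816]))
    have e3 : y * PL Δ x (allC a b) * y⁻¹ = PL Δ x ((allI a b).map P) :=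
      PL_conj g ey (by simp [hlen']) hiso
        (fun c hc => by
          obtain ⟨i, hi, rfl⟩ := List.mem_map.1 hc
          obtain ⟨k, hk, rfl⟩ := List.getElem_of_mem hi
          exact iso_P (hz' ((allC a b)[k]'(by omega), (allI a b)[k]) (List.mem_of_getElem
            (i := k) (h := by simp; omega) (by simp))).1)
        fun p hp => by
          rw [List.zip_map_right] at hp
          obtain ⟨q, hq, rfl⟩ := List.mem_map.1 hp
          obtain ⟨-, s, hs, e⟩ := hz' q hq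
          exact ⟨s, hs, by rw [W_smul wq_iso]; exact e⟩
    have e4 : ∀ l : List ℕ, (∀ i ∈ l, i < 21) →
        PL Δ x (l.map P) = Δ.Phi x (l.foldr (fun i m => 1 <<< i ^^^ m) 0) := fun l hl => by
      induction l with
      | nil => exact (bprod_zero _ _).symm
      | cons i l ih =>
        rw [List.foldr_cons, Phi_xor g, ← ih fun j hj => hl j (List.mem_cons_of_mem _ hj)]
        show _ = bprod _ 21 _ * _
        rw [bprod_single (hl i (List.mem_cons_self ..))]
        simp [PL, Dbl.Pb]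
    rw [e4 _ (fun i hi => by
      obtain ⟨k, hk, rfl⟩ := List.getElem_of_mem hi
      exact (hz' ((allC a b)[k]'(by omega), (allI a b)[k]) (List.mem_of_getElem
        (i := k) (h := by simp; omega) (by simp))).1), Phi_kernel g h1 h2 hk] at e3
    rw [e2]
    exact mul_left_cancel (a := y) (by rw [mul_one]; exact mul_inv_eq_one.1 e3)
  -- the normal subgroup
  let Nset : Set C := {n | ∃ a < 512, n = f10 Δ x a} ∪ {n | ∃ r < 6, 4 ≤ r ∧ n = Yr Δ x r}
  let N := Subgroup.closure Nset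
  have hY : ∀ r < 6, 4 ≤ r → Yr Δ x r ∈ N := fun r hr hr4 => Subgroup.subset_closure (Or.inr ⟨r, hr, hr4, rfl⟩)
  have hF : ∀ a < 512, f10 Δ x a ∈ N := fun a ha => Subgroup.subset_closure (Or.inl ⟨a, ha, rfl⟩)
  have hfix : ∀ r < 6, ∀ c < 6, 4 ≤ c → Commute (Yr Δ x r) (Yr Δ x c) := fun r hr c hc hc4 => by
    refine mul_inv_eq_iff_eq_mul.1 (PL_conj g (ψ_Yr g (r := r) (by omega)) rfl (iso_all.2 c (by omega))
      (iso_root (by omega)) fun p hp => ?_)
    obtain ⟨k, hk, e⟩ := List.getElem_of_mem hp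
    rw [List.getElem_zip] at e
    subst e
    obtain ⟨s, hs, e⟩ := fixed_data r hr c hc hc4 ((rootL c)[k]'(by simpa using hk)) (List.getElem_mem _)
    exact ⟨s, hs, by rw [Rt, W_smul (iso_root (by omega))]; exact e⟩
  have hlow : ∀ r < 6, ∀ a < 512, gact10 false false r a < 512 := fun r hr a ha => by
    have h9 : a.testBit 9 = false := Nat.testBit_eq_false_of_lt ha
    rw [gact10, bmap, h9]
    simp only [Bool.false_eq_true, if_false, Nat.xor_zero]
    exact bmap_lt (k := 9) (fun i hi => by simp only [if_pos hi]; exact gact10_low r hr i hi) a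
  have hYf : ∀ r < 6, ∀ a, Yr Δ x r * f10 Δ x a * (Yr Δ x r)⁻¹ = f10 Δ x (gact10 false false r a) :=
    fun r hr a => by
      have := root_conj_f10 g (r := r) (by omega) (ψ_Yr g (by omega)) a
      rwa [h1, h2] at this
  have hfcomm : ∀ r < 6, ∀ a < 512, ⁅Yr Δ x r, f10 Δ x a⁆ ∈ N := fun r hr a ha => by
    rw [commutatorElement_def, hYf r hr, inv_eq_of_mul_eq_one_right (a := f10 Δ x a) (show f10 Δ x a * f10 Δ x a = 1 from bprod_sq (f10_inv g) a),
      ← f10_xor g]
    exact hF _ (Nat.xor_lt_two_pow (n := 9) (hlow r hr a ha) ha)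
  -- generators of the Sylow subgroup
  let S : Set C := {Δ.z} ∪ ({s | ∃ r < 6, s = Yr Δ x r} ∪ {s | ∃ a < 512, s = f10 Δ x a})
  have hfa : ∀ a, (f10 Δ x a)⁻¹ = f10 Δ x a := fun a => inv_eq_of_mul_eq_one_right (bprod_sq (f10_inv g) a)
  have hSinv : ∀ s ∈ S, s⁻¹ = s := by
    rintro s (h | ⟨r, hr, rfl⟩ | ⟨a, -, rfl⟩)
    · rw [Set.mem_singleton_iff.1 h]; exact inv_eq_of_mul_eq_one_right Δ.zz
    · exact Yr_inv g (by omega)
    · exact hfa a
  have hgen : ∀ s ∈ S, ∀ n ∈ Nset, s * n * s⁻¹ ∈ N := by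
    rintro s (h | ⟨r, hr, rfl⟩ | ⟨a, ha, rfl⟩) n hn
    · rw [Set.mem_singleton_iff.1 h, (Δ.zc n).eq, mul_inv_cancel_right]; exact Subgroup.subset_closure hn
    · rcases hn with ⟨b, hb, rfl⟩ | ⟨c, hc, hc4, rfl⟩
      · rw [hYf r hr]; exact hF _ (hlow r hr b hb)
      · rw [(hfix r hr c hc hc4).eq, mul_inv_cancel_right]; exact hY c hc hc4
    · rcases hn with ⟨b, hb, rfl⟩ | ⟨c, hc, hc4, rfl⟩
      · rw [← f10_xor g, hfa, ← f10_xor g, Nat.xor_comm a b, Nat.xor_assoc, Nat.xor_self, Nat.xor_zero]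
        exact hF b hb
      · rw [show f10 Δ x a * Yr Δ x c * (f10 Δ x a)⁻¹ = ⁅Yr Δ x c, f10 Δ x a⁆⁻¹ * Yr Δ x c by
          simp [commutatorElement_def]; group]
        exact N.mul_mem (N.inv_mem (hfcomm c hc a ha)) (hY c hc hc4)
  have hnorm : ∀ s ∈ S, ∀ n ∈ N, s * n * s⁻¹ ∈ N := fun s hs n hn => by
    refine Subgroup.closure_induction (p := fun y _ => s * y * s⁻¹ ∈ N) (fun y hy => hgen s hs y hy)
      (by simp) (fun y w _ _ hy hw => ?_) (fun y _ hy => ?_) hn
    · rw [show s * (y * w) * s⁻¹ = (s * y * s⁻¹) * (s * w * s⁻¹) by group]; exact N.mul_mem hy hw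
    · rw [show s * y⁻¹ * s⁻¹ = (s * y * s⁻¹)⁻¹ by group]; exact N.inv_mem hy
  have hcomS : ∀ s ∈ S, ∀ t ∈ S, ⁅s, t⁆ ∈ N := by
    have hz : ∀ t : C, ⁅Δ.z, t⁆ = 1 := fun t => commutatorElement_eq_one_iff_mul_comm.2 (Δ.zc t).eq
    have hcab : ∀ a < 2, ∀ b < 4, 2 ≤ b → ⁅Yr Δ x a, Yr Δ x b⁆ ∈ N := fun a ha b hb hb2 => by
      rw [eq_inv_of_mul_eq_one_left (hab a ha b hb hb2)]
      refine N.inv_mem ?_
      have key : ∀ l : List ℕ, (∀ r ∈ l, 4 ≤ r ∧ r < 6) → PL Δ x (l.flatMap rootL) ∈ N := fun l hl => by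
        induction l with
        | nil => exact N.one_mem
        | cons r l ih =>
          rw [List.flatMap_cons, PL, List.map_append, List.prod_append]
          exact N.mul_mem (hY r (hl r (List.mem_cons_self ..)).2 (hl r (List.mem_cons_self ..)).1)
            (ih fun a ha => hl a (List.mem_cons_of_mem _ ha))
      exact key _ (comm_data a ha b hb hb2).2.2.2.2.2.2
    rintro s (h | ⟨r, hr, rfl⟩ | ⟨a, ha, rfl⟩) t (h' | ⟨r', hr', rfl⟩ | ⟨b, hb, rfl⟩)
    any_goals rw [Set.mem_singleton_iff.1 h, hz]; exact N.one_mem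
    any_goals rw [Set.mem_singleton_iff.1 h', ← commutatorElement_inv, hz, inv_one]; exact N.one_mem
    · have hcase : (4 ≤ r' ∨ 4 ≤ r) ∨ (r < 2 ∧ r' < 2) ∨ (r < 4 ∧ r' < 4 ∧ 2 ≤ r ∧ 2 ≤ r') ∨
          (r < 2 ∧ 2 ≤ r' ∧ r' < 4) ∨ (r' < 2 ∧ 2 ≤ r ∧ r < 4) := by omega
      have triv : Commute (Yr Δ x r) (Yr Δ x r') → ⁅Yr Δ x r, Yr Δ x r'⁆ ∈ N := fun hc => by
        rw [commutatorElement_eq_one_iff_mul_comm.2 hc.eq]; exact N.one_mem
      rcases hcase with (h | h) | ⟨h, h'⟩ | ⟨h, h', k, k'⟩ | ⟨h, k, k'⟩ | ⟨h, k, k'⟩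
      · exact triv (hfix r hr r' hr' h)
      · exact triv (hfix r' hr' r hr h).symm
      · refine triv (PL_orth g (iso_all.2 r (by omega)) (iso_all.2 r' (by omega)) fun p hp q hq => pair_data q ?_ p ?_)
        all_goals interval_cases r <;> interval_cases r' <;> simp_all
      · refine triv (PL_orth g (iso_all.2 r (by omega)) (iso_all.2 r' (by omega)) fun p hp q hq => pair_data' q ?_ p ?_)
        all_goals interval_cases r <;> interval_cases r' <;> simp_all
      · exact hcab r h r' k' k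
      · rw [← commutatorElement_inv]; exact N.inv_mem (hcab r' h r k' k)
    · exact hfcomm r hr b hb
    · rw [← commutatorElement_inv]; exact N.inv_mem (hfcomm r' hr' a ha)
    · rw [commutatorElement_eq_one_iff_mul_comm.2 (show f10 Δ x a * f10 Δ x b = f10 Δ x b * f10 Δ x a from (bprod_comm (f10_inv g) a b).eq)]; exact N.one_mem
  have hle := commutator_closure_le (S := S) hnorm (fun s hs n hn => by
    have := hnorm s hs n hn
    rw [hSinv s hs] at this
    rwa [hSinv s hs]) hcomS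
  -- `N` avoids `z`
  have hform : ∀ n ∈ N, ∃ a < 512, ∃ b < 4, n = f10 Δ x a * bprod (fun i => Yr Δ x (4 + i)) 2 b := by
    have hI : BInv (fun i => Yr Δ x (4 + i)) 2 :=
      ⟨fun i hi => Yr_sq g (by omega), fun i hi j hj => hfix _ (by omega) _ (by omega) (by omega)⟩
    have hswap : ∀ b < 4, ∀ a < 512, ∃ a' < 512, bprod (fun i => Yr Δ x (4 + i)) 2 b * f10 Δ x a =
        f10 Δ x a' * bprod (fun i => Yr Δ x (4 + i)) 2 b := by
      have one : ∀ i < 2, ∀ a < 512, ∃ a' < 512, Yr Δ x (4 + i) * f10 Δ x a =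
          f10 Δ x a' * Yr Δ x (4 + i) := fun i hi a ha =>
        ⟨_, hlow (4 + i) (by omega) a ha, mul_inv_eq_iff_eq_mul.1 (hYf (4 + i) (by omega) a)⟩
      intro b _ a ha
      simp only [bprod, one_mul]
      obtain ⟨a1, ha1, e1⟩ := one 1 (by omega) a ha
      by_cases h0 : b.testBit 0 <;> by_cases h1 : b.testBit 1 <;> simp only [h0, h1, if_true, if_false, one_mul, mul_one]
      · obtain ⟨a2, ha2, e2⟩ := one 0 (by omega) a1 ha1
        exact ⟨a2, ha2, by rw [mul_assoc, e1, ← mul_assoc, e2, mul_assoc]⟩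
      · obtain ⟨a2, ha2, e2⟩ := one 0 (by omega) a ha
        exact ⟨a2, ha2, by simpa using e2⟩
      · exact ⟨a1, ha1, by simpa using e1⟩
      · exact ⟨a, ha, by simp⟩
    intro n hn
    refine Subgroup.closure_induction (p := fun y _ => ∃ a < 512, ∃ b < 4,
      y = f10 Δ x a * bprod (fun i => Yr Δ x (4 + i)) 2 b) ?_ ⟨0, by omega, 0, by omega, ?_⟩ ?_ ?_ hn
    · rintro y (⟨a, ha, rfl⟩ | ⟨r, hr, hr4, rfl⟩)
      · exact ⟨a, ha, 0, by omega, by rw [bprod_zero, mul_one]⟩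
      · refine ⟨0, by omega, 1 <<< (r - 4), ?_, ?_⟩
        · interval_cases r <;> decide
        · rw [f10_zero, one_mul, bprod_single (show r - 4 < 2 by omega), show 4 + (r - 4) = r by omega]
    · rw [f10_zero, bprod_zero, one_mul]
    · rintro y w _ _ ⟨a, ha, b, hb, rfl⟩ ⟨a', ha', b', hb', rfl⟩
      obtain ⟨a2, ha2, e⟩ := hswap b hb a' ha'
      refine ⟨a ^^^ a2, Nat.xor_lt_two_pow (n := 9) ha ha2, b ^^^ b', Nat.xor_lt_two_pow (n := 2) hb hb', ?_⟩
      rw [f10_xor g, bprod_xor hI]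
      simp only [mul_assoc]
      rw [← mul_assoc (bprod _ 2 b), e, mul_assoc]
    · rintro y _ ⟨a, ha, b, hb, rfl⟩
      obtain ⟨a2, ha2, e⟩ := hswap b hb a ha
      refine ⟨a2, ha2, b, hb, ?_⟩
      rw [mul_inv_rev, hfa, inv_eq_of_mul_eq_one_right (bprod_sq hI b)]
      exact e
  have hzN : Δ.z ∈ N := by
    -- the generators give the whole preimage
    have hS : TQ.comap Δ.ψ ≤ Subgroup.closure S := by
      intro c hc
      obtain ⟨t, ht, e⟩ := hc
      obtain ⟨u, hu, hp⟩ := mem_Tg.1 ht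
      obtain ⟨a, ha, rfl⟩ := exists_nf hu hp
      have hprod : ∀ l : List ℕ, (∀ r ∈ l, r < 6) → Δ.ψ (l.map (Yr Δ x)).prod = mkQ (W (l.flatMap rootL)) ∧
          (l.map (Yr Δ x)).prod ∈ Subgroup.closure S := fun l hl => by
        induction l with
        | nil => simp [W_nil]
        | cons r l ih =>
          obtain ⟨i1, i2⟩ := ih fun a ha => hl a (List.mem_cons_of_mem _ ha)
          have hr := hl r (List.mem_cons_self ..)
          refine ⟨?_, ?_⟩
          · rw [List.map_cons, List.prod_cons, map_mul, i1, ψ_Yr g (by omega), List.flatMap_cons, W_append,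
              map_mul]; rfl
          · rw [List.map_cons, List.prod_cons]
            exact Subgroup.mul_mem _ (Subgroup.subset_closure (Or.inr (Or.inl ⟨r, hr, rfl⟩))) i2
      obtain ⟨p1, p2⟩ := hprod (uR u) (uR_ok u hu).1
      have he : Δ.ψ c = Δ.ψ (((uR u).map (Yr Δ x)).prod * f10 Δ x a) := by
        rw [← e, map_mul, map_mul, p1, ψ_f10 g]; rfl
      have hmem : ((uR u).map (Yr Δ x)).prod * f10 Δ x a ∈ Subgroup.closure S :=
        Subgroup.mul_mem _ p2 (Subgroup.subset_closure (Or.inr (Or.inr ⟨a, ha, rfl⟩)))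
      rcases Δ.eq_or he with h | h
      · rw [h]; exact hmem
      · rw [h]; exact Subgroup.mul_mem _ hmem (Subgroup.subset_closure (Or.inl rfl))
    have hodd : Odd (TQ.comap Δ.ψ).index := by
      rw [Subgroup.index_comap_of_surjective TQ Δ.surj]; exact TQ_index_odd
    exact hle (Subgroup.commutator_mono hS hS (mem_commutator_of_odd_index hperf hodd Δ.zz Δ.zc))
  obtain ⟨a, ha, b, hb, e⟩ := hform _ hzN
  have hW : Δ.ψ (bprod (fun i => Yr Δ x (4 + i)) 2 b) = mkQ (bprod (fun i => Rt (4 + i)) 2 b) := by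
    rw [bprod_map, bprod_map]; exact bprod_congr (fun i hi => ψ_Yr g (by omega)) b
  have h4 : ∀ i < 2, Prm (Rt (4 + i)) (16 * (i + 1)) := by
    have key : ∀ i < 2, wn (rootL (4 + i)) (fr 0) = fr 0 ∧
        wn (rootL (4 + i)) (fr 1) = fr 1 + ua (16 * (i + 1)) • fr 0 ∧
        wn (rootL (4 + i)) (fr 2) = fr 2 + ub (16 * (i + 1)) • fr 1 + uc (16 * (i + 1)) • fr 0 := by
      decide +kernel
    intro i hi
    obtain ⟨k0, k1, k2⟩ := key i hi
    exact ⟨by rw [Rt, W_smul (iso_root (by omega)), k0], by rw [Rt, W_smul (iso_root (by omega)), k1],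
      by rw [Rt, W_smul (iso_root (by omega)), k2]⟩
  have hPb : Prm (bprod (fun i => Rt (4 + i)) 2 b) (16 * b) := by
    have h12 := (h4 0 (by omega)).mul (h4 1 (by omega))
    rw [show umul (16 * (0 + 1)) (16 * (1 + 1)) = 48 by decide +kernel] at h12
    interval_cases b <;> simp [bprod, Nat.testBit, Nat.shiftRight_eq_div_pow]
    exacts [Prm_one, h4 0 (by omega), h4 1 (by omega), h12]
  have h := (congrArg Δ.ψ e).symm.trans Δ.ψz
  rw [map_mul, ψ_f10 g, hW, ← map_mul] at h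
  have hP := (R_prm a).mul hPb
  have h1' := mkQ_injOn ⟨_, (umk_spec _ _ _).1, hP⟩ h
  have hb0 : umul 0 (16 * b) = 0 := Prm.unique (umk_spec _ _ _).1 (by omega) hP (h1' ▸ Prm_one)
  have hb0' : b = 0 := by
    have : ∀ b < 4, umul 0 (16 * b) = 0 → b = 0 := by decide +kernel
    exact this b hb hb0
  rw [hb0', bprod_zero, mul_one, ← f10_z (Δ := Δ) (x := x)] at e
  have := f10_inj g (by norm_num) (by omega) e
  omega

end Cfsg.Agent.Transpos.L6
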